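import Cfsg.Agent.PermCert.FastImg

/-! Elements normalising the cyclic subgroups of prime order used for the automorphism certificates. -/

namespace Cfsg.Lib.Golay

open Cfsg.Lib.PermCert

/-- A normalising element. -/
def autNM24 : PP := (3607425625801801424565195384349314635043774173887466835428065380153350853631850129733863494248941498140134014976, 11423366167838569272076098532735483156365431282753801808433838175146120207559735915288684329553662328007861272576)

/-- A normalising element. -/
def autNM23 : PP := (13828246249635698563587328234202434438392801129187629384428440811484984916515492670827595834947977408986102235136, 13828356339249102411386925967106497861266467458140717530645301555735884265412321354358348441650208709467616116736)

/-- A normalising element. -/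
def autNM22 : PP := (13828282947293362961527831535316133618822656574410936745870740330820470690948021975562028215334788945243988361216, 13828347165534576640087202690202166639381900505361356047707155204626601971757148197890203329836951395363171926016)

/-- A normalising element. -/
def autNM12 : PP := (13227056046943168069622204818314352665573170981966108204805014624444349583795216909400670449523704637945723027456, 10221068324204198846036500396035019650985634423245559600987583611228830711324271943467100239579312587671307616256)

/-- A normalising element. -/
def autNM11 : PP := (4208790138868655872204132434607828146669191509406351202446214786782002336671629337476388247590414435425095581696, 6613697741669284448385529413485806953262521502826181166967263137085489405204636255140757151288702125914781188096)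

end Cfsg.Lib.Golay
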