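import Cfsg.Agent.PermCert.FastImg

/-! Generators of Sylow 3-subgroups and elements normalising them. -/

namespace Cfsg.Lib.Golay

open Cfsg.Lib.PermCert

/-- A table. -/
def mult23E : PP := (13828301295982245289627505031778104970582382326674916845256537727761883518850529727083775617190075052293626069006, 13828328816005860521601549374032371141133775765759985876354195882805451864331029984520402879842733787324067414031)

/-- A table. -/
def mult23F : PP := (13828282947993317369055419605135373046392898908063969235260777882057124871879290927396092465833461248952369217551, 13828237076061220918741089914406156925456613553345211480382560576131270234122238381999586235251454269900745408526)

/-- A table. -/
def mult23N : PP := (13828328816005819937847865882094331310826178666927950386894721702865911084861161196000181629510604163496224751631, 13828282947993276785301733626581152904033429592066092647204351452570534231126931076591434096525406671592748220431)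

/-- A table. -/
def mult24A : PP := (3006336333828720066604516688738663982602655818123182323390052479650197008825160636954091003270515819439266398216, 8417378445659538369989290000543664202112703714954067957430452123709856538425301494567387699503442259098230456341)

/-- A table. -/
def mult24B : PP := (6012424969806906796872819636173167510431308929476337505735237536868618913169965884260447298161298256061752934416, 6613606003264467219198603093427650073607146957366155887757649148550306220638132449289104736139410370121404907541)

/-- A table. -/
def mult24C : PP := (3006336336348469213301570473344671824706591366265691725161876170472168356687903104389515110806323818689502248961, 8417378446359460738428373931133995711926151764510298417183376203676157505588072475260884503804295132966429917186)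

/-- A table. -/
def mult24N : PP := (4208790136348906725637451439118585984795616072807484016279681006923204403718660196615973254755706806671109849106, 2405109432918586853004442109297743281263825135679713170559893890191636289298868026616589791636870218644364525581)

/-- The generators of the Sylow subgroup in the three letters. -/
def mult24Words : List (ℕ × ℕ × ℕ) := [(2, 1, 1), (2, 2, 0)]

end Cfsg.Lib.Golay
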