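import Cfsg.Agent.Golay.MultCert
import Cfsg.Agent.Golay.MultM24Data
import Cfsg.Agent.Golay.MultThreeData
import Cfsg.Agent.Schur.ExtraspecialThree

/-!
The multiplier of the group of the code is trivial.
-/

set_option autoImplicit false
set_option maxRecDepth 100000
set_option maxHeartbeats 2000000

namespace Cfsg.Lib.Golay

open Cfsg Cfsg.Lib.PermCert MulAction
open scoped commutatorElement

theorem mult24_two_ok : gensIn cgSyl2 cgM24 = true ∧
    multCertM24.ok = true ∧
    pcFacts cgM24 cgSyl2 multCertM24 multXM24 multConjM24 multRepM24 multFuseM24 = true ∧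
    multCertM24.fuse.length ≤ 1 ∧ size cgSyl2.chain = 2 ^ multCertM24.n ∧
    2 ^ multCertM24.n ∣ size cgM24.chain ∧ ¬ 2 ^ (multCertM24.n + 1) ∣ size cgM24.chain ∧
    size cgM24.chain = 244823040 := by decide +kernel

theorem mult24_three_ok :
    (let a := mult24A; let b := mult24B; let c := mult24C; let n := mult24N
     let same := FusionCert.same
     [a, b, c, n].all (fun g => valid 24 g && sift 24 cgM24.chain [g]) &&
       [a, b].all (fun g => sift 24 cgSyl3.chain [g]) &&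
       cgSyl3.gens.all (fun g => mult24Words.any fun w =>
         same [g.1] (List.replicate w.1 a ++ List.replicate w.2.1 b ++ List.replicate w.2.2 c)) &&
       same [c] [a, b, pinv a, pinv b] && !same [c] [] && same [a, a, a] [] && same [b, b, b] [] &&
       same [a, c] [c, a] && same [b, c] [c, b] && same [n, a, pinv n] [pinv a] && same [n, b, pinv n] [pinv b]) = true ∧
    gensIn cgSyl3 cgM24 = true ∧ size cgSyl3.chain = 27 := by
  decide +kernel

theorem multiplier_cgM24 : Cfsg.HasCyclicSchurMultiplier cgM24.grp 1 := by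
  obtain ⟨hin, hc, hf, hlen, hsz, hd, hnd, hsize⟩ := mult24_two_ok
  have hok := cgM24_ok
  have hsyl := cgSyl2_ok
  obtain ⟨h, hin3, hs27⟩ := mult24_three_ok
  simp only [Bool.and_eq_true, List.all_eq_true, Bool.not_eq_true', List.mem_cons, List.not_mem_nil, or_false,
    forall_eq_or_imp, forall_eq, List.any_eq_true] at h
  obtain ⟨⟨⟨⟨⟨⟨⟨⟨⟨⟨⟨⟨va, sa⟩, ⟨vb, sb⟩, ⟨vc, sc⟩, ⟨vn, sn⟩⟩, ta, tb⟩, hwords⟩, hab⟩, hc1⟩, ha3⟩, hb3⟩, hac⟩, hbc⟩, hna⟩, hnb⟩ := h
  have hcard : Nat.card cgM24.grp = 244823040 := (CG.card_grp hok).trans hsize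
  set a : cgM24.grp := ⟨_, mem_of_sift hok va sa⟩ with hA
  set b : cgM24.grp := ⟨_, mem_of_sift hok vb sb⟩ with hB
  set c : cgM24.grp := ⟨_, mem_of_sift hok vc sc⟩ with hC
  set n : cgM24.grp := ⟨_, mem_of_sift hok vn sn⟩ with hN
  have ra := rep_toP va; have rb := rep_toP vb; have rc := rep_toP vc; have rn := rep_toP vn
  have ra3 : Rep ((a ^ 3 : cgM24.grp) : Equiv.Perm GolayPt) [mult24A, mult24A, mult24A] := rep_pow ra 3
  have rb3 : Rep ((b ^ 3 : cgM24.grp) : Equiv.Perm GolayPt) [mult24B, mult24B, mult24B] := rep_pow rb 3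
  have r1 : Rep ((1 : cgM24.grp) : Equiv.Perm GolayPt) [] := rep_one
  have rab : Rep ((a * b * a⁻¹ * b⁻¹ : cgM24.grp) : Equiv.Perm GolayPt)
      [mult24A, mult24B, pinv mult24A, pinv mult24B] :=
    ((ra.mul rb).mul (rep_inv va)).mul (rep_inv vb)
  have rac : Rep ((a * c : cgM24.grp) : Equiv.Perm GolayPt) [mult24A, mult24C] := ra.mul rc
  have rca : Rep ((c * a : cgM24.grp) : Equiv.Perm GolayPt) [mult24C, mult24A] := rc.mul ra
  have rbc : Rep ((b * c : cgM24.grp) : Equiv.Perm GolayPt) [mult24B, mult24C] := rb.mul rc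
  have rcb : Rep ((c * b : cgM24.grp) : Equiv.Perm GolayPt) [mult24C, mult24B] := rc.mul rb
  have rna : Rep ((n * a * n⁻¹ : cgM24.grp) : Equiv.Perm GolayPt) [mult24N, mult24A, pinv mult24N] :=
    (rn.mul ra).mul (rep_inv vn)
  have rnb : Rep ((n * b * n⁻¹ : cgM24.grp) : Equiv.Perm GolayPt) [mult24N, mult24B, pinv mult24N] :=
    (rn.mul rb).mul (rep_inv vn)
  have a3 : a ^ 3 = 1 := Subtype.ext ((ra3.eq_iff r1).mpr ha3)
  have b3 : b ^ 3 = 1 := Subtype.ext ((rb3.eq_iff r1).mpr hb3)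
  have hcc : c = ⁅a, b⁆ := Subtype.ext ((rc.eq_iff rab).mpr hab)
  have c1 : c ≠ 1 := fun e => by
    rw [(rc.eq_iff rep_one).mp (congrArg Subtype.val e)] at hc1; exact Bool.noConfusion hc1
  have eac : a * c = c * a := Subtype.ext ((rac.eq_iff rca).mpr hac)
  have ebc : b * c = c * b := Subtype.ext ((rbc.eq_iff rcb).mpr hbc)
  have ria : Rep ((a⁻¹ : cgM24.grp) : Equiv.Perm GolayPt) [pinv mult24A] := rep_inv va
  have rib : Rep ((b⁻¹ : cgM24.grp) : Equiv.Perm GolayPt) [pinv mult24B] := rep_inv vb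
  have ena : n * a * n⁻¹ = a⁻¹ := Subtype.ext ((rna.eq_iff ria).mpr hna)
  have enb : n * b * n⁻¹ = b⁻¹ := Subtype.ext ((rnb.eq_iff rib).mpr hnb)
  have hle3 : cgSyl3.grp ≤ cgM24.grp := grp_le_of_gensIn hok cgSyl3_ok hin3
  have hclos : Nat.card (Subgroup.closure ({a, b} : Set cgM24.grp)) = 27 := by
    rw [show Subgroup.closure ({a, b} : Set cgM24.grp) = cgSyl3.grp.subgroupOf cgM24.grp from ?_,
      Nat.card_congr (Subgroup.subgroupOfEquivOfLe hle3).toEquiv, CG.card_grp cgSyl3_ok, hs27]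
    refine le_antisymm ((Subgroup.closure_le _).mpr ?_) ?_
    · rintro x (rfl | rfl)
      · exact mem_of_sift cgSyl3_ok va ta
      · exact mem_of_sift cgSyl3_ok vb tb
    · intro x hx
      have mA : a ∈ Subgroup.closure ({a, b} : Set cgM24.grp) := Subgroup.subset_closure (Set.mem_insert a {b})
      have mB : b ∈ Subgroup.closure ({a, b} : Set cgM24.grp) :=
        Subgroup.subset_closure (Set.mem_insert_of_mem a (Set.mem_singleton b))
      have mC : c ∈ Subgroup.closure ({a, b} : Set cgM24.grp) := by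
        rw [hcc, commutatorElement_def]; exact mul_mem (mul_mem (mul_mem mA mB) (inv_mem mA)) (inv_mem mB)
      have hgen : cgSyl3.grp ≤ (Subgroup.closure ({a, b} : Set cgM24.grp)).map cgM24.grp.subtype := by
        rw [← (CG.ok_spec cgSyl3_ok).2.2, Subgroup.closure_le]
        rintro _ ⟨g, hg, rfl⟩
        obtain ⟨w, -, hw⟩ := hwords g hg
        refine ⟨a ^ w.1 * b ^ w.2.1 * c ^ w.2.2,
          mul_mem (mul_mem (pow_mem mA _) (pow_mem mB _)) (pow_mem mC _), ?_⟩
        exact (((rep_toP (valid_of_fvalid ((CG.ok_spec cgSyl3_ok).2.1 g hg))).eq_iff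
          (((rep_pow ra w.1).mul (rep_pow rb w.2.1)).mul (rep_pow rc w.2.2))).mpr hw).symm
      obtain ⟨y, hy, hyx⟩ := hgen hx
      exact (Subtype.ext hyx : y = x) ▸ hy
  rw [hcc] at eac ebc c1
  refine Cfsg.Lib.Schur.hasCyclicSchurMultiplier_one_of fun Γ _ _ σ hσ =>
    Cfsg.Lib.Schur.ker_eq_bot_of_sylow hσ fun p hp => ?_
  haveI := hp
  by_cases h2 : p = 2
  · subst h2
    refine ⟨default, fun z hz hzS => ?_⟩
    by_contra hz1
    have hne' := mult_two_cert hok hsyl hin hc hf hlen hsz hd hnd hσ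
    obtain ⟨S, hS⟩ : ∃ S : Sylow 2 Γ, z ∈ (S : Subgroup Γ) := ⟨default, Subgroup.commutator_le_self _ hzS⟩
    have hzp : IsPGroup 2 (Subgroup.zpowers z) := S.2.to_le (Subgroup.zpowers_le.mpr hS)
    obtain ⟨k, hk⟩ := hzp.exists_card_eq
    rw [Nat.card_zpowers] at hk
    have hd2 : orderOf z ∣ Nat.card σ.ker := by
      rw [← Nat.card_zpowers]; exact Subgroup.card_dvd_of_le (Subgroup.zpowers_le.mpr hz)
    rcases k with _ | k
    · exact hz1 (orderOf_eq_one_iff.mp hk)
    · exact hne' (dvd_trans (by rw [hk]; exact dvd_pow_self 2 (Nat.succ_ne_zero k)) hd2)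
  by_cases h3 : p = 3
  · subst h3
    refine Cfsg.Lib.Schur.exists_sylow_extraspecial hσ (by norm_num) a b n ?_ a3 b3 eac ebc c1 ena enb
    rw [hcard, hclos, show (244823040 : ℕ).factorization 3 = 3 from by
      have h1 := (Nat.prime_three.pow_dvd_iff_le_factorization (k := 3) (n := 244823040) (by norm_num)).mp (by norm_num)
      have h2 : ¬ 4 ≤ (244823040 : ℕ).factorization 3 := fun h => by
        have := (Nat.prime_three.pow_dvd_iff_le_factorization (k := 4) (n := 244823040) (by norm_num)).mpr h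
        norm_num at this
      omega]
    norm_num
  refine Cfsg.Lib.Schur.exists_sylow_cyclic hσ ?_
  rw [hcard]
  intro hd'
  have hp' := hp.out
  have hdp : p ∣ 2 ^ 10 * 3 ^ 3 * 5 * 7 * 11 * 23 := by norm_num; exact dvd_trans (dvd_pow_self p two_ne_zero) hd'
  have hone : ∀ {q : ℕ}, q.Prime → p ∣ q → p = q := fun hq h => (Nat.prime_dvd_prime_iff_eq hp' hq).mp h
  rcases (Nat.Prime.dvd_mul hp').mp hdp with h | h
  rcases (Nat.Prime.dvd_mul hp').mp h with h | h
  rcases (Nat.Prime.dvd_mul hp').mp h with h | h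
  rcases (Nat.Prime.dvd_mul hp').mp h with h | h
  rcases (Nat.Prime.dvd_mul hp').mp h with h | h
  · exact h2 (hone Nat.prime_two (hp'.dvd_of_dvd_pow h))
  · exact h3 (hone Nat.prime_three (hp'.dvd_of_dvd_pow h))
  all_goals (have := hone (by norm_num) h; subst this; norm_num at hd')

end Cfsg.Lib.Golay
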