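import Cfsg.Agent.Golay.Subgroups

/-!
Transport of the named stabilisers to arbitrary points, pairs, triples and dodecads.
-/

namespace Cfsg.Lib.Golay

open Cfsg Cfsg.Lib.PermCert MulAction
open scoped Pointwise

/-- Subgroups exchanged by a conjugation are isomorphic. -/
def conjEquiv {A : Type*} [Group A] {S S' : Subgroup A} (g : A) (h : ∀ k, k ∈ S ↔ g * k * g⁻¹ ∈ S') :
    S ≃* S' where
  toFun k := ⟨g * k * g⁻¹, (h k).mp k.2⟩
  invFun k := ⟨g⁻¹ * k * g, (h _).mpr (by simp [mul_assoc])⟩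
  left_inv k := Subtype.ext (by simp [mul_assoc])
  right_inv k := Subtype.ext (by simp [mul_assoc])
  map_mul' k k' := Subtype.ext (by simp [mul_assoc])

theorem conj_mem_stabilizer {A β : Type*} [Group A] [MulAction A β] {g k : A} {x y : β} (h : g • x = y) :
    k ∈ stabilizer A x ↔ g * k * g⁻¹ ∈ stabilizer A y := by
  simp only [mem_stabilizer_iff, ← h, mul_smul, inv_smul_smul, smul_left_cancel_iff]

theorem simple_congr {A B : Type*} [Group A] [Group B] (e : A ≃* B) [IsSimpleGroup B] : IsSimpleGroup A :=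
  have : Nontrivial A := e.toEquiv.nontrivial
  IsSimpleGroup.isSimpleGroup_of_surjective e.symm.toMonoidHom e.symm.surjective

/-- A subgroup of `M24` and its image in all permutations. -/
noncomputable def subEquiv {K : Subgroup M24} {T : Subgroup (Equiv.Perm GolayPt)} (h : K.map M24.subtype = T) :
    K ≃* T :=
  (Subgroup.equivMapOfInjective K M24.subtype M24.subtype_injective).trans (MulEquiv.subgroupCongr h)

theorem le_five (m : ℕ) (hm : m ≤ 5) : IsMultiplyPretransitive M24 GolayPt m :=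
  have := M24_five_transitive
  isMultiplyPretransitive_of_le hm (by rw [Nat.card_eq_fintype_card, Fintype.card_option, ZMod.card]; norm_num)

theorem exists_smul_eq_point (p : GolayPt) : ∃ g : M24, g • p = none := by
  have := is_one_pretransitive_iff.mp (le_five 1 (by norm_num))
  exact this.exists_smul_eq p none

theorem exists_smul_eq_pair {p q : GolayPt} (h : p ≠ q) {p' q' : GolayPt} (h' : p' ≠ q') :
    ∃ g : M24, g • p = p' ∧ g • q = q' := by
  have := le_five 2 (by norm_num)
  exact is_two_pretransitive_iff.mp this h h'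

theorem exists_smul_eq_triple {p q r : GolayPt} (hpq : p ≠ q) (hpr : p ≠ r) (hqr : q ≠ r)
    {p' q' r' : GolayPt} (hpq' : p' ≠ q') (hpr' : p' ≠ r') (hqr' : q' ≠ r') :
    ∃ g : M24, g • p = p' ∧ g • q = q' ∧ g • r = r' := by
  have := le_five 3 (by norm_num)
  let x : Fin 3 ↪ GolayPt := ⟨![p, q, r], by
    intro i j; fin_cases i <;> fin_cases j <;> simp [hpq, hpr, hqr, hpq.symm, hpr.symm, hqr.symm]⟩
  let y : Fin 3 ↪ GolayPt := ⟨![p', q', r'], by
    intro i j; fin_cases i <;> fin_cases j <;> simp [hpq', hpr', hqr', hpq'.symm, hpr'.symm, hqr'.symm]⟩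
  obtain ⟨g, hg⟩ := this.exists_smul_eq x y
  exact ⟨g, congrArg (fun e : Fin 3 ↪ GolayPt => e 0) hg, congrArg (fun e : Fin 3 ↪ GolayPt => e 1) hg,
    congrArg (fun e : Fin 3 ↪ GolayPt => e 2) hg⟩

theorem map_stabilizer_pair (p q : GolayPt) :
    ((stabilizer M24 p ⊓ stabilizer M24 q).map M24.subtype)
      = M24 ⊓ stabilizer (Equiv.Perm GolayPt) p ⊓ stabilizer (Equiv.Perm GolayPt) q := by
  rw [Subgroup.map_inf _ _ _ M24.subtype_injective, map_stabilizer, map_stabilizer]
  ext g; simp only [Subgroup.mem_inf]; tauto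

theorem map_stabilizer_triple (p q r : GolayPt) :
    ((stabilizer M24 p ⊓ stabilizer M24 q ⊓ stabilizer M24 r).map M24.subtype)
      = M24 ⊓ stabilizer (Equiv.Perm GolayPt) p ⊓ stabilizer (Equiv.Perm GolayPt) q
          ⊓ stabilizer (Equiv.Perm GolayPt) r := by
  rw [Subgroup.map_inf _ _ _ M24.subtype_injective, map_stabilizer_pair, map_stabilizer]
  ext g; simp only [Subgroup.mem_inf]; tauto

theorem pointStabEquiv (p : GolayPt) : Nonempty (stabilizer M24 p ≃* Spor.M23) := by
  obtain ⟨g, hg⟩ := exists_smul_eq_point p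
  exact ⟨(conjEquiv g fun k => conj_mem_stabilizer hg).trans (subEquiv (map_stabilizer M24 (none : GolayPt)))⟩

theorem pairStabEquiv {p q : GolayPt} (h : p ≠ q) :
    Nonempty (↥(stabilizer M24 p ⊓ stabilizer M24 q) ≃* Spor.M22) := by
  obtain ⟨g, hp, hq⟩ := exists_smul_eq_pair h (p' := none) (q' := some 0) (by simp)
  exact ⟨(conjEquiv (S' := stabilizer M24 (none : GolayPt) ⊓ stabilizer M24 (some 0 : GolayPt)) g fun k => by
    rw [Subgroup.mem_inf, Subgroup.mem_inf, conj_mem_stabilizer hp, conj_mem_stabilizer hq]).trans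
      (subEquiv (map_stabilizer_pair _ _))⟩

theorem tripleStabEquiv {p q r : GolayPt} (hpq : p ≠ q) (hpr : p ≠ r) (hqr : q ≠ r) :
    Nonempty (↥(stabilizer M24 p ⊓ stabilizer M24 q ⊓ stabilizer M24 r) ≃* M21) := by
  obtain ⟨g, hp, hq, hr⟩ := exists_smul_eq_triple hpq hpr hqr (p' := none) (q' := some 0) (r' := ptAt 1)
    (by simp) (by decide) (by decide)
  exact ⟨(conjEquiv (S' := stabilizer M24 (none : GolayPt) ⊓ stabilizer M24 (some 0 : GolayPt) ⊓ stabilizer M24 (ptAt 1))
      g fun k => by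
    simp only [Subgroup.mem_inf, conj_mem_stabilizer hp, conj_mem_stabilizer hq, conj_mem_stabilizer hr]).trans
      (subEquiv (map_stabilizer_triple _ _ _))⟩

theorem dodecadStabEquiv {d : Finset GolayPt} (hd : d ∈ dodecads) :
    Nonempty (stabilizer M24 d ≃* Spor.M12) := by
  obtain ⟨g, hg⟩ := M24_dodecads_transitive hd squareDodecad_mem
  exact ⟨(conjEquiv g fun k => conj_mem_stabilizer hg).trans (subEquiv (map_stabilizer M24 Spor.squareDodecad))⟩

theorem dodecadPointStabEquiv {d : Finset GolayPt} (hd : d ∈ dodecads) {p : GolayPt} (hp : p ∈ d) :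
    Nonempty (↥(stabilizer M24 d ⊓ stabilizer M24 p) ≃* Spor.M11) := by
  obtain ⟨g, hg⟩ := M24_dodecads_transitive hd squareDodecad_mem
  have hq : g • p ∈ Spor.squareDodecad := hg ▸ Finset.smul_mem_smul_finset hp
  have hL : ∀ i ∈ Spor.squareDodecad, pidx i ∈ points m12ChainL0 := by decide +kernel
  have hx : (ptEquiv (g • p) : ℕ) ∈ points m12ChainL0 := hL _ hq
  obtain ⟨k, hk, hkx⟩ := orbit_top (L := m12ChainL0) m12Chain_check (ptEquiv (g • p)) hx
  have hkM : permHom k ∈ Spor.M12 := by rw [M12_eq]; exact ⟨k, hk, rfl⟩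
  have hk0 : permHom k (some 0 : GolayPt) = g • p := by
    show ptEquiv.symm (k (ptEquiv (some 0))) = g • p
    rw [Equiv.symm_apply_eq]
    exact Fin.ext hkx
  let g' : M24 := (⟨permHom k, hkM.1⟩ : M24)⁻¹ * g
  have hd' : g' • d = Spor.squareDodecad := by
    rw [mul_smul, hg, inv_smul_eq_iff]
    exact (mem_stabilizer_iff.mp hkM.2).symm
  have hp' : g' • p = (some 0 : GolayPt) := by
    rw [mul_smul, inv_smul_eq_iff]
    exact hk0.symm
  refine ⟨(conjEquiv (S' := stabilizer M24 Spor.squareDodecad ⊓ stabilizer M24 (some 0 : GolayPt)) g' fun k => by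
    simp only [Subgroup.mem_inf, conj_mem_stabilizer hd', conj_mem_stabilizer hp']).trans (subEquiv ?_)⟩
  rw [Subgroup.map_inf _ _ _ M24.subtype_injective, map_stabilizer, map_stabilizer, Spor.M11, Spor.M12]
  ext x; simp only [Subgroup.mem_inf]; tauto

end Cfsg.Lib.Golay
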