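import Cfsg.Agent.PermCert.Basic

/-!
Elements preserving the standard dodecad and fixing three of its points.
-/

namespace Cfsg.Lib.Golay

open Cfsg.Lib.PermCert

/-- One element for each point outside the standard dodecad. -/
def dodThreeList : List PP := [(13828420558190244866574637839445640249728477439516252944985145374523144572076163752536843051111466511170724233216, 13828420558190244866574637839445640249728477439516252944985145374523144572076163752536843051111466511170724233216), (12625893363994295393816301062164413569771953661078428118802130278638381151919669894394243999489016082853412274176, 8417369273764818018054940214798120506826482325504831676257495000251947059196104473928773346331145430587450392576), (12625948408101063201820919233964573265913092253946615563975053220900488982921375999791034099056730543126300655616, 12625893364134302935962036201673114158650033235345295590274974956130590267663768388386336128698877089814969122816), (9018449388803749081816024415107474569456802198547278515375303615460355402998702851159777470998563779862258057216, 9018577826126084989323285412757732158375200769537641969072811107995209556411111113673329094058911575095671586816), (10220949062836090732429020794938671028596877843422333574567477003295496014126466516736865095287127834610829950976, 10220921540292771210007170650296138890209521233743999286716794892869341600494938018170535113820693230177946238976), (6613697742929140865795359130757550995452971780624788157711375117439796110065314086234725536832202758934988128256, 6613697742929140865795359130757550995452971780624788157711375117439796110065314086234725536832202758934988128256), (8417360099630370011056855749388530898819243854429361722661300391104583852920669157615904358926164052323462086656,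 8417369272085032957050833162819123913627341748787315771234881302546185879584127982399687453455935986109796909056), (13828420558050248004135934275031648678678607041227043542384185220181995085077360902500705527659466960500110196736, 13828420557210358677402585375545377062937703893835686577814169253986080788871590142873266807027621487156238811136), (6012333230562221601768094783897718215567614692931713373680616111141695086531715054716056936290364405833699229696, 10220921540852677491700527229128403788946607059725633375928969316385144811203800998502726654837406746897505386496), (10220921540852677491700527229128403788946607059725633375928969316385144811203800998502726654837406746897505386496, 6012333230562221601768094783897718215567614692931713373680616111141695086531715054716056936290364405833699229696), (3006308814225065518356221711018779390719859164070864911423750833098732778956017901119094344719293026572592807936, 11423356994963994771035986643020229974881567438785531686512407960530189049003566772694438025554752282572724699136), (3006272117267321352476649544181972852093169579541596696352775178122255122381143041933253907790655656185970098176, 3006308812825231462065090437318046517448351362645750742292324715202537460584919049903466948599708323288858034176)]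

end Cfsg.Lib.Golay
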