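import Cfsg.Agent.Golay.SteinerAut

/-!
Steiner systems with parameters (4, 7, 23): extension by a point.
-/

namespace Cfsg.Lib.Golay

open Cfsg Cfsg.Lib.Steiner MulAction Finset
open scoped Pointwise

variable {α : Type*} [DecidableEq α] [Fintype α] {B : Set (Finset α)}

/-- The blocks extended by a point. -/
def extB (B : Set (Finset α)) : Set (Finset (Option α)) := (fun b => insertNone b) '' B

theorem inter_insertNone (b c : Finset α) : insertNone b ∩ insertNone c = insertNone (b ∩ c) := by
  ext x; cases x <;> simp [mem_insertNone]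

theorem inter_s4723 (hα : Fintype.card α = 23) (hB : IsSteinerSystem 4 7 B) {b c : Finset α} (hb : b ∈ B)
    (hc : c ∈ B) (hbc : b ≠ c) : (b ∩ c).card = 1 ∨ (b ∩ c).card = 3 := by
  obtain ⟨e0, -, e2, -⟩ := meet_s4723 hα hB hb
  have := meetCount_eq_zero hc hbc.symm e0
  have := meetCount_eq_zero hc hbc.symm e2
  have : (b ∩ c).card < 4 := by
    by_contra h; exact hbc (eq_of_le_inter hB hb hc (by omega))
  omega

theorem evenBlocks_4723 (hα : Fintype.card α = 23) (hB : IsSteinerSystem 4 7 B) : IsEvenBlocks (extB B) := by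
  refine ⟨?_, ?_, fun s hs hall => ?_⟩
  · rintro _ ⟨b, hb, rfl⟩
    simp only [card_insertNone, hB.1 b hb]
    norm_num
  · rintro _ ⟨b, hb, rfl⟩ _ ⟨c, hc, rfl⟩
    simp only [inter_insertNone, card_insertNone]
    by_cases hbc : b = c
    · rw [hbc, inter_self, hB.1 c hc]; decide
    · rcases inter_s4723 hα hB hb hc hbc with e | e <;> rw [e] <;> decide
  · have hodd : ∀ b ∈ B, Even ((b ∩ eraseNone s).card + if none ∈ s then 1 else 0) := by
      intro b hb
      have h := hall _ ⟨b, hb, rfl⟩
      by_cases hn : none ∈ s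
      · have : insertNone b ∩ s = insertNone (b ∩ eraseNone s) := by
          ext x; cases x <;> simp [mem_insertNone, hn]
        rw [this, card_insertNone] at h
        rwa [if_pos hn]
      · have : insertNone b ∩ s = (b ∩ eraseNone s).map Function.Embedding.some := by
          ext x; cases x <;> simp [mem_insertNone, hn]
        rw [this, card_map] at h
        rwa [if_neg hn, add_zero]
    set t := eraseNone s with ht
    have htc : t.card + (if none ∈ s then 1 else 0) = 4 := by
      rw [← hs]
      by_cases hn : none ∈ s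
      · rw [if_pos hn, ← card_insertNone, ht, insertNone_eraseNone, Finset.insert_eq_of_mem hn]
      · rw [if_neg hn, add_zero]
        rw [show s = t.map Function.Embedding.some by ext x; cases x <;> simp [ht, hn], card_map]
    -- in both cases every block through all but one point of `t` (and the extra points) contains `t`
    have key : ∀ u : Finset α, u.card = 4 → 2 ≤ (u ∩ t).card → (t.card = 4 → 3 ≤ (u ∩ t).card) →
        ∀ b ∈ B, u ⊆ b → t ⊆ b := by
      intro u _ hut hut' b hb hub
      have h1 := card_le_card (inter_subset_inter hub (Subset.refl t))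
      have h2 := card_le_card (inter_subset_right (s₁ := b) (s₂ := t))
      obtain ⟨r, hr⟩ := hodd b hb
      refine inter_eq_right.mp (eq_of_subset_of_card_le inter_subset_right ?_)
      by_cases hn : none ∈ s
      · rw [if_pos hn] at hr htc; omega
      · rw [if_neg hn] at hr htc; have := hut' (by omega); omega
    have ht3 : 3 ≤ t.card ∧ t.card ≤ 4 := by split at htc <;> omega
    -- a set of four points containing `t`, and the block through it
    obtain ⟨T, htT, hT⟩ := exists_superset_card_eq (s := t) (n := 4) ht3.2 (by omega)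
    obtain ⟨b, ⟨hb, hTb⟩, -⟩ := hB.2 T hT
    obtain ⟨z, -, hz⟩ := exists_mem_notMem_of_card_lt_card (s := b) (t := univ)
      (by rw [card_univ, hα, hB.1 b hb]; norm_num)
    obtain ⟨a, ha⟩ := card_pos.mp (by omega : 0 < t.card)
    have hzT : z ∉ T.erase a := fun h => hz (hTb (mem_of_mem_erase h))
    have haT := htT ha
    have hu : (insert z (T.erase a)).card = 4 := by
      rw [card_insert_of_notMem hzT, card_erase_of_mem haT, hT]
    have hint : t.card ≤ (insert z (T.erase a) ∩ t).card + 1 := by
      have := card_le_card (show t.erase a ⊆ insert z (T.erase a) ∩ t from fun x hx => mem_inter.mpr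
        ⟨mem_insert_of_mem (mem_erase.mpr ⟨(mem_erase.mp hx).1, htT (mem_erase.mp hx).2⟩), (mem_erase.mp hx).2⟩)
      rw [card_erase_of_mem ha] at this
      omega
    obtain ⟨c, ⟨hc, huc⟩, -⟩ := hB.2 _ hu
    have htc' := key _ hu (by omega) (fun h => by omega) c hc huc
    have hTc : T ⊆ c := fun x hx => by
      by_cases hxa : x = a
      · exact hxa ▸ htc' ha
      · exact huc (mem_insert_of_mem (mem_erase.mpr ⟨hxa, hx⟩))
    exact hz ((hB.2 T hT).unique ⟨hb, hTb⟩ ⟨hc, hTc⟩ ▸ huc (mem_insert_self _ _))

theorem hasFive_4723 (hα : Fintype.card α = 23) (hB : IsSteinerSystem 4 7 B) : HasFive (spanFam (extB B)) := by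
  intro F hF
  by_cases hn : none ∈ F
  · have h4 : (eraseNone F).card = 4 := by
      have := card_insertNone (eraseNone F)
      rw [insertNone_eraseNone, Finset.insert_eq_of_mem hn, hF] at this
      omega
    obtain ⟨b, ⟨hb, hsub⟩, -⟩ := hB.2 _ h4
    refine ⟨insertNone b, subset_spanFam ⟨b, hb, rfl⟩, fun x hx => ?_, by rw [card_insertNone, hB.1 b hb]⟩
    cases x with
    | none => exact none_mem_insertNone
    | some a => exact some_mem_insertNone.mpr (hsub (mem_eraseNone.mpr hx))
  · set G := eraseNone F with hG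
    have hFG : F = G.map Function.Embedding.some := by ext x; cases x <;> simp [hG, hn]
    have hGc : G.card = 5 := by rw [← hF, hFG, card_map]
    obtain ⟨x, hx⟩ := card_pos.mp (by omega : 0 < G.card)
    obtain ⟨b, ⟨hb, hsub⟩, -⟩ := hB.2 (G.erase x) (by rw [card_erase_of_mem hx, hGc])
    by_cases hxb : x ∈ b
    · refine ⟨insertNone b, subset_spanFam ⟨b, hb, rfl⟩, fun y hy => ?_, by rw [card_insertNone, hB.1 b hb]⟩
      rw [hFG, Finset.mem_map] at hy
      obtain ⟨a, ha, rfl⟩ := hy
      refine some_mem_insertNone.mpr ?_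
      by_cases hax : a = x
      · exact hax ▸ hxb
      · exact hsub (mem_erase.mpr ⟨hax, ha⟩)
    · have hd : (b \ G).card = 3 := by
        have h1 : b ∩ G = G.erase x := by
          refine Subset.antisymm (fun y hy => mem_erase.mpr
            ⟨fun e => hxb (e ▸ (mem_inter.mp hy).1), (mem_inter.mp hy).2⟩) (fun y hy => mem_inter.mpr ⟨hsub hy, (mem_erase.mp hy).2⟩)
        have h2 := card_sdiff_add_card_inter b G
        rw [h1, card_erase_of_mem hx, hGc, hB.1 b hb] at h2
        omega
      obtain ⟨c, ⟨hc, hcs⟩, -⟩ := hB.2 (insert x (b \ G)) (by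
        rw [card_insert_of_notMem (fun h => hxb (mem_sdiff.mp h).1), hd])
      have hbc : b ≠ c := fun e => hxb (e ▸ hcs (mem_insert_self _ _))
      have h3 : 3 ≤ (b ∩ c).card := hd ▸ card_le_card fun y hy =>
        mem_inter.mpr ⟨(mem_sdiff.mp hy).1, hcs (mem_insert_of_mem hy)⟩
      have hbc3 : (b ∩ c).card = 3 := by rcases inter_s4723 hα hB hb hc hbc with e | e <;> omega
      have hint : b \ G = b ∩ c :=
        eq_of_subset_of_card_le (fun y hy => mem_inter.mpr ⟨(mem_sdiff.mp hy).1, hcs (mem_insert_of_mem hy)⟩)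
          (by omega)
      refine ⟨symmDiff (insertNone b) (insertNone c),
        (evenBlocks_4723 hα hB).isEvenFamily.symm _ (subset_spanFam ⟨b, hb, rfl⟩) _ (subset_spanFam ⟨c, hc, rfl⟩),
        fun y hy => ?_, ?_⟩
      · rw [hFG, Finset.mem_map] at hy
        obtain ⟨a, ha, rfl⟩ := hy
        simp only [Function.Embedding.some_apply, mem_symmDiff, some_mem_insertNone]
        by_cases hax : a = x
        · exact Or.inr ⟨hax ▸ hcs (mem_insert_self _ _), hax ▸ hxb⟩
        · have hab := hsub (mem_erase.mpr ⟨hax, ha⟩)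
          exact Or.inl ⟨hab, fun hac => (mem_sdiff.mp (hint.ge (mem_inter.mpr ⟨hab, hac⟩))).2 ha⟩
      · have h1 := card_symmDiff_add (insertNone b) (insertNone c)
        rw [inter_insertNone, card_insertNone, card_insertNone, card_insertNone, hbc3, hB.1 b hb, hB.1 c hc] at h1
        omega

theorem mem_of_span_none (hα : Fintype.card α = 23) (hB : IsSteinerSystem 4 7 B) {s : Finset (Option α)}
    (hs : s ∈ spanFam (extB B)) (h8 : s.card = 8) (hn : none ∈ s) : eraseNone s ∈ B := by
  have hs' : insertNone (eraseNone s) = s := by rw [insertNone_eraseNone, Finset.insert_eq_of_mem hn]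
  obtain ⟨F, hF, hFc⟩ := exists_subset_card_eq (s := eraseNone s) (n := 4) (by
    have := card_insertNone (eraseNone s); rw [hs', h8] at this; omega)
  obtain ⟨b, ⟨hb, hsub⟩, -⟩ := hB.2 F hFc
  have h5 : 5 ≤ (s ∩ insertNone b).card := by
    have hsub2 : insertNone F ⊆ s ∩ insertNone b := by
      intro x hx
      cases x with
      | none => exact mem_inter.mpr ⟨hn, none_mem_insertNone⟩
      | some a =>
        have ha := some_mem_insertNone.mp hx
        exact mem_inter.mpr ⟨mem_eraseNone.mp (hF ha), some_mem_insertNone.mpr (hsub ha)⟩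
    have := card_le_card hsub2
    rw [card_insertNone, hFc] at this
    exact this
  have := (evenBlocks_4723 hα hB).isEvenFamily.eq_of_five_le hs (subset_spanFam ⟨b, hb, rfl⟩) h8
    (by rw [card_insertNone, hB.1 b hb]) h5
  rwa [this, eraseNone_insertNone]

theorem exists_equiv_4723 (hα : Fintype.card α = 23) (hB : IsSteinerSystem 4 7 B) :
    ∃ e : Option α ≃ GolayPt, e none = none ∧
      (∀ s, s.image e ∈ supports (golayCode : Set (GolayPt → ZMod 2)) ↔ s ∈ spanFam (extB B)) ∧
      ∀ b : Finset α, (insertNone b).image e ∈ octads ↔ b ∈ B := by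
  obtain ⟨e₀, he₀⟩ := exists_equiv_supports (by rw [Fintype.card_option, hα])
    (evenBlocks_4723 hα hB).isEvenFamily (hasFive_4723 hα hB)
  obtain ⟨g, hg⟩ := exists_smul_eq_point (e₀ none)
  have he : ∀ s : Finset (Option α), s.image (e₀.trans (g : Equiv.Perm GolayPt))
      ∈ supports (golayCode : Set (GolayPt → ZMod 2)) ↔ s ∈ spanFam (extB B) := by
    intro s
    rw [← he₀, Equiv.coe_trans, ← Finset.image_image, ← smul_eq_image]
    exact mem_setSystemAut_iff.mp g.2 _
  refine ⟨_, hg, he, fun b => ⟨fun h => ?_, fun h => ⟨(he _).mpr (subset_spanFam ⟨b, h, rfl⟩), ?_⟩⟩⟩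
  · have := mem_of_span_none hα hB ((he _).mp h.1) (by
      rw [← h.2, Finset.card_image_of_injective _ (Equiv.injective _)]) none_mem_insertNone
    rwa [eraseNone_insertNone] at this
  · rw [Finset.card_image_of_injective _ (Equiv.injective _), card_insertNone, hB.1 b h]

theorem optionCongr_removeNone {β : Type*} (σ : Option α ≃ Option β) (h : σ none = none) :
    Equiv.optionCongr (Equiv.removeNone σ) = σ := by
  refine Equiv.ext fun x => ?_
  cases x with
  | none => simp [h]
  | some x =>
    obtain ⟨y, hy⟩ : ∃ y, σ (some x) = some y :=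
      Option.ne_none_iff_exists'.mp fun e => by simpa using σ.injective (e.trans h.symm)
    rw [Equiv.optionCongr_apply, Option.map_some, Equiv.removeNone_some σ ⟨y, hy⟩]

theorem image_optionCongr {β : Type*} [DecidableEq β] (f : α ≃ β) (b : Finset α) :
    (insertNone b).image (Equiv.optionCongr f) = insertNone (b.image f) := by
  ext x
  cases x with
  | none => simp [mem_insertNone]
  | some y =>
    simp only [mem_image, some_mem_insertNone, Equiv.optionCongr_apply]
    constructor
    · rintro ⟨z, hz, he⟩
      cases z with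
      | none => simp at he
      | some a => exact ⟨a, some_mem_insertNone.mp hz, Option.some.inj he⟩
    · rintro ⟨a, ha, rfl⟩
      exact ⟨some a, some_mem_insertNone.mpr ha, rfl⟩

theorem setSystemIso_4723 {β : Type*} [DecidableEq β] [Fintype β] {B' : Set (Finset β)}
    (hα : Fintype.card α = 23) (hβ : Fintype.card β = 23)
    (hB : IsSteinerSystem 4 7 B) (hB' : IsSteinerSystem 4 7 B') : SetSystemIso B B' := by
  obtain ⟨e, hn, -, he⟩ := exists_equiv_4723 hα hB
  obtain ⟨e', hn', -, he'⟩ := exists_equiv_4723 hβ hB'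
  have h0 : (e.trans e'.symm) none = none := by
    rw [Equiv.trans_apply, hn, ← hn', Equiv.symm_apply_apply]
  refine setSystemIso_of_equivs (Equiv.removeNone (e.trans e'.symm)) fun b => ?_
  rw [← he' _, ← he b, ← image_optionCongr, optionCongr_removeNone _ h0, Equiv.coe_trans,
    ← Finset.image_image, image_image_symm]

/-- Extension of a permutation, relabelled. -/
noncomputable def extHom (e : Option α ≃ GolayPt) : Equiv.Perm α →* Equiv.Perm GolayPt where
  toFun σ := e.permCongr (Equiv.optionCongr σ)
  map_one' := by ext; simp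
  map_mul' σ τ := by
    refine Equiv.ext fun x => ?_
    simp only [Equiv.permCongr_apply, Equiv.Perm.mul_apply, Equiv.symm_apply_apply, Equiv.optionCongr_apply,
      Option.map_map]
    rfl

theorem extHom_injective (e : Option α ≃ GolayPt) : Function.Injective (extHom e) := fun σ τ h => by
  have := e.permCongr.injective h
  rw [← Equiv.removeNone_optionCongr σ, this, Equiv.removeNone_optionCongr]

theorem map_aut_4723 {e : Option α ≃ GolayPt} (hn : e none = none)
    (he : ∀ s, s.image e ∈ supports (golayCode : Set (GolayPt → ZMod 2)) ↔ s ∈ spanFam (extB B))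
    (heB : ∀ b : Finset α, (insertNone b).image e ∈ octads ↔ b ∈ B) :
    (setSystemAut B).map (extHom e) = Spor.M23 := by
  have hsym : e.symm none = none := by rw [Equiv.symm_apply_eq, hn]
  have hstep : ∀ (σ : Equiv.Perm α) (b : Finset α),
      extHom e σ • (insertNone b).image e = (insertNone (σ • b)).image e := fun σ b => by
    rw [smul_eq_image σ, ← image_optionCongr]
    exact permCongr_smul_image e (Equiv.optionCongr σ) _
  refine le_antisymm ?_ ?_
  · rintro _ ⟨σ, hσ, rfl⟩
    refine ⟨?_, ?_⟩
    · have key : ∀ τ ∈ setSystemAut B, ∀ s, s ∈ spanFam (extB B) → Equiv.optionCongr τ • s ∈ spanFam (extB B) := by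
        intro τ hτ s hs
        refine spanFam_smul (B := extB B) ?_ hs
        rintro _ ⟨b, hb, rfl⟩
        rw [smul_eq_image, image_optionCongr, ← smul_eq_image]
        exact subset_spanFam ⟨_, (mem_setSystemAut_iff.mp hτ b).mpr hb, rfl⟩
      show extHom e σ ∈ setSystemAut _
      refine mem_setSystemAut_iff.mpr fun s => ?_
      obtain ⟨t, rfl⟩ : ∃ t : Finset (Option α), t.image e = s := ⟨s.image e.symm, image_image_symm e s⟩
      show e.permCongr (Equiv.optionCongr σ) • t.image e ∈ _ ↔ _
      rw [permCongr_smul_image, he, he]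
      refine ⟨fun h => ?_, key σ hσ t⟩
      have h' := key σ⁻¹ (inv_mem hσ) _ h
      have hinv : Equiv.optionCongr σ⁻¹ = (Equiv.optionCongr σ)⁻¹ := by ext x; cases x <;> rfl
      rwa [hinv, inv_smul_smul] at h'
    · refine mem_stabilizer_iff.mpr ?_
      show e.permCongr (Equiv.optionCongr σ) none = none
      rw [Equiv.permCongr_apply, hsym]
      simpa using hn
  · rintro g ⟨hg, hg0⟩
    have hg0' : g none = none := mem_stabilizer_iff.mp hg0
    have h0 : e.symm.permCongr g none = none := by
      rw [Equiv.permCongr_apply, Equiv.symm_symm, hn, hg0', hsym]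
    have heq : extHom e (Equiv.removeNone (e.symm.permCongr g)) = g := by
      show e.permCongr (Equiv.optionCongr _) = g
      rw [optionCongr_removeNone _ h0]; ext; simp
    refine ⟨_, mem_setSystemAut_iff.mpr fun b => ?_, heq⟩
    rw [← heB, ← hstep, heq]
    have hg' : g ∈ setSystemAut octads := M24_eq_octadAut ▸ hg
    rw [mem_setSystemAut_iff.mp hg', heB]

theorem isM23_aut (hα : Fintype.card α = 23) (hB : IsSteinerSystem 4 7 B) :
    IsM23 (setSystemAut B) ∧ IsMultiplyPretransitive (setSystemAut B) α 4 := by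
  obtain ⟨e, hn, he, heB⟩ := exists_equiv_4723 hα hB
  have hmap := map_aut_4723 hn he heB
  let φ : setSystemAut B ≃* Spor.M23 :=
    (Subgroup.equivMapOfInjective _ _ (extHom_injective e)).trans (MulEquiv.subgroupCongr hmap)
  refine ⟨⟨@simple_congr _ _ _ _ φ isSimple_M23, (Nat.card_congr φ.toEquiv).trans card_M23⟩, ⟨fun x y => ?_⟩⟩
  have hext : ∀ z : Fin 4 ↪ α, ∃ w : Fin 5 ↪ GolayPt, w 0 = none ∧ ∀ i, w i.succ = e (some (z i)) := fun z =>
    ⟨⟨Fin.cons none fun i => e (some (z i)), by
      rw [Fin.cons_injective_iff]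
      exact ⟨fun ⟨i, hi⟩ => by simpa using e.injective (hi.trans hn.symm),
        fun i j hij => z.injective (Option.some.inj (e.injective hij))⟩⟩, rfl, fun i => by simp⟩
  obtain ⟨wx, hx0, hx⟩ := hext x
  obtain ⟨wy, hy0, hy⟩ := hext y
  obtain ⟨g, hg⟩ := M24_five_transitive.exists_smul_eq wx wy
  have hgi : ∀ i, (g : Equiv.Perm GolayPt) (wx i) = wy i := fun i =>
    congrArg (fun f : Fin 5 ↪ GolayPt => f i) hg
  have hg0 : (g : Equiv.Perm GolayPt) none = none := by simpa [hx0, hy0] using hgi 0
  have hgmem : (g : Equiv.Perm GolayPt) ∈ Spor.M23 := ⟨g.2, mem_stabilizer_iff.mpr hg0⟩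
  rw [← hmap] at hgmem
  obtain ⟨σ, hσ, hσg⟩ := hgmem
  refine ⟨⟨σ, hσ⟩, ?_⟩
  ext i
  have h := hgi i.succ
  rw [hx, hy, ← hσg] at h
  simp only [extHom, MonoidHom.coe_mk, OneHom.coe_mk, Equiv.permCongr_apply, Equiv.symm_apply_apply,
    Equiv.optionCongr_apply, Option.map_some, EmbeddingLike.apply_eq_iff_eq, Option.some.injEq] at h
  exact h

end Cfsg.Lib.Golay
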