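import Cfsg.Agent.Golay.OctadStab
import Cfsg.Agent.Golay.DodThreeData
import Cfsg.Agent.Golay.Steiner4723

/-!
Stabilisers of dodecads, hexads and pairs of octads.
-/

namespace Cfsg.Lib.Golay

open Cfsg Cfsg.Lib.PermCert MulAction
open scoped Pointwise

theorem card_setStab_dodecad {d : Finset GolayPt} (hd : d ∈ dodecads) : Nat.card ↥(setStab d) = 95040 := by
  have horb : orbit M24 d = dodecads := by
    ext e
    constructor
    · rintro ⟨g, rfl⟩; exact smul_mem_dodecads g.2 hd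
    · intro he
      obtain ⟨g, hg⟩ := M24_dodecads_transitive hd he
      exact ⟨g, hg⟩
  have h := card_subgroup_inter M24 d
  rw [horb, ncard_dodecads, card_M24] at h
  change Nat.card ↥(setStab d) * 2576 = 244823040 at h
  omega

theorem octad_five_meet {d : Finset GolayPt} (hd : d ∈ dodecads) {x : Fin 5 ↪ GolayPt} (hx : ∀ i, x i ∈ d) :
    (octThrough x ∩ d).card = 6 ∧ (d \ octThrough x).card = 6 ∧
      ∃ a, (∀ i, x i ≠ a) ∧ octThrough x ∩ d = insert a (Finset.univ.map x) := by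
  have hsub : Finset.univ.map x ⊆ octThrough x ∩ d :=
    Finset.subset_inter (octThrough_spec x).2 fun p hp => by
      obtain ⟨i, -, rfl⟩ := Finset.mem_map.mp hp; exact hx i
  have h5 := Finset.card_le_card hsub
  rw [Finset.card_map, Finset.card_univ, Fintype.card_fin] at h5
  have h6 : (octThrough x ∩ d).card = 6 := by
    rcases octad_meet_dodecad' hd (octThrough_spec x).1 with h | h | h <;> omega
  obtain ⟨a, ha, hax⟩ := Finset.exists_mem_notMem_of_card_lt_card (s := Finset.univ.map x) (t := octThrough x ∩ d)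
    (by rw [Finset.card_map, h6]; simp)
  refine ⟨h6, ?_, a, fun i hi => hax (Finset.mem_map.mpr ⟨i, by simp, hi⟩), ?_⟩
  · have := Finset.card_sdiff_add_card_inter d (octThrough x)
    rw [hd.2, Finset.inter_comm, h6] at this
    omega
  · exact (Finset.eq_of_subset_of_card_le (Finset.insert_subset ha hsub)
      (by rw [h6, Finset.card_insert_of_notMem hax, Finset.card_map]; simp)).symm
where
  /-- An octad meets a dodecad evenly, and in at most six points. -/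
  octad_meet_dodecad' {d o : Finset GolayPt} (hd : d ∈ dodecads) (ho : o ∈ octads) :
      (o ∩ d).card = 2 ∨ (o ∩ d).card = 4 ∨ (o ∩ d).card = 6 := by
    obtain ⟨g, hg⟩ := exists_smul_squareDodecad hd
    rw [squareDodecad_eq] at hg
    have key : (octMasks.all fun m => pc (m &&& 340831) == 2 || pc (m &&& 340831) == 4 || pc (m &&& 340831) == 6)
        = true := by decide +kernel
    have := List.all_eq_true.mp key _ (mk_mem_octMasks.mpr (smul_mem_octads (inv_mem g.2) ho))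
    simp only [Bool.or_eq_true, beq_iff_eq] at this
    have e : pc (mk ((g : Equiv.Perm GolayPt)⁻¹ • o) &&& 340831) = (o ∩ d).card := by
      rw [pc_eq_card, ← Finset.card_smul_finset (g : Equiv.Perm GolayPt)⁻¹ (o ∩ d), Finset.smul_finset_inter,
        show (g : Equiv.Perm GolayPt)⁻¹ • d = pts 340831 from inv_smul_eq_iff.mpr hg.symm]
      rw [show ∀ a b : ℕ, pts (a &&& b) = pts a ∩ pts b from fun a b => by ext p; simp [Nat.testBit_and],
        pts_mk]
    omega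

theorem eq_one_of_five_dodecad {d : Finset GolayPt} (hd : d ∈ dodecads) {x : Fin 5 ↪ GolayPt} (hx : ∀ i, x i ∈ d)
    {g : Equiv.Perm GolayPt} (hg : g ∈ setStab d) (hfix : ∀ i, g (x i) = x i) : g = 1 := by
  obtain ⟨-, hd6, a, hax, he⟩ := octad_five_meet hd hx
  have ho : g • octThrough x = octThrough x := octThrough_unique (smul_mem_octads hg.1 (octThrough_spec x).1) fun i => by
    rw [← hfix i]; exact Finset.smul_mem_smul_finset ((octThrough_spec x).2 (Finset.mem_map.mpr ⟨i, by simp, rfl⟩))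
  have hgi : g • (octThrough x ∩ d) = octThrough x ∩ d := by rw [Finset.smul_finset_inter, ho, hg.2]
  have hga : g a = a := by
    have h := (mem_iff_of_smul_eq hgi a).mpr (by rw [he]; exact Finset.mem_insert_self _ _)
    rw [he, Finset.mem_insert] at h
    refine h.resolve_right fun h' => ?_
    obtain ⟨i, -, hi⟩ := Finset.mem_map.mp h'
    exact hax i (g.injective ((hfix i).trans hi))
  refine eq_one_of_six_word (octThrough_spec x).1 (A := octThrough x ∩ d) Finset.inter_subset_left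
    (by rw [(octad_five_meet hd hx).1]) hg.1 (fun p hp => ?_) (Or.inr hd) hd6 hg.2
  rw [he, Finset.mem_insert] at hp
  rcases hp with rfl | hp
  · exact hga
  · obtain ⟨i, -, rfl⟩ := Finset.mem_map.mp hp; exact hfix i

/-- The five-tuples of a dodecad are a regular orbit of its stabiliser. -/
theorem dodecad_five {d : Finset GolayPt} (hd : d ∈ dodecads) {x y : Fin 5 ↪ GolayPt} (hx : ∀ i, x i ∈ d)
    (hy : ∀ i, y i ∈ d) : ∃ g ∈ setStab d, ∀ i, g (x i) = y i := by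
  classical
  let f : ↥(setStab d) → (Fin 5 ↪ ↥d) := fun g =>
    ⟨fun i => ⟨(g : Equiv.Perm GolayPt) (x i), (mem_iff_of_smul_eq g.2.2 _).mpr (hx i)⟩, fun i j h =>
      x.injective ((g : Equiv.Perm GolayPt).injective (congrArg Subtype.val h))⟩
  have hinj : Function.Injective f := fun g k h => by
    have he : ∀ i, (g : Equiv.Perm GolayPt) (x i) = (k : Equiv.Perm GolayPt) (x i) := fun i =>
      congrArg (fun e : Fin 5 ↪ ↥d => ((e i : ↥d) : GolayPt)) h
    have h1 := eq_one_of_five_dodecad hd hx (k⁻¹ * g : ↥(setStab d)).2 fun i => by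
      simp only [Subgroup.coe_mul, Subgroup.coe_inv, Equiv.Perm.mul_apply, Equiv.Perm.inv_eq_iff_eq, he i]
    exact (inv_mul_eq_one.mp (Subtype.ext h1)).symm
  have hbij : Function.Bijective f := by
    refine (Nat.bijective_iff_injective_and_card _).mpr ⟨hinj, ?_⟩
    rw [card_setStab_dodecad hd, Nat.card_eq_fintype_card, Fintype.card_embedding_eq, Fintype.card_fin,
      Fintype.card_coe, hd.2]
    decide
  obtain ⟨g, hg⟩ := hbij.2 ⟨fun i => ⟨y i, hy i⟩, fun i j h => y.injective (congrArg Subtype.val h)⟩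
  exact ⟨g, g.2, fun i => congrArg (fun e : Fin 5 ↪ ↥d => ((e i : ↥d) : GolayPt)) hg⟩

theorem s0384 (d : Finset GolayPt) (hd : d ∈ dodecads) (x y : Fin 5 ↪ GolayPt) (hx : ∀ i, x i ∈ d)
    (hy : ∀ i, y i ∈ d) :
    ∃! g : stabilizer M24 d, ∀ i, ((g : M24) : Equiv.Perm GolayPt) (x i) = y i := by
  obtain ⟨g, hg, hgy⟩ := dodecad_five hd hx hy
  refine ⟨⟨⟨g, hg.1⟩, mem_stabilizer_iff.mpr (mem_stabilizer_iff.mp hg.2 :)⟩, hgy, fun k hk => ?_⟩
  have hk' : ((k : M24) : Equiv.Perm GolayPt) ∈ setStab d :=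
    ⟨(k : M24).2, mem_stabilizer_iff.mpr (mem_stabilizer_iff.mp k.2 :)⟩
  have h1 := eq_one_of_five_dodecad hd hx ((setStab d).mul_mem ((setStab d).inv_mem hg) hk') fun i => by
    rw [Equiv.Perm.mul_apply, Equiv.Perm.inv_eq_iff_eq, hk i, hgy i]
  exact Subtype.ext (Subtype.ext (inv_mul_eq_one.mp h1).symm)

theorem five_injective {a b c d e : GolayPt} (h1 : a ≠ b) (h2 : a ≠ c) (h3 : a ≠ d) (h4 : a ≠ e) (h5 : b ≠ c)
    (h6 : b ≠ d) (h7 : b ≠ e) (h8 : c ≠ d) (h9 : c ≠ e) (h10 : d ≠ e) : Function.Injective ![a, b, c, d, e] := by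
  intro i j h
  fin_cases i <;> fin_cases j <;>
    first
    | rfl
    | exact absurd h ‹_›
    | exact absurd h.symm ‹_›

/-- An embedding starting with three given points. -/
theorem exists_five_ext {d : Finset GolayPt} (hd : d.card = 12) {p q r : GolayPt} (hp : p ∈ d) (hq : q ∈ d) (hr : r ∈ d)
    (hpq : p ≠ q) (hpr : p ≠ r) (hqr : q ≠ r) :
    ∃ x : Fin 5 ↪ GolayPt, (∀ i, x i ∈ d) ∧ x 0 = p ∧ x 1 = q ∧ x 2 = r := by
  obtain ⟨s, t, hs, ht, hst⟩ : ∃ s t, s ∈ d \ {p, q, r} ∧ t ∈ d \ {p, q, r} ∧ s ≠ t := by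
    refine Finset.one_lt_card_iff.mp ?_
    have := Finset.le_card_sdiff {p, q, r} d
    have : ({p, q, r} : Finset GolayPt).card ≤ 3 := Finset.card_le_three
    omega
  simp only [Finset.mem_sdiff, Finset.mem_insert, Finset.mem_singleton, not_or] at hs ht
  have hinj : Function.Injective ![p, q, r, s, t] :=
    five_injective hpq hpr (Ne.symm hs.2.1) (Ne.symm ht.2.1) hqr (Ne.symm hs.2.2.1) (Ne.symm ht.2.2.1)
      (Ne.symm hs.2.2.2) (Ne.symm ht.2.2.2) hst
  refine ⟨⟨_, hinj⟩, fun i => ?_, rfl, rfl, rfl⟩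
  fin_cases i <;> simp [hp, hq, hr, hs.1, ht.1]

theorem dodecad_three {d : Finset GolayPt} (hd : d ∈ dodecads) {p q r p' q' r' : GolayPt} (hp : p ∈ d) (hq : q ∈ d)
    (hr : r ∈ d) (hpq : p ≠ q) (hpr : p ≠ r) (hqr : q ≠ r) (hp' : p' ∈ d) (hq' : q' ∈ d) (hr' : r' ∈ d)
    (hpq' : p' ≠ q') (hpr' : p' ≠ r') (hqr' : q' ≠ r') : ∃ g ∈ setStab d, g p = p' ∧ g q = q' ∧ g r = r' := by
  obtain ⟨x, hx, x0, x1, x2⟩ := exists_five_ext hd.2 hp hq hr hpq hpr hqr
  obtain ⟨y, hy, y0, y1, y2⟩ := exists_five_ext hd.2 hp' hq' hr' hpq' hpr' hqr'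
  obtain ⟨g, hg, he⟩ := dodecad_five hd hx hy
  exact ⟨g, hg, by rw [← x0, he, y0], by rw [← x1, he, y1], by rw [← x2, he, y2]⟩

/-- The certificate for transitivity outside the dodecad. -/
theorem dodThree_ok : (dodThreeList.all (fun g => preserves g && img g 340831 == 340831 &&
      ap g.1 0 == 0 && ap g.1 1 == 1 && ap g.1 2 == 2) &&
    (List.range 24).all fun i => Nat.testBit 340831 i || dodThreeList.any fun g => ap g.1 5 == i) = true := by
  decide +kernel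

/-- The group of a dodecad and three of its points. -/
abbrev dodThree (d : Finset GolayPt) (p q r : GolayPt) : Subgroup (Equiv.Perm GolayPt) :=
  setStab d ⊓ stabilizer (Equiv.Perm GolayPt) p ⊓ stabilizer (Equiv.Perm GolayPt) q ⊓
    stabilizer (Equiv.Perm GolayPt) r

theorem dodThree_transitive {d : Finset GolayPt} (hd : d ∈ dodecads) {p q r : GolayPt} (hp : p ∈ d) (hq : q ∈ d)
    (hr : r ∈ d) (hpq : p ≠ q) (hpr : p ≠ r) (hqr : q ≠ r) {x y : GolayPt} (hx : x ∉ d) (hy : y ∉ d) :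
    ∃ g ∈ dodThree d p q r, g x = y := by
  obtain ⟨a, ha⟩ := exists_smul_squareDodecad hd
  rw [squareDodecad_eq] at ha
  have hd0 : pts 340831 ∈ dodecads := squareDodecad_eq ▸ squareDodecad_mem
  have hinv : (a : Equiv.Perm GolayPt)⁻¹ • d = pts 340831 := inv_smul_eq_iff.mpr ha.symm
  have hmem : ∀ z, (a : Equiv.Perm GolayPt)⁻¹ z ∈ pts 340831 ↔ z ∈ d := fun z => by
    rw [← hinv]; exact Finset.smul_mem_smul_finset_iff _
  have hne : ptAt 0 ≠ ptAt 1 ∧ ptAt 0 ≠ ptAt 2 ∧ ptAt 1 ≠ ptAt 2 ∧ ptAt 0 ∈ pts 340831 ∧ ptAt 1 ∈ pts 340831 ∧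
      ptAt 2 ∈ pts 340831 := by decide +kernel
  obtain ⟨b, hb, b0, b1, b2⟩ := dodecad_three hd0 ((hmem p).mpr hp) ((hmem q).mpr hq) ((hmem r).mpr hr)
    (fun e => hpq ((a : Equiv.Perm GolayPt)⁻¹.injective e)) (fun e => hpr ((a : Equiv.Perm GolayPt)⁻¹.injective e))
    (fun e => hqr ((a : Equiv.Perm GolayPt)⁻¹.injective e)) hne.2.2.2.1 hne.2.2.2.2.1 hne.2.2.2.2.2 hne.1 hne.2.1
    hne.2.2.1
  set c : Equiv.Perm GolayPt := b * (a : Equiv.Perm GolayPt)⁻¹ with hc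
  have hcM : c ∈ M24 := M24.mul_mem hb.1 (M24.inv_mem a.2)
  have hcd : c • d = pts 340831 := by rw [hc, mul_smul, hinv]; exact hb.2
  have hout : ∀ z, z ∉ d → c z ∉ pts 340831 := fun z hz h => hz (by
    rw [← hcd] at h; exact (Finset.smul_mem_smul_finset_iff c).mp h)
  have key : ∀ z, z ∉ pts 340831 → ∃ t ∈ dodThree (pts 340831) (ptAt 0) (ptAt 1) (ptAt 2), t (ptAt 5) = z := by
    intro z hz
    have h := dodThree_ok
    simp only [Bool.and_eq_true, List.all_eq_true, Bool.or_eq_true, List.any_eq_true, beq_iff_eq, List.mem_range] at h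
    rcases h.2 (pidx z) (pidx_lt z) with h0 | ⟨t, ht, h0⟩
    · exact absurd (mem_pts.mpr h0) hz
    obtain ⟨⟨⟨⟨hpres, himg⟩, t0⟩, t1⟩, t2⟩ := h.1 t ht
    have hv : valid 24 t = true := by simp only [preserves, Bool.and_eq_true] at hpres; exact hpres.1
    have hfix : ∀ i : ℕ, i < 24 → ap t.1 i = i → toP t (ptAt i) = ptAt i := fun i hi e => pidx_injective (by
      rw [pidx_toP hv, pidx_ptAt ⟨i, hi⟩, e])
    refine ⟨toP t, ⟨⟨⟨⟨toP_mem_M24 hpres, ?_⟩, ?_⟩, ?_⟩, ?_⟩, pidx_injective (by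
      rw [pidx_toP hv, pidx_ptAt ⟨5, by norm_num⟩, h0])⟩
    · exact mem_stabilizer_iff.mpr (mk_injective (by rw [mk_smul hv, mk_pts (by norm_num), himg]))
    · exact mem_stabilizer_iff.mpr (hfix 0 (by norm_num) t0)
    · exact mem_stabilizer_iff.mpr (hfix 1 (by norm_num) t1)
    · exact mem_stabilizer_iff.mpr (hfix 2 (by norm_num) t2)
  obtain ⟨s, hs, hsx⟩ := key _ (hout x hx)
  obtain ⟨t, ht, hty⟩ := key _ (hout y hy)
  obtain ⟨⟨⟨⟨hsM, hsd⟩, hs0⟩, hs1⟩, hs2⟩ := (dodThree _ _ _ _).mul_mem ht ((dodThree _ _ _ _).inv_mem hs)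
  have hcp : c p = ptAt 0 ∧ c q = ptAt 1 ∧ c r = ptAt 2 := ⟨b0, b1, b2⟩
  refine ⟨c⁻¹ * (t * s⁻¹) * c, ⟨⟨⟨⟨M24.mul_mem (M24.mul_mem (M24.inv_mem hcM) hsM) hcM, ?_⟩, ?_⟩, ?_⟩, ?_⟩, ?_⟩
  · exact mem_stabilizer_iff.mpr (by
      rw [mul_smul, mul_smul, hcd, mem_stabilizer_iff.mp hsd, inv_smul_eq_iff.mpr hcd.symm])
  · exact mem_stabilizer_iff.mpr (by
      rw [mul_smul, mul_smul, show c • p = ptAt 0 from hcp.1, mem_stabilizer_iff.mp hs0, inv_smul_eq_iff]
      exact hcp.1.symm)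
  · exact mem_stabilizer_iff.mpr (by
      rw [mul_smul, mul_smul, show c • q = ptAt 1 from hcp.2.1, mem_stabilizer_iff.mp hs1, inv_smul_eq_iff]
      exact hcp.2.1.symm)
  · exact mem_stabilizer_iff.mpr (by
      rw [mul_smul, mul_smul, show c • r = ptAt 2 from hcp.2.2, mem_stabilizer_iff.mp hs2, inv_smul_eq_iff]
      exact hcp.2.2.symm)
  · simp only [Equiv.Perm.mul_apply]
    rw [← hsx, Equiv.Perm.inv_def s, Equiv.symm_apply_apply, hty]
    exact Equiv.symm_apply_apply c y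

theorem dodThree_card {d : Finset GolayPt} (hd : d ∈ dodecads) {p q r : GolayPt} (hp : p ∈ d) (hq : q ∈ d)
    (hr : r ∈ d) (hpq : p ≠ q) (hpr : p ≠ r) (hqr : q ≠ r) : Nat.card ↥(dodThree d p q r) = 72 := by
  classical
  obtain ⟨x, hx, x0, x1, x2⟩ := exists_five_ext hd.2 hp hq hr hpq hpr hqr
  set D := d \ {p, q, r} with hD
  have hx34 : x 3 ∈ D ∧ x 4 ∈ D := by
    simp only [hD, Finset.mem_sdiff, Finset.mem_insert, Finset.mem_singleton, ← x0, ← x1, ← x2,
      EmbeddingLike.apply_eq_iff_eq]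
    exact ⟨⟨hx 3, by decide⟩, ⟨hx 4, by decide⟩⟩
  have hstabD : ∀ g ∈ dodThree d p q r, g • D = D := fun g hg => by
    rw [hD, Finset.smul_finset_sdiff, hg.1.1.1.2, Finset.smul_finset_insert, Finset.smul_finset_insert,
      Finset.smul_finset_singleton, mem_stabilizer_iff.mp hg.1.1.2, mem_stabilizer_iff.mp hg.1.2,
      mem_stabilizer_iff.mp hg.2]
  have hD9 : D.card = 9 := by
    rw [hD, Finset.card_sdiff_of_subset (by simp [Finset.insert_subset_iff, hp, hq, hr]), hd.2,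
      Finset.card_eq_three.mpr ⟨p, q, r, hpq, hpr, hqr, rfl⟩]
  rw [show 72 = Nat.card ↥D.offDiag by rw [Nat.card_eq_fintype_card, Fintype.card_coe, Finset.offDiag_card, hD9]]
  refine Nat.card_eq_of_bijective (fun g => ⟨((g : Equiv.Perm GolayPt) (x 3), (g : Equiv.Perm GolayPt) (x 4)), ?_⟩)
    ⟨fun g k h => ?_, ?_⟩
  · refine Finset.mem_offDiag.mpr ⟨(mem_iff_of_smul_eq (hstabD g g.2) _).mpr hx34.1,
      (mem_iff_of_smul_eq (hstabD g g.2) _).mpr hx34.2, fun e => ?_⟩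
    simp [(g : Equiv.Perm GolayPt).injective.eq_iff] at e
  · have he := congrArg Subtype.val h
    simp only [Prod.mk.injEq] at he
    have h1 := eq_one_of_five_dodecad hd hx (k⁻¹ * g : ↥(dodThree d p q r)).2.1.1.1 fun i => by
      have hg := g.2
      have hk := k.2
      simp only [Subgroup.coe_mul, Subgroup.coe_inv, Equiv.Perm.mul_apply, Equiv.Perm.inv_eq_iff_eq]
      fin_cases i
      · show (g : Equiv.Perm GolayPt) (x 0) = (k : Equiv.Perm GolayPt) (x 0)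
        rw [x0]; exact hg.1.1.2.trans hk.1.1.2.symm
      · show (g : Equiv.Perm GolayPt) (x 1) = (k : Equiv.Perm GolayPt) (x 1)
        rw [x1]; exact hg.1.2.trans hk.1.2.symm
      · show (g : Equiv.Perm GolayPt) (x 2) = (k : Equiv.Perm GolayPt) (x 2)
        rw [x2]; exact hg.2.trans hk.2.symm
      · exact he.1
      · exact he.2
    exact (inv_mul_eq_one.mp (Subtype.ext h1)).symm
  · rintro ⟨⟨s, t⟩, hst⟩
    obtain ⟨hs, ht, hne⟩ := Finset.mem_offDiag.mp hst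
    simp only [hD, Finset.mem_sdiff, Finset.mem_insert, Finset.mem_singleton, not_or] at hs ht
    have hinj : Function.Injective ![p, q, r, s, t] :=
      five_injective hpq hpr (Ne.symm hs.2.1) (Ne.symm ht.2.1) hqr (Ne.symm hs.2.2.1) (Ne.symm ht.2.2.1)
        (Ne.symm hs.2.2.2) (Ne.symm ht.2.2.2) hne
    obtain ⟨g, hg, he⟩ := dodecad_five hd hx (y := ⟨_, hinj⟩) (fun i => by
      fin_cases i <;> simp [hp, hq, hr, hs.1, ht.1])
    refine ⟨⟨g, ⟨⟨hg, ?_⟩, ?_⟩, ?_⟩, Subtype.ext (Prod.ext (he 3) (he 4))⟩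
    · exact mem_stabilizer_iff.mpr (by simpa [x0] using he 0)
    · exact mem_stabilizer_iff.mpr (by simpa [x1] using he 1)
    · exact mem_stabilizer_iff.mpr (by simpa [x2] using he 2)

theorem mem_stab_coe {β : Type*} [MulAction (Equiv.Perm GolayPt) β] (g : M24) (x : β) :
    g ∈ stabilizer M24 x ↔ (g : Equiv.Perm GolayPt) ∈ stabilizer (Equiv.Perm GolayPt) x := Iff.rfl

theorem card_dodThree_coe (d : Finset GolayPt) (p q r : GolayPt) :
    Nat.card ↥(stabilizer M24 d ⊓ stabilizer M24 p ⊓ stabilizer M24 q ⊓ stabilizer M24 r)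
      = Nat.card ↥(dodThree d p q r) :=
  Nat.card_congr ⟨fun g => ⟨g.1, ⟨⟨⟨g.1.2, g.2.1.1.1⟩, g.2.1.1.2⟩, g.2.1.2⟩, g.2.2⟩,
    fun g => ⟨⟨g.1, g.2.1.1.1.1⟩, ⟨⟨g.2.1.1.1.2, g.2.1.1.2⟩, g.2.1.2⟩, g.2.2⟩, fun _ => rfl, fun _ => rfl⟩

theorem s1600 (d : Finset GolayPt) (hd : d ∈ dodecads) (p q r : GolayPt) (hp : p ∈ d) (hq : q ∈ d) (hr : r ∈ d)
    (hpq : p ≠ q) (hpr : p ≠ r) (hqr : q ≠ r) :
    Nat.card ↥(stabilizer M24 d ⊓ stabilizer M24 p ⊓ stabilizer M24 q ⊓ stabilizer M24 r) = 72 ∧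
      ∀ x ∉ d, ∀ y ∉ d, ∃ g ∈ (stabilizer M24 d ⊓ stabilizer M24 p ⊓ stabilizer M24 q ⊓ stabilizer M24 r),
        ((g : ↥M24) : Equiv.Perm GolayPt) x = y := by
  refine ⟨(card_dodThree_coe d p q r).trans (dodThree_card hd hp hq hr hpq hpr hqr), fun x hx y hy => ?_⟩
  obtain ⟨g, hg, hgx⟩ := dodThree_transitive hd hp hq hr hpq hpr hqr hx hy
  exact ⟨⟨g, hg.1.1.1.1⟩, ⟨⟨⟨hg.1.1.1.2, hg.1.1.2⟩, hg.1.2⟩, hg.2⟩, hgx⟩

theorem s0389 (d : Finset GolayPt) (hd : d ∈ dodecads) (p : GolayPt) (hp : p ∈ d) (x y : Fin 3 ↪ GolayPt)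
    (hx : ∀ i, x i ∉ d) (hy : ∀ i, y i ∉ d) :
    ∃ g ∈ stabilizer M24 d ⊓ stabilizer M24 p, ∀ i, (g : Equiv.Perm GolayPt) (x i) = y i := by
  have hdc : dᶜ ∈ dodecads := ⟨compl_mem_supports hd.1, by
    rw [Finset.card_compl, hd.2, Fintype.card_option, ZMod.card]⟩
  have hne : ∀ (z : Fin 3 ↪ GolayPt) (i j : Fin 3), i ≠ j → z i ≠ z j := fun z i j h e => h (z.injective e)
  obtain ⟨g, hg, g0, g1, g2⟩ := dodecad_three hdc (Finset.mem_compl.mpr (hx 0)) (Finset.mem_compl.mpr (hx 1))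
    (Finset.mem_compl.mpr (hx 2)) (hne x 0 1 (by decide)) (hne x 0 2 (by decide)) (hne x 1 2 (by decide))
    (Finset.mem_compl.mpr (hy 0)) (Finset.mem_compl.mpr (hy 1))
    (Finset.mem_compl.mpr (hy 2)) (hne y 0 1 (by decide)) (hne y 0 2 (by decide)) (hne y 1 2 (by decide))
  have hgd : g • d = d := smul_eq_of_mem_imp fun z hz => by
    by_contra h
    exact Finset.mem_compl.mp ((mem_iff_of_smul_eq hg.2 z).mp (Finset.mem_compl.mpr h)) hz
  obtain ⟨k, hk, hkp⟩ := dodThree_transitive hdc (Finset.mem_compl.mpr (hy 0)) (Finset.mem_compl.mpr (hy 1))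
    (Finset.mem_compl.mpr (hy 2)) (hne y 0 1 (by decide)) (hne y 0 2 (by decide)) (hne y 1 2 (by decide))
    (x := g p) (y := p) (fun h => Finset.mem_compl.mp ((mem_iff_of_smul_eq hg.2 p).mp h) hp)
    (fun h => Finset.mem_compl.mp h hp)
  have hkd : k • d = d := smul_eq_of_mem_imp fun z hz => by
    by_contra h
    exact Finset.mem_compl.mp ((mem_iff_of_smul_eq hk.1.1.1.2 z).mp (Finset.mem_compl.mpr h)) hz
  refine ⟨⟨k * g, M24.mul_mem hk.1.1.1.1 hg.1⟩, ⟨?_, ?_⟩, fun i => ?_⟩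
  · exact (mem_stab_coe _ _).mpr (mem_stabilizer_iff.mpr (by rw [mul_smul, hgd, hkd]))
  · exact (mem_stab_coe _ _).mpr (mem_stabilizer_iff.mpr hkp)
  · show k (g (x i)) = y i
    fin_cases i
    · show k (g (x 0)) = y 0; rw [g0]; exact hk.1.1.2
    · show k (g (x 1)) = y 1; rw [g1]; exact hk.1.2
    · show k (g (x 2)) = y 2; rw [g2]; exact hk.2

end Cfsg.Lib.Golay
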