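import Cfsg.Agent.Golay.Conj
import Cfsg.Agent.Golay.SlpData

/-!
The group of the code is generated by translation, inversion and the twist; it is also the automorphism
group of the octad system.
-/

namespace Cfsg.Lib.Golay

open Cfsg Cfsg.Lib.PermCert MulAction
open scoped Pointwise

/-- Check a straight-line derivation, producing all derived elements. -/
def slpRun : List PP → List (PP × ℕ × ℕ × Bool) → Option (List PP)
  | acc, [] => some acc
  | acc, (x, i, j, inv) :: r =>
    match acc[i]?, acc[j]? with
    | some a, some b =>
      if valid 24 x && (List.range 24).all (fun y => if inv then ap x.1 y == ap a.2 y else ap x.1 y == ap a.1 (ap b.1 y))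
      then slpRun (acc ++ [x]) r else none
    | _, _ => none

theorem slpRun_sound {K : Subgroup (Equiv.Perm (Fin 24))} : ∀ (steps : List (PP × ℕ × ℕ × Bool)) (acc out : List PP),
    slpRun acc steps = some out → (∀ g ∈ acc, valid 24 g = true ∧ perm 24 g ∈ K) →
    ∀ g ∈ out, valid 24 g = true ∧ perm 24 g ∈ K := by
  intro steps
  induction steps with
  | nil =>
    intro acc out h ha
    have h' : some acc = some out := h
    exact Option.some.inj h' ▸ ha
  | cons s r ih =>
    obtain ⟨x, i, j, inv⟩ := s
    intro acc out h ha
    simp only [slpRun] at h
    split at h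
    · next a b hi hj =>
      simp only [Option.ite_none_right_eq_some, Bool.and_eq_true, List.all_eq_true] at h
      obtain ⟨⟨hxv, hx⟩, h⟩ := h
      obtain ⟨hav, haK⟩ := ha a (List.mem_of_getElem? hi)
      obtain ⟨hbv, hbK⟩ := ha b (List.mem_of_getElem? hj)
      refine ih _ out h fun g hg => ?_
      rcases List.mem_append.mp hg with hg | hg
      · exact ha g hg
      · rw [List.mem_singleton.mp hg]
        refine ⟨hxv, ?_⟩
        cases inv with
        | true =>
          have : perm 24 x = (perm 24 a)⁻¹ := by
            rw [← perm_pinv hav]
            ext y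
            rw [perm_apply hxv, perm_apply (valid_pinv hav)]
            simpa [pinv] using hx y.1 (List.mem_range.mpr y.2)
          rw [this]; exact inv_mem haK
        | false =>
          have : perm 24 x = perm 24 a * perm 24 b := by
            ext y
            rw [Equiv.Perm.mul_apply, perm_apply hxv, perm_apply hav, perm_apply hbv]
            simpa using hx y.1 (List.mem_range.mpr y.2)
          rw [this]; exact mul_mem haK hbK
    · simp at h

theorem slp_check : (match slpRun threeGens slpSteps with
    | some out => (topGens m24Chain).all (fun s => decide (s ∈ out))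
    | none => false) = true := by decide +kernel

theorem threeGens_valid : threeGens.all (fun g => valid 24 g) = true := by decide +kernel

/-- The translation. -/
def transl : Equiv.Perm GolayPt := Equiv.optionCongr (Equiv.addRight (1 : ZMod 23))

theorem toP_transl : toP (threeGens.getD 0 (0, 0)) = transl := by
  apply Equiv.ext
  intro p
  apply pidx_injective
  rw [pidx_toP (by decide +kernel)]
  revert p; decide +kernel

theorem toP_inv : toP (threeGens.getD 1 (0, 0)) = projInv := by
  apply Equiv.ext
  intro p
  apply pidx_injective
  rw [pidx_toP (by decide +kernel)]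
  revert p; decide +kernel

theorem toP_twist : toP (threeGens.getD 2 (0, 0)) = cubeTwist := by
  apply Equiv.ext
  intro p
  apply pidx_injective
  rw [pidx_toP (by decide +kernel), show cubeTwist p = cubeTwistFun p from rfl]
  revert p; decide +kernel

theorem transl_mem : transl ∈ M24 := toP_transl ▸ toP_mem_M24 (by decide +kernel)
theorem projInv_mem : projInv ∈ M24 := toP_inv ▸ toP_mem_M24 (by decide +kernel)
theorem cubeTwist_mem : cubeTwist ∈ M24 := toP_twist ▸ toP_mem_M24 (by decide +kernel)

theorem M24_eq_closure : Subgroup.closure {transl, projInv, cubeTwist} = M24 := by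
  refine le_antisymm ((Subgroup.closure_le _).mpr ?_) ?_
  · rintro g (rfl | rfl | rfl)
    exacts [transl_mem, projInv_mem, cubeTwist_mem]
  · rw [← certGrp_eq, certGrp, Subgroup.map_le_iff_le_comap, grp, Subgroup.closure_le]
    rintro g ⟨s, hs, rfl⟩
    have h := slp_check
    split at h
    · next out hout =>
      have hbase : ∀ g ∈ threeGens, valid 24 g = true ∧
          perm 24 g ∈ (Subgroup.closure {transl, projInv, cubeTwist}).comap permHom.toMonoidHom := by
        intro g hg
        refine ⟨List.all_eq_true.mp threeGens_valid g hg, ?_⟩
        rw [Subgroup.mem_comap]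
        show toP g ∈ _
        have h4 : threeGens = [threeGens.getD 0 (0, 0), threeGens.getD 1 (0, 0), threeGens.getD 2 (0, 0),
            threeGens.getD 3 (0, 0)] := rfl
        rw [h4] at hg
        simp only [List.mem_cons, List.not_mem_nil, or_false] at hg
        rcases hg with e | e | e | e <;> rw [e]
        · rw [toP_transl]; exact Subgroup.subset_closure (by simp)
        · rw [toP_inv]; exact Subgroup.subset_closure (by simp)
        · rw [toP_twist]; exact Subgroup.subset_closure (by simp)
        · have : toP (threeGens.getD 3 (0, 0)) = 1 := by
            apply Equiv.ext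
            intro p
            apply pidx_injective
            rw [pidx_toP (by decide +kernel), Equiv.Perm.one_apply]
            revert p; decide +kernel
          rw [this]; exact one_mem _
      exact (slpRun_sound _ _ _ hout hbase s (by simpa using List.all_eq_true.mp h s hs)).2
    · cases h

theorem rows_octads : rows.all (fun r => decide (r < 2 ^ 24) && inCode r && pc r == 8) = true := by
  decide +kernel

theorem M24_eq_octadAut : M24 = setSystemAut octads := by
  apply le_antisymm
  · intro σ hσ
    rw [mem_stabilizer_iff]
    refine Set.eq_of_subset_of_ncard_le ?_ ?_ (Set.toFinite _)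
    · rintro t ⟨s, hs, rfl⟩; exact smul_mem_octads hσ hs
    · exact le_of_eq (Set.ncard_image_of_injective _ (MulAction.injective σ)).symm
  · intro σ hσ
    refine mem_M24_of_rows σ fun r hr => ?_
    have hr' := List.all_eq_true.mp rows_octads r hr
    simp only [Bool.and_eq_true, decide_eq_true_eq, beq_iff_eq, pc_eq_card] at hr'
    have ho : pts r ∈ octads := by
      rw [mem_octads_iff, mk_pts hr'.1.1]; exact ⟨hr'.1.2, hr'.2⟩
    have : σ • pts r ∈ σ • octads := Set.smul_mem_smul_set ho
    rw [mem_stabilizer_iff.mp hσ] at this
    exact ((mem_octads_iff _).mp this).1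

theorem mulLeft_mem (u : (ZMod 23)ˣ) (hu : IsSquare u) : Equiv.optionCongr (Units.mulLeft u) ∈ M24 := by
  refine mem_M24_of_rows _ fun r hr => ?_
  have key : ∀ u : (ZMod 23)ˣ, IsSquare (u : ZMod 23) → ∀ r ∈ rows,
      inCode (mk ((Finset.univ.filter fun p : GolayPt => r.testBit (pidx p) = true).image
        (Equiv.optionCongr (Units.mulLeft u)))) = true := by
    suffices h : ∀ a : ZMod 23, IsSquare a → a ≠ 0 → ∀ r ∈ rows,
        inCode (mk ((Finset.univ.filter fun p : GolayPt => r.testBit (pidx p) = true).image
          (Option.map (a * ·)))) = true by
      intro u hu r hr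
      have hne : (u : ZMod 23) ≠ 0 := fun e => by
        have h1 := u.mul_inv; rw [e, zero_mul] at h1; exact absurd h1 (by decide)
      have := h u hu hne r hr
      have e : ⇑(Equiv.optionCongr (Units.mulLeft u)) = Option.map (fun x => (u : ZMod 23) * x) := by
        funext p; cases p <;> rfl
      rw [e]; exact this
    decide +kernel
  have := key u (hu.map (Units.coeHom (ZMod 23))) r hr
  exact this

end Cfsg.Lib.Golay
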