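import Cfsg.Agent.Golay.Conj
import Cfsg.Agent.Golay.Generators
import Cfsg.Agent.Golay.DodecadStab

/-!
`PSL(2, 23)` inside the largest Mathieu group and `23:11` inside the point stabiliser are maximal.

An overgroup of `23:11` in the point stabiliser has order `253 k` with `k ∣ 40320`, `k ≡ 1 (mod 23)`;
the normaliser of a subgroup of order 11 has order 55, which forces `k` to be 1 or 40320.
-/

namespace Cfsg.Lib.Golay.LinearGroup23

open Cfsg Cfsg.Lib.Golay Cfsg.Lib.PermCert MulAction
open scoped Pointwise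

local instance fact23 : Fact (Nat.Prime 23) := ⟨by norm_num⟩

theorem mem_norm_of_conj {G : Type*} [Group G] [Finite G] {K : Subgroup G} {g : G}
    (h : ∀ t ∈ K, g * t * g⁻¹ ∈ K) : g ∈ Subgroup.normalizer (K : Set G) := by
  refine Subgroup.mem_normalizer_iff.mpr fun x => ⟨h x, fun hx => ?_⟩
  have he : (fun t => g * t * g⁻¹) '' (K : Set G) = K :=
    Set.eq_of_subset_of_ncard_le (by rintro _ ⟨t, ht, rfl⟩; exact h t ht)
      (le_of_eq (Set.ncard_image_of_injective _ fun a b e => mul_left_cancel (mul_right_cancel e)).symm) (Set.toFinite _)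
  obtain ⟨y, hy, e⟩ := (he.symm ▸ hx : g * x * g⁻¹ ∈ (fun t => g * t * g⁻¹) '' (K : Set G))
  rwa [← mul_left_cancel (mul_right_cancel e)]

/-- Translation. -/
def tr (a : ZMod 23) : Equiv.Perm GolayPt := Equiv.optionCongr (Equiv.addRight a)

/-- Multiplication. -/
def mu (u : (ZMod 23)ˣ) : Equiv.Perm GolayPt := Equiv.optionCongr (Units.mulLeft u)

@[simp] theorem tr_some (a x : ZMod 23) : tr a (some x) = some (x + a) := rfl
@[simp] theorem tr_none (a : ZMod 23) : tr a none = none := rfl
@[simp] theorem mu_some (u : (ZMod 23)ˣ) (x : ZMod 23) : mu u (some x) = some (u * x) := rfl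
@[simp] theorem mu_none (u : (ZMod 23)ˣ) : mu u none = none := rfl

theorem tr_mul (a b : ZMod 23) : tr a * tr b = tr (b + a) := by
  ext (_ | x) : 1
  · rfl
  · simp [add_assoc]

theorem mu_mul (u v : (ZMod 23)ˣ) : mu u * mu v = mu (u * v) := by
  ext (_ | x) : 1
  · rfl
  · simp [mul_assoc]

theorem mu_one : mu 1 = 1 := by
  ext (_ | x) : 1
  · rfl
  · simp

theorem tr_zero : tr 0 = 1 := by
  ext (_ | x) : 1
  · rfl
  · simp

theorem mu_tr (u : (ZMod 23)ˣ) (a : ZMod 23) : mu u * tr a = tr (u * a) * mu u := by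
  ext (_ | x) : 1
  · rfl
  · simp [mul_add]

theorem tr_pow (n : ℕ) : tr 1 ^ n = tr n := by
  induction n with
  | zero => simp [tr_zero]
  | succ n ih => rw [pow_succ, ih, tr_mul]; congr 1; push_cast; ring

theorem mu_pow (u : (ZMod 23)ˣ) (n : ℕ) : mu u ^ n = mu (u ^ n) := by
  induction n with
  | zero => simp [mu_one]
  | succ n ih => rw [pow_succ, ih, mu_mul, pow_succ]

theorem mu_inj {u v : (ZMod 23)ˣ} (h : mu u = mu v) : u = v := by
  have := DFunLike.congr_fun h (some 1)
  simpa [Units.ext_iff] using this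

/-- The squares. -/
abbrev Sq : Type := {u : (ZMod 23)ˣ // IsSquare u}

theorem card_Sq : Nat.card Sq = 11 := by
  rw [Nat.card_eq_fintype_card]; decide +kernel

/-- The generators of `23:11`. -/
def bGens : Set (Equiv.Perm GolayPt) :=
  {Equiv.optionCongr (Equiv.addRight (1 : ZMod 23))} ∪
    {g : Equiv.Perm GolayPt | ∃ u : (ZMod 23)ˣ, IsSquare u ∧ g = Equiv.optionCongr (Units.mulLeft u)}

/-- The generators of `PSL(2, 23)`. -/
def lGens : Set (Equiv.Perm GolayPt) :=
  {Equiv.optionCongr (Equiv.addRight (1 : ZMod 23)), projInv} ∪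
    {g : Equiv.Perm GolayPt | ∃ u : (ZMod 23)ˣ, IsSquare u ∧ g = Equiv.optionCongr (Units.mulLeft u)}

/-- `23:11`. -/
abbrev B : Subgroup (Equiv.Perm GolayPt) := Subgroup.closure bGens

/-- `PSL(2, 23)`. -/
abbrev L : Subgroup (Equiv.Perm GolayPt) := Subgroup.closure lGens

/-- The point stabiliser. -/
abbrev P23 : Subgroup (Equiv.Perm GolayPt) := M24 ⊓ stabilizer (Equiv.Perm GolayPt) (none : GolayPt)

theorem card_P23 : Nat.card P23 = 10200960 := card_M23

theorem mu_mem_B {u : (ZMod 23)ˣ} (hu : IsSquare u) : mu u ∈ B :=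
  Subgroup.subset_closure (Or.inr ⟨u, hu, rfl⟩)

theorem tr_mem_B (a : ZMod 23) : tr a ∈ B := by
  rw [show tr a = tr 1 ^ a.val by rw [tr_pow, ZMod.natCast_zmod_val]]
  exact pow_mem (Subgroup.subset_closure (k := bGens) (Or.inl rfl) : tr 1 ∈ B) _

theorem mem_B_iff {g : Equiv.Perm GolayPt} : g ∈ B ↔ ∃ a, ∃ u : (ZMod 23)ˣ, IsSquare u ∧ g = tr a * mu u := by
  refine ⟨fun hg => ?_, fun ⟨a, u, hu, e⟩ => e ▸ mul_mem (tr_mem_B a) (mu_mem_B hu)⟩
  induction hg using Subgroup.closure_induction with
  | mem x hx =>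
    rcases hx with hx | ⟨u, hu, rfl⟩
    · exact ⟨1, 1, IsSquare.one, by rw [Set.mem_singleton_iff.mp hx, mu_one, mul_one]; rfl⟩
    · exact ⟨0, u, hu, by rw [tr_zero, one_mul]; rfl⟩
  | one => exact ⟨0, 1, IsSquare.one, by rw [tr_zero, mu_one, one_mul]⟩
  | mul x y _ _ hx hy =>
    obtain ⟨a, u, hu, rfl⟩ := hx
    obtain ⟨b, v, hv, rfl⟩ := hy
    refine ⟨u * b + a, u * v, hu.mul hv, ?_⟩
    rw [← tr_mul, ← mu_mul, mul_assoc, ← mul_assoc (mu u), mu_tr, mul_assoc, mul_assoc]
  | inv x _ hx =>
    obtain ⟨a, u, hu, rfl⟩ := hx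
    refine ⟨((u⁻¹ : (ZMod 23)ˣ) : ZMod 23) * (-a), u⁻¹, hu.inv, inv_eq_of_mul_eq_one_left ?_⟩
    rw [mul_assoc, ← mul_assoc (mu u⁻¹), mu_tr, mul_assoc, mu_mul, inv_mul_cancel, mu_one, mul_one, tr_mul]
    rw [← mul_add, add_neg_cancel, mul_zero, tr_zero]

theorem mem_M24_mu {u : (ZMod 23)ˣ} (hu : IsSquare u) : mu u ∈ M24 := mulLeft_mem u hu

theorem B_le : B ≤ P23 := by
  refine (Subgroup.closure_le _).mpr ?_
  rintro x (hx | ⟨u, hu, rfl⟩)
  · rw [Set.mem_singleton_iff.mp hx]; exact ⟨transl_mem, rfl⟩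
  · exact ⟨mem_M24_mu hu, rfl⟩

theorem card_B : Nat.card B = 253 := by
  have hbij : Function.Bijective fun p : ZMod 23 × Sq =>
      (⟨tr p.1 * mu p.2.1, mul_mem (tr_mem_B _) (mu_mem_B p.2.2)⟩ : B) := by
    refine ⟨fun p q h => ?_, fun g => ?_⟩
    · have h' := congrArg Subtype.val h
      simp only at h'
      have h0 := DFunLike.congr_fun h' (some 0)
      simp only [Equiv.Perm.mul_apply, mu_some, mul_zero, tr_some, zero_add, Option.some.injEq] at h0
      rw [h0] at h'
      exact Prod.ext h0 (Subtype.ext (mu_inj (mul_left_cancel h')))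
    · obtain ⟨a, u, hu, e⟩ := mem_B_iff.mp g.2
      exact ⟨(a, ⟨u, hu⟩), Subtype.ext e.symm⟩
  rw [← Nat.card_eq_of_bijective _ hbij, Nat.card_prod, Nat.card_zmod, card_Sq]

theorem nonsquare_not_mem : ∀ a : ZMod 23, a ≠ 0 → ¬ IsSquare a →
    inCode (mk ((pts 340831).image (Option.map (a * ·)))) = false := by decide +kernel

theorem isSquare_of_mem {u : (ZMod 23)ˣ} (h : mu u ∈ M24) : IsSquare u := by
  have hs : IsSquare (u : ZMod 23) := by
    by_contra hn
    have h1 := nonsquare_not_mem u u.ne_zero hn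
    have h2 : mu u • pts 340831 ∈ supports (golayCode : Set (GolayPt → ZMod 2)) :=
      (mem_M24_iff _).mp h _ (by rw [← squareDodecad_eq]; exact squareDodecad_mem.1)
    rw [mem_supports_iff] at h2
    have e : ⇑(mu u) = Option.map (fun x => (u : ZMod 23) * x) := by
      funext p; cases p <;> rfl
    rw [show mu u • pts 340831 = (pts 340831).image (mu u) from rfl, e, h1] at h2
    exact Bool.false_ne_true h2
  obtain ⟨r, hr⟩ := hs
  have hr0 : r ≠ 0 := fun e => u.ne_zero (by rw [hr, e, mul_zero])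
  exact ⟨Units.mk0 r hr0, Units.ext hr⟩

/-- The translations. -/
abbrev T : Subgroup (Equiv.Perm GolayPt) := Subgroup.zpowers (tr 1)

theorem card_T : Nat.card T = 23 := by
  rw [Nat.card_zpowers]
  refine orderOf_eq_prime (by rw [tr_pow, show ((23 : ℕ) : ZMod 23) = 0 from rfl, tr_zero]) fun h => ?_
  have := DFunLike.congr_fun h (some 0)
  simp at this

theorem tr_mem_T (a : ZMod 23) : tr a ∈ T :=
  ⟨(a.val : ℤ), by simp only; rw [zpow_natCast, tr_pow, ZMod.natCast_zmod_val]⟩

theorem mem_T_iff {g : Equiv.Perm GolayPt} : g ∈ T ↔ ∃ a, g = tr a := by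
  refine ⟨fun h => ?_, fun ⟨a, e⟩ => e ▸ tr_mem_T a⟩
  obtain ⟨n, rfl⟩ := (Submonoid.mem_powers_iff _ _).mp (mem_powers_iff_mem_zpowers.mpr h)
  exact ⟨_, tr_pow n⟩

theorem normalizer_T {g : Equiv.Perm GolayPt} (hg : g ∈ P23)
    (hn : g ∈ Subgroup.normalizer (T : Set (Equiv.Perm GolayPt))) : g ∈ B := by
  obtain ⟨k, hk⟩ := mem_T_iff.mp ((Subgroup.mem_normalizer_iff.mp hn (tr 1)).mp (tr_mem_T 1))
  have hgn : g none = none := hg.2
  obtain ⟨c, hc⟩ : ∃ c, g (some 0) = some c := by
    rcases h : g (some 0) with _ | c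
    · exact absurd (g.injective (h.trans hgn.symm)) (by simp)
    · exact ⟨c, rfl⟩
  have hstep : ∀ n : ℕ, g (some (n : ZMod 23)) = some (c + k * n) := by
    intro n
    induction n with
    | zero => simpa using hc
    | succ n ih =>
      have h1 := DFunLike.congr_fun (mul_inv_eq_iff_eq_mul.mp hk) (some (n : ZMod 23))
      simp only [Equiv.Perm.mul_apply, tr_some, ih] at h1
      rw [Nat.cast_succ, h1]; congr 1; ring
  have hk0 : k ≠ 0 := by
    intro e
    have h1 := hstep 0; have h2 := hstep 1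
    push_cast at h1 h2
    simp only [e, zero_mul, add_zero] at h1 h2
    exact absurd (Option.some.inj (g.injective (h1.trans h2.symm))) (by decide)
  have he : g = tr c * mu (Units.mk0 k hk0) := by
    ext (_ | x) : 1
    · rw [Equiv.Perm.mul_apply, mu_none, tr_none]; exact hgn
    · have := hstep x.val
      rw [ZMod.natCast_zmod_val] at this
      rw [this, Equiv.Perm.mul_apply, mu_some, tr_some, Units.val_mk0, add_comm]
  have hmu : mu (Units.mk0 k hk0) ∈ M24 := by
    rw [show mu (Units.mk0 k hk0) = (tr c)⁻¹ * g by rw [he, inv_mul_cancel_left]]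
    exact mul_mem (inv_mem (B_le (tr_mem_B c)).1) hg.1
  rw [he]
  exact mul_mem (tr_mem_B c) (mu_mem_B (isSquare_of_mem hmu))

theorem B_le_normalizer_T : B ≤ Subgroup.normalizer (T : Set (Equiv.Perm GolayPt)) := by
  intro g hg
  obtain ⟨a, u, hu, rfl⟩ := mem_B_iff.mp hg
  refine mem_norm_of_conj fun t ht => ?_
  obtain ⟨b, rfl⟩ := mem_T_iff.mp ht
  refine mem_T_iff.mpr ⟨u * b, ?_⟩
  rw [mul_inv_eq_iff_eq_mul, mul_assoc, mu_tr, ← mul_assoc, ← mul_assoc, tr_mul, tr_mul, add_comm]

/-! ### The normaliser of a subgroup of order eleven -/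

/-- The square two. -/
def two : (ZMod 23)ˣ := ⟨2, 12, by decide, by decide⟩

/-- The subgroup of order eleven. -/
abbrev Q : Subgroup (Equiv.Perm GolayPt) := Subgroup.zpowers (mu two)

theorem two_sq : IsSquare two := ⟨⟨5, 14, by decide, by decide⟩, by decide⟩

theorem two_pow : two ^ 11 = 1 := by decide +kernel

theorem card_Q : Nat.card Q = 11 := by
  have : Fact (Nat.Prime 11) := ⟨by norm_num⟩
  rw [Nat.card_zpowers]
  refine orderOf_eq_prime (by rw [mu_pow, two_pow, mu_one]) fun h => ?_
  have := DFunLike.congr_fun h (some 1)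
  simp only [mu_some, mul_one, Equiv.Perm.one_apply, Option.some.injEq] at this
  exact absurd this (by decide)

theorem Q_le_B : Q ≤ B := Subgroup.zpowers_le.mpr (mu_mem_B two_sq)

/-- Twice the logarithm to base two, plus one for non-squares. -/
def lgT : List ℕ :=
  [0, 0, 2, 16, 4, 13, 18, 9, 6, 10, 15, 21, 20, 14, 11, 7, 8, 19, 12, 5, 17, 3, 1, 0]

/-- The only possible normalising map with given data. -/
def candFun (s a b x : ℕ) : ℕ :=
  if x == 0 || decide (23 ≤ x) then x
  else (s ^ (lgT.getD x 0 / 2) * (if lgT.getD x 0 % 2 == 0 then a else b)) % 23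

/-- The image of a mask under a function on positions. -/
def imgFn (f : ℕ → ℕ) (m : ℕ) : ℕ :=
  (List.range 24).foldr (fun x a => if m.testBit x then a ||| (1 <<< f x) else a) 0

/-- Data of the candidates that keep the code. -/
def candidates : List (ℕ × ℕ × ℕ) :=
  (List.range 23).flatMap fun s => (List.range 23).flatMap fun a => (List.range 23).filterMap fun b =>
    if !(s == 0) && !(s == 1) && !(a == 0) && !(b == 0) && s ^ 11 % 23 == 1 &&
      rows.all (fun r => inCode (imgFn (candFun s a b) r)) then some (s, a, b) else none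

theorem candidates_length : candidates.length = 55 := by decide +kernel

/-- An element of order five normalising `Q`. -/
def five : PP := (13828310469276786882321881970626818614019056323345818125585752982548788990376316114105527305660332057777731076096, 13828374687378007970938098634335472153151555365602401485566804928495218378599887126287563884248509337179846148096)

/-- Check of `five`. -/
def fiveOK : Bool :=
  preserves five && ap five.1 23 == 23 &&
    ((List.range 24).all fun i => ap five.1 (ap five.1 (ap five.1 (ap five.1 (ap five.1 i)))) == i) &&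
    ((List.range 23).all fun x => ap five.1 (2 * x % 23) == (6 * ap five.1 x) % 23 && decide (ap five.1 x < 23)) &&
    !(ap five.1 2 == 2)

theorem five_ok : fiveOK = true := by decide +kernel

theorem pts_imgFn {g : Equiv.Perm GolayPt} {f : ℕ → ℕ} (hf : ∀ p, pidx (g p) = f (pidx p)) (m : ℕ) :
    mk (g • pts m) = imgFn f m := by
  have hlt : ∀ x < 24, f x < 24 := fun x hx => by
    have := hf (ptAt x)
    rw [pidx_ptAt ⟨x, hx⟩] at this
    rw [← this]; exact pidx_lt _
  have key : ∀ (l : List ℕ) (j : ℕ),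
      (l.foldr (fun x a => if m.testBit x then a ||| (1 <<< f x) else a) 0).testBit j = true
        ↔ ∃ x ∈ l, m.testBit x = true ∧ f x = j := by
    intro l j
    induction l with
    | nil => simp
    | cons x l ih =>
      simp only [List.foldr_cons, List.mem_cons, exists_eq_or_imp]
      by_cases h : m.testBit x = true
      · simp only [h, if_true, Nat.testBit_or, Bool.or_eq_true, ih, true_and]
        rw [Nat.one_shiftLeft, Nat.testBit_two_pow, decide_eq_true_eq]
        exact or_comm
      · rw [if_neg h, ih]; simp only [h, false_and, false_or, Bool.false_eq_true]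
  have hb : imgFn f m < 2 ^ 24 := by
    refine Nat.lt_pow_two_of_testBit _ fun i hi => ?_
    by_contra h
    obtain ⟨x, hx, -, rfl⟩ := (key _ i).mp (by simpa [imgFn] using h)
    have := hlt x (List.mem_range.mp hx)
    omega
  refine eq_of_pts_eq (mk_lt _) hb ?_
  rw [pts_mk]
  ext q
  obtain ⟨p, rfl⟩ := g.surjective q
  rw [show g p = g • p from rfl, Finset.smul_mem_smul_finset_iff, Equiv.Perm.smul_def, mem_pts, mem_pts,
    hf, imgFn, key]
  refine ⟨fun h => ⟨_, List.mem_range.mpr (pidx_lt p), h, rfl⟩, ?_⟩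
  rintro ⟨x, hx, hm, he⟩
  have hx' := List.mem_range.mp hx
  have : g (ptAt x) = g p := pidx_injective (by rw [hf, hf, pidx_ptAt ⟨x, hx'⟩, he])
  rw [← g.injective this, pidx_ptAt ⟨x, hx'⟩]; exact hm

theorem pidx_some (x : ZMod 23) : pidx (some x) = x.val := rfl

theorem pm_power : ∀ x : ZMod 23, x ≠ 0 →
    x = (2 : ZMod 23) ^ (lgT.getD x.val 0 / 2) * (if lgT.getD x.val 0 % 2 == 0 then 1 else -1) := by
  decide +kernel

/-- The normaliser of `Q` in the point stabiliser. -/
abbrev NQ : Subgroup (Equiv.Perm GolayPt) := P23 ⊓ Subgroup.normalizer (Q : Set (Equiv.Perm GolayPt))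

theorem normalizer_data (g : NQ) : ∃ t ∈ candidates, ∀ p, pidx ((g : Equiv.Perm GolayPt) p)
    = candFun t.1 t.2.1 t.2.2 (pidx p) := by
  obtain ⟨g, ⟨hgM, hgn⟩, hnorm⟩ := g
  have hgn' : g none = none := hgn
  have hq : g * mu two * g⁻¹ ∈ Q :=
    (Subgroup.mem_normalizer_iff.mp hnorm (mu two)).mp (Subgroup.mem_zpowers _)
  obtain ⟨n, hn⟩ := (Submonoid.mem_powers_iff _ _).mp (mem_powers_iff_mem_zpowers.mpr hq)
  rw [mu_pow] at hn
  set s := two ^ n with hs
  have hs1 : s ≠ 1 := by
    intro e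
    rw [e, mu_one, eq_comm, mul_inv_eq_one, mul_eq_left] at hn
    have := DFunLike.congr_fun hn (some 1)
    simp only [mu_some, mul_one, Equiv.Perm.one_apply, Option.some.injEq] at this
    exact absurd this (by decide)
  have hcomm : ∀ p, g (mu two p) = mu s (g p) := fun p => by
    have := DFunLike.congr_fun (mul_inv_eq_iff_eq_mul.mp hn.symm) p
    exact this
  have hsome : ∀ x, ∃ y, g (some x) = some y := fun x => by
    rcases h : g (some x) with _ | y
    · exact absurd (g.injective (h.trans hgn'.symm)) (by simp)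
    · exact ⟨y, rfl⟩
  choose gv hgv using hsome
  have hrec : ∀ x, gv (2 * x) = (s : ZMod 23) * gv x := fun x => by
    have h := hcomm (some x)
    rw [mu_some, hgv x, mu_some, show ((two : (ZMod 23)ˣ) : ZMod 23) = 2 from rfl, hgv] at h
    exact Option.some.inj h
  have h0 : gv 0 = 0 := by
    have h := hrec 0
    rw [mul_zero] at h
    have : ((s : ZMod 23) - 1) * gv 0 = 0 := by rw [sub_mul, one_mul, ← h, sub_self]
    rcases mul_eq_zero.mp this with h' | h'
    · exact absurd (Units.ext (sub_eq_zero.mp h')) hs1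
    · exact h'
  have hgne : ∀ x, x ≠ 0 → gv x ≠ 0 := fun x hx e => by
    have : (some x : GolayPt) = some 0 := g.injective (by rw [hgv, hgv, e, h0])
    exact hx (Option.some.inj this)
  have hpow : ∀ (j : ℕ) x, gv ((2 : ZMod 23) ^ j * x) = (s : ZMod 23) ^ j * gv x := by
    intro j x
    induction j with
    | zero => simp
    | succ j ih => rw [pow_succ', mul_assoc, hrec, ih, pow_succ', mul_assoc]
  have hfun : ∀ p, pidx (g p) = candFun (s : ZMod 23).val (gv 1).val (gv (-1)).val (pidx p) := by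
    intro p
    rcases p with _ | x
    · rw [hgn']; rfl
    rw [hgv x]
    rw [pidx_some, pidx_some]
    by_cases hx : x = 0
    · subst hx; rw [h0]; rfl
    have hxv : x.val ≠ 0 := fun e => hx ((ZMod.val_eq_zero x).mp e)
    have hlt : x.val < 23 := ZMod.val_lt x
    rw [candFun, if_neg (by simp [hxv]; omega)]
    have hgx : gv x = (s : ZMod 23) ^ (lgT.getD x.val 0 / 2) *
        gv (if lgT.getD x.val 0 % 2 == 0 then 1 else -1) := by
      rw [← hpow, ← pm_power x hx]
    rw [hgx]
    refine Eq.trans ?_ (ZMod.val_natCast 23 _)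
    congr 1
    rw [Nat.cast_mul, Nat.cast_pow, ZMod.natCast_zmod_val]
    split_ifs <;> simp
  refine ⟨((s : ZMod 23).val, (gv 1).val, (gv (-1)).val), ?_, hfun⟩
  simp only [candidates, List.mem_flatMap, List.mem_filterMap, List.mem_range, Option.ite_none_right_eq_some,
    Option.some.injEq, Bool.and_eq_true, Bool.not_eq_true', beq_eq_false_iff_ne, beq_iff_eq, List.all_eq_true]
  refine ⟨_, ZMod.val_lt _, _, ZMod.val_lt _, _, ZMod.val_lt _, ⟨⟨⟨⟨⟨?_, ?_⟩, ?_⟩, ?_⟩, ?_⟩, fun r hr => ?_⟩, rfl⟩
  · exact fun e => s.ne_zero ((ZMod.val_eq_zero _).mp e)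
  · exact fun e => hs1 (Units.ext (ZMod.val_injective _ (e.trans (ZMod.val_one _).symm)))
  · exact fun e => hgne 1 one_ne_zero ((ZMod.val_eq_zero _).mp e)
  · exact fun e => hgne (-1) (neg_ne_zero.mpr one_ne_zero) ((ZMod.val_eq_zero _).mp e)
  · have : ((s : ZMod 23)) ^ 11 = 1 := by
      rw [← Units.val_pow_eq_pow_val, hs, ← pow_mul, mul_comm, pow_mul, two_pow, one_pow, Units.val_one]
    rw [← ZMod.val_natCast, Nat.cast_pow, ZMod.natCast_zmod_val, this, ZMod.val_one]
  · have hr' := List.all_eq_true.mp rows_octads r hr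
    simp only [Bool.and_eq_true, decide_eq_true_eq, beq_iff_eq] at hr'
    have h2 : g • pts r ∈ supports (golayCode : Set (GolayPt → ZMod 2)) :=
      (mem_M24_iff _).mp hgM _ (by rw [mem_supports_iff, mk_pts hr'.1.1]; exact hr'.1.2)
    rwa [mem_supports_iff, pts_imgFn hfun] at h2

theorem card_NQ : Nat.card NQ = 55 := by
  choose t ht htf using normalizer_data
  have hle : Nat.card NQ ≤ 55 := by
    have hinj : Function.Injective fun g : NQ => (⟨t g, List.mem_toFinset.mpr (ht g)⟩ : candidates.toFinset) := by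
      intro g g' h
      have ht' : t g = t g' := congrArg Subtype.val h
      exact Subtype.ext (Equiv.ext fun p => pidx_injective (by rw [htf g, htf g', ht']))
    have := Nat.card_le_card_of_injective _ hinj
    rw [Nat.card_eq_finsetCard] at this
    exact this.trans ((List.toFinset_card_le _).trans_eq candidates_length)
  have hQ : Q ≤ NQ := le_inf (Q_le_B.trans B_le) Subgroup.le_normalizer
  have h11 : 11 ∣ Nat.card NQ := card_Q ▸ Subgroup.card_dvd_of_le hQ
  have h5 : 5 ∣ Nat.card NQ := by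
    have h := five_ok
    simp only [fiveOK, Bool.and_eq_true, beq_iff_eq, List.all_eq_true, List.mem_range, decide_eq_true_eq,
      Bool.not_eq_true', beq_eq_false_iff_ne] at h
    obtain ⟨⟨⟨⟨hp, hn⟩, h5⟩, hconj⟩, hne⟩ := h
    have hv : valid 24 five = true := by
      simp only [preserves, Bool.and_eq_true] at hp; exact hp.1
    set f := toP five
    have hfn : f none = none := pidx_injective (by rw [pidx_toP hv]; exact hn)
    let six : (ZMod 23)ˣ := ⟨6, 4, by decide, by decide⟩
    have hmul : f * mu two = mu six * f := by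
      ext (_ | x) : 1
      · simp only [Equiv.Perm.mul_apply, mu_none, hfn]
      · simp only [Equiv.Perm.mul_apply, mu_some]
        have h1 := hconj x.val (ZMod.val_lt x)
        have h2 := hconj (((two : (ZMod 23)ˣ) : ZMod 23) * x).val (ZMod.val_lt _)
        rcases hfx : f (some x) with _ | y
        · exact absurd (f.injective (hfx.trans hfn.symm)) (by simp)
        rcases hf2 : f (some ((two : (ZMod 23)ˣ) * x : ZMod 23)) with _ | z
        · exact absurd (f.injective (hf2.trans hfn.symm)) (by simp)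
        have e1 : ap five.1 x.val = y.val := by rw [← pidx_some x, ← pidx_toP hv, hfx]; rfl
        have e2 : ap five.1 (((two : (ZMod 23)ˣ) : ZMod 23) * x).val = z.val := by
          rw [← pidx_some, ← pidx_toP hv, hf2]; rfl
        rw [mu_some]
        congr 1
        apply ZMod.val_injective
        rw [← e2]
        rw [ZMod.val_mul, show ((two : (ZMod 23)ˣ) : ZMod 23).val = 2 from rfl, h1.1, ZMod.val_mul, e1]
        rfl
    have hsix : mu six ∈ Q := by
      refine mem_powers_iff_mem_zpowers.mp ((Submonoid.mem_powers_iff _ _).mpr ⟨9, ?_⟩)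
      rw [mu_pow]
      exact congrArg mu (by decide +kernel : two ^ 9 = (⟨6, 4, by decide, by decide⟩ : (ZMod 23)ˣ))
    have hmem : f ∈ NQ := by
      refine ⟨⟨toP_mem_M24 hp, hfn⟩, ?_⟩
      refine mem_norm_of_conj fun q hq => ?_
      obtain ⟨m, rfl⟩ := (Submonoid.mem_powers_iff _ _).mp (mem_powers_iff_mem_zpowers.mpr hq)
      rw [← conj_pow, hmul, mul_inv_cancel_right]
      exact pow_mem hsix _
    have hord : orderOf (⟨f, hmem⟩ : NQ) = 5 := by
      have : Fact (Nat.Prime 5) := ⟨by norm_num⟩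
      refine orderOf_eq_prime (Subtype.ext ?_) fun e => hne ?_
      · refine Equiv.ext fun p => pidx_injective ?_
        show pidx ((f ^ 5) p) = pidx p
        simp only [pow_succ, pow_zero, one_mul, Equiv.Perm.mul_apply]
        rw [pidx_toP hv, pidx_toP hv, pidx_toP hv, pidx_toP hv, pidx_toP hv]
        exact h5 _ (pidx_lt p)
      · have e' := DFunLike.congr_fun (congrArg Subtype.val e) (ptAt 2)
        have := congrArg pidx e'
        rwa [pidx_toP hv, show ((1 : NQ) : Equiv.Perm GolayPt) (ptAt 2) = ptAt 2 from rfl,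
          pidx_ptAt ⟨2, by norm_num⟩] at this
    exact hord ▸ orderOf_dvd_natCard _
  have : 55 ∣ Nat.card NQ := Nat.Coprime.mul_dvd_of_dvd_of_dvd (by norm_num : Nat.Coprime 5 11) h5 h11
  have := Nat.le_of_dvd Nat.card_pos this
  omega

/-! ### Overgroups -/

theorem divisors_ok : ((List.range 40321).all fun k => !(k % 23 == 1) || !(k % 11 == 1 || k % 11 == 5) ||
    !(40320 % k == 0) || k == 1 || k == 40320) = true := by decide +kernel

theorem k_mod {n N k : ℕ} (hi : n * N = 253 * k) (h55 : N ∣ 55) (h11 : 11 ∣ N) (hn : n % 11 = 1) :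
    k % 11 = 1 ∨ k % 11 = 5 := by
  obtain ⟨j, rfl⟩ := h11
  rw [show (55 : ℕ) = 11 * 5 by norm_num] at h55
  rcases (Nat.dvd_prime (by norm_num)).mp ((Nat.mul_dvd_mul_iff_left (by norm_num)).mp h55) with rfl | rfl
  · left; omega
  · right; omega

theorem card_normalizer_subgroupOf (H K : Subgroup (Equiv.Perm GolayPt)) (hK : K ≤ H) :
    Nat.card (Subgroup.normalizer ((K.subgroupOf H : Subgroup H) : Set H)) =
      Nat.card (H ⊓ Subgroup.normalizer (K : Set (Equiv.Perm GolayPt)) : Subgroup _) := by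
  rw [Nat.card_congr (Subgroup.equivMapOfInjective _ H.subtype H.subtype_injective).toEquiv]
  congr 2
  ext g
  simp only [Subgroup.mem_map, Subgroup.mem_inf, Subgroup.coe_subtype, Subgroup.mem_normalizer_iff,
    Subgroup.mem_subgroupOf]
  constructor
  · rintro ⟨⟨g, hg⟩, hgn, rfl⟩
    refine ⟨hg, fun x => ⟨fun hx => (hgn ⟨x, hK hx⟩).mp hx, fun hx => ?_⟩⟩
    have hxH : x ∈ H := by
      have := mul_mem (mul_mem (inv_mem hg) (hK hx)) hg
      simpa [mul_assoc] using this
    exact (hgn ⟨x, hxH⟩).mpr hx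
  · rintro ⟨hg, hgn⟩
    exact ⟨⟨g, hg⟩, fun x => hgn x, rfl⟩

theorem overgroup {H : Subgroup (Equiv.Perm GolayPt)} (hB : B ≤ H) (hH : H ≤ P23) : H = B ∨ H = P23 := by
  have : Fact (Nat.Prime 23) := ⟨by norm_num⟩
  have : Fact (Nat.Prime 11) := ⟨by norm_num⟩
  obtain ⟨k, hk⟩ : 253 ∣ Nat.card H := card_B ▸ Subgroup.card_dvd_of_le hB
  have hdvd : k ∣ 40320 := by
    have := Subgroup.card_dvd_of_le hH
    rw [card_P23, hk, show (10200960 : ℕ) = 253 * 40320 by norm_num] at this
    exact (Nat.mul_dvd_mul_iff_left (by norm_num)).mp this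
  have hT : T ≤ H := (Subgroup.zpowers_le.mpr (tr_mem_B 1)).trans hB
  have hnotdvd : ∀ {p : ℕ}, p.Prime → p ∣ 253 → ¬ p ∣ k := by
    intro p hp h253 hpk
    have h40 := hpk.trans hdvd
    have : p = 11 ∨ p = 23 := by
      rw [show (253 : ℕ) = 11 * 23 by norm_num] at h253
      rcases hp.dvd_mul.mp h253 with h | h
      · exact Or.inl ((Nat.prime_dvd_prime_iff_eq hp (by norm_num)).mp h)
      · exact Or.inr ((Nat.prime_dvd_prime_iff_eq hp (by norm_num)).mp h)
    rcases this with rfl | rfl <;> norm_num at h40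
  have mkSyl : ∀ (p : ℕ) [Fact p.Prime] (K : Subgroup (Equiv.Perm GolayPt)) (_ : K ≤ H)
      (_ : Nat.card K = p) (_ : p ∣ 253), ∃ P : Sylow p H, (P : Subgroup H) = K.subgroupOf H := by
    intro p hp K hKH hKc hp253
    have hc : Nat.card (K.subgroupOf H) = p := by
      rw [Nat.card_congr (Subgroup.subgroupOfEquivOfLe hKH).toEquiv, hKc]
    refine ⟨Sylow.ofCard (K.subgroupOf H) ?_, rfl⟩
    rw [hc]
    obtain ⟨q, hq⟩ := hp253
    have h1 : ¬ p ∣ q * k := by
      rw [hp.out.dvd_mul]
      rintro (h | h)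
      · have : p = 11 ∨ p = 23 := by
          rcases hp.out.dvd_mul.mp (show p ∣ 11 * 23 from ⟨q, hq⟩) with h' | h'
          · exact Or.inl ((Nat.prime_dvd_prime_iff_eq hp.out (by norm_num)).mp h')
          · exact Or.inr ((Nat.prime_dvd_prime_iff_eq hp.out (by norm_num)).mp h')
        rcases this with rfl | rfl <;> omega
      · exact hnotdvd hp.out ⟨q, hq⟩ h
    rw [hk, hq, mul_assoc, Nat.factorization_mul hp.out.ne_zero (by intro e; exact h1 (e ▸ dvd_zero p)),
      Finsupp.add_apply, hp.out.factorization_self, Nat.factorization_eq_zero_of_not_dvd h1, pow_one]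
  obtain ⟨P, hP⟩ := mkSyl 23 T hT card_T (by norm_num)
  have hQH : Q ≤ H := Q_le_B.trans hB
  obtain ⟨R, hR⟩ := mkSyl 11 Q hQH card_Q (by norm_num)
  have h1 : H ⊓ Subgroup.normalizer (T : Set (Equiv.Perm GolayPt)) = B :=
    le_antisymm (fun g hg => normalizer_T (hH hg.1) hg.2) (le_inf hB B_le_normalizer_T)
  have hn23 : Nat.card (Sylow 23 H) = k := by
    have h := P.card_eq_index_normalizer
    have hi := Subgroup.index_mul_card (Subgroup.normalizer (P : Set H))
    rw [← h, show (P : Set H) = ((P : Subgroup H) : Set H) from rfl, hP, card_normalizer_subgroupOf H T hT, h1,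
      card_B, hk] at hi
    omega
  have hmod23 : k % 23 = 1 := hn23 ▸ card_sylow_modEq_one 23 H
  have hi := Subgroup.index_mul_card (Subgroup.normalizer (R : Set H))
  rw [← R.card_eq_index_normalizer, show (R : Set H) = ((R : Subgroup H) : Set H) from rfl, hR,
    card_normalizer_subgroupOf H Q hQH, hk] at hi
  set N := Nat.card (H ⊓ Subgroup.normalizer (Q : Set (Equiv.Perm GolayPt)) : Subgroup _)
  have hN55 : N ∣ 55 := card_NQ ▸ Subgroup.card_dvd_of_le (inf_le_inf_right _ hH)
  have hN11 : 11 ∣ N := card_Q ▸ Subgroup.card_dvd_of_le (le_inf hQH Subgroup.le_normalizer)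
  have hmod : Nat.card (Sylow 11 H) % 11 = 1 := card_sylow_modEq_one 11 H
  have hk11 : k % 11 = 1 ∨ k % 11 = 5 := k_mod hi hN55 hN11 hmod
  have hk0 : 0 < k := by
    rcases Nat.eq_zero_or_pos k with e | e
    · rw [e] at hdvd; norm_num at hdvd
    · exact e
  have hcases : k = 1 ∨ k = 40320 := by
    have h := List.all_eq_true.mp divisors_ok k
      (List.mem_range.mpr (Nat.lt_succ_of_le (Nat.le_of_dvd (by norm_num) hdvd)))
    simp only [Bool.or_eq_true, Bool.not_eq_true', Bool.or_eq_false_iff, beq_eq_false_iff_ne, beq_iff_eq] at h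
    rcases h with (((h | h) | h) | h) | h
    · exact absurd hmod23 h
    · rcases hk11 with h' | h' <;> [exact absurd h' h.1; exact absurd h' h.2]
    · exact absurd (Nat.mod_eq_zero_of_dvd hdvd) h
    · exact Or.inl h
    · exact Or.inr h
  rcases hcases with rfl | rfl
  · exact Or.inl (Subgroup.eq_of_le_of_card_ge hB (by rw [card_B, hk])).symm
  · exact Or.inr (Subgroup.eq_of_le_of_card_ge hH (by rw [card_P23, hk]))

/-! ### The projective group -/

theorem mu_inv_rel : ∀ u : (ZMod 23)ˣ, projInv * mu u = mu u⁻¹ * projInv := by decide +kernel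

theorem bruhat_rel : ∀ b : (ZMod 23)ˣ, projInv * tr (b : ZMod 23) * projInv =
    tr (-((b⁻¹ : (ZMod 23)ˣ) : ZMod 23)) * mu (b⁻¹ ^ 2) * projInv * tr (-((b⁻¹ : (ZMod 23)ˣ) : ZMod 23)) := by
  decide +kernel

theorem projInv_sq : projInv * projInv = 1 := by decide +kernel

/-- The two Bruhat cells. -/
def cells : Set (Equiv.Perm GolayPt) :=
  (B : Set (Equiv.Perm GolayPt)) ∪ {g | ∃ b ∈ B, ∃ c, g = b * projInv * tr c}

theorem proj_mul_B {b : Equiv.Perm GolayPt} (hb : b ∈ B) : ∃ b' ∈ B, ∃ c, projInv * b = b' * projInv * tr c := by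
  obtain ⟨a, u, hu, rfl⟩ := mem_B_iff.mp hb
  refine ⟨mu u⁻¹, mu_mem_B hu.inv, ((u⁻¹ : (ZMod 23)ˣ) : ZMod 23) * a, ?_⟩
  rw [← mu_inv_rel, mul_assoc projInv, mu_tr, ← mul_assoc ((u : (ZMod 23)ˣ) : ZMod 23), Units.mul_inv, one_mul]

theorem B_mul_cells {x g : Equiv.Perm GolayPt} (hx : x ∈ B) (hg : g ∈ cells) : x * g ∈ cells := by
  rcases hg with hg | ⟨b, hb, c, rfl⟩
  · exact Or.inl (mul_mem hx hg)
  · exact Or.inr ⟨x * b, mul_mem hx hb, c, by simp only [mul_assoc]⟩

theorem proj_mul_cells {g : Equiv.Perm GolayPt} (hg : g ∈ cells) : projInv * g ∈ cells := by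
  rcases hg with hg | ⟨b, hb, c, rfl⟩
  · exact Or.inr (proj_mul_B hg)
  · obtain ⟨b', hb', d, hd⟩ := proj_mul_B hb
    rw [show projInv * (b * projInv * tr c) = b' * (projInv * tr d * projInv) * tr c by
      rw [← mul_assoc, ← mul_assoc, hd]; simp only [mul_assoc]]
    by_cases hd0 : d = 0
    · subst hd0
      rw [tr_zero, mul_one, projInv_sq, mul_one]
      exact Or.inl (mul_mem hb' (tr_mem_B c))
    · have hr := bruhat_rel (Units.mk0 d hd0)
      rw [Units.val_mk0] at hr
      rw [hr]
      refine Or.inr ⟨b' * (tr (-(((Units.mk0 d hd0)⁻¹ : (ZMod 23)ˣ) : ZMod 23)) * mu ((Units.mk0 d hd0)⁻¹ ^ 2)),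
        mul_mem hb' (mul_mem (tr_mem_B _) (mu_mem_B ⟨(Units.mk0 d hd0)⁻¹, sq _⟩)),
        c + -(((Units.mk0 d hd0)⁻¹ : (ZMod 23)ˣ) : ZMod 23), ?_⟩
      rw [← tr_mul]; simp only [mul_assoc]

theorem L_subset_cells : (L : Set (Equiv.Perm GolayPt)) ⊆ cells := by
  intro g hg
  suffices h : ∀ x ∈ cells, g * x ∈ cells by simpa using h 1 (Or.inl B.one_mem)
  induction hg using Subgroup.closure_induction with
  | mem x hx =>
    intro y hy
    rcases hx with hx | ⟨u, hu, rfl⟩
    · rcases hx with rfl | hx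
      · exact B_mul_cells (tr_mem_B 1) hy
      · rw [Set.mem_singleton_iff.mp hx]; exact proj_mul_cells hy
    · exact B_mul_cells (mu_mem_B hu) hy
  | one => intro y hy; rwa [one_mul]
  | mul x y _ _ hx hy => intro z hz; rw [mul_assoc]; exact hx _ (hy z hz)
  | inv x _ hx =>
    intro z hz
    have heq : (fun w => x * w) '' cells = cells :=
      Set.eq_of_subset_of_ncard_le (by rintro _ ⟨w, hw, rfl⟩; exact hx w hw)
        (le_of_eq (Set.ncard_image_of_injective _ (mul_right_injective x)).symm) (Set.toFinite _)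
    rw [← heq] at hz
    obtain ⟨w, hw, rfl⟩ := hz
    rwa [inv_mul_cancel_left]

theorem B_le_L : B ≤ L := Subgroup.closure_mono (by
  rintro x (hx | hx)
  · exact Or.inl (Or.inl hx)
  · exact Or.inr hx)

theorem L_le : L ≤ M24 := by
  refine (Subgroup.closure_le _).mpr ?_
  rintro x ((rfl | hx) | ⟨u, hu, rfl⟩)
  · exact transl_mem
  · rw [Set.mem_singleton_iff.mp hx]; exact projInv_mem
  · exact mem_M24_mu hu

theorem proj_mem : projInv ∈ L := Subgroup.subset_closure (Or.inl (Or.inr rfl))

theorem L_transitive (p : GolayPt) : ∃ g ∈ L, g none = p := by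
  rcases p with _ | x
  · exact ⟨1, one_mem _, rfl⟩
  · refine ⟨tr x * projInv, mul_mem (B_le_L (tr_mem_B x)) proj_mem, ?_⟩
    rw [Equiv.Perm.mul_apply, show projInv none = some 0 from rfl, tr_some, zero_add]

theorem card_eq_mul {H : Subgroup (Equiv.Perm GolayPt)} (hL : L ≤ H) :
    Nat.card H = 24 * Nat.card (H ⊓ stabilizer (Equiv.Perm GolayPt) (none : GolayPt) : Subgroup _) := by
  have h := Subgroup.index_mul_card (stabilizer H (none : GolayPt))
  have horb : orbit H (none : GolayPt) = Set.univ := Set.eq_univ_of_forall fun p => by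
    obtain ⟨g, hg, e⟩ := L_transitive p
    exact ⟨⟨g, hL hg⟩, e⟩
  rw [index_stabilizer, horb, Set.ncard_univ] at h
  rw [← h, ← map_stabilizer,
    Nat.card_congr (Subgroup.equivMapOfInjective _ H.subtype H.subtype_injective).toEquiv]
  congr 1
  rw [Nat.card_eq_fintype_card]; rfl

theorem card_L : Nat.card L = 6072 := by
  refine le_antisymm ?_ ?_
  · have h1 : (cells).ncard ≤ 6072 := by
      refine le_trans (Set.ncard_union_le _ _) ?_
      have h2 : {g | ∃ b ∈ B, ∃ c, g = b * projInv * tr c}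
          = (fun p : B × ZMod 23 => (p.1 : Equiv.Perm GolayPt) * projInv * tr p.2) '' Set.univ := by
        ext g
        simp [eq_comm]
      rw [h2, ← Nat.card_coe_set_eq (B : Set (Equiv.Perm GolayPt)), SetLike.coe_sort_coe, card_B]
      have := Set.ncard_image_le (f := fun p : B × ZMod 23 => (p.1 : Equiv.Perm GolayPt) * projInv * tr p.2)
        (s := Set.univ) (Set.toFinite _)
      rw [Set.ncard_univ, Nat.card_prod, card_B, Nat.card_zmod] at this
      omega
    have := Set.ncard_le_ncard L_subset_cells (Set.toFinite _)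
    rw [← Nat.card_coe_set_eq, SetLike.coe_sort_coe] at this
    omega
  · rw [card_eq_mul le_rfl]
    have := Subgroup.card_le_of_le (le_inf B_le_L (B_le.trans inf_le_right))
    rw [card_B] at this
    omega

theorem L_coatom : IsCoatom (L.subgroupOf M24) := by
  refine ⟨fun h => ?_, fun H hH => ?_⟩
  · have := Subgroup.card_le_of_le (Subgroup.subgroupOf_eq_top.mp h)
    rw [card_M24, card_L] at this
    omega
  · set H' := H.map M24.subtype
    have hL' : L ≤ H' := by
      intro x hx
      exact ⟨⟨x, L_le hx⟩, hH.le (by exact hx), rfl⟩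
    have hH' : H' ≤ M24 := Subgroup.map_subtype_le H
    rcases overgroup (le_inf (B_le_L.trans hL') (B_le.trans inf_le_right)) (inf_le_inf_right _ hH') with h | h
    · exfalso
      have hc : Nat.card H' = Nat.card L := by
        rw [card_eq_mul hL', h, card_B, card_L]
      have heq := Subgroup.eq_of_le_of_card_ge hL' hc.le
      refine hH.ne (Subgroup.map_injective M24.subtype_injective ?_)
      rw [Subgroup.subgroupOf_map_subtype, inf_of_le_left L_le]
      exact heq
    · have hc : Nat.card H' = 244823040 := by rw [card_eq_mul hL', h, card_P23]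
      have heq : H' = M24 := Subgroup.eq_of_le_of_card_ge hH' (by rw [hc, card_M24])
      refine Subgroup.map_injective M24.subtype_injective ?_
      rw [← Subgroup.range_subtype M24, MonoidHom.range_eq_map] at heq
      exact heq

theorem B_coatom : IsCoatom ((B.subgroupOf M24).subgroupOf (stabilizer M24 (none : GolayPt))) := by
  set S := stabilizer M24 (none : GolayPt)
  let e : S →* Equiv.Perm GolayPt := M24.subtype.comp S.subtype
  have he : Function.Injective e := M24.subtype_injective.comp S.subtype_injective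
  have htop : (⊤ : Subgroup S).map e = P23 := by
    ext x
    constructor
    · rintro ⟨⟨⟨y, hy⟩, hys⟩, -, rfl⟩; exact ⟨hy, hys⟩
    · rintro ⟨hx, hxs⟩; exact ⟨⟨⟨x, hx⟩, hxs⟩, trivial, rfl⟩
  have hmap : ((B.subgroupOf M24).subgroupOf S).map e = B := by
    ext x
    constructor
    · rintro ⟨y, hy, rfl⟩; exact hy
    · intro hx; exact ⟨⟨⟨x, (B_le hx).1⟩, (B_le hx).2⟩, hx, rfl⟩
  refine ⟨fun h => ?_, fun H hH => ?_⟩
  · have := congrArg (fun K : Subgroup S => Nat.card (K.map e)) h
    simp only [hmap, htop, card_B, card_P23] at this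
    omega
  · have h1 : B ≤ H.map e := hmap ▸ Subgroup.map_mono hH.le
    have h2 : H.map e ≤ P23 := htop ▸ Subgroup.map_mono le_top
    rcases overgroup h1 h2 with h | h
    · exact absurd (Subgroup.map_injective he (h.trans hmap.symm)) hH.ne'
    · exact Subgroup.map_injective he (h.trans htop.symm)

end Cfsg.Lib.Golay.LinearGroup23
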