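import Cfsg.Agent.Golay.Action
import Cfsg.Agent.Golay.M24Data

/-!
The group of the code has order 244823040 and is 5-transitive.
-/

namespace Cfsg.Lib.Golay

open Cfsg Cfsg.Lib.PermCert
open scoped Pointwise

/-- The base points. -/
def b1 : GolayPt := ptAt 0
def b2 : GolayPt := ptAt 1
def b3 : GolayPt := ptAt 2
def b4 : GolayPt := ptAt 3
def b5 : GolayPt := ptAt 4
def b6 : GolayPt := ptAt 7
def b7 : GolayPt := ptAt 5

theorem m24Chain_check : check 24 m24Chain = true := by decide +kernel

theorem m24Chain_size : size m24Chain = 244823040 := by decide +kernel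

/-- The certified group, on the 24 points. -/
def certGrp : Subgroup (Equiv.Perm GolayPt) := (grp 24 m24Chain).map permHom.toMonoidHom

theorem card_certGrp : Nat.card certGrp = 244823040 := by
  rw [← m24Chain_size, ← card_grp m24Chain_check]
  exact Nat.card_congr (permHom.subgroupMap (grp 24 m24Chain)).toEquiv.symm

theorem certGrp_le : certGrp ≤ M24 := by
  rw [certGrp, Subgroup.map_le_iff_le_comap, grp, Subgroup.closure_le]
  rintro g ⟨s, hs, rfl⟩
  have : (topGens m24Chain).all preserves = true := by decide +kernel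
  exact toP_mem_M24 (List.all_eq_true.mp this s hs)

/-- One rigidity step. -/
def rigidStep (K : ℕ) (e : ℕ × List ℕ) : Bool :=
  decide (e.1 < 24) && e.2.all (fun m => decide (m < 2 ^ 24) &&
    ((inCode m && pc m == 8 && decide (5 ≤ pc (m &&& K))) ||
      ((fun o => inCode o && pc o == 8 && decide (5 ≤ pc (o &&& K))) (16777215 ^^^ m)))) &&
  (e.2.foldl (· &&& ·) 16777215 == 2 ^ e.1)

/-- All rigidity steps; the result must be all points. -/
def rigidAll : ℕ → List (ℕ × List ℕ) → Bool
  | K, [] => K == 16777215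
  | K, e :: r => rigidStep K e && rigidAll (K ||| 2 ^ e.1) r

theorem rigidCert_check : rigidAll 191 rigidCert = true := by decide +kernel

theorem octad_fixed {σ : Equiv.Perm GolayPt} (hσ : σ ∈ M24) {K o : ℕ}
    (hK : ∀ p ∈ pts K, σ p = p) (ho : inCode o = true) (h8 : (pts o).card = 8)
    (h5 : 5 ≤ (pts (o &&& K)).card) : σ • pts o = pts o := by
  have hoct : pts o ∈ octads := by
    rw [mem_octads_iff, mk_pts (lt_of_inCode ho)]; exact ⟨ho, h8⟩
  refine octad_eq_of_five_le (smul_mem_octads hσ hoct) hoct (h5.trans (Finset.card_le_card ?_))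
  intro p hp
  simp only [mem_pts, Nat.testBit_and, Bool.and_eq_true] at hp
  refine Finset.mem_inter.mpr ⟨?_, by simpa using hp.1⟩
  have := hK p (by simpa using hp.2)
  rw [← this, show σ p = σ • p from rfl, Finset.smul_mem_smul_finset_iff]
  simpa using hp.1

theorem mem_pts_foldl (l : List ℕ) : ∀ a p, p ∈ pts (l.foldl (· &&& ·) a) ↔ p ∈ pts a ∧ ∀ m ∈ l, p ∈ pts m := by
  induction l with
  | nil => simp
  | cons m l ih => intro a p; simp [ih, and_assoc]

theorem rigid {σ : Equiv.Perm GolayPt} (hσ : σ ∈ M24) :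
    ∀ (l : List (ℕ × List ℕ)) (K : ℕ), rigidAll K l = true → (∀ p ∈ pts K, σ p = p) → σ = 1 := by
  intro l
  induction l with
  | nil =>
    intro K hK h
    simp only [rigidAll, beq_iff_eq] at hK
    subst hK
    ext p : 1
    refine h p ?_
    have : pts 16777215 = Finset.univ := by decide +kernel
    rw [this]; exact Finset.mem_univ p
  | cons e r ih =>
    intro K hK h
    simp only [rigidAll, rigidStep, Bool.and_eq_true, Bool.or_eq_true, decide_eq_true_eq,
      List.all_eq_true, beq_iff_eq, pc_eq_card] at hK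
    obtain ⟨⟨⟨hlt, hsets⟩, hfold⟩, hrest⟩ := hK
    have hm : ∀ m ∈ e.2, σ • pts m = pts m := by
      intro m hm
      obtain ⟨hm24, hc⟩ := hsets m hm
      rcases hc with ⟨⟨h1, h2⟩, h3⟩ | ⟨⟨h1, h2⟩, h3⟩
      · exact octad_fixed hσ h h1 h2 h3
      · have := octad_fixed hσ h h1 h2 h3
        have he : pts (16777215 ^^^ m) = (pts m)ᶜ := by
          ext p
          have h24 := pidx_lt p
          have ht : (16777215 : ℕ).testBit (pidx p) = true := by
            rw [show (16777215 : ℕ) = 2 ^ 24 - 1 from rfl, Nat.testBit_two_pow_sub_one]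
            exact decide_eq_true h24
          rw [Finset.mem_compl, mem_pts, mem_pts, Nat.testBit_xor, ht]
          cases m.testBit (pidx p) <;> simp
        rw [he, show σ • (pts m)ᶜ = (σ • pts m)ᶜ by
          ext q; obtain ⟨p, rfl⟩ := σ.surjective q
          rw [show σ p = σ • p from rfl, Finset.smul_mem_smul_finset_iff, Finset.mem_compl,
            Finset.mem_compl, Finset.smul_mem_smul_finset_iff], compl_inj_iff] at this
        exact this
    have hx : σ (ptAt e.1) = ptAt e.1 := by
      have hmem : ∀ p, p ∈ pts (e.2.foldl (· &&& ·) 16777215) ↔ p = ptAt e.1 := by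
        intro p
        rw [hfold, mem_pts, Nat.testBit_two_pow, decide_eq_true_eq]
        constructor
        · intro h'; exact pidx_injective (by rw [pidx_ptAt ⟨_, hlt⟩]; exact h'.symm)
        · rintro rfl; exact (pidx_ptAt ⟨_, hlt⟩).symm
      have h0 := (mem_pts_foldl _ _ _).mp ((hmem (ptAt e.1)).mpr rfl)
      refine (hmem _).mp ((mem_pts_foldl _ _ _).mpr ⟨?_, fun m hm' => ?_⟩)
      · have : pts 16777215 = Finset.univ := by decide +kernel
        rw [this]; exact Finset.mem_univ _
      · rw [← hm m hm', show σ (ptAt e.1) = σ • ptAt e.1 from rfl, Finset.smul_mem_smul_finset_iff]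
        exact h0.2 m hm'
    refine ih _ hrest fun p hp => ?_
    simp only [mem_pts, Nat.testBit_or, Bool.or_eq_true, Nat.testBit_two_pow, decide_eq_true_eq] at hp
    rcases hp with hp | hp
    · exact h p (by simpa using hp)
    · have : p = ptAt e.1 := pidx_injective (by rw [pidx_ptAt ⟨_, hlt⟩]; exact hp.symm)
      rw [this]; exact hx

/-- An element fixing the seven base points is trivial. -/
theorem eq_one_of_fix {σ : Equiv.Perm GolayPt} (hσ : σ ∈ M24)
    (h : ∀ i : ℕ, i ∈ [0, 1, 2, 3, 4, 7, 5] → σ (ptAt i) = ptAt i) : σ = 1 := by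
  refine rigid hσ _ 191 rigidCert_check fun p hp => ?_
  have : ∀ p ∈ pts 191, pidx p ∈ [0, 1, 2, 3, 4, 7, 5] := by decide +kernel
  have h' := h _ (this p hp)
  have he : ptAt (pidx p) = p := ptEquiv.symm_apply_apply p
  rwa [he] at h'

/-- The five base points as an embedding. -/
def base5 : Fin 5 ↪ GolayPt := ⟨fun i => ptAt i.val, by decide +kernel⟩

/-- The octad through five points. -/
noncomputable def octThrough (x : Fin 5 ↪ GolayPt) : Finset GolayPt :=
  (octads_steiner.2 (Finset.univ.map x) (by simp)).choose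

theorem octThrough_spec (x : Fin 5 ↪ GolayPt) :
    octThrough x ∈ octads ∧ Finset.univ.map x ⊆ octThrough x :=
  (octads_steiner.2 (Finset.univ.map x) (by simp)).choose_spec.1

theorem octThrough_unique {x : Fin 5 ↪ GolayPt} {o : Finset GolayPt} (ho : o ∈ octads)
    (h : ∀ i, x i ∈ o) : o = octThrough x :=
  (octads_steiner.2 (Finset.univ.map x) (by simp)).choose_spec.2 o ⟨ho, by
    intro p hp; obtain ⟨i, -, rfl⟩ := Finset.mem_map.mp hp; exact h i⟩

/-- Images of the base: five points, a sixth in their octad, a seventh outside it. -/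
abbrev BaseImage : Type :=
  Σ x : Fin 5 ↪ GolayPt, {q : GolayPt × GolayPt // q ∈ (octThrough x \ Finset.univ.map x) ×ˢ (octThrough x)ᶜ}

theorem card_baseImage : Nat.card BaseImage = 244823040 := by
  rw [Nat.card_eq_fintype_card, Fintype.card_sigma]
  have h : ∀ x : Fin 5 ↪ GolayPt, Fintype.card {q : GolayPt × GolayPt // q ∈ (octThrough x \ Finset.univ.map x) ×ˢ (octThrough x)ᶜ} = 48 := by
    intro x
    rw [Fintype.card_coe, Finset.card_product, Finset.card_compl, Finset.card_sdiff_of_subset (octThrough_spec x).2,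
      Finset.card_map, (octThrough_spec x).1.2, Fintype.card_option, ZMod.card, Finset.card_univ, Fintype.card_fin]
  simp only [h, Finset.sum_const, Finset.card_univ, Fintype.card_embedding_eq, Fintype.card_option, ZMod.card,
    Fintype.card_fin, smul_eq_mul]
  decide

theorem baseMap_mem (g : M24) : ((g : Equiv.Perm GolayPt) b6, (g : Equiv.Perm GolayPt) b7) ∈
      (octThrough (base5.trans (g : Equiv.Perm GolayPt).toEmbedding) \
        Finset.univ.map (base5.trans (g : Equiv.Perm GolayPt).toEmbedding)) ×ˢ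
      (octThrough (base5.trans (g : Equiv.Perm GolayPt).toEmbedding))ᶜ := by
  let o : Finset GolayPt := pts 5279
  have ho : o ∈ octads := by
    rw [mem_octads_iff, ← pc_eq_card]
    exact ⟨by decide +kernel, by decide +kernel⟩
  have hin : (∀ i, base5 i ∈ o) ∧ b6 ∈ o ∧ b7 ∉ o ∧ (∀ i, base5 i ≠ b6) := by decide +kernel
  set σ := (g : Equiv.Perm GolayPt)
  have : σ • o = octThrough (base5.trans σ.toEmbedding) := by
    refine octThrough_unique (smul_mem_octads g.2 ho) fun i => ?_
    exact Finset.smul_mem_smul_finset (hin.1 i)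
  rw [← this]
  simp only [Finset.mem_product, Finset.mem_sdiff, Finset.mem_compl, Finset.mem_map, Finset.mem_univ, true_and]
  refine ⟨⟨Finset.smul_mem_smul_finset hin.2.1, ?_⟩, ?_⟩
  · rintro ⟨i, hi⟩
    exact hin.2.2.2 i (σ.injective hi)
  · rw [show σ b7 = σ • b7 from rfl, Finset.smul_mem_smul_finset_iff]
    exact hin.2.2.1

/-- The images of the base under an element. -/
noncomputable def baseMap (g : M24) : BaseImage :=
  ⟨base5.trans (g : Equiv.Perm GolayPt).toEmbedding, ⟨_, baseMap_mem g⟩⟩

theorem baseMap_injective : Function.Injective baseMap := by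
  intro g h hgh
  have h5 : ∀ i, (g : Equiv.Perm GolayPt) (base5 i) = (h : Equiv.Perm GolayPt) (base5 i) := fun i => by
    have := congrArg (fun q : BaseImage => q.1 i) hgh; exact this
  have h67 := congrArg (fun q : BaseImage => (q.2 : GolayPt × GolayPt)) hgh
  simp only [baseMap, Prod.mk.injEq] at h67
  have hk : ((h⁻¹ * g : M24) : Equiv.Perm GolayPt) = 1 := by
    refine eq_one_of_fix (h⁻¹ * g).2 fun i hi => ?_
    simp only [Subgroup.coe_mul, Subgroup.coe_inv, Equiv.Perm.mul_apply]
    rw [Equiv.Perm.inv_eq_iff_eq]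
    simp only [List.mem_cons, List.not_mem_nil, or_false] at hi
    rcases hi with rfl | rfl | rfl | rfl | rfl | rfl | rfl
    exacts [h5 0, h5 1, h5 2, h5 3, h5 4, h67.1, h67.2]
  exact (inv_mul_eq_one.mp (Subtype.ext hk)).symm

theorem card_M24_le : Nat.card M24 ≤ 244823040 :=
  (Nat.card_le_card_of_injective _ baseMap_injective).trans card_baseImage.le

theorem certGrp_eq : certGrp = M24 :=
  Subgroup.eq_of_le_of_card_ge certGrp_le (card_M24_le.trans card_certGrp.ge)

theorem card_M24 : Nat.card M24 = 244823040 := by rw [← certGrp_eq, card_certGrp]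

theorem baseMap_bijective : Function.Bijective baseMap :=
  (Nat.bijective_iff_injective_and_card _).mpr ⟨baseMap_injective, card_M24.trans card_baseImage.symm⟩

/-- Every admissible image of the base is attained. -/
theorem exists_base_image (x : Fin 5 ↪ GolayPt) {a c : GolayPt} (ha : a ∈ octThrough x)
    (hax : ∀ i, x i ≠ a) (hc : c ∉ octThrough x) :
    ∃ g : M24, (∀ i, g • base5 i = x i) ∧ g • b6 = a ∧ g • b7 = c := by
  obtain ⟨g, hg⟩ := baseMap_bijective.2 ⟨x, ⟨(a, c), by simp [ha, hc, hax]⟩⟩
  refine ⟨g, fun i => congrArg (fun q : BaseImage => q.1 i) hg, ?_, ?_⟩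
  · exact congrArg (fun q : BaseImage => (q.2 : GolayPt × GolayPt).1) hg
  · exact congrArg (fun q : BaseImage => (q.2 : GolayPt × GolayPt).2) hg

theorem exists_base5_image (x : Fin 5 ↪ GolayPt) : ∃ g : M24, ∀ i, g • base5 i = x i := by
  obtain ⟨a, ha, hax⟩ := Finset.exists_mem_notMem_of_card_lt_card (s := Finset.univ.map x) (t := octThrough x)
    (by rw [Finset.card_map, (octThrough_spec x).1.2]; simp)
  obtain ⟨c, hc⟩ : ((octThrough x)ᶜ).Nonempty := Finset.card_pos.mp
    (by rw [Finset.card_compl, (octThrough_spec x).1.2]; simp)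
  obtain ⟨g, hg, -, -⟩ := exists_base_image x ha (fun i hi => hax (Finset.mem_map.mpr ⟨i, by simp, hi⟩))
    (Finset.mem_compl.mp hc)
  exact ⟨g, hg⟩

/-- 5-transitivity. -/
theorem M24_five_transitive : MulAction.IsMultiplyPretransitive M24 GolayPt 5 := by
  refine ⟨fun x y => ?_⟩
  obtain ⟨g, hg⟩ := exists_base5_image x
  obtain ⟨h, hh⟩ := exists_base5_image y
  refine ⟨h * g⁻¹, ?_⟩
  ext i : 1
  simp only [Function.Embedding.smul_apply]
  rw [← hg i, mul_smul, inv_smul_smul, hh i]

/-- Transitivity on octads. -/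
theorem M24_octads_transitive {o o' : Finset GolayPt} (ho : o ∈ octads) (ho' : o' ∈ octads) :
    ∃ g : M24, g • o = o' := by
  obtain ⟨u, hu, hu5⟩ := Finset.exists_subset_card_eq (s := o) (n := 5) (by rw [ho.2]; norm_num)
  obtain ⟨v, hv, hv5⟩ := Finset.exists_subset_card_eq (s := o') (n := 5) (by rw [ho'.2]; norm_num)
  let x : Fin 5 ↪ GolayPt := (u.equivFinOfCardEq hu5).symm.toEmbedding.trans (Function.Embedding.subtype _)
  let y : Fin 5 ↪ GolayPt := (v.equivFinOfCardEq hv5).symm.toEmbedding.trans (Function.Embedding.subtype _)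
  obtain ⟨g, hg⟩ := M24_five_transitive.exists_smul_eq x y
  refine ⟨g, ?_⟩
  rw [octThrough_unique ho' (x := y) fun i => hv (Subtype.prop _)]
  refine octThrough_unique (smul_mem_octads g.2 ho) fun i => ?_
  rw [← show g • x i = y i from congrArg (fun e : Fin 5 ↪ GolayPt => e i) hg]
  exact Finset.smul_mem_smul_finset (hu (Subtype.prop _))

end Cfsg.Lib.Golay
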