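import Cfsg.Agent.Golay.AutCert
import Cfsg.Agent.Golay.AutNormData
import Cfsg.Agent.Golay.AutM22Data

/-!
The outer automorphism group of M22.
-/

set_option autoImplicit false
set_option maxRecDepth 100000

namespace Cfsg.Lib.Golay

open Cfsg Cfsg.Lib.PermCert MulAction

/-- The certificate data. -/
noncomputable def autDataM22 : AutData :=
  ⟨cgAutM22, 11, 3, autSM22.1, autNM22, autTM22, autRelsM22, autWordsM22, [autTreeM22A].flatMap stVals, autCandsM22, autCandsInvM22⟩

theorem cgAutM22_ok : cgAutM22.ok = true ∧ cgAutSylM22.ok = true := by decide +kernel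

theorem autDataM22_ok : autDataM22.ok = true := by decide +kernel

theorem autCoverM22 : gensIn cgAutSylM22 cgAutM22 = true ∧ size cgAutSylM22.chain = 2 ^ 7 ∧
    2 ^ 7 ∣ size cgAutM22.chain ∧ ¬ 2 ^ (7 + 1) ∣ size cgAutM22.chain ∧
    invCover cgAutSylM22.chain [autTreeM22A] = true ∧
    FusionCert.same [autTM22] [] = false ∧ FusionCert.same [autTM22, autTM22] [] = true ∧
    11 ∣ size cgAutM22.chain ∧ ¬ 11 ^ 2 ∣ size cgAutM22.chain ∧
    ([autTreeM22A]).all (stableOK [autSM22.1, autTM22]) = true := by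
  decide +kernel

theorem card_out_le_M22 : Nat.card (Cfsg.Out cgAutM22.grp) ≤ 2 ∧
    (autCandsInvM22 = [] → Nat.card (Cfsg.Out cgAutM22.grp) = 1) := by
  obtain ⟨hin, hsz, hd, hnd, hcov, ht1, ht2, hp, hp2, hst⟩ := autCoverM22
  have hm := autDataM22.mem cgAutM22_ok.1 autDataM22_ok
  have htv : valid 24 autTM22 = true := by decide +kernel
  refine autDataM22.card_out_le cgAutM22_ok.1 autDataM22_ok (by decide +kernel : Nat.Prime 11) hp hp2 hm.2.2 fun α => ?_
  refine autDataM22.invCover_sound cgAutM22_ok.1 autDataM22_ok cgAutM22_ok.2 hin hsz hd hnd hst hcov (α ⟨_, hm.2.2⟩).2 ?_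
  rw [Subgroup.orderOf_coe]
  refine (MulEquiv.orderOf_eq α _).trans ?_
  rw [Subgroup.orderOf_mk]
  refine orderOf_eq_prime ?_ fun e => ?_
  · rw [sq]
    exact (((rep_toP htv).mul (rep_toP htv)).eq_iff rep_one).mpr ht2
  · exact Bool.false_ne_true (ht1.symm.trans (((rep_toP htv).eq_iff rep_one).mp e))

end Cfsg.Lib.Golay
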