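import Cfsg.Agent.Golay.M22CoverCheck
import Cfsg.Agent.Golay.AutM22

/-!
Elements of the certified `M22` read off from the tables.
-/

set_option autoImplicit false
set_option maxRecDepth 100000
set_option Elab.async false

namespace Cfsg.Lib.Golay.M22Mult

open Cfsg Cfsg.Lib.PermCert

/-- The certified group. -/
abbrev QM : Type := ↥cgAutM22.grp

theorem card_QM : Nat.card QM = 443520 := by
  rw [CG.card_grp cgAutM22_ok.1]
  decide +kernel

/-- The image of a numbered point. -/
def ev (g : QM) (x : ℕ) : ℕ := pidx ((g : Equiv.Perm GolayPt) (ptAt x))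

theorem ev_lt (g : QM) (x : ℕ) : ev g x < 24 := pidx_lt _

theorem ev_mul (g h : QM) (x : ℕ) : ev (g * h) x = ev g (ev h x) := by
  simp only [ev, Subgroup.coe_mul, Equiv.Perm.mul_apply]
  rw [ptAt_pidx]

theorem ev_one {x : ℕ} (hx : x < 24) : ev 1 x = x := by
  simpa [ev] using pidx_ptAt ⟨x, hx⟩

theorem ev_ext {g h : QM} (e : ∀ x < 24, ev g x = ev h x) : g = h := by
  refine Subtype.ext (Equiv.ext fun p => pidx_injective ?_)
  have := e (pidx p) (pidx_lt p)
  simp only [ev] at this
  rwa [ptAt_pidx] at this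

theorem exists_of_sift {v : PP} (h : valid 24 v = true) (hs : sift 24 cgAutM22.chain [v] = true) :
    ∃ g : QM, ∀ x < 24, ev g x = ap v.1 x := by
  refine ⟨⟨toP v, mem_of_sift cgAutM22_ok.1 h hs⟩, fun x hx => ?_⟩
  show pidx (toP v (ptAt x)) = _
  rw [pidx_toP h]
  exact congrArg _ (pidx_ptAt ⟨x, hx⟩)

theorem exists_gen (k : Fin 6) : ∃ g : QM, ∀ x < 24, ev g x = ap5 (gp k.val) x := by
  have h : ∀ k : Fin 6, valid 24 (cgAutM22.gens.getD k.val autGenM22G0).1 = true ∧
      sift 24 cgAutM22.chain [(cgAutM22.gens.getD k.val autGenM22G0).1] = true := by decide +kernel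
  obtain ⟨g, hg⟩ := exists_of_sift (h k).1 (h k).2
  exact ⟨g, fun x hx => by rw [hg x hx]; exact gp_gens k ⟨x, hx⟩⟩

theorem exists_pc (k : Fin 7) : ∃ g : QM, ∀ x < 24, ev g x = ap5 (upr (Fin.ofNat 128 (2 ^ k.val))) x := by
  have h : ∀ k : Fin 7, valid 24 (xPP.getD k.val (0, 0)) = true ∧
      sift 24 cgAutM22.chain [xPP.getD k.val (0, 0)] = true := by decide +kernel
  obtain ⟨g, hg⟩ := exists_of_sift (h k).1 (h k).2
  exact ⟨g, fun x hx => by rw [hg x hx]; exact upr_gen k ⟨x, hx⟩⟩

theorem exists_phi (u : Fin 128) : ∃ g : QM, ∀ x < 24, ev g x = ap5 (upr u) x := by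
  have key : ∀ l : List ℕ, (∀ k ∈ l, k < 7) → ∃ g : QM, ∀ x < 24,
      ev g x = l.foldr (fun k y => ap5 (upr (Fin.ofNat 128 (2 ^ k))) y) x := by
    intro l
    induction l with
    | nil => exact fun _ => ⟨1, fun x hx => ev_one hx⟩
    | cons k l ih =>
      intro hl
      obtain ⟨g, hg⟩ := ih fun j hj => hl j (List.mem_cons_of_mem _ hj)
      obtain ⟨a, ha⟩ := exists_pc ⟨k, hl k List.mem_cons_self⟩
      refine ⟨a * g, fun x hx => ?_⟩
      rw [ev_mul, hg x hx, List.foldr_cons, ha _ (hg x hx ▸ ev_lt g x)]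
  obtain ⟨g, hg⟩ := key (uword u) fun k hk => List.mem_range.mp (List.mem_filter.mp hk).1
  exact ⟨g, fun x hx => by rw [hg x hx]; exact upr_word u ⟨x, hx⟩⟩

/-- An element of the Sylow subgroup. -/
noncomputable def phi (u : Fin 128) : QM := (exists_phi u).choose

theorem ev_phi (u : Fin 128) : ∀ x < 24, ev (phi u) x = ap5 (upr u) x := (exists_phi u).choose_spec

theorem compOK_spec {a b c : ℕ} (h : compOK a b c = true) {x : ℕ} (hx : x < 24) :
    ap5 a (ap5 b x) = ap5 c x :=
  Nat.eq_of_beq_eq_true (List.all_eq_true.mp h x (List.mem_range.mpr hx))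

theorem sqOK_spec {a b c d : ℕ} (h : sqOK a b c d = true) {x : ℕ} (hx : x < 24) :
    ap5 a (ap5 b x) = ap5 c (ap5 d x) :=
  Nat.eq_of_beq_eq_true (List.all_eq_true.mp h x (List.mem_range.mpr hx))

theorem um_table (a b : Fin 128) : compOK (upr a) (upr b) (upr (um a b)) = true := by
  by_cases h : a.val < 64
  · exact um_table_low ⟨a.val, h⟩ b
  · have e : a = ⟨64 + (a.val - 64), by omega⟩ := Fin.ext (by simp only; omega)
    rw [e]
    exact um_table_high ⟨a.val - 64, by omega⟩ b

theorem mono (a b : Fin 128) (i : Fin 4) : pv (um a b) i = pv a (pv b i) ∧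
    (fc a b + hv (um a b) i) % 4 = (hv a (pv b i) + hv b i) % 4 := by
  by_cases h : a.val < 64
  · exact mono_low ⟨a.val, h⟩ b i
  · have e : a = ⟨64 + (a.val - 64), by omega⟩ := Fin.ext (by simp only; omega)
    rw [e]
    exact mono_high ⟨a.val - 64, by omega⟩ b i

theorem phi_mul (a b : Fin 128) : phi a * phi b = phi (um a b) :=
  ev_ext fun x hx => by
    rw [ev_mul, ev_phi b x hx, ev_phi a _ (ev_phi b x hx ▸ ev_lt _ _), ev_phi _ x hx,
      compOK_spec (um_table a b) hx]

theorem phi_zero : phi 0 = 1 :=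
  ev_ext fun x hx => by rw [ev_phi 0 x hx, ev_one hx]; exact upr_zero ⟨x, hx⟩

theorem phi_injective : Function.Injective phi := fun a b h =>
  upr_sep a b fun x => by rw [← ev_phi a x x.2, ← ev_phi b x x.2, h]

theorem phi_inv (a : Fin 128) : ∃ b, phi b = (phi a)⁻¹ := by
  have hinj : Function.Injective (um a) := fun b c h => phi_injective (mul_left_cancel (a := phi a) (by
    rw [phi_mul, phi_mul, h]))
  obtain ⟨b, hb⟩ := Finite.surjective_of_injective hinj 0
  exact ⟨b, eq_inv_of_mul_eq_one_right (by rw [phi_mul, hb, phi_zero])⟩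

/-- The Sylow subgroup. -/
noncomputable def syl : Subgroup QM where
  carrier := Set.range phi
  one_mem' := ⟨0, phi_zero⟩
  mul_mem' := by
    rintro _ _ ⟨a, rfl⟩ ⟨b, rfl⟩
    exact ⟨_, (phi_mul a b).symm⟩
  inv_mem' := by
    rintro _ ⟨a, rfl⟩
    exact phi_inv a

theorem card_syl : Nat.card syl = 128 :=
  (Nat.card_range_of_injective phi_injective).trans (Nat.card_fin 128)

theorem exists_repQ : ∀ i < 3465, ∃ g : QM, ∀ x < 24, ev g x = ap5 (rp i) x := by
  intro i
  induction i using Nat.strong_induction_on with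
  | _ i ih =>
    intro hi
    rcases Nat.eq_zero_or_pos i with rfl | hpos
    · exact ⟨1, fun x hx => by rw [ev_one hx]; exact (rep_zero ⟨x, hx⟩).symm⟩
    · have h := List.all_eq_true.mp rep_tree i (List.mem_range.mpr hi)
      simp only [Bool.or_eq_true, Bool.and_eq_true, Nat.blt, Nat.ble_eq] at h
      rcases h with h | ⟨⟨h1, h2⟩, h3⟩
      · exact absurd (Nat.eq_of_beq_eq_true h) hpos.ne'
      · obtain ⟨g, hg⟩ := ih (parOf i) h1 (lt_trans h1 hi)
        obtain ⟨a, ha⟩ := exists_gen ⟨genOf i, h2⟩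
        refine ⟨a * g, fun x hx => ?_⟩
        rw [ev_mul, hg x hx, ha _ (hg x hx ▸ ev_lt g x)]
        exact compOK_spec h3 hx

/-- A coset representative. -/
noncomputable def repQ (i : Fin 3465) : QM := (exists_repQ i i.2).choose

theorem ev_repQ (i : Fin 3465) : ∀ x < 24, ev (repQ i) x = ap5 (rp i) x := (exists_repQ i i.2).choose_spec

theorem maskF_congr {f g : ℕ → ℕ} {l : List ℕ} (h : ∀ x ∈ l, f x = g x) : maskF f l = maskF g l := by
  unfold maskF
  rw [List.map_congr_left fun x hx => by rw [h x hx]]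

theorem keyF_congr {f g : ℕ → ℕ} (h : ∀ x < 24, f x = g x) : keyF f = keyF g := by
  have e : ∀ l : List ℕ, (∀ x ∈ l, x < 24) → maskF f l = maskF g l := fun l hl =>
    maskF_congr fun x hx => h x (hl x hx)
  unfold keyF
  rw [e [2, 13] (by decide), e [10, 12, 17, 21] (by decide), e [10, 17] (by decide), e [12, 21] (by decide)]

theorem maskF_perm {f t : ℕ → ℕ} {l m : List ℕ} (h : ((l.map t).isPerm m) = true) :
    maskF (fun x => f (t x)) l = maskF f m := by
  unfold maskF
  rw [← List.Perm.sum_eq ((List.isPerm_iff.mp h).map fun x => 2 ^ f x), List.map_map]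
  rfl

theorem keyF_right (f : ℕ → ℕ) (u : Fin 128) : keyF (fun x => f (ap5 (upr u) x)) = keyF f := by
  obtain ⟨h1, h2, h3⟩ := key_fix u
  unfold keyF
  rw [maskF_perm h1, maskF_perm h2]
  rcases h3 with ⟨h3, h4⟩ | ⟨h3, h4⟩
  · rw [maskF_perm h3, maskF_perm h4]
  · rw [maskF_perm h3, maskF_perm h4, min_comm]

theorem key_injective {i j : ℕ} (hi : i < 3465) (hj : j < 3465)
    (h : keyF (ap5 (rp i)) = keyF (ap5 (rp j))) : i = j := by
  let K : ℕ → ℕ := fun t => keyF (ap5 (rp (cget ordTab 12 t)))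
  have hstep : ∀ t < 3464, K t < K (t + 1) := fun t ht => by
    have := List.all_eq_true.mp key_order t (List.mem_range.mpr ht)
    rwa [Nat.blt, Nat.ble_eq] at this
  have hmono : ∀ b a, a < b → b < 3465 → K a < K b := by
    intro b
    induction b with
    | zero => intro a ha; omega
    | succ b ih =>
      intro a ha hb
      rcases Nat.lt_succ_iff_lt_or_eq.mp ha with h' | h'
      · exact lt_trans (ih a h' (by omega)) (hstep b (by omega))
      · subst h'; exact hstep a (by omega)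
  have hr : ∀ k < 3465, cget rankTab 12 k < 3465 ∧ cget ordTab 12 (cget rankTab 12 k) = k := fun k hk => by
    have := List.all_eq_true.mp key_rank k (List.mem_range.mpr hk)
    simp only [Bool.and_eq_true, Nat.blt, Nat.ble_eq] at this
    exact ⟨this.1, Nat.eq_of_beq_eq_true this.2⟩
  obtain ⟨a1, a2⟩ := hr i hi
  obtain ⟨b1, b2⟩ := hr j hj
  have e : K (cget rankTab 12 i) = K (cget rankTab 12 j) := by
    show keyF (ap5 (rp (cget ordTab 12 _))) = keyF (ap5 (rp (cget ordTab 12 _)))
    rw [a2, b2, h]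
  rcases lt_trichotomy (cget rankTab 12 i) (cget rankTab 12 j) with h' | h' | h'
  · exact absurd e (hmono _ _ h' b1).ne
  · rw [← a2, ← b2, h']
  · exact absurd e (hmono _ _ h' a1).ne'

theorem repQ_bijective : Function.Bijective fun i => (repQ i : QM ⧸ syl) := by
  haveI : Fintype (QM ⧸ syl) := Fintype.ofFinite _
  refine (Fintype.bijective_iff_injective_and_card _).mpr ⟨fun i j h => ?_, ?_⟩
  · obtain ⟨u, hu⟩ := QuotientGroup.eq.mp h
    have he : repQ i * phi u = repQ j := by rw [hu, mul_inv_cancel_left]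
    refine Fin.ext (key_injective i.2 j.2 ?_)
    rw [← keyF_congr (ev_repQ j), ← he, ← keyF_right (ap5 (rp i)) u]
    refine keyF_congr fun x hx => ?_
    rw [ev_mul, ev_phi u x hx]
    exact (ev_repQ i _ (ev_phi u x hx ▸ ev_lt _ _)).symm
  · have h := Subgroup.card_eq_card_quotient_mul_card_subgroup syl
    rw [card_syl, card_QM, Nat.card_eq_fintype_card] at h
    rw [Fintype.card_fin]
    omega

theorem act (b : Bool) (i : Fin 3465) : ∃ j : Fin 3465, j.val = jv b i.val ∧
    phi (elt b) * repQ i = repQ j * phi (bv b i.val) := by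
  have h : jv b i.val < 3465 ∧ sqOK (upr (elt b)) (rp i.val) (rp (jv b i.val)) (upr (bv b i.val)) = true := by
    have h0 : ((List.range 3465).all fun i => Nat.blt (jv b i) 3465 &&
        sqOK (upr (elt b)) (rp i) (rp (jv b i)) (upr (bv b i))) = true := by
      cases b
      · exact act_false
      · exact act_true
    have := List.all_eq_true.mp h0 i.val (List.mem_range.mpr i.2)
    simp only [Bool.and_eq_true, Nat.blt, Nat.ble_eq] at this
    exact ⟨this.1, this.2⟩
  refine ⟨⟨_, h.1⟩, rfl, ev_ext fun x hx => ?_⟩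
  rw [ev_mul, ev_mul, ev_repQ i x hx, ev_phi _ _ (ev_repQ i x hx ▸ ev_lt _ _), ev_phi _ x hx,
    ev_repQ ⟨_, h.1⟩ _ (ev_phi (bv b i.val) x hx ▸ ev_lt _ _)]
  exact sqOK_spec h.2 hx

end Cfsg.Lib.Golay.M22Mult
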