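import Cfsg.Agent.Golay.DodecadStab
import Cfsg.Agent.Golay.SylowData

/-!
Fixed points of elements of prime order in a dodecad and point stabiliser; the group of order 72.
-/

namespace Cfsg.Lib.Golay

open Cfsg Cfsg.Lib.PermCert MulAction
open scoped Pointwise

theorem factorization_eq {p n k : ℕ} (hp : p.Prime) (hn : n ≠ 0) (h1 : p ^ k ∣ n) (h2 : ¬ p ^ (k + 1) ∣ n) :
    n.factorization p = k := by
  rw [hp.pow_dvd_iff_le_factorization hn] at h1 h2
  omega

/-- Two lists of positions agree as a product. -/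
def permEqOn (c a b : PP) : Bool := (List.range 24).all fun i => ap c.1 i == ap a.1 (ap b.1 i)

/-- A list of tables is a group. -/
def isListGroup (l : List PP) : Bool :=
  l.all (fun a => valid 24 a && l.all fun b => l.any fun c => permEqOn c a b) &&
    decide ((l.map fun g => (List.range 24).map (ap g.1)).Nodup)

theorem toP_eq_mul {a b c : PP} (ha : valid 24 a = true) (hb : valid 24 b = true) (hc : valid 24 c = true)
    (h : permEqOn c a b = true) : toP c = toP a * toP b := by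
  refine Equiv.ext fun p => pidx_injective ?_
  rw [Equiv.Perm.mul_apply, pidx_toP hc, pidx_toP ha, pidx_toP hb]
  simp only [permEqOn, List.all_eq_true, beq_iff_eq, List.mem_range] at h
  exact h _ (pidx_lt p)

/-- The group on the members of a list that is one. -/
theorem exists_listGroup {l : List PP} (h : isListGroup l = true) (hne : l ≠ []) :
    ∃ P : Subgroup (Equiv.Perm GolayPt), Nat.card P = l.length ∧ ∀ x, x ∈ P ↔ ∃ a ∈ l, toP a = x := by
  simp only [isListGroup, Bool.and_eq_true, List.all_eq_true, List.any_eq_true, decide_eq_true_eq] at h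
  obtain ⟨h1, hnd⟩ := h
  let s : Set (Equiv.Perm GolayPt) := {x | ∃ a ∈ l, toP a = x}
  have hmul : ∀ x ∈ s, ∀ y ∈ s, x * y ∈ s := by
    rintro _ ⟨a, ha, rfl⟩ _ ⟨b, hb, rfl⟩
    obtain ⟨c, hc, habc⟩ := (h1 a ha).2 b hb
    exact ⟨c, hc, toP_eq_mul (h1 a ha).1 (h1 b hb).1 (h1 c hc).1 habc⟩
  have hpow : ∀ x ∈ s, ∀ n : ℕ, x ^ (n + 1) ∈ s := fun x hx n => by
    induction n with
    | zero => simpa using hx
    | succ n ih => rw [pow_succ]; exact hmul _ ih _ hx
  obtain ⟨a₀, ha₀⟩ := List.exists_mem_of_ne_nil l hne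
  have hone : (1 : Equiv.Perm GolayPt) ∈ s := by
    have h0 := orderOf_pos (toP a₀)
    have := hpow _ ⟨a₀, ha₀, rfl⟩ (orderOf (toP a₀) - 1)
    rwa [Nat.sub_add_cancel h0, pow_orderOf_eq_one] at this
  have hinv : ∀ x ∈ s, x⁻¹ ∈ s := fun x hx => by
    have h0 := orderOf_pos x
    have e : x⁻¹ = x ^ (orderOf x - 1) := by
      refine inv_eq_of_mul_eq_one_right ?_
      rw [← pow_succ', Nat.sub_add_cancel h0, pow_orderOf_eq_one]
    rw [e]
    rcases Nat.eq_zero_or_pos (orderOf x - 1) with h' | h'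
    · rw [h', pow_zero]; exact hone
    · rw [← Nat.sub_add_cancel h']; exact hpow x hx _
  let P : Subgroup (Equiv.Perm GolayPt) :=
    { carrier := s, one_mem' := hone, mul_mem' := fun hx hy => hmul _ hx _ hy, inv_mem' := fun hx => hinv _ hx }
  refine ⟨P, ?_, fun x => Iff.rfl⟩
  have hinj : (l.map toP).Nodup := by
    refine (List.Nodup.of_map _ hnd).map_on fun a ha b hb he => ?_
    refine List.inj_on_of_nodup_map hnd ha hb (List.map_congr_left fun i hi => ?_)
    have := congrArg (fun g : Equiv.Perm GolayPt => pidx (g (ptAt i))) he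
    change pidx (toP a (ptAt i)) = pidx (toP b (ptAt i)) at this
    rw [pidx_toP (h1 a ha).1, pidx_toP (h1 b hb).1, pidx_ptAt ⟨i, List.mem_range.mp hi⟩] at this
    exact this
  classical
  have e : (P : Set (Equiv.Perm GolayPt)) = ((l.map toP).toFinset : Set (Equiv.Perm GolayPt)) := by
    ext x; simp [P, s]
  show Nat.card ↥(P : Set (Equiv.Perm GolayPt)) = l.length
  rw [Nat.card_coe_set_eq, e, Set.ncard_coe_finset, List.toFinset_card_of_nodup hinj, List.length_map]

/-- The certificate for the two Sylow subgroups. -/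
def sylOK (q : ℕ) (l : List PP) : Bool :=
  isListGroup l && l.all fun g => preserves g && img g 340831 == 340831 && ap g.1 0 == 0 &&
    ((List.range 24).all (fun i => ap g.1 i == i) ||
      !((List.range 24).all fun i => (ap g.1)^[q] i == i) ||
      (List.range 24).any fun i => !(Nat.testBit 340831 i) && ap g.1 i == i)

theorem syl_ok : sylOK 2 syl2List = true ∧ sylOK 3 syl3List = true ∧ syl2List.length = 16 ∧ syl3List.length = 9 := by
  decide +kernel

theorem m11_mem {t : PP} (hp : preserves t = true) (hd : img t 340831 = 340831) (h0 : ap t.1 0 = 0) :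
    toP t ∈ Spor.M11 := by
  have hv : valid 24 t = true := by simp only [preserves, Bool.and_eq_true] at hp; exact hp.1
  refine ⟨⟨toP_mem_M24 hp, ?_⟩, ?_⟩
  · exact mem_stabilizer_iff.mpr (mk_injective (by
      rw [squareDodecad_eq, mk_smul hv, mk_pts (by norm_num), hd]))
  · have e : (some 0 : GolayPt) = ptAt 0 := by decide +kernel
    exact mem_stabilizer_iff.mpr (pidx_injective (by
      rw [Equiv.Perm.smul_def, e, pidx_toP hv, pidx_ptAt ⟨0, by norm_num⟩, h0]))

theorem fix_outside_of_syl {l : List PP} {q k : ℕ} (hl : sylOK q l = true) (hne : l ≠ []) (hq : q.Prime)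
    (hlen : l.length = q ^ k) (hk : (7920 : ℕ).factorization q = k) {g : Equiv.Perm GolayPt} (hg : g ∈ Spor.M11)
    (hord : orderOf g = q) : ∃ x : GolayPt, x ∉ Spor.squareDodecad ∧ g x = x := by
  simp only [sylOK, Bool.and_eq_true, List.all_eq_true, Bool.or_eq_true, List.any_eq_true, Bool.not_eq_true',
    beq_iff_eq, List.mem_range] at hl
  obtain ⟨hgrp, hall⟩ := hl
  obtain ⟨P₀, hP₀, hmem⟩ := exists_listGroup hgrp hne
  have hle : P₀ ≤ Spor.M11 := fun x hx => by
    obtain ⟨a, ha, rfl⟩ := (hmem x).mp hx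
    obtain ⟨⟨⟨h1, h2⟩, h3⟩, -⟩ := hall a ha
    exact m11_mem h1 h2 h3
  have := Fact.mk hq
  let P : Sylow q Spor.M11 := Sylow.ofCard (P₀.subgroupOf Spor.M11) (by
    rw [Nat.card_congr (Subgroup.subgroupOfEquivOfLe hle).toEquiv, hP₀, hlen, card_M11, hk])
  let g' : Spor.M11 := ⟨g, hg⟩
  have hpg : IsPGroup q (Subgroup.zpowers g') := IsPGroup.of_card (n := 1) (by
    rw [Nat.card_zpowers, ← Subgroup.orderOf_coe, pow_one]; exact hord)
  obtain ⟨Q, hQ⟩ := hpg.exists_le_sylow
  obtain ⟨h, hh⟩ := exists_smul_eq Spor.M11 Q P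
  have hmemP : h * g' * h⁻¹ ∈ (P : Subgroup Spor.M11) := by
    rw [← hh, Sylow.coe_subgroup_smul, Subgroup.mem_pointwise_smul_iff_inv_smul_mem]
    have e : (MulAut.conj h)⁻¹ • (h * g' * h⁻¹) = g' := by
      simp only [MulAut.smul_def, MulAut.conj_inv_apply]; group
    rw [e]; exact hQ (Subgroup.mem_zpowers g')
  have hmemP' : ((h : Equiv.Perm GolayPt) * g * (h : Equiv.Perm GolayPt)⁻¹) ∈ P₀ := Subgroup.mem_subgroupOf.mp hmemP
  obtain ⟨t, ht, hte⟩ := (hmem _).mp hmemP'
  obtain ⟨⟨⟨hp, -⟩, -⟩, hfix⟩ := hall t ht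
  have hv : valid 24 t = true := by simp only [preserves, Bool.and_eq_true] at hp; exact hp.1
  rcases hfix with (hid | hnq) | ⟨i, hi, hout, hii⟩
  · exfalso
    have h1 : toP t = 1 := Equiv.ext fun p => pidx_injective (by rw [pidx_toP hv]; exact hid _ (pidx_lt p))
    rw [h1] at hte
    have hg1 : g = 1 := by
      calc g = (h : Equiv.Perm GolayPt)⁻¹ * ((h : Equiv.Perm GolayPt) * g * (h : Equiv.Perm GolayPt)⁻¹) * h := by group
      _ = 1 := by rw [← hte]; group
    rw [hg1, orderOf_one] at hord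
    exact hq.one_lt.ne hord
  · exfalso
    have hq1 : toP t ^ q = 1 := by
      rw [hte, conj_pow, ← hord, pow_orderOf_eq_one]; group
    have hit : ∀ n : ℕ, ∀ p : GolayPt, pidx ((toP t ^ n) p) = (ap t.1)^[n] (pidx p) := fun n => by
      induction n with
      | zero => intro p; simp
      | succ n ih => intro p; rw [pow_succ', Equiv.Perm.mul_apply, pidx_toP hv, ih, Function.iterate_succ_apply']
    have hall' : (List.range 24).all (fun i => (ap t.1)^[q] i == i) = true := by
      simp only [List.all_eq_true, List.mem_range, beq_iff_eq]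
      intro i hi
      have := hit q (ptAt i)
      rw [hq1, Equiv.Perm.one_apply, pidx_ptAt ⟨i, hi⟩] at this
      exact this.symm
    rw [hall'] at hnq
    cases hnq
  · refine ⟨(h : Equiv.Perm GolayPt)⁻¹ (ptAt i), fun hin => ?_, ?_⟩
    · have hin' := (mem_iff_of_smul_eq (g := (h : Equiv.Perm GolayPt)) h.2.1.2 _).mpr hin
      rw [Equiv.Perm.inv_def, Equiv.apply_symm_apply, squareDodecad_eq, mem_pts, pidx_ptAt ⟨i, hi⟩, hout] at hin'
      cases hin'
    · have e : toP t (ptAt i) = ptAt i := pidx_injective (by rw [pidx_toP hv, pidx_ptAt ⟨i, hi⟩, hii])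
      rw [hte] at e
      simp only [Equiv.Perm.mul_apply] at e
      exact (Equiv.Perm.eq_inv_iff_eq).mpr e

theorem s5522 (g : Equiv.Perm GolayPt) (hg : g ∈ Spor.M11) (hord : (orderOf g).Prime) :
    ∃ x : GolayPt, x ∉ Spor.squareDodecad ∧ g x = x := by
  have h7920 : (7920 : ℕ).factorization 2 = 4 ∧ (7920 : ℕ).factorization 3 = 2 := by
    exact ⟨factorization_eq Nat.prime_two (by norm_num) (by norm_num) (by norm_num),
      factorization_eq Nat.prime_three (by norm_num) (by norm_num) (by norm_num)⟩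
  by_cases h2 : orderOf g = 2
  · exact fix_outside_of_syl syl_ok.1 (by rw [← List.length_pos_iff, syl_ok.2.2.1]; norm_num) Nat.prime_two
      syl_ok.2.2.1 h7920.1 hg h2
  by_cases h3 : orderOf g = 3
  · exact fix_outside_of_syl syl_ok.2.1 (by rw [← List.length_pos_iff, syl_ok.2.2.2]; norm_num) Nat.prime_three
      syl_ok.2.2.2 h7920.2 hg h3
  by_contra hne
  push Not at hne
  have hdvd : orderOf g ∣ 7920 := by
    have := orderOf_dvd_natCard (⟨g, hg⟩ : Spor.M11)
    rwa [card_M11, ← Subgroup.orderOf_coe] at this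
  have hfact : orderOf g = 5 ∨ orderOf g = 11 := by
    have hle : orderOf g ∣ 2 ^ 4 * (3 ^ 2 * (5 * 11)) := by norm_num; exact hdvd
    rcases hord.dvd_mul.mp hle with h | h
    · exact absurd ((Nat.prime_dvd_prime_iff_eq hord Nat.prime_two).mp (hord.dvd_of_dvd_pow h)) h2
    rcases hord.dvd_mul.mp h with h | h
    · exact absurd ((Nat.prime_dvd_prime_iff_eq hord Nat.prime_three).mp (hord.dvd_of_dvd_pow h)) h3
    rcases hord.dvd_mul.mp h with h | h
    · exact Or.inl ((Nat.prime_dvd_prime_iff_eq hord (by norm_num)).mp h)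
    · exact Or.inr ((Nat.prime_dvd_prime_iff_eq hord (by norm_num)).mp h)
  set D : Finset GolayPt := Spor.squareDodecadᶜ with hD
  have hDc : D.card = 12 := by
    rw [hD, Finset.card_compl, squareDodecad_mem.2, Fintype.card_option, ZMod.card]
  have hmemD : ∀ x, g x ∈ D ↔ x ∈ D := fun x => by
    simp only [hD, Finset.mem_compl]
    exact not_congr (mem_iff_of_smul_eq hg.1.2 x)
  have := Fact.mk hord
  have hdiv := Equiv.Perm.exists_fixed_point_of_prime (n := 1) (p := orderOf g) (α := ↥D) (σ := g.subtypePerm hmemD)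
    (by rw [Fintype.card_coe, hDc]; rcases hfact with h | h <;> rw [h] <;> norm_num)
    (by rw [pow_one]; exact Equiv.ext fun x => Subtype.ext (by
      rw [Equiv.Perm.subtypePerm_pow, Equiv.Perm.subtypePerm_apply]
      simp [pow_orderOf_eq_one]))
  obtain ⟨a, ha⟩ := hdiv
  exact hne a.1 (Finset.mem_compl.mp a.2) (congrArg Subtype.val ha)

/-- A finite group of order 72 with a normal subgroup of order 9 and a quaternion subgroup. -/
theorem sylows_72 {G : Type*} [Group G] [Finite G] (hG : Nat.card G = 72) {N : Subgroup G} (hN : N.Normal)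
    (hN9 : Nat.card N = 9) (hexp : ∀ x ∈ N, x ^ 3 = 1) (f : QuaternionGroup 2 →* G) (hf : Function.Injective f) :
    (∀ Q : Sylow 3 G, (Q : Subgroup G).Normal ∧ Nat.card ↥Q = 9 ∧ ∀ x ∈ (Q : Subgroup G), x ^ 3 = 1) ∧
      ∀ P : Sylow 2 G, Nonempty (↥P ≃* QuaternionGroup 2) := by
  have h72 : (72 : ℕ).factorization 3 = 2 ∧ (72 : ℕ).factorization 2 = 3 := by
    exact ⟨factorization_eq Nat.prime_three (by norm_num) (by norm_num) (by norm_num),
      factorization_eq Nat.prime_two (by norm_num) (by norm_num) (by norm_num)⟩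
  constructor
  · intro Q
    have := Fact.mk Nat.prime_three
    let S : Sylow 3 G := Sylow.ofCard N (by rw [hG, h72.1, hN9]; norm_num)
    have := Sylow.unique_of_normal S hN
    rw [Subsingleton.elim Q S]
    exact ⟨hN, hN9, hexp⟩
  · intro P
    have := Fact.mk Nat.prime_two
    have hr : Nat.card f.range = 8 := by
      rw [← Nat.card_congr (MonoidHom.ofInjective hf).toEquiv, Nat.card_eq_fintype_card, QuaternionGroup.card]
    let S : Sylow 2 G := Sylow.ofCard f.range (by rw [hG, h72.2, hr]; norm_num)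
    exact ⟨(Sylow.equiv P S).trans (MonoidHom.ofInjective hf).symm⟩

/-- The table of a member of the quaternion group. -/
def quatTab : QuaternionGroup 2 → PP
  | .a i => quatA[i.val]!
  | .xa i => quatX[i.val]!

/-- The certificate for the group of order 72. -/
def dod72OK : Bool :=
  isListGroup dodNineList &&
    (quatA ++ quatX ++ dodNineList).all (fun g => preserves g && img g 340831 == 340831 && ap g.1 0 == 0 &&
      ap g.1 1 == 1 && ap g.1 2 == 2) &&
    decide (∀ u v : QuaternionGroup 2, permEqOn (quatTab (u * v)) (quatTab u) (quatTab v) = true) &&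
    decide (∀ u : QuaternionGroup 2, quatTab u ∈ quatA ++ quatX) &&
    decide (∀ u : QuaternionGroup 2, (List.range 24).all (fun i => ap (quatTab u).1 i == i) = true → u = 1) &&
    dodNineList.all (fun n => (List.range 24).all fun i => ap n.1 (ap n.1 (ap n.1 i)) == i) &&
    ((quatA ++ quatX).all fun q => dodNineList.all fun n => dodNineList.any fun n' =>
      (List.range 24).all fun i => ap q.1 (ap n.1 i) == ap n'.1 (ap q.1 i))

theorem dod72_ok : dod72OK = true ∧ dodNineList.length = 9 := by decide +kernel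

theorem dod72_std :
    ∃ N : Subgroup ↥(dodThree (pts 340831) (ptAt 0) (ptAt 1) (ptAt 2)), N.Normal ∧ Nat.card N = 9 ∧
      (∀ x ∈ N, x ^ 3 = 1) ∧
      ∃ f : QuaternionGroup 2 →* ↥(dodThree (pts 340831) (ptAt 0) (ptAt 1) (ptAt 2)), Function.Injective f := by
  obtain ⟨h, hlen⟩ := dod72_ok
  simp only [dod72OK, Bool.and_eq_true, decide_eq_true_eq, List.all_eq_true, List.any_eq_true, beq_iff_eq,
    List.mem_range] at h
  obtain ⟨⟨⟨⟨⟨⟨hgrp, hall⟩, hmul⟩, hmem⟩, hker⟩, hcube⟩, hnorm⟩ := h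
  have hne : dodNineList ≠ [] := by rw [← List.length_pos_iff, hlen]; norm_num
  set G₀ := dodThree (pts 340831) (ptAt 0) (ptAt 1) (ptAt 2) with hG₀
  have hvalid : ∀ t ∈ quatA ++ quatX ++ dodNineList, valid 24 t = true := fun t ht => by
    have := (hall t ht).1.1.1.1
    simp only [preserves, Bool.and_eq_true] at this; exact this.1
  have hin : ∀ t ∈ quatA ++ quatX ++ dodNineList, toP t ∈ G₀ := fun t ht => by
    obtain ⟨⟨⟨⟨hp, hd⟩, h0⟩, h1⟩, h2⟩ := hall t ht
    have hv := hvalid t ht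
    have hfix : ∀ i : ℕ, i < 24 → ap t.1 i = i → toP t (ptAt i) = ptAt i := fun i hi e => pidx_injective (by
      rw [pidx_toP hv, pidx_ptAt ⟨i, hi⟩, e])
    refine ⟨⟨⟨⟨toP_mem_M24 hp, ?_⟩, ?_⟩, ?_⟩, ?_⟩
    · exact mem_stabilizer_iff.mpr (mk_injective (by rw [mk_smul hv, mk_pts (by norm_num), hd]))
    · exact mem_stabilizer_iff.mpr (hfix 0 (by norm_num) h0)
    · exact mem_stabilizer_iff.mpr (hfix 1 (by norm_num) h1)
    · exact mem_stabilizer_iff.mpr (hfix 2 (by norm_num) h2)
  have hq : ∀ u, quatTab u ∈ quatA ++ quatX ++ dodNineList := fun u => List.mem_append_left _ (hmem u)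
  let f : QuaternionGroup 2 →* ↥G₀ := MonoidHom.mk' (fun u => ⟨toP (quatTab u), hin _ (hq u)⟩) fun u v =>
    Subtype.ext (toP_eq_mul (hvalid _ (hq u)) (hvalid _ (hq v)) (hvalid _ (hq (u * v))) (hmul u v))
  have hf : Function.Injective f := (injective_iff_map_eq_one f).mpr fun u hu => hker u fun i hi => by
    have := congrArg (fun g : ↥G₀ => pidx ((g : Equiv.Perm GolayPt) (ptAt i))) hu
    simp only [f, MonoidHom.mk'_apply, OneMemClass.coe_one, Equiv.Perm.one_apply] at this
    rwa [pidx_toP (hvalid _ (hq u)), pidx_ptAt ⟨i, hi⟩] at this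
  obtain ⟨N₀, hN₀, hN₀mem⟩ := exists_listGroup hgrp hne
  have hle : N₀ ≤ G₀ := fun x hx => by
    obtain ⟨a, ha, rfl⟩ := (hN₀mem x).mp hx
    exact hin a (List.mem_append_right _ ha)
  set N := N₀.subgroupOf G₀ with hN
  have hN9 : Nat.card N = 9 := by rw [Nat.card_congr (Subgroup.subgroupOfEquivOfLe hle).toEquiv, hN₀, hlen]
  have hG : Nat.card ↥G₀ = 72 := dodThree_card (squareDodecad_eq ▸ squareDodecad_mem) (by decide +kernel)
    (by decide +kernel) (by decide +kernel) (by decide +kernel) (by decide +kernel) (by decide +kernel)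
  have hr : Nat.card f.range = 8 := by
    rw [← Nat.card_congr (MonoidHom.ofInjective hf).toEquiv, Nat.card_eq_fintype_card, QuaternionGroup.card]
  have hnormQ : f.range ≤ Subgroup.normalizer (N : Set ↥G₀) := by
    rintro _ ⟨u, rfl⟩
    refine mem_normalizer_of_conj fun x hx => ?_
    obtain ⟨n, hn, hnx⟩ := (hN₀mem _).mp (Subgroup.mem_subgroupOf.mp hx)
    obtain ⟨n', hn', he⟩ := hnorm _ (hmem u) n hn
    refine Subgroup.mem_subgroupOf.mpr ((hN₀mem _).mpr ⟨n', hn', ?_⟩)
    show toP n' = toP (quatTab u) * (x : Equiv.Perm GolayPt) * (toP (quatTab u))⁻¹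
    rw [← hnx, eq_mul_inv_iff_mul_eq]
    refine Equiv.ext fun p => pidx_injective ?_
    rw [Equiv.Perm.mul_apply, Equiv.Perm.mul_apply, pidx_toP (hvalid _ (List.mem_append_right _ hn')),
      pidx_toP (hvalid _ (hq u)), pidx_toP (hvalid _ (hq u)), pidx_toP (hvalid _ (List.mem_append_right _ hn))]
    exact (he _ (pidx_lt p)).symm
  have htop : N ⊔ f.range = ⊤ := by
    refine Subgroup.eq_top_of_card_eq _ (Nat.dvd_antisymm (Subgroup.card_subgroup_dvd_card _) ?_)
    rw [hG, show 72 = 9 * 8 from rfl]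
    refine Nat.Coprime.mul_dvd_of_dvd_of_dvd (by norm_num) ?_ ?_
    · rw [← hN9]; exact Subgroup.card_dvd_of_le le_sup_left
    · rw [← hr]; exact Subgroup.card_dvd_of_le le_sup_right
  refine ⟨N, Subgroup.normalizer_eq_top_iff.mp (top_le_iff.mp (htop ▸ sup_le Subgroup.le_normalizer hnormQ)), hN9,
    fun x hx => ?_, f, hf⟩
  obtain ⟨n, hn, hnx⟩ := (hN₀mem _).mp (Subgroup.mem_subgroupOf.mp hx)
  refine Subtype.ext (Equiv.ext fun p => pidx_injective ?_)
  rw [SubmonoidClass.coe_pow, ← hnx, pow_succ, pow_two, Equiv.Perm.mul_apply, Equiv.Perm.mul_apply]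
  have hv := hvalid _ (List.mem_append_right _ hn)
  rw [pidx_toP hv, pidx_toP hv, pidx_toP hv]
  exact hcube n hn _ (pidx_lt p)
where
  /-- Membership in a normalizer from conjugation in one direction, in a finite group. -/
  mem_normalizer_of_conj {G : Type} [Group G] [Finite G] {N : Subgroup G} {g : G}
      (h : ∀ x ∈ N, g * x * g⁻¹ ∈ N) : g ∈ Subgroup.normalizer (N : Set G) := by
    have hinj : Set.InjOn (fun x => g * x * g⁻¹) (N : Set G) := fun a _ b _ e =>
      mul_left_cancel (mul_right_cancel e)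
    have himg : (fun x => g * x * g⁻¹) '' (N : Set G) = N :=
      Set.eq_of_subset_of_ncard_le (Set.image_subset_iff.mpr h) (by rw [hinj.ncard_image]) (Set.toFinite _)
    refine Subgroup.mem_normalizer_iff.mpr fun x => ⟨h x, fun hx => ?_⟩
    obtain ⟨y, hy, he⟩ := (Set.ext_iff.mp himg _).mpr hx
    rwa [mul_left_cancel (mul_right_cancel he)] at hy

theorem s5619 (d : Finset GolayPt) (hd : d ∈ dodecads) (p q r : GolayPt) (hp : p ∈ d) (hq : q ∈ d) (hr : r ∈ d)
    (hpq : p ≠ q) (hpr : p ≠ r) (hqr : q ≠ r) :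
    (∀ Q : Sylow 3 ↥(stabilizer M24 d ⊓ stabilizer M24 p ⊓ stabilizer M24 q ⊓ stabilizer M24 r),
      (Q : Subgroup ↥(stabilizer M24 d ⊓ stabilizer M24 p ⊓ stabilizer M24 q ⊓ stabilizer M24 r)).Normal ∧
        Nat.card ↥Q = 9 ∧
        ∀ x ∈ (Q : Subgroup ↥(stabilizer M24 d ⊓ stabilizer M24 p ⊓ stabilizer M24 q ⊓ stabilizer M24 r)), x ^ 3 = 1) ∧
    ∀ P : Sylow 2 ↥(stabilizer M24 d ⊓ stabilizer M24 p ⊓ stabilizer M24 q ⊓ stabilizer M24 r),
      Nonempty (↥P ≃* QuaternionGroup 2) := by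
  obtain ⟨c, hcM, hcd, c0, c1, c2⟩ : ∃ c ∈ M24, c • d = pts 340831 ∧ c p = ptAt 0 ∧ c q = ptAt 1 ∧ c r = ptAt 2 := by
    obtain ⟨a, ha⟩ := exists_smul_squareDodecad hd
    rw [squareDodecad_eq] at ha
    have hinv : (a : Equiv.Perm GolayPt)⁻¹ • d = pts 340831 := inv_smul_eq_iff.mpr ha.symm
    have hmem : ∀ z, (a : Equiv.Perm GolayPt)⁻¹ z ∈ pts 340831 ↔ z ∈ d := fun z => by
      rw [← hinv]; exact Finset.smul_mem_smul_finset_iff _
    obtain ⟨b, hb, b0, b1, b2⟩ := dodecad_three (squareDodecad_eq ▸ squareDodecad_mem) ((hmem p).mpr hp)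
      ((hmem q).mpr hq) ((hmem r).mpr hr)
      (fun e => hpq ((a : Equiv.Perm GolayPt)⁻¹.injective e)) (fun e => hpr ((a : Equiv.Perm GolayPt)⁻¹.injective e))
      (fun e => hqr ((a : Equiv.Perm GolayPt)⁻¹.injective e))
      (p' := ptAt 0) (q' := ptAt 1) (r' := ptAt 2) (by decide +kernel) (by decide +kernel) (by decide +kernel)
      (by decide +kernel) (by decide +kernel) (by decide +kernel)
    exact ⟨b * (a : Equiv.Perm GolayPt)⁻¹, M24.mul_mem hb.1 (M24.inv_mem a.2), by rw [mul_smul, hinv]; exact hb.2,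
      b0, b1, b2⟩
  set G := stabilizer M24 d ⊓ stabilizer M24 p ⊓ stabilizer M24 q ⊓ stabilizer M24 r
  set G₀ := dodThree (pts 340831) (ptAt 0) (ptAt 1) (ptAt 2)
  let ψ : ↥G →* Equiv.Perm GolayPt :=
    (MulAut.conj c).toMonoidHom.comp (M24.subtype.comp G.subtype)
  have hψ : Function.Injective ψ :=
    (MulAut.conj c).injective.comp (M24.subtype_injective.comp G.subtype_injective)
  have hrange : ψ.range = G₀ := by
    ext g
    constructor
    · rintro ⟨⟨⟨g, hgM⟩, ⟨⟨hgd, hgp⟩, hgq⟩, hgr⟩, rfl⟩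
      have hgd' : g • d = d := hgd
      have hgp' : g p = p := hgp
      have hgq' : g q = q := hgq
      have hgr' : g r = r := hgr
      refine ⟨⟨⟨⟨M24.mul_mem (M24.mul_mem hcM hgM) (M24.inv_mem hcM), ?_⟩, ?_⟩, ?_⟩, ?_⟩
      · exact mem_stabilizer_iff.mpr (by
          show (c * g * c⁻¹) • pts 340831 = _
          rw [mul_smul, mul_smul, inv_smul_eq_iff.mpr hcd.symm, hgd', hcd])
      · exact mem_stabilizer_iff.mpr (by
          show (c * g * c⁻¹) (ptAt 0) = _
          rw [Equiv.Perm.mul_apply, Equiv.Perm.mul_apply, ← c0, Equiv.Perm.inv_def, Equiv.symm_apply_apply, hgp'])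
      · exact mem_stabilizer_iff.mpr (by
          show (c * g * c⁻¹) (ptAt 1) = _
          rw [Equiv.Perm.mul_apply, Equiv.Perm.mul_apply, ← c1, Equiv.Perm.inv_def, Equiv.symm_apply_apply, hgq'])
      · exact mem_stabilizer_iff.mpr (by
          show (c * g * c⁻¹) (ptAt 2) = _
          rw [Equiv.Perm.mul_apply, Equiv.Perm.mul_apply, ← c2, Equiv.Perm.inv_def, Equiv.symm_apply_apply, hgr'])
    · intro hg
      obtain ⟨⟨⟨⟨hgM, hgd⟩, hg0⟩, hg1⟩, hg2⟩ := hg
      have hg0' : g (ptAt 0) = ptAt 0 := hg0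
      have hg1' : g (ptAt 1) = ptAt 1 := hg1
      have hg2' : g (ptAt 2) = ptAt 2 := hg2
      refine ⟨⟨⟨c⁻¹ * g * c, M24.mul_mem (M24.mul_mem (M24.inv_mem hcM) hgM) hcM⟩, ⟨⟨?_, ?_⟩, ?_⟩, ?_⟩, ?_⟩
      · exact mem_stabilizer_iff.mpr (by
          show (c⁻¹ * g * c) • d = d
          rw [mul_smul, mul_smul, hcd, mem_stabilizer_iff.mp hgd, inv_smul_eq_iff.mpr hcd.symm])
      · exact mem_stabilizer_iff.mpr (by
          show (c⁻¹ * g * c) p = p
          rw [Equiv.Perm.mul_apply, Equiv.Perm.mul_apply, c0, hg0', ← c0, Equiv.Perm.inv_def, Equiv.symm_apply_apply])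
      · exact mem_stabilizer_iff.mpr (by
          show (c⁻¹ * g * c) q = q
          rw [Equiv.Perm.mul_apply, Equiv.Perm.mul_apply, c1, hg1', ← c1, Equiv.Perm.inv_def, Equiv.symm_apply_apply])
      · exact mem_stabilizer_iff.mpr (by
          show (c⁻¹ * g * c) r = r
          rw [Equiv.Perm.mul_apply, Equiv.Perm.mul_apply, c2, hg2', ← c2, Equiv.Perm.inv_def, Equiv.symm_apply_apply])
      · show c * (c⁻¹ * g * c) * c⁻¹ = g
        group
  let φ : ↥G ≃* ↥G₀ := (MonoidHom.ofInjective hψ).trans (MulEquiv.subgroupCongr hrange)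
  obtain ⟨N, hN, hN9, hexp, f, hf⟩ := dod72_std
  refine sylows_72 ((card_dodThree_coe d p q r).trans (dodThree_card hd hp hq hr hpq hpr hqr))
    (N := N.comap φ.toMonoidHom) (hN.comap _) ?_ (fun x hx => φ.injective (by rw [map_pow, map_one]; exact hexp _ hx))
    (φ.symm.toMonoidHom.comp f) (φ.symm.injective.comp hf)
  rw [← hN9]
  exact Nat.card_congr (Equiv.subtypeEquiv φ.toEquiv fun x => Iff.rfl)

end Cfsg.Lib.Golay
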