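import Cfsg.Agent.PermCert.Orbit

/-!
A spanning tree of the dodecads under the group of the code.
-/

namespace Cfsg.Lib.Golay

open Cfsg.Lib.PermCert

/-- Part of `dodTree`. -/
def dodTree_0 : OTree := .node 2799212 1 (.node 5598424 0 .nil (.node 3775820 4 .nil (.node 5559212 7 .nil .nil))) (.node 7909678 2 (.node 7718728 2 .nil (.node 2985866 3 .nil .nil)) (.node 6771484 3 (.node 3595314 1 .nil (.node 1276252 2 .nil (.node 3372596 4 .nil (.node 1174204 6 .nil .nil)))) (.node 7331072 4 (.node 6273537 0 .nil (.node 5864048 4 .nil (.node 7693232 6 .nil .nil))) (.node 7203352 5 (.node 6018097 0 .nil (.node 5960220 2 .nil (.node 6970936 4 .nil (.node 6234968 7 .nil .nil)))) (.node 1894296 7 (.node 3788592 0 .nil (.node 3026648 4 .nil .nil)) .nil)))))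

/-- Part of `dodTree`. -/
def dodTree_1 : OTree := .node 4632956 6 (.node 3852954 1 (.node 8265346 4 .nil (.node 7275194 5 .nil (.node 7133354 6 .nil .nil))) (.node 4796344 3 (.node 1204081 0 .nil (.node 8018316 3 .nil .nil)) (.node 1811772 4 (.node 1764556 4 .nil .nil) (.node 1605420 5 .nil (.node 517724 6 (.node 1035448 0 .nil (.node 5385852 3 .nil .nil)) (.node 6668540 7 (.node 982538 1 .nil (.node 4605944 3 .nil (.node 972596 4 .nil .nil))) .nil)))))) (.node 3070044 7 (.node 6140088 0 (.node 6350652 2 .nil .nil) (.node 5933406 2 (.node 3478205 0 .nil (.node 5909926 4 .nil .nil)) (.node 6633080 3 (.node 4877553 0 .nil (.node 4322264 7 .nil .nil)) (.node 5971732 4 (.node 8107140 3 .nil (.node 7563492 4 .nil .nil)) (.node 997948 5 (.node 2281204 1 .nil .nil) (.node 1999612 7 (.node 3999224 0 .nil .nil) .nil)))))) .nil)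

/-- Part of `dodTree`. -/
def dodTree_2 : OTree := .node 1779962 1 (.node 3559924 0 .nil (.node 7089710 2 .nil (.node 6486298 3 .nil (.node 5688714 4 .nil .nil)))) (.node 4315878 2 (.node 3076450 2 .nil (.node 219094 3 .nil (.node 7193382 4 .nil (.node 6228582 6 .nil (.node 1041798 7 .nil .nil))))) (.node 7939940 5 (.node 1646562 1 .nil (.node 7435970 2 .nil (.node 2161132 4 .nil (.node 3293124 6 .nil (.node 7469828 7 .nil .nil))))) (.node 2944836 6 (.node 5889672 0 .nil (.node 1923308 1 .nil (.node 6001362 2 .nil (.node 6830940 4 .nil (.node 3093844 5 .nil (.node 6565364 6 .nil .nil)))))) .nil)))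

/-- Part of `dodTree`. -/
def dodTree_3 : OTree := .node 3223281 0 (.node 6446562 0 .nil (.node 9123748 1 .nil (.node 5691669 3 .nil (.node 5938625 6 .nil (.node 4783889 7 (.node 4969349 2 .nil .nil) .nil))))) (.node 3900266 1 (.node 3468074 7 .nil .nil) (.node 6411662 2 .nil (.node 7963548 3 (.node 7259788 3 .nil (.node 3046564 4 .nil .nil)) (.node 2862560 4 (.node 4094736 3 .nil (.node 8283584 6 .nil .nil)) (.node 3763144 5 (.node 1881572 1 .nil (.node 5977642 2 .nil (.node 6586248 4 .nil (.node 6792600 5 .nil (.node 7879912 6 .nil (.node 8040200 7 .nil .nil)))))) (.node 2603848 6 (.node 5207696 0 .nil (.node 7959832 4 .nil .nil)) (.node 3529112 7 (.node 7058224 0 .nil (.node 5231208 3 .nil .nil)) .nil)))))))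

/-- Part of `dodTree`. -/
def dodTree_4 : OTree := .node 5805944 3 dodTree_3 (.node 4892628 4 dodTree_2 (.node 947148 5 (.node 3991792 1 (.node 7247088 6 .nil .nil) (.node 4397946 2 (.node 7595298 4 (.node 6801989 0 .nil .nil) (.node 5499466 6 .nil .nil)) (.node 2714748 3 (.node 5429496 0 .nil (.node 1023684 1 .nil (.node 8004302 2 .nil .nil))) (.node 3485468 4 (.node 1301924 1 .nil .nil) (.node 6503724 5 (.node 2047368 3 .nil (.node 5465996 6 .nil (.node 6910636 7 .nil .nil))) (.node 7505388 7 (.node 3263722 2 .nil (.node 2481708 7 .nil .nil)) .nil)))))) dodTree_1))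

/-- Part of `dodTree`. -/
def dodTree_5 : OTree := .node 2083596 1 (.node 4167192 0 (.node 8334384 0 .nil (.node 2348408 1 .nil (.node 1326072 7 .nil .nil))) (.node 4963416 2 (.node 1538225 0 .nil (.node 4778894 2 .nil (.node 7551640 3 .nil .nil))) (.node 7892628 4 (.node 7396649 0 .nil (.node 5920484 2 .nil (.node 7800532 5 .nil (.node 6856612 6 .nil .nil)))) (.node 3117484 5 (.node 3210840 1 .nil (.node 7448952 2 .nil (.node 3106600 3 .nil (.node 3434220 7 .nil .nil)))) .nil)))) (.node 2852062 2 (.node 5704124 0 (.node 4912552 3 .nil (.node 5694644 4 .nil .nil)) (.node 5548270 2 (.node 2934394 2 .nil (.node 57274 3 .nil (.node 6059150 5 .nil .nil))) (.node 7759386 3 (.node 7130165 0 .nil (.node 4706738 1 .nil .nil)) (.node 1989958 4 (.node 8210772 1 .nil (.node 3781746 3 .nil .nil)) (.node 4825726 5 .nil (.node 3981774 6 .nil .nil)))))) dodTree_4)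

/-- Part of `dodTree`. -/
def dodTree_6 : OTree := .node 12412496 1 .nil (.node 6498739 2 (.node 4024869 2 .nil (.node 5142915 3 .nil .nil)) (.node 3891569 3 (.node 7783138 0 .nil (.node 7531057 7 .nil .nil)) (.node 1436497 4 (.node 10372524 1 .nil (.node 4889205 3 .nil (.node 6972313 4 .nil (.node 3061633 5 .nil (.node 5553265 6 .nil .nil))))) (.node 4454753 5 (.node 520899 0 .nil (.node 12322462 1 .nil (.node 2878211 2 .nil (.node 736209 3 .nil (.node 2026785 5 .nil (.node 5727841 6 .nil (.node 7332001 7 .nil .nil))))))) (.node 3339489 7 (.node 6678978 0 .nil (.node 4644513 7 .nil .nil)) .nil)))))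

/-- Part of `dodTree`. -/
def dodTree_7 : OTree := .node 6213200 6 (.node 4037793 0 (.node 10581836 1 .nil (.node 3658529 3 .nil (.node 5101777 4 (.node 11428942 1 .nil .nil) .nil))) (.node 4906134 2 .nil (.node 7385844 3 .nil (.node 7998448 4 .nil (.node 4141792 5 .nil (.node 6609776 6 (.node 4830945 0 .nil (.node 3130320 7 .nil .nil)) (.node 2070896 7 .nil .nil))))))) (.node 5105008 7 (.node 1821409 0 (.node 9185148 1 .nil (.node 8178561 4 .nil .nil)) (.node 6546070 2 .nil (.node 715640 4 (.node 1431280 0 .nil .nil) (.node 1832768 5 (.node 3910228 3 .nil .nil) (.node 3581808 6 (.node 3846616 4 .nil .nil) (.node 7860304 7 .nil .nil)))))) .nil)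

/-- Part of `dodTree`. -/
def dodTree_8 : OTree := .node 8307000 4 (.node 8225393 0 (.node 9066346 1 .nil (.node 6718389 3 .nil (.node 2808241 4 .nil (.node 3797649 5 .nil .nil)))) (.node 1495898 1 (.node 2767786 5 .nil (.node 2525690 7 .nil .nil)) (.node 7588892 2 .nil (.node 7119848 3 (.node 1635050 1 .nil .nil) (.node 1752752 4 (.node 3505504 0 .nil (.node 7163616 5 .nil .nil)) (.node 1790904 5 (.node 3930152 6 .nil (.node 3304888 7 .nil .nil)) (.node 2552504 6 .nil (.node 3623544 7 .nil .nil)))))))) (.node 8189472 5 (.node 7990337 0 (.node 7592067 0 .nil (.node 9246158 1 .nil (.node 2073809 5 .nil .nil))) (.node 2446314 1 (.node 3617082 2 .nil (.node 2488082 4 .nil .nil)) (.node 7526288 2 (.node 6663969 0 .nil (.node 6152900 3 .nil (.node 916384 6 .nil .nil))) (.node 3509220 3 .nil (.node 3890384 5 (.node 7780768 0 .nil .nil) (.node 2564016 6 (.node 5128032 0 .nil (.node 2652144 7 .nil .nil)) (.node 5725120 7 (.node 3958070 1 .nil (.node 752946 2 .nil .nil)) .nil))))))) dodTree_7)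

/-- Part of `dodTree`. -/
def dodTree_9 : OTree := .node 4357044 3 (.node 325481 0 (.node 650962 0 .nil .nil) (.node 3549878 1 (.node 7770270 4 .nil (.node 6575798 5 .nil (.node 4738934 7 .nil .nil))) (.node 2841444 2 (.node 5682888 0 .nil (.node 2615604 5 .nil (.node 3859364 7 .nil .nil))) (.node 4816324 3 (.node 4940770 2 .nil .nil) (.node 7840300 4 (.node 7291993 0 .nil (.node 438188 3 .nil .nil)) (.node 7753508 5 .nil (.node 4976164 6 (.node 4179044 5 .nil (.node 6254884 7 .nil .nil)) (.node 7030196 7 (.node 1505892 4 .nil (.node 5489524 5 .nil .nil)) .nil)))))))) dodTree_8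

/-- Part of `dodTree`. -/
def dodTree_10 : OTree := .node 7632956 5 (.node 6877305 0 (.node 761641 4 .nil .nil) (.node 2546566 1 (.node 5093132 0 .nil (.node 3016678 7 .nil .nil)) (.node 3819356 2 .nil (.node 4562408 3 .nil (.node 4429500 4 (.node 2338362 1 .nil .nil) (.node 1466012 5 .nil .nil)))))) (.node 4934364 6 (.node 1480121 0 (.node 11789080 1 .nil (.node 2198973 2 .nil .nil)) (.node 961654 1 (.node 7113430 2 .nil .nil) (.node 4880494 2 (.node 7228234 2 .nil .nil) (.node 7916140 6 .nil .nil)))) (.node 641004 7 (.node 1282008 0 .nil (.node 1945192 1 (.node 6868440 4 .nil .nil) (.node 7070028 5 .nil (.node 3601676 7 .nil .nil)))) .nil))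

/-- Part of `dodTree`. -/
def dodTree_11 : OTree := .node 357820 3 (.node 3665536 1 .nil (.node 2302972 2 (.node 5139740 3 .nil .nil) (.node 5983592 3 (.node 7500648 6 .nil .nil) (.node 4382540 5 (.node 776650 2 .nil .nil) (.node 6452444 7 (.node 4516281 0 .nil .nil) .nil))))) (.node 7705908 4 (.node 7023209 0 .nil (.node 3366666 1 (.node 5339562 6 .nil .nil) (.node 3270100 2 .nil (.node 6260640 3 (.node 4132673 0 .nil .nil) (.node 782580 4 (.node 6516560 3 .nil .nil) (.node 1629140 5 (.node 3258280 0 .nil (.node 4953446 2 .nil (.node 6936148 3 .nil (.node 7285636 4 .nil (.node 7190628 6 .nil .nil))))) (.node 1553300 6 (.node 114548 2 .nil .nil) (.node 2456276 7 (.node 5868788 6 .nil .nil) .nil)))))))) dodTree_10)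

/-- Part of `dodTree`. -/
def dodTree_12 : OTree := .node 1875162 3 (.node 3750324 0 .nil (.node 5014974 2 (.node 7882666 3 .nil .nil) (.node 7459386 3 (.node 1546922 6 .nil .nil) (.node 5180882 4 (.node 1973157 0 .nil (.node 5616482 5 .nil .nil)) (.node 5061322 5 (.node 1734037 0 .nil (.node 5010234 2 .nil .nil)) .nil))))) (.node 4208622 4 (.node 28637 0 .nil (.node 7973538 1 (.node 7558469 0 .nil .nil) (.node 2467182 4 .nil (.node 733006 6 .nil .nil)))) (.node 1451486 5 (.node 2902972 0 (.node 6990012 6 .nil .nil) (.node 6023568 1 (.node 6187688 4 .nil .nil) (.node 5827642 3 (.node 6248474 7 .nil .nil) (.node 587102 6 .nil (.node 6331518 7 .nil .nil))))) (.node 7051790 7 (.node 6093128 2 .nil (.node 2569870 3 .nil (.node 7953446 4 (.node 1558742 5 .nil .nil) (.node 4032574 5 .nil (.node 7686798 6 .nil (.node 1909678 7 .nil .nil)))))) .nil)))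

/-- Part of `dodTree`. -/
def dodTree_13 : OTree := .node 2896126 5 (.node 7011008 1 (.node 5633409 0 .nil .nil) (.node 7603070 2 (.node 2274742 4 .nil .nil) (.node 6638906 3 (.node 4388466 4 .nil (.node 5415866 6 .nil (.node 2847322 7 .nil .nil))) (.node 5293790 7 (.node 5220650 1 .nil .nil) .nil)))) (.node 4479454 6 (.node 570301 0 (.node 11709160 1 .nil .nil) (.node 8316934 1 .nil (.node 4805882 3 (.node 7317058 1 .nil (.node 7553498 3 .nil (.node 511842 4 .nil .nil))) (.node 4663094 4 .nil (.node 5651214 5 (.node 876376 2 .nil (.node 3415470 5 .nil .nil)) .nil))))) (.node 826222 7 (.node 2692926 3 (.node 7577184 1 .nil (.node 7680460 2 .nil (.node 3385742 6 .nil .nil))) (.node 6925590 4 .nil (.node 2980110 5 .nil (.node 6760542 6 .nil .nil)))) .nil))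

/-- Part of `dodTree`. -/
def dodTree_14 : OTree := .node 4839740 1 (.node 1290873 0 (.node 2581746 0 .nil (.node 3917193 4 .nil (.node 2682537 5 .nil .nil))) (.node 7018440 3 (.node 5648273 0 .nil .nil) (.node 4153500 7 .nil .nil))) (.node 1357374 3 (.node 6540200 1 .nil (.node 2398172 2 (.node 6112828 3 .nil .nil) (.node 2645710 5 (.node 6164970 2 .nil .nil) (.node 498974 6 .nil .nil)))) (.node 7869910 4 (.node 7351213 0 .nil (.node 8075586 1 (.node 7762565 0 .nil (.node 1420722 5 .nil .nil)) (.node 5588454 2 (.node 320502 4 .nil (.node 5435846 5 .nil .nil)) (.node 8242322 3 (.node 8096037 0 .nil .nil) (.node 473574 4 .nil (.node 5319638 5 .nil (.node 2732998 6 .nil (.node 3251862 7 (.node 7295174 4 .nil .nil) .nil)))))))) dodTree_13))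

/-- Part of `dodTree`. -/
def dodTree_15 : OTree := .node 3569866 2 (.node 1969978 2 .nil (.node 391290 3 .nil (.node 5576602 4 .nil (.node 4886250 7 (.node 1383893 0 .nil .nil) .nil)))) (.node 3200870 4 (.node 6401740 0 .nil (.node 8198952 1 .nil (.node 3642818 2 .nil (.node 1935190 3 (.node 3870380 0 .nil .nil) (.node 2779606 5 .nil .nil))))) (.node 3334270 5 (.node 5151640 1 .nil (.node 4501338 3 (.node 614069 0 .nil .nil) (.node 1742734 4 .nil (.node 447726 6 .nil .nil)))) (.node 1199086 6 (.node 6073140 1 .nil (.node 3087466 2 .nil (.node 7645062 4 .nil .nil))) (.node 258862 7 (.node 7638712 1 (.node 6888817 0 .nil .nil) (.node 3794446 4 .nil (.node 1535022 6 .nil .nil))) .nil))))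

/-- Part of `dodTree`. -/
def dodTree_16 : OTree := .node 8358088 2 (.node 8327569 0 (.node 8266531 0 .nil (.node 11695442 1 .nil (.node 5336373 2 .nil (.node 5348273 5 .nil .nil)))) (.node 6053296 4 (.node 3717985 0 .nil .nil) (.node 8147672 6 .nil .nil))) (.node 3946314 3 (.node 7983584 1 (.node 7578561 0 .nil .nil) (.node 2178522 4 .nil (.node 7379914 7 .nil .nil))) (.node 5815878 4 (.node 3243149 0 (.node 1714153 2 .nil .nil) (.node 6883822 1 .nil (.node 5035970 2 .nil .nil))) (.node 999806 5 (.node 6956410 3 (.node 5524213 0 .nil .nil) (.node 1240854 4 .nil .nil)) (.node 6709678 6 (.node 5569170 1 (.node 2749733 0 .nil .nil) (.node 814570 3 .nil .nil)) (.node 4084270 7 (.node 8168540 0 .nil (.node 7740760 2 (.node 7092913 0 .nil .nil) .nil)) .nil)))))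

/-- Part of `dodTree`. -/
def dodTree_17 : OTree := .node 2402941 0 (.node 9099948 1 (.node 9811288 0 .nil .nil) (.node 6984989 4 .nil (.node 2913821 5 .nil .nil))) (.node 7834386 1 (.node 1965076 2 .nil (.node 5157542 3 (.node 6318842 1 .nil .nil) (.node 8024242 4 (.node 7659877 0 .nil .nil) (.node 3969970 5 .nil (.node 2960242 7 .nil .nil))))) (.node 2575820 2 (.node 1995896 3 .nil (.node 5535572 4 .nil .nil)) (.node 5875146 3 (.node 3361685 0 (.node 9846068 1 .nil (.node 5174341 3 .nil .nil)) (.node 4581034 2 .nil (.node 7715850 7 (.node 7043093 0 .nil .nil) .nil))) (.node 1287910 4 (.node 2408162 2 .nil (.node 6874342 5 .nil (.node 4521254 7 .nil .nil))) .nil))))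

/-- Part of `dodTree`. -/
def dodTree_18 : OTree := .node 4623581 0 (.node 9168926 1 (.node 9949244 0 .nil (.node 14827082 3 .nil (.node 14306830 4 .nil .nil))) (.node 5273273 3 (.node 5360077 3 .nil .nil) (.node 6161781 4 .nil (.node 6042221 5 .nil .nil)))) (.node 5086770 1 (.node 1784933 0 (.node 11079636 1 .nil (.node 3390737 3 .nil (.node 5830821 7 .nil .nil))) (.node 7139732 2 .nil (.node 7541670 3 (.node 3535014 4 .nil .nil) (.node 7063666 4 (.node 2089522 5 .nil .nil) (.node 4053570 5 (.node 6206738 2 .nil (.node 7674098 6 .nil .nil)) (.node 1929682 7 .nil .nil)))))) dodTree_15)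

/-- Part of `dodTree`. -/
def dodTree_19 : OTree := .node 6347421 0 (.node 10926126 1 (.node 8732458 3 .nil (.node 9198654 5 .nil (.node 13059230 6 .nil .nil))) (.node 1757549 2 (.node 1683333 4 .nil (.node 747949 5 .nil .nil)) (.node 7280165 4 (.node 7371217 2 .nil (.node 3614117 3 .nil (.node 3266677 4 .nil (.node 1143781 7 .nil .nil)))) (.node 8260125 5 (.node 8575350 1 .nil (.node 7478453 4 .nil .nil)) (.node 5081773 6 (.node 8449646 1 .nil .nil) (.node 984989 7 (.node 3566677 4 .nil (.node 3729693 6 .nil .nil)) .nil)))))) (.node 6134150 1 (.node 3879693 0 .nil (.node 2872994 3 (.node 3629894 3 .nil (.node 4147618 6 .nil .nil)) (.node 5073078 4 (.node 7234164 2 .nil (.node 5989462 7 .nil .nil)) (.node 8204822 6 .nil (.node 4009158 7 (.node 6039282 2 .nil (.node 4568278 5 .nil .nil)) .nil))))) (.node 2049738 2 (.node 4099476 0 .nil (.node 4603066 2 (.node 817525 0 .nil (.node 4966170 6 .nil .nil)) (.node 3428306 4 (.node 6697938 4 .nil .nil) (.node 1228138 7 .nil .nil)))) dodTree_12))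

/-- Part of `dodTree`. -/
def dodTree_20 : OTree := .node 4994521 0 (.node 1600435 0 (.node 6768515 5 .nil .nil) (.node 12312770 1 .nil (.node 7948473 3 (.node 8828742 1 .nil (.node 8021037 2 .nil (.node 5751449 5 .nil (.node 8032937 6 .nil (.node 1797657 7 .nil .nil))))) (.node 470393 4 (.node 940786 0 .nil (.node 10208916 1 .nil .nil)) (.node 5324617 5 (.node 12158374 1 .nil .nil) (.node 2729817 6 (.node 5459634 0 .nil .nil) (.node 7443673 7 (.node 11253002 1 .nil .nil) .nil))))))) (.node 3692922 2 (.node 8324366 2 (.node 4105386 3 .nil .nil) (.node 7180634 3 (.node 3515098 6 .nil .nil) (.node 4439938 4 (.node 491269 0 .nil (.node 1800838 3 .nil (.node 6123266 6 .nil .nil))) (.node 486298 5 (.node 6723370 5 .nil .nil) (.node 6533354 6 (.node 4678101 0 .nil (.node 1955114 4 .nil .nil)) .nil))))) dodTree_11)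

/-- Part of `dodTree`. -/
def dodTree_21 : OTree := .node 7368014 3 dodTree_19 (.node 3575374 4 (.node 7150748 0 (.node 5912889 0 (.node 11699158 1 .nil (.node 6901517 2 .nil .nil)) (.node 2358342 1 .nil (.node 5792252 2 .nil (.node 7820456 3 (.node 229096 7 .nil .nil) (.node 4676724 4 .nil (.node 1652444 7 .nil .nil)))))) dodTree_14) (.node 6506094 5 dodTree_18 (.node 2805038 6 (.node 5610076 0 (.node 2831545 0 (.node 7825673 3 .nil .nil) (.node 3979916 5 .nil (.node 895452 7 .nil .nil))) dodTree_16) (.node 5395774 7 dodTree_17 .nil))))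

/-- Part of `dodTree`. -/
def dodTree_22 : OTree := .node 4696816 1 (.node 1005025 0 (.node 2010050 0 (.node 4020100 0 .nil (.node 8137114 4 .nil (.node 7157154 5 .nil (.node 7109714 6 .nil (.node 8162658 7 .nil .nil))))) dodTree_6) (.node 2685494 2 (.node 5370988 0 (.node 1513324 6 .nil .nil) (.node 8295236 2 (.node 5365074 2 .nil (.node 2991796 3 .nil .nil)) (.node 6627142 3 (.node 2036918 3 .nil .nil) (.node 3100182 5 (.node 6174932 2 .nil (.node 7746662 3 .nil (.node 2593398 5 .nil .nil))) (.node 6177686 7 (.node 5663090 1 .nil .nil) .nil))))) dodTree_9)) (.node 6691564 2 dodTree_20 dodTree_21)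

/-- Part of `dodTree`. -/
def dodTree_23 : OTree := .node 15830067 5 (.node 12785423 1 .nil (.node 12379269 2 .nil (.node 14062467 3 (.node 11347719 0 .nil (.node 15753531 1 .nil .nil)) (.node 13291747 4 (.node 15475291 1 .nil .nil) (.node 10273491 5 (.node 14729847 3 .nil (.node 11311219 6 .nil .nil)) (.node 9271827 7 .nil .nil)))))) (.node 12144259 6 (.node 11980871 3 (.node 8758899 3 .nil .nil) (.node 14965443 4 (.node 15012659 4 .nil .nil) (.node 15171795 5 .nil (.node 16259491 6 .nil (.node 10108675 7 (.node 12171271 3 .nil (.node 15804619 4 .nil .nil)) .nil))))) (.node 13707171 7 (.node 10637127 0 .nil (.node 10843809 2 .nil (.node 10144135 3 (.node 12454951 7 .nil .nil) (.node 10805483 4 (.node 8670075 3 .nil (.node 9213723 4 .nil .nil)) (.node 15779267 5 (.node 14496011 1 .nil .nil) (.node 14777603 7 (.node 12777991 0 .nil .nil) .nil)))))) .nil))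

/-- Part of `dodTree`. -/
def dodTree_24 : OTree := .node 10971271 3 (.node 13553934 0 .nil (.node 12876949 1 (.node 13309141 7 .nil .nil) (.node 10365553 2 .nil (.node 8813667 3 (.node 13730651 4 .nil .nil) (.node 13914655 4 (.node 12682479 3 .nil (.node 8493631 6 .nil .nil)) (.node 13014071 5 (.node 14895643 1 .nil (.node 10190967 4 .nil (.node 8897303 6 .nil (.node 8737015 7 .nil .nil)))) (.node 14173367 6 (.node 11569519 0 .nil (.node 8817383 4 .nil .nil)) (.node 13248103 7 (.node 9718991 0 .nil .nil) .nil)))))))) (.node 11884587 4 (.node 14997253 1 .nil (.node 8837275 5 (.node 14616083 4 .nil (.node 13484091 6 .nil .nil)) (.node 13832379 6 (.node 10887543 0 .nil (.node 14853907 1 .nil (.node 9946275 4 .nil (.node 13683371 5 .nil (.node 10211851 6 .nil .nil))))) .nil))) dodTree_23)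

/-- Part of `dodTree`. -/
def dodTree_25 : OTree := .node 8587743 5 (.node 8786878 0 .nil (.node 9250927 2 (.node 15860831 6 .nil .nil) (.node 13267995 3 .nil (.node 12886831 5 .nil (.node 14213199 6 (.node 11649183 0 .nil (.node 14125071 7 .nil .nil)) (.node 11052095 7 .nil .nil)))))) (.node 10564015 6 (.node 12739422 0 .nil (.node 11871081 2 .nil (.node 9391371 3 .nil (.node 8778767 4 .nil (.node 12635423 5 .nil (.node 10167439 6 .nil (.node 14706319 7 .nil .nil))))))) (.node 11672207 7 (.node 14955806 0 .nil (.node 10231145 2 .nil (.node 16061575 4 .nil (.node 14944447 5 .nil (.node 13195407 6 (.node 12930599 4 .nil .nil) (.node 8916911 7 .nil .nil)))))) .nil))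

/-- Part of `dodTree`. -/
def dodTree_26 : OTree := .node 12420171 3 (.node 13227337 1 .nil (.node 13935771 2 (.node 11094327 0 .nil (.node 14161611 5 .nil (.node 12917851 7 .nil .nil))) (.node 11960891 3 .nil (.node 8936915 4 (.node 16339027 3 .nil .nil) (.node 9023707 5 .nil (.node 11801051 6 (.node 12598171 5 .nil .nil) (.node 9747019 7 .nil .nil))))))) (.node 8470215 4 (.node 8551822 0 .nil (.node 15281317 1 .nil (.node 9188323 2 .nil (.node 9657367 3 .nil (.node 15024463 4 (.node 13271711 0 .nil (.node 9613599 5 .nil .nil)) (.node 14986311 5 (.node 12847063 6 .nil (.node 13472327 7 .nil .nil)) (.node 14224711 6 .nil (.node 13153671 7 .nil .nil)))))))) dodTree_25)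

/-- Part of `dodTree`. -/
def dodTree_27 : OTree := .node 9071307 4 (.node 9754006 0 .nil (.node 13410549 1 .nil (.node 13507115 2 .nil (.node 10516575 3 .nil (.node 15994635 4 (.node 10260655 3 .nil .nil) (.node 15148075 5 (.node 13518935 0 .nil (.node 9841067 3 .nil (.node 9586587 6 .nil .nil))) (.node 15223915 6 (.node 16662667 2 .nil .nil) (.node 14320939 7 .nil .nil)))))))) (.node 9144259 5 (.node 9899910 0 .nil (.node 14230649 1 (.node 11684083 0 .nil .nil) (.node 12957859 2 .nil (.node 12214807 3 .nil (.node 12347715 4 (.node 14438853 1 .nil .nil) (.node 15311203 5 .nil .nil)))))) (.node 11842851 6 (.node 15297094 0 .nil (.node 15815561 1 .nil (.node 11896721 2 .nil (.node 8861075 6 .nil .nil)))) (.node 16136211 7 (.node 15495207 0 .nil (.node 14832023 1 (.node 9908775 4 .nil .nil) (.node 9707187 5 .nil (.node 13175539 7 .nil .nil)))) .nil)))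

/-- Part of `dodTree`. -/
def dodTree_28 : OTree := .node 14902053 3 (.node 13026891 0 .nil (.node 11762241 2 .nil (.node 9317829 3 .nil (.node 11596333 4 .nil .nil)))) (.node 12568593 4 (.node 8803677 1 .nil (.node 14310033 4 .nil (.node 16044209 6 .nil .nil))) (.node 15325729 5 (.node 13874243 0 (.node 9787203 6 .nil .nil) (.node 10753647 1 (.node 10589527 4 .nil .nil) (.node 16190113 6 .nil (.node 10445697 7 .nil .nil)))) (.node 9725425 7 (.node 10684087 2 .nil (.node 14207345 3 .nil (.node 8823769 4 (.node 15218473 5 .nil .nil) (.node 12744641 5 .nil (.node 9090417 6 .nil (.node 14867537 7 .nil .nil)))))) .nil)))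

/-- Part of `dodTree`. -/
def dodTree_29 : OTree := .node 15419841 3 (.node 10237015 1 .nil (.node 14379043 2 (.node 10664387 3 .nil .nil) (.node 14131505 5 .nil .nil))) (.node 8907305 4 (.node 8701629 1 .nil (.node 11188761 2 (.node 11341369 5 .nil .nil) (.node 8534893 3 .nil (.node 11457577 5 .nil (.node 14044217 6 .nil (.node 13525353 7 .nil .nil)))))) (.node 13881089 5 (.node 9766207 1 .nil (.node 9174145 2 .nil (.node 10138309 3 .nil .nil))) (.node 12297761 6 (.node 8460281 1 .nil (.node 11971333 3 .nil (.node 11126001 5 (.node 15900839 2 .nil .nil) .nil))) (.node 15950993 7 (.node 14084289 3 (.node 9200031 1 .nil .nil) (.node 9851625 4 .nil (.node 13797105 5 .nil (.node 10016673 6 .nil .nil)))) .nil))))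

/-- Part of `dodTree`. -/
def dodTree_30 : OTree := .node 11690445 1 (.node 14992282 0 .nil (.node 9637483 2 .nil (.node 9235545 3 (.node 13242201 4 .nil .nil) (.node 9713549 4 .nil (.node 12723645 5 .nil (.node 14847533 7 .nil .nil)))))) (.node 13207349 2 (.node 16385925 3 .nil (.node 11200613 4 .nil .nil)) (.node 13576345 4 (.node 10375475 0 .nil (.node 8578263 1 .nil (.node 13134397 2 .nil (.node 14842025 3 (.node 12906835 0 .nil .nil) .nil)))) (.node 13442945 5 (.node 11625575 1 .nil (.node 15034481 4 .nil .nil)) (.node 15578129 6 (.node 10704075 1 .nil (.node 13689749 2 .nil (.node 9132153 4 .nil .nil))) (.node 16518353 7 (.node 9138503 1 .nil (.node 12982769 4 .nil (.node 15242193 6 .nil .nil))) .nil)))))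

/-- Part of `dodTree`. -/
def dodTree_31 : OTree := .node 13972177 6 (.node 11167139 0 (.node 12797299 5 .nil (.node 15881763 7 .nil .nil)) (.node 8419127 2 (.node 10723919 4 .nil (.node 8629543 6 .nil .nil)) (.node 12830901 3 (.node 8793631 1 .nil (.node 14598693 4 .nil (.node 9397301 7 .nil .nil))) (.node 10961337 4 (.node 9893393 1 .nil (.node 11741245 2 .nil .nil)) (.node 15777409 5 (.node 9820805 3 .nil (.node 15536361 4 .nil .nil)) (.node 10067537 6 (.node 11208045 1 .nil .nil) (.node 12692945 7 (.node 8608675 0 .nil (.node 9036455 2 .nil .nil)) .nil))))))) (.node 11381441 7 (.node 14374274 0 (.node 9792226 4 .nil .nil) (.node 8942829 1 (.node 14812139 2 .nil (.node 11619673 3 .nil (.node 8752973 4 .nil (.node 12807245 5 .nil (.node 13816973 7 .nil .nil))))) (.node 14201395 2 (.node 14781319 3 .nil (.node 11241643 4 .nil .nil)) (.node 10902069 3 (.node 13415530 0 .nil (.node 9061365 7 .nil .nil)) (.node 15489305 4 .nil .nil))))) .nil)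

/-- Part of `dodTree`. -/
def dodTree_32 : OTree := .node 9409201 3 (.node 10429794 0 (.node 9497050 4 .nil (.node 8517090 5 .nil .nil)) (.node 10643065 1 (.node 13904221 3 .nil (.node 11704137 4 (.node 9543051 2 .nil .nil) (.node 8572393 6 .nil (.node 12768057 7 (.node 12208937 5 .nil .nil) .nil)))) (.node 14727477 2 (.node 12677739 0 .nil (.node 12174149 2 (.node 11811045 6 .nil .nil) (.node 15549077 7 .nil .nil))) dodTree_28))) (.node 13201841 4 (.node 9626467 0 (.node 10864326 0 .nil (.node 14418873 1 .nil (.node 10984963 2 .nil (.node 8956759 3 (.node 16548119 7 .nil .nil) (.node 12100491 4 .nil (.node 15124771 7 .nil .nil)))))) (.node 11937475 1 (.node 15486342 0 .nil (.node 9758775 3 .nil (.node 12623715 7 .nil .nil))) dodTree_29)) (.node 10271121 5 (.node 12153634 0 .nil dodTree_30) dodTree_31))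

/-- Part of `dodTree`. -/
def dodTree_33 : OTree := .node 14050567 0 (.node 11323919 0 (.node 15212055 4 .nil (.node 11472927 5 .nil (.node 10355535 7 .nil .nil))) (.node 13978003 1 (.node 11178791 0 .nil .nil) (.node 8867537 2 (.node 13791349 3 .nil .nil) (.node 10005731 3 (.node 15500963 2 .nil (.node 13404619 4 .nil (.node 15603011 6 .nil .nil))) (.node 9446143 4 .nil (.node 9573863 5 (.node 10816995 2 .nil (.node 9806279 4 .nil (.node 10542247 7 .nil .nil))) (.node 14882919 7 (.node 12988623 0 .nil (.node 13750567 4 .nil .nil)) .nil))))))) (.node 14693619 1 (.node 12610023 0 (.node 8442831 0 .nil (.node 14428807 1 .nil (.node 15451143 7 .nil .nil))) (.node 11813799 2 .nil (.node 8884587 4 (.node 10856731 2 .nil .nil) (.node 13659731 5 (.node 13566375 1 .nil (.node 9328263 2 .nil (.node 13670615 3 .nil (.node 13342995 7 .nil .nil)))) .nil)))) (.node 13925153 2 (.node 11073091 0 (.node 11864663 3 .nil (.node 11082571 4 .nil .nil)) (.node 9017829 3 .nil (.node 12795441 6 .nil .nil))) dodTree_24))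

/-- Part of `dodTree`. -/
def dodTree_34 : OTree := .node 12080399 1 (.node 15772190 0 (.node 14767165 0 .nil (.node 10278476 2 .nil (.node 12885646 3 .nil .nil))) (.node 14091721 2 (.node 11406227 0 .nil (.node 8481979 2 (.node 13785419 3 .nil .nil) (.node 10150073 3 .nil (.node 13677033 5 .nil (.node 10599529 7 .nil .nil))))) dodTree_26)) (.node 10085651 2 (.node 11782694 0 (.node 16306822 4 .nil (.node 11452598 5 .nil .nil)) (.node 13084293 2 (.node 8452849 2 .nil (.node 9596581 3 .nil (.node 12337277 4 (.node 14976377 3 .nil (.node 10653949 6 .nil .nil)) (.node 16290917 5 .nil (.node 10243861 6 .nil .nil))))) (.node 16419395 3 (.node 13111679 1 .nil (.node 14474243 2 (.node 11637475 3 .nil .nil) (.node 10793623 3 (.node 9276567 6 .nil .nil) (.node 12394675 5 .nil (.node 10324771 7 .nil .nil))))) dodTree_27))) dodTree_32)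

/-- Part of `dodTree`. -/
def dodTree_35 : OTree := .node 15351184 5 (.node 3354839 1 .nil (.node 14240676 2 .nil (.node 14104680 4 (.node 11038490 2 .nil .nil) (.node 13963120 5 (.node 11149025 0 .nil .nil) (.node 16324272 7 (.node 15871329 0 .nil (.node 15758756 2 .nil .nil)) .nil))))) (.node 9256176 6 (.node 2844357 1 (.node 5389027 2 .nil (.node 5420837 7 .nil .nil)) (.node 15213494 2 (.node 13649773 0 .nil (.node 15812374 5 .nil .nil)) (.node 13093208 4 (.node 13951608 6 .nil (.node 11509880 7 .nil .nil)) (.node 12975680 5 (.node 9640692 3 .nil (.node 15287160 4 .nil .nil)) (.node 14218448 7 (.node 11659681 0 .nil (.node 9374696 4 .nil .nil)) .nil))))) (.node 15110080 7 (.node 10082482 2 .nil (.node 10252980 3 .nil (.node 16527728 4 .nil (.node 13396944 6 .nil (.node 11376480 7 .nil .nil))))) .nil))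

/-- Part of `dodTree`. -/
def dodTree_36 : OTree := .node 9292404 3 (.node 10196200 0 (.node 9764008 7 .nil .nil) (.node 937581 1 (.node 7376725 4 .nil .nil) (.node 15380566 2 (.node 13983917 0 .nil (.node 10164526 4 .nil (.node 10038838 5 .nil (.node 13992630 7 .nil .nil)))) (.node 14817140 3 (.node 12857065 0 .nil (.node 3873331 1 .nil (.node 11622854 2 .nil (.node 11561844 5 .nil .nil)))) (.node 11530756 5 .nil (.node 16156788 6 (.node 12110934 2 .nil (.node 12892080 3 .nil (.node 14324148 4 .nil .nil))) (.node 10412372 7 (.node 10103708 4 .nil .nil) .nil))))))) (.node 11350936 4 (.node 14313264 0 (.node 1508339 1 .nil .nil) (.node 13710140 2 (.node 11587468 5 .nil (.node 9682444 6 .nil (.node 14772636 7 .nil .nil))) (.node 15681580 3 (.node 14585945 0 .nil (.node 15876796 6 .nil .nil)) (.node 10976280 4 (.node 2610325 1 .nil (.node 13747640 6 .nil .nil)) (.node 14786328 5 .nil (.node 12168344 6 (.node 14198444 2 .nil (.node 13469400 5 .nil .nil)) (.node 15738840 7 (.node 14700465 0 .nil (.node 1814947 1 .nil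 (.node 9524910 2 .nil .nil))) .nil))))))) dodTree_35)

/-- Part of `dodTree`. -/
def dodTree_37 : OTree := .node 9672498 2 (.node 10956388 0 (.node 13524168 0 .nil (.node 12073682 2 .nil (.node 15782236 4 .nil (.node 13782484 6 .nil .nil)))) (.node 10861956 2 (.node 13335304 0 .nil (.node 13409620 5 .nil (.node 14493076 6 .nil .nil))) (.node 14394118 3 (.node 12011021 0 .nil (.node 12085422 4 .nil (.node 11828742 6 .nil (.node 16066854 7 .nil .nil)))) (.node 11062242 5 (.node 11293526 3 .nil (.node 15687954 5 .nil (.node 15608034 6 .nil .nil))) (.node 9959682 6 (.node 14246554 4 .nil (.node 9346466 5 .nil (.node 13988914 6 .nil .nil))) (.node 10779058 7 .nil .nil)))))) dodTree_36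

/-- Part of `dodTree`. -/
def dodTree_38 : OTree := .node 16611456 5 (.node 16445697 0 (.node 16114179 0 .nil (.node 10042025 4 .nil (.node 10161585 5 .nil .nil))) (.node 2389447 1 .nil (.node 12933816 4 (.node 11170108 2 .nil (.node 12800492 3 .nil .nil)) (.node 14364352 7 (.node 11729044 3 .nil (.node 16009704 4 .nil .nil)) .nil)))) (.node 15669840 6 (.node 14562465 0 (.node 10576851 1 .nil (.node 9799929 4 .nil (.node 13720801 5 .nil .nil))) (.node 14186774 2 (.node 12790446 4 .nil .nil) (.node 15151284 3 (.node 12674804 7 .nil .nil) (.node 10068976 7 .nil .nil)))) (.node 10341824 7 (.node 12295040 0 .nil (.node 1926477 1 .nil (.node 13345970 2 (.node 9914725 0 .nil .nil) (.node 13611456 5 .nil .nil)))) .nil))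

/-- Part of `dodTree`. -/
def dodTree_39 : OTree := .node 10605492 3 (.node 12822376 0 (.node 9858888 6 .nil (.node 15069480 7 .nil .nil)) (.node 3554857 1 .nil (.node 13584196 3 (.node 10391177 0 .nil (.node 1920115 1 .nil (.node 12810450 2 .nil .nil))) (.node 10463396 6 .nil (.node 10905492 7 .nil .nil))))) (.node 15567280 4 (.node 14357345 0 (.node 12060531 1 .nil (.node 11248021 3 .nil .nil)) (.node 16375860 2 (.node 15974505 0 .nil (.node 14117396 7 .nil .nil)) (.node 13563952 4 (.node 10350689 0 .nil .nil) (.node 16687760 6 (.node 16598305 0 .nil (.node 12458168 4 .nil .nil)) .nil)))) dodTree_38)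

/-- Part of `dodTree`. -/
def dodTree_40 : OTree := .node 13890208 5 (.node 11003201 0 (.node 10310809 1 .nil (.node 9677459 2 (.node 13380915 7 .nil .nil) .nil)) (.node 2369467 1 .nil (.node 10682144 2 (.node 10304324 3 .nil (.node 16364104 4 .nil .nil)) (.node 8645572 3 (.node 9076308 3 .nil .nil) (.node 12436136 4 (.node 15905848 2 .nil (.node 10929004 3 .nil .nil)) (.node 13069728 7 .nil .nil)))))) (.node 12243568 6 (.node 16098528 0 (.node 9228792 4 .nil .nil) (.node 3019641 1 .nil (.node 15899910 2 (.node 15022605 0 .nil (.node 14233830 4 .nil (.node 10226166 5 .nil (.node 11344550 7 .nil .nil)))) (.node 15049556 3 (.node 13321897 0 .nil (.node 9564758 2 .nil (.node 9744084 6 .nil .nil))) .nil)))) (.node 9694320 7 (.node 11185798 2 (.node 13982988 0 .nil (.node 16521294 4 .nil .nil)) (.node 13810512 3 .nil (.node 14336968 4 (.node 11068124 3 .nil .nil) (.node 14079328 6 .nil .nil)))) .nil))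

/-- Part of `dodTree`. -/
def dodTree_41 : OTree := .node 14838838 2 (.node 12900461 0 (.node 11190619 2 .nil (.node 10385421 5 .nil .nil)) (.node 13909442 3 (.node 11041669 0 .nil (.node 12919290 4 .nil .nil)) (.node 13800046 4 (.node 10822877 0 .nil (.node 10804554 2 .nil (.node 8497054 3 .nil (.node 8767918 7 .nil .nil)))) (.node 9848438 5 (.node 5196593 1 .nil (.node 13673846 3 .nil .nil)) (.node 12765094 6 (.node 9988038 3 .nil (.node 10966310 7 .nil .nil)) (.node 13324854 7 (.node 9872493 0 .nil (.node 14886342 3 .nil .nil)) .nil)))))) (.node 14868976 3 (.node 12960737 0 (.node 10249771 1 .nil (.node 10743859 2 .nil .nil)) (.node 1979035 1 .nil (.node 10400552 4 (.node 11119404 3 .nil .nil) (.node 9365216 6 .nil (.node 15189552 7 .nil .nil))))) (.node 9882544 4 (.node 1467197 1 .nil (.node 11246644 2 .nil (.node 13169508 3 .nil (.node 11423088 7 .nil .nil)))) dodTree_40))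

/-- Part of `dodTree`. -/
def dodTree_42 : OTree := .node 11909680 4 (.node 15430752 0 .nil (.node 2250669 1 (.node 3348969 2 .nil (.node 3520069 4 .nil .nil)) (.node 12105492 2 (.node 15822376 0 .nil (.node 11221196 4 .nil .nil)) (.node 13081380 3 (.node 9385545 0 .nil .nil) (.node 15454360 4 (.node 9905848 7 .nil .nil) (.node 11329168 5 .nil .nil)))))) (.node 11233968 6 (.node 407285 1 (.node 6323813 5 .nil (.node 4249077 7 .nil .nil)) (.node 16398884 2 (.node 16020553 0 .nil .nil) (.node 15104324 3 (.node 13431433 0 .nil .nil) (.node 16177672 4 (.node 8762092 3 .nil .nil) .nil)))) (.node 11749344 7 (.node 1914673 1 (.node 3829346 0 .nil .nil) (.node 11746466 2 .nil .nil)) .nil))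

/-- Part of `dodTree`. -/
def dodTree_43 : OTree := .node 15948080 2 (.node 15118945 0 (.node 13460675 0 .nil (.node 11031227 1 .nil (.node 11590419 2 .nil (.node 8727477 3 .nil (.node 12090417 5 .nil .nil))))) (.node 12283140 2 (.node 8881652 5 .nil .nil) .nil)) (.node 11362788 3 (.node 1867457 1 (.node 6765761 5 .nil .nil) (.node 15934066 2 (.node 15090917 0 .nil .nil) (.node 8715036 4 (.node 9147228 2 .nil (.node 13180524 3 .nil (.node 11411212 5 .nil (.node 15598044 7 .nil .nil)))) (.node 12842260 5 .nil (.node 12199156 6 (.node 9869772 4 .nil .nil) (.node 15918660 7 (.node 15060105 0 .nil .nil) .nil)))))) dodTree_42)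

/-- Part of `dodTree`. -/
def dodTree_44 : OTree := .node 11776356 3 (.node 15164104 0 (.node 13550993 0 .nil (.node 9599546 2 .nil (.node 8808700 3 .nil (.node 11818808 4 .nil (.node 9981688 6 .nil .nil))))) (.node 3678105 1 .nil (.node 11644738 2 (.node 10394134 3 .nil (.node 15233482 4 .nil .nil)) (.node 9416464 3 .nil (.node 10088844 4 (.node 16133260 7 .nil .nil) (.node 9925828 6 (.node 9782236 4 .nil (.node 10048884 6 .nil .nil)) (.node 15002276 7 .nil .nil))))))) (.node 15846096 4 (.node 14914977 0 (.node 13052739 0 .nil (.node 11613723 1 .nil .nil)) (.node 10155046 2 (.node 9129190 5 .nil .nil) (.node 13030100 3 (.node 9282985 0 .nil .nil) .nil))) (.node 11000032 5 (.node 12233010 2 (.node 15135874 6 .nil .nil) (.node 8876912 3 (.node 4081329 1 .nil (.node 13314420 3 .nil .nil)) .nil)) (.node 10123744 7 (.node 3941333 1 (.node 2669781 6 .nil .nil) (.node 15404834 2 (.node 11911538 5 .nil .nil) (.node 11139408 3 .nil .nil))) .nil)))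

/-- Part of `dodTree`. -/
def dodTree_45 : OTree := .node 14460737 0 (.node 10043883 1 (.node 8712067 4 .nil (.node 12837259 5 .nil (.node 12202091 6 .nil (.node 11725835 7 .nil .nil)))) (.node 12703379 2 (.node 8843685 2 .nil (.node 13845191 3 .nil (.node 11485795 4 .nil .nil))) (.node 12094133 3 (.node 15799658 0 .nil (.node 15636613 4 .nil .nil)) (.node 11020793 4 (.node 13652978 0 .nil (.node 16319023 2 .nil .nil)) (.node 10764113 6 (.node 10032023 2 .nil (.node 14489653 3 .nil .nil)) .nil))))) (.node 3437171 1 (.node 3544855 2 (.node 129431 6 .nil .nil) (.node 4557175 3 (.node 3006551 2 .nil (.node 4907319 4 .nil .nil)) (.node 2331547 4 (.node 4158467 4 .nil .nil) (.node 2260627 5 (.node 5601351 3 .nil .nil) (.node 236787 6 (.node 15410716 1 .nil (.node 6275395 4 .nil (.node 5040739 5 .nil (.node 849075 7 .nil .nil)))) (.node 4377555 7 .nil .nil)))))) dodTree_43)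

/-- Part of `dodTree`. -/
def dodTree_46 : OTree := .node 12485089 0 (.node 9991001 1 (.node 11593394 0 .nil (.node 15304797 3 .nil (.node 10694537 4 .nil (.node 15894937 7 .nil .nil)))) (.node 11330353 3 (.node 15469413 3 .nil (.node 10923185 6 .nil (.node 16139089 7 .nil .nil))) (.node 11432145 6 (.node 13765431 2 .nil .nil) (.node 11849313 7 (.node 9261869 1 .nil (.node 9737077 3 .nil (.node 9362241 7 .nil .nil))) .nil)))) (.node 943955 1 (.node 1887910 0 .nil (.node 4659863 2 .nil (.node 7874679 3 (.node 13245382 1 .nil (.node 1402519 5 .nil .nil)) (.node 3287899 4 .nil (.node 2307939 5 (.node 3488643 2 .nil (.node 2042135 3 .nil (.node 6353827 7 .nil .nil))) (.node 2157939 6 (.node 4162183 2 .nil (.node 7262739 7 .nil .nil)) (.node 7508339 7 (.node 5088147 3 .nil (.node 2476723 7 .nil .nil)) .nil))))))) dodTree_41)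

/-- Part of `dodTree`. -/
def dodTree_47 : OTree := .node 12137921 0 (.node 15887234 0 (.node 16123314 5 .nil .nil) (.node 8747465 4 (.node 9118523 2 .nil (.node 12936985 4 .nil (.node 13024521 5 .nil (.node 15377609 7 .nil .nil)))) .nil)) (.node 2646895 1 .nil (.node 15258930 2 (.node 13740645 0 (.node 15253933 4 .nil (.node 14032453 6 .nil (.node 13494533 7 .nil .nil))) (.node 16236932 2 (.node 15696649 0 .nil .nil) (.node 16581570 3 .nil (.node 9157218 4 (.node 10697494 3 .nil .nil) (.node 10177362 5 (.node 11966116 0 .nil .nil) (.node 10986402 6 (.node 12382234 4 .nil (.node 14968674 7 .nil .nil)) (.node 12014226 7 .nil .nil))))))) dodTree_39))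

/-- Part of `dodTree`. -/
def dodTree_48 : OTree := .node 15329152 0 (.node 12470980 3 (.node 14294130 2 .nil (.node 10810484 3 .nil (.node 15997844 4 .nil (.node 15227124 6 .nil (.node 10129252 7 .nil .nil))))) (.node 11303528 4 (.node 2937573 1 .nil (.node 10819964 3 .nil .nil)) (.node 16483664 5 .nil (.node 12332960 6 .nil (.node 16201472 7 (.node 15625729 0 .nil (.node 9535376 2 .nil (.node 11628792 4 .nil .nil))) .nil))))) (.node 3961257 1 (.node 7922514 0 (.node 7456421 0 .nil .nil) (.node 7538489 2 (.node 6201741 3 .nil (.node 2194233 7 .nil .nil)) (.node 3000681 3 (.node 4121161 7 .nil .nil) (.node 376473 4 .nil (.node 4414873 5 (.node 441139 0 .nil (.node 5992649 3 .nil .nil)) (.node 7491273 7 .nil .nil)))))) dodTree_37)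

/-- Part of `dodTree`. -/
def dodTree_49 : OTree := .node 11858880 3 dodTree_48 (.node 14457568 4 dodTree_47 (.node 14631152 5 dodTree_46 (.node 15618976 6 dodTree_45 (.node 10444320 7 (.node 12500032 0 (.node 2707933 1 .nil (.node 14192530 2 (.node 11607845 0 .nil (.node 12393746 7 .nil .nil)) (.node 14227928 4 (.node 11678641 0 .nil (.node 13198638 2 .nil .nil)) (.node 15029712 6 (.node 13282209 0 .nil .nil) .nil)))) (.node 2443125 1 (.node 2290517 4 .nil (.node 1223157 6 (.node 2723431 2 .nil (.node 5007269 5 .nil .nil)) .nil)) dodTree_44)) .nil))))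

/-- Part of `dodTree`. -/
def dodTree_50 : OTree := .node 5473687 4 (.node 13839642 1 (.node 13788394 4 .nil (.node 9734122 5 .nil (.node 13694730 6 .nil (.node 15284282 7 .nil .nil)))) (.node 388325 2 .nil (.node 5957251 3 (.node 3205831 3 .nil (.node 2907939 6 .nil .nil)) (.node 1897223 6 .nil .nil)))) (.node 293551 5 .nil (.node 4444255 6 (.node 499903 0 (.node 12775064 1 .nil (.node 4353835 3 .nil .nil)) (.node 15633434 1 (.node 10293882 5 .nil .nil) (.node 4400859 3 (.node 7382635 5 .nil .nil) (.node 1787687 4 .nil .nil)))) (.node 575743 7 (.node 1151486 0 .nil (.node 13544012 1 (.node 13163098 2 .nil .nil) (.node 7241839 2 .nil (.node 5148423 4 (.node 13715582 1 .nil (.node 4002151 5 .nil .nil)) (.node 5202447 5 .nil (.node 2016287 7 .nil .nil)))))) .nil)))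

/-- Part of `dodTree`. -/
def dodTree_51 : OTree := .node 12362342 5 (.node 16336076 0 (.node 11977944 3 .nil (.node 13869276 5 .nil .nil)) (.node 4742121 1 .nil (.node 16029266 2 .nil (.node 10784566 3 (.node 12423380 2 .nil .nil) (.node 11049374 4 .nil (.node 11105430 5 .nil (.node 10886358 6 (.node 13384108 0 .nil .nil) .nil))))))) (.node 13945670 6 (.node 11114125 0 .nil (.node 6048047 1 .nil (.node 9426002 2 .nil (.node 8951542 3 .nil (.node 12464518 5 (.node 9779358 4 .nil .nil) (.node 12860022 6 (.node 6965927 1 .nil .nil) (.node 11503942 7 .nil .nil))))))) (.node 9285942 7 (.node 10183276 0 (.node 823281 1 .nil (.node 10661212 3 .nil .nil)) (.node 12035094 6 .nil (.node 16015574 7 .nil .nil))) .nil))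

/-- Part of `dodTree`. -/
def dodTree_52 : OTree := .node 13776534 3 (.node 10775853 0 (.node 12629597 4 .nil .nil) (.node 8675300 2 (.node 11211250 2 .nil .nil) (.node 11993326 4 (.node 11807866 2 .nil (.node 8840506 3 .nil (.node 12644542 5 .nil (.node 10113246 6 .nil .nil)))) (.node 15732454 5 (.node 14687693 0 .nil (.node 4799271 1 .nil (.node 14979558 4 .nil .nil))) (.node 9035526 6 (.node 12260934 3 .nil .nil) (.node 12656054 7 .nil .nil)))))) (.node 16400742 4 (.node 16024269 0 (.node 15271323 0 .nil (.node 8976683 1 .nil (.node 9491579 2 .nil (.node 11277749 4 .nil (.node 16265373 5 .nil (.node 9181917 6 .nil .nil)))))) (.node 6036307 1 (.node 6404691 6 .nil (.node 3770835 7 .nil .nil)) (.node 16206914 2 (.node 9875698 3 .nil .nil) (.node 11314642 3 .nil (.node 9485222 4 (.node 15573134 4 .nil .nil) (.node 9658806 5 .nil (.node 10646246 6 (.node 11934562 2 .nil (.node 8744278 3 .nil .nil)) .nil))))))) dodTree_51)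

/-- Part of `dodTree`. -/
def dodTree_53 : OTree := .node 5714973 5 (.node 3041339 0 .nil (.node 10734994 1 .nil (.node 5483689 3 (.node 6182665 6 .nil .nil) (.node 1262845 4 .nil (.node 1089261 5 .nil (.node 1169181 6 .nil (.node 4274429 7 (.node 4842653 7 .nil .nil) .nil))))))) (.node 6817533 6 (.node 2530661 4 (.node 5878101 4 .nil .nil) (.node 7430749 5 .nil (.node 2788301 6 (.node 10008700 1 .nil (.node 8142085 4 .nil .nil)) .nil))) (.node 5998157 7 (.node 9014650 1 (.node 9298762 5 .nil .nil) (.node 4259019 2 .nil (.node 3319453 3 .nil (.node 3689957 4 (.node 4504517 4 .nil (.node 6959589 6 .nil .nil)) (.node 3776749 5 .nil (.node 1423661 7 .nil .nil)))))) .nil))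

/-- Part of `dodTree`. -/
def dodTree_54 : OTree := .node 5915259 2 (.node 3441911 0 .nil (.node 3313571 4 (.node 8171715 4 .nil .nil) (.node 3367595 5 .nil (.node 2284139 6 (.node 967595 7 .nil .nil) (.node 1296699 7 (.node 14059292 1 .nil .nil) .nil))))) (.node 2383097 3 (.node 4766194 0 .nil (.node 4691793 4 (.node 12272698 1 .nil .nil) (.node 4618841 5 .nil (.node 4948473 6 (.node 10135130 1 .nil .nil) (.node 710361 7 .nil .nil))))) (.node 4464445 4 (.node 5838253 3 .nil (.node 6530165 4 (.node 9117338 1 .nil (.node 1492933 6 .nil (.node 4583989 7 .nil .nil))) (.node 4434717 6 (.node 9604286 1 .nil (.node 5565965 6 .nil .nil)) .nil))) dodTree_53))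

/-- Part of `dodTree`. -/
def dodTree_55 : OTree := .node 1960075 3 (.node 3920150 0 .nil (.node 12903884 1 (.node 9030553 0 .nil (.node 8635130 2 .nil .nil)) (.node 5154361 2 .nil (.node 5215371 5 .nil .nil)))) (.node 1389803 4 .nil (.node 5246459 5 (.node 2104311 0 .nil (.node 4629987 4 .nil (.node 4895563 6 .nil (.node 2743323 7 (.node 5486646 0 .nil .nil) .nil)))) (.node 620427 6 (.node 4666281 2 .nil (.node 3885135 3 .nil (.node 2453067 4 .nil .nil))) (.node 6364843 7 (.node 14792230 1 (.node 11128942 4 .nil .nil) (.node 1528207 3 .nil (.node 6673507 4 (.node 1767507 5 .nil .nil) (.node 7653467 5 .nil .nil)))) .nil))))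

/-- Part of `dodTree`. -/
def dodTree_56 : OTree := .node 1095635 3 (.node 2191270 0 .nil (.node 16458152 1 .nil (.node 366503 2 .nil (.node 5884439 3 (.node 12979566 1 .nil .nil) (.node 3088843 4 .nil (.node 6827971 5 .nil (.node 900419 6 .nil (.node 6593939 7 (.node 15953934 1 .nil (.node 1950133 2 .nil .nil)) .nil)))))))) (.node 5800935 4 (.node 14166890 1 .nil (.node 2927015 4 .nil (.node 7954823 5 .nil (.node 3029575 6 .nil (.node 3525895 7 .nil .nil))))) (.node 1990887 5 (.node 4420775 5 .nil .nil) (.node 4608871 6 (.node 16534066 1 .nil (.node 2578771 2 .nil (.node 3307815 5 .nil (.node 2343399 7 (.node 3647587 2 .nil .nil) .nil)))) (.node 1038375 7 (.node 2076750 0 .nil (.node 14962268 1 (.node 13147321 0 .nil (.node 13899004 3 .nil .nil)) (.node 7252305 2 .nil (.node 7815223 6 .nil .nil)))) .nil))))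

/-- Part of `dodTree`. -/
def dodTree_57 : OTree := .node 13437726 1 (.node 10098237 0 (.node 10718065 1 .nil (.node 15836429 3 .nil (.node 11766981 4 .nil (.node 10570477 5 .nil (.node 9460157 7 .nil .nil))))) (.node 13463644 2 (.node 8605500 4 .nil (.node 11634300 6 .nil .nil)) (.node 15340718 3 (.node 11888010 3 .nil (.node 11223950 6 .nil .nil)) (.node 11899662 5 (.node 10759118 7 .nil .nil) (.node 12132702 7 (.node 13968974 2 .nil .nil) .nil))))) (.node 3067075 2 (.node 6195379 2 (.node 6116003 5 .nil .nil) (.node 5189747 5 .nil (.node 7094771 6 .nil (.node 2004579 7 .nil .nil)))) dodTree_56)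

/-- Part of `dodTree`. -/
def dodTree_58 : OTree := .node 13932858 1 (.node 11088501 0 (.node 15741767 2 .nil .nil) (.node 11388188 2 (.node 11837884 6 .nil .nil) (.node 13210538 3 .nil (.node 10247050 5 (.node 15145354 5 .nil (.node 12193226 7 .nil .nil)) (.node 13087258 6 (.node 12099114 5 .nil .nil) (.node 11356378 7 .nil .nil)))))) (.node 1563721 2 (.node 3127442 0 (.node 6781474 3 .nil .nil) (.node 699803 2 .nil (.node 5851089 4 .nil (.node 964841 5 .nil .nil)))) (.node 3684007 4 (.node 14760928 1 (.node 9394580 3 .nil .nil) (.node 7608289 2 .nil (.node 2825607 6 (.node 6105569 2 .nil .nil) (.node 5267335 7 .nil .nil)))) (.node 3801535 5 (.node 7670893 2 .nil (.node 7136523 3 .nil (.node 1490055 4 .nil .nil))) (.node 2558767 7 (.node 5117534 0 .nil (.node 13688372 1 .nil (.node 7402519 4 .nil .nil))) .nil))))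

/-- Part of `dodTree`. -/
def dodTree_59 : OTree := .node 1426031 5 (.node 13422376 1 (.node 12063724 3 .nil (.node 15249008 4 .nil (.node 12538184 5 .nil (.node 15084344 6 (.node 13391473 0 .nil .nil) .nil)))) (.node 2536539 2 (.node 5581371 3 .nil .nil) (.node 2672535 4 (.node 5738725 2 .nil (.node 8144455 3 .nil .nil)) (.node 2814095 5 (.node 5628190 0 .nil (.node 14989528 1 (.node 13571384 4 .nil .nil) (.node 5671785 2 .nil .nil))) (.node 452943 7 (.node 905886 0 .nil (.node 1018459 2 .nil .nil)) .nil))))) (.node 7521039 6 dodTree_58 (.node 1667135 7 (.node 6694733 2 (.node 1137371 2 .nil (.node 1846461 3 .nil (.node 3159421 4 .nil (.node 6394733 7 .nil .nil)))) (.node 6524235 3 (.node 14259230 1 .nil (.node 5797219 4 .nil .nil)) (.node 249487 4 (.node 12954684 1 .nil .nil) (.node 3380271 6 (.node 1692871 4 .nil .nil) (.node 5400735 7 (.node 13019542 1 .nil .nil) .nil))))) .nil))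

/-- Part of `dodTree`. -/
def dodTree_60 : OTree := .node 6581015 0 (.node 4773423 0 .nil (.node 14047398 1 (.node 11317581 0 .nil .nil) (.node 2052693 2 (.node 2341541 5 .nil .nil) (.node 4988135 3 .nil (.node 4239031 6 .nil (.node 7013207 7 .nil .nil)))))) (.node 15839634 1 (.node 9824036 2 .nil (.node 13617794 3 (.node 10458373 0 .nil .nil) (.node 9400490 4 (.node 10709354 3 .nil .nil) (.node 10335874 6 .nil (.node 15019666 7 (.node 13262117 0 .nil (.node 15093882 4 .nil .nil)) .nil))))) (.node 1396649 2 (.node 2793298 0 .nil (.node 6612689 4 .nil (.node 6738377 5 .nil (.node 2784585 7 .nil .nil)))) dodTree_55))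

/-- Part of `dodTree`. -/
def dodTree_61 : OTree := .node 8854701 0 (.node 9320794 0 (.node 8044757 1 .nil .nil) (.node 10612245 1 (.node 15356493 4 .nil (.node 11437653 5 .nil (.node 13929893 6 .nil (.node 13513493 7 .nil .nil)))) (.node 9663785 3 .nil (.node 14009429 4 .nil (.node 14369053 6 (.node 9866579 1 .nil .nil) .nil))))) (.node 9238726 2 (.node 13534066 2 (.node 10290917 0 .nil .nil) (.node 10575474 3 (.node 14094678 3 .nil .nil) (.node 13581318 5 (.node 9804902 5 .nil .nil) (.node 15533174 6 (.node 14289133 0 .nil (.node 4939331 1 .nil .nil)) (.node 14582982 7 (.node 12388749 0 .nil .nil) .nil))))) dodTree_52)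

/-- Part of `dodTree`. -/
def dodTree_62 : OTree := .node 7104717 2 (.node 5820827 0 (.node 3253047 0 .nil (.node 16163146 1 (.node 9817626 2 .nil (.node 9218746 3 .nil (.node 9975226 4 .nil (.node 15043178 7 .nil .nil)))) (.node 4703533 2 (.node 1631861 4 .nil .nil) (.node 6931147 3 .nil (.node 994979 4 .nil (.node 2994731 6 .nil .nil)))))) dodTree_54) (.node 7484811 3 dodTree_60 (.node 5426279 4 (.node 2463951 0 (.node 15268876 1 (.node 15009708 6 .nil .nil) (.node 1876347 2 .nil (.node 480827 3 (.node 3393107 4 .nil .nil) (.node 5068055 4 .nil .nil)))) dodTree_57) dodTree_59))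

/-- Part of `dodTree`. -/
def dodTree_63 : OTree := .node 1107375 6 (.node 2214750 0 (.node 6200364 1 .nil (.node 6977286 4 .nil (.node 3056414 5 .nil .nil))) (.node 14003080 1 (.node 11228945 0 .nil (.node 9041464 2 .nil (.node 15492280 4 .nil (.node 16553352 5 .nil (.node 14433816 6 (.node 13129628 2 .nil .nil) (.node 15543624 7 .nil .nil)))))) (.node 2590441 2 (.node 3986769 4 .nil (.node 1984985 6 .nil .nil)) (.node 1625931 3 (.node 4102411 7 .nil .nil) (.node 6708239 7 (.node 15063062 1 (.node 9380566 7 .nil .nil) (.node 5314167 4 .nil (.node 725743 7 .nil .nil))) .nil))))) (.node 6435391 7 (.node 4482175 0 .nil (.node 14850738 1 (.node 12924261 0 (.node 8511869 4 .nil (.node 9502021 5 .nil .nil)) (.node 12376356 2 .nil (.node 12940166 3 .nil (.node 9258930 7 .nil .nil)))) (.node 3431245 2 (.node 6862490 0 .nil (.node 6371221 4 .nil (.node 2505117 5 .nil .nil))) (.node 3165759 5 (.node 4068557 2 .nil (.node 6461127 4 .nil .nil)) .nil)))) .nil)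

/-- Part of `dodTree`. -/
def dodTree_64 : OTree := .node 1209935 4 (.node 2419870 0 (.node 4716684 1 .nil (.node 5529194 3 .nil .nil)) (.node 401355 2 (.node 802710 0 .nil (.node 7677267 4 .nil (.node 6568299 5 .nil (.node 2659819 7 .nil .nil)))) (.node 3213263 4 (.node 6426526 0 .nil (.node 14269728 1 .nil .nil)) (.node 2239727 5 (.node 13220500 1 .nil (.node 1342747 3 .nil .nil)) (.node 89455 6 (.node 178910 0 .nil (.node 16616964 1 (.node 16456713 0 .nil .nil) (.node 4319047 4 .nil .nil))) (.node 4364719 7 (.node 6136871 4 (.node 12668874 1 .nil .nil) .nil) .nil)))))) (.node 165759 5 (.node 331518 0 (.node 663036 0 .nil (.node 6735190 4 .nil (.node 6615630 5 .nil .nil))) (.node 14387768 1 (.node 11998321 0 (.node 11546007 2 .nil .nil) (.node 10316088 7 .nil .nil)) (.node 3843399 4 (.node 5607107 2 .nil (.node 3976723 3 (.node 6067861 2 .nil .nil) (.node 7641639 7 (.node 14703406 1 .nil .nil) .nil))) (.node 2412863 7 (.node 5048171 3 .nil (.node 767511 4 .nil (.node 2507487 7 .nil .nil))) .nil)))) dodTree_63)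

/-- Part of `dodTree`. -/
def dodTree_65 : OTree := .node 3036570 0 (.node 8216682 3 .nil (.node 1523282 4 .nil (.node 2744762 6 .nil (.node 3282682 7 .nil .nil)))) (.node 540283 2 (.node 1080566 0 .nil .nil) (.node 195645 3 (.node 10979996 1 (.node 13006380 3 .nil .nil) .nil) (.node 7619997 4 (.node 6079721 3 .nil (.node 5379037 5 .nil (.node 2301533 7 .nil .nil))) (.node 6599853 5 (.node 4811099 0 .nil (.node 3195897 2 .nil .nil)) (.node 5790813 6 (.node 4394981 4 .nil (.node 1808541 7 (.node 6245509 4 .nil .nil) .nil)) (.node 4762989 7 (.node 10062542 1 (.node 10671646 3 .nil (.node 10267918 7 .nil .nil)) (.node 8245261 7 .nil .nil)) .nil))))))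

/-- Part of `dodTree`. -/
def dodTree_66 : OTree := .node 11483425 0 (.node 14578242 0 (.node 10594550 3 .nil .nil) (.node 11556565 1 .nil (.node 16329489 2 (.node 14251525 2 .nil .nil) (.node 13760537 4 (.node 10913167 1 .nil (.node 9103117 2 .nil .nil)) (.node 8772913 5 (.node 13361745 4 .nil .nil) (.node 16278241 7 (.node 10799573 3 .nil .nil) .nil)))))) (.node 8973748 2 (.node 9558888 0 .nil (.node 15434468 2 .nil (.node 16277312 3 .nil (.node 15639844 6 (.node 14502473 0 .nil .nil) (.node 16667668 7 (.node 16558121 0 .nil .nil) .nil))))) (.node 14537488 6 (.node 3556715 1 .nil (.node 12003792 7 .nil .nil)) .nil))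

/-- Part of `dodTree`. -/
def dodTree_67 : OTree := .node 1518285 2 dodTree_65 (.node 6171723 3 (.node 3954839 0 (.node 6918327 6 .nil (.node 1707735 7 .nil .nil)) (.node 13222358 1 (.node 9667501 0 (.node 10946394 0 .nil .nil) (.node 15353554 3 .nil (.node 9333542 4 (.node 11025766 3 .nil .nil) .nil))) (.node 3193019 3 (.node 6386038 0 .nil (.node 14857100 1 .nil (.node 3966765 2 .nil .nil))) (.node 6313819 6 (.node 16748578 1 (.node 16719941 0 .nil .nil) (.node 109547 6 .nil .nil)) (.node 5871723 7 (.node 15238990 1 (.node 13700765 0 .nil .nil) (.node 4836771 4 .nil .nil)) .nil))))) dodTree_64)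

/-- Part of `dodTree`. -/
def dodTree_68 : OTree := .node 14469276 5 (.node 12161337 0 (.node 11823769 7 .nil .nil) (.node 13288572 2 .nil (.node 14735080 3 .nil (.node 13504180 4 .nil (.node 15503932 6 .nil (.node 10423388 7 (.node 13118686 2 .nil .nil) .nil)))))) (.node 14619276 6 (.node 12461337 0 (.node 9583833 4 .nil (.node 15735417 7 .nil .nil)) (.node 12615032 2 .nil (.node 10740908 3 .nil (.node 11881652 4 .nil (.node 12147228 6 .nil (.node 9514476 7 (.node 11085546 2 .nil .nil) .nil)))))) (.node 9268876 7 (.node 10149144 0 .nil (.node 13251320 2 .nil (.node 11689068 3 (.node 2988821 1 .nil .nil) (.node 15176780 5 .nil (.node 16256316 6 .nil (.node 14300492 7 .nil .nil)))))) .nil))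

/-- Part of `dodTree`. -/
def dodTree_69 : OTree := .node 2977169 4 (.node 5954338 0 .nil (.node 5972661 2 (.node 6483333 3 .nil .nil) (.node 8280161 3 (.node 6509297 6 .nil .nil) (.node 7906737 6 (.node 7424867 0 .nil (.node 7691793 7 .nil .nil)) (.node 8009297 7 (.node 7710869 3 .nil .nil) .nil))))) (.node 6928777 5 (.node 5468947 0 .nil (.node 11580622 1 .nil (.node 5890857 2 .nil (.node 3103369 3 .nil (.node 5078057 4 .nil (.node 6130969 5 (.node 9684302 1 .nil .nil) (.node 8201865 6 .nil .nil))))))) (.node 4012121 6 (.node 11195844 1 .nil (.node 6789177 3 .nil (.node 5810905 7 (.node 9085422 1 .nil .nil) .nil))) (.node 3452361 7 (.node 6904722 0 .nil (.node 1890873 3 (.node 7048849 4 .nil .nil) (.node 7118409 7 .nil .nil))) .nil)))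

/-- Part of `dodTree`. -/
def dodTree_70 : OTree := .node 13757574 1 (.node 10737933 0 (.node 11836445 1 .nil (.node 9341245 5 .nil (.node 11412141 7 .nil .nil))) (.node 9625282 3 .nil (.node 13386478 4 (.node 10503678 3 .nil (.node 11143806 6 .nil .nil)) (.node 14423846 6 (.node 12070477 0 .nil .nil) .nil)))) (.node 877305 2 (.node 1754610 0 .nil (.node 6441341 3 .nil (.node 2543385 4 .nil (.node 6551049 5 (.node 10851514 1 .nil .nil) (.node 3837049 6 .nil (.node 5432665 7 .nil .nil)))))) (.node 1727659 3 (.node 3455318 0 .nil (.node 7212457 2 .nil (.node 3273035 3 .nil (.node 7033131 6 .nil .nil)))) .nil))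

/-- Part of `dodTree`. -/
def dodTree_71 : OTree := .node 15792226 1 (.node 14807237 0 (.node 11287691 1 .nil .nil) (.node 12502786 2 .nil (.node 8756178 3 .nil (.node 10382482 5 (.node 14027482 4 .nil .nil) (.node 13047522 6 .nil .nil))))) (.node 5591417 2 (.node 2794227 0 .nil (.node 255921 4 (.node 6997857 5 .nil .nil) (.node 1244041 5 .nil (.node 2353369 7 (.node 9352348 1 .nil .nil) .nil)))) (.node 2966703 3 (.node 7741689 2 .nil (.node 319063 4 .nil .nil)) (.node 2440247 4 (.node 14900868 1 .nil (.node 5709091 3 .nil (.node 4747991 7 .nil .nil))) (.node 2697887 6 (.node 12762340 1 .nil .nil) .nil))))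

/-- Part of `dodTree`. -/
def dodTree_72 : OTree := .node 2887007 5 (.node 5774014 0 (.node 6466406 1 .nil (.node 7099756 2 (.node 3396300 7 .nil .nil) .nil)) (.node 14407748 1 (.node 12038281 0 .nil (.node 13299010 2 .nil (.node 10729168 3 .nil (.node 16077412 6 .nil .nil)))) (.node 6095071 2 (.node 6472891 3 .nil (.node 413111 4 .nil .nil)) (.node 8131643 3 (.node 14930754 1 .nil (.node 7700907 3 .nil .nil)) (.node 4341079 4 (.node 16451734 1 (.node 16126253 0 .nil .nil) (.node 871367 2 .nil (.node 5848211 3 .nil .nil))) (.node 3707487 7 .nil .nil)))))) (.node 4533647 6 (.node 678687 0 (.node 7548423 4 .nil (.node 6416431 6 .nil .nil)) dodTree_70) (.node 7082895 7 dodTree_71 .nil))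

/-- Part of `dodTree`. -/
def dodTree_73 : OTree := .node 1908239 3 (.node 3816478 0 (.node 6527444 1 .nil (.node 6033356 2 .nil .nil)) (.node 14798180 1 (.node 12819145 0 .nil (.node 10360784 3 .nil (.node 14033892 6 .nil .nil))) (.node 6376663 4 (.node 5657811 3 .nil (.node 5677655 5 .nil .nil)) (.node 7411999 6 .nil (.node 1587663 7 (.node 3175326 0 .nil (.node 16296388 1 .nil .nil)) .nil))))) (.node 6894671 4 (.node 15310018 1 (.node 13842821 0 (.node 10908427 0 .nil (.node 9006945 2 .nil .nil)) (.node 14475682 2 .nil (.node 13457762 4 .nil .nil))) (.node 5530571 2 .nil (.node 3607707 3 (.node 7215414 0 .nil (.node 5697579 3 .nil .nil)) (.node 5354127 7 (.node 14724522 1 (.node 12671829 0 .nil (.node 14435674 5 .nil .nil)) .nil) .nil)))) dodTree_72)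

/-- Part of `dodTree`. -/
def dodTree_74 : OTree := .node 14889305 0 (.node 13001395 0 (.node 9225575 0 .nil (.node 9096755 6 .nil .nil)) (.node 12227731 1 (.node 10426563 4 .nil (.node 11391363 6 .nil .nil)) (.node 9530127 2 (.node 9083983 3 .nil (.node 13646895 6 .nil (.node 15345935 7 .nil .nil))) (.node 9482041 5 (.node 14195469 3 .nil (.node 11290569 5 .nil .nil)) (.node 9561801 6 (.node 8566443 2 .nil (.node 9620061 3 .nil .nil)) (.node 14787257 7 (.node 12995469 3 .nil .nil) .nil)))))) (.node 12117352 2 (.node 12356440 3 .nil (.node 8961992 4 .nil (.node 9135576 5 .nil (.node 10892776 6 .nil .nil)))) (.node 8902536 3 (.node 3531833 1 .nil (.node 8632760 2 .nil (.node 15374696 5 .nil .nil))) (.node 13489316 4 (.node 10201417 0 (.node 9995741 1 .nil (.node 13217291 2 .nil .nil)) .nil) dodTree_68)))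

/-- Part of `dodTree`. -/
def dodTree_75 : OTree := .node 14445668 4 (.node 12114121 0 (.node 10867289 3 .nil .nil) (.node 11574768 3 .nil (.node 12618748 4 .nil .nil))) (.node 14516588 5 (.node 12255961 0 (.node 15130653 3 .nil .nil) (.node 14804058 2 .nil (.node 11175864 3 .nil (.node 11940444 6 (.node 9445214 2 .nil .nil) .nil)))) (.node 16540428 6 (.node 16303641 0 .nil (.node 1366499 1 .nil (.node 13850200 2 .nil (.node 11308268 3 .nil (.node 10501820 4 .nil (.node 11736476 5 .nil (.node 15928140 7 (.node 15079065 0 .nil .nil) .nil))))))) (.node 12399660 7 (.node 16410712 0 .nil (.node 2219969 1 (.node 7172929 4 .nil .nil) (.node 12029224 3 .nil (.node 8510684 4 .nil (.node 13662924 7 .nil .nil))))) .nil)))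

/-- Part of `dodTree`. -/
def dodTree_76 : OTree := .node 843149 2 (.node 1686298 0 .nil (.node 3757673 3 .nil (.node 5058133 4 .nil (.node 7151933 6 .nil .nil)))) (.node 8062179 4 (.node 7735751 0 .nil (.node 13186898 1 .nil (.node 7629987 2 .nil (.node 3596691 3 .nil (.node 5366003 5 .nil (.node 3822531 6 .nil (.node 1179171 7 .nil .nil))))))) (.node 3934955 5 (.node 6953179 6 .nil .nil) (.node 4578059 6 (.node 16041006 1 .nil (.node 1044761 2 .nil (.node 6907443 4 .nil .nil))) (.node 858555 7 (.node 1717110 0 .nil (.node 4713491 4 .nil (.node 8101915 6 (.node 12752346 1 .nil .nil) .nil))) .nil))))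

/-- Part of `dodTree`. -/
def dodTree_77 : OTree := .node 5543247 6 (.node 16369930 1 (.node 15962645 0 (.node 10624315 1 .nil .nil) (.node 11440842 3 .nil (.node 13139618 4 .nil (.node 10453402 5 .nil (.node 16003754 6 (.node 15230293 0 .nil .nil) (.node 12528138 7 .nil .nil)))))) (.node 378331 2 (.node 756662 0 .nil .nil) (.node 1672891 3 (.node 3345782 0 .nil .nil) (.node 599543 4 (.node 6628071 2 .nil (.node 8015123 3 .nil .nil)) .nil)))) (.node 5027871 7 (.node 14862542 1 (.node 12947869 0 (.node 10330653 6 .nil .nil) (.node 10405994 2 (.node 10531706 3 .nil .nil) (.node 8681178 3 .nil (.node 14557246 5 .nil (.node 9405998 7 (.node 11675438 3 .nil (.node 9728366 7 .nil .nil)) .nil))))) (.node 5030749 2 (.node 2764597 4 (.node 7885621 7 .nil .nil) .nil) .nil)) .nil)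

/-- Part of `dodTree`. -/
def dodTree_78 : OTree := .node 5414427 3 (.node 14909758 1 (.node 13042301 0 (.node 9307387 0 .nil .nil) (.node 13510538 3 .nil (.node 10011454 5 (.node 11946270 7 .nil .nil) (.node 9888398 6 .nil (.node 10838590 7 .nil .nil))))) dodTree_76) (.node 4867535 4 (.node 1346463 0 (.node 13822252 1 .nil (.node 7218327 4 .nil .nil)) (.node 14526546 1 (.node 12275877 0 .nil (.node 13428246 2 .nil (.node 13257146 4 .nil .nil))) (.node 4671723 2 (.node 954839 0 .nil (.node 160251 3 .nil (.node 5556019 4 .nil .nil))) (.node 3695835 3 (.node 7391670 0 .nil .nil) (.node 1322855 4 (.node 2954963 2 .nil (.node 6871367 7 .nil .nil)) (.node 5448047 5 .nil .nil)))))) dodTree_77)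

/-- Part of `dodTree`. -/
def dodTree_79 : OTree := .node 9902873 0 (.node 11417138 0 .nil (.node 11715893 1 .nil (.node 8994077 2 (.node 13181901 2 .nil .nil) (.node 13348909 3 (.node 9920603 0 .nil (.node 10522331 1 .nil (.node 14740297 2 .nil (.node 10079277 4 .nil .nil)))) (.node 10787753 5 .nil .nil))))) (.node 13232360 2 (.node 9687505 0 .nil (.node 15393322 2 (.node 10899114 6 .nil .nil) (.node 10640344 3 .nil (.node 14672904 5 .nil (.node 16647784 6 (.node 15752346 2 .nil .nil) .nil))))) (.node 12220040 3 (.node 16051472 0 .nil (.node 2470385 1 .nil (.node 13770664 2 .nil (.node 11921484 3 .nil (.node 11869896 4 .nil (.node 14879992 5 .nil (.node 11099560 6 .nil .nil))))))) dodTree_75))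

/-- Part of `dodTree`. -/
def dodTree_80 : OTree := .node 5777183 5 (.node 13863394 1 (.node 10949573 0 (.node 9517427 2 .nil (.node 10053845 6 .nil .nil)) (.node 11398178 2 .nil (.node 9106322 3 .nil .nil))) (.node 4544205 2 (.node 1641341 6 .nil (.node 243149 7 .nil .nil)) (.node 7900303 3 (.node 12695886 1 .nil (.node 3462795 3 .nil .nil)) .nil))) (.node 6653471 7 (.node 12835882 1 (.node 8894549 0 (.node 11160733 1 .nil .nil) (.node 11463048 2 .nil (.node 14272098 4 .nil (.node 14107434 6 .nil .nil)))) (.node 1372381 2 (.node 4312697 3 .nil (.node 4865677 5 .nil .nil)) (.node 5637807 3 (.node 12708658 1 (.node 8640101 0 .nil .nil) .nil) (.node 2774135 4 (.node 1284935 4 .nil (.node 1233591 7 .nil .nil)) .nil)))) .nil)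

/-- Part of `dodTree`. -/
def dodTree_81 : OTree := .node 1613111 0 (.node 3226222 0 .nil (.node 7177669 2 .nil (.node 7968515 3 .nil (.node 4958407 4 .nil (.node 6795527 6 .nil .nil))))) (.node 13099110 1 (.node 9421005 0 (.node 12757115 2 .nil .nil) (.node 10938962 2 .nil (.node 8531954 3 .nil .nil))) (.node 5132477 2 (.node 6383081 3 .nil (.node 1543733 4 .nil (.node 5462573 5 .nil .nil))) (.node 7360751 3 (.node 15514370 1 .nil .nil) (.node 6688371 4 (.node 5517751 3 .nil (.node 643955 7 .nil .nil)) (.node 7803467 5 (.node 3233203 4 .nil .nil) (.node 6851387 6 (.node 6994979 4 (.node 14750430 1 .nil .nil) (.node 4014875 5 .nil (.node 6728331 6 .nil .nil))) (.node 1774939 7 (.node 1273283 4 .nil .nil) .nil)))))))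

/-- Part of `dodTree`. -/
def dodTree_82 : OTree := .node 11890965 0 (.node 11951489 1 .nil (.node 9643861 2 (.node 10528741 5 .nil .nil) (.node 13601889 3 (.node 8996447 1 .nil (.node 15263891 2 .nil .nil)) (.node 8614557 4 .nil (.node 8560533 5 .nil (.node 9548981 6 (.node 13160133 5 .nil .nil) (.node 14822101 7 (.node 12866987 0 .nil (.node 9058487 1 .nil (.node 9984615 2 .nil (.node 16000565 5 .nil .nil)))) .nil))))))) (.node 10615434 3 (.node 8870478 3 (.node 8598654 3 .nil .nil) .nil) (.node 14486698 4 (.node 12196181 0 .nil (.node 11719082 3 .nil (.node 12897522 4 .nil (.node 14012618 5 (.node 8891594 7 .nil .nil) (.node 16388890 6 .nil (.node 10058826 7 .nil .nil)))))) (.node 15554058 6 (.node 14330901 0 .nil (.node 14053784 2 .nil (.node 11769946 5 .nil (.node 11602874 6 .nil (.node 9647050 7 .nil .nil))))) .nil)))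

/-- Part of `dodTree`. -/
def dodTree_83 : OTree := .node 4277183 0 (.node 14069282 1 (.node 11361349 0 (.node 14295507 2 .nil (.node 15794677 6 .nil .nil)) (.node 16285946 4 .nil (.node 12342498 5 .nil (.node 13000466 6 (.node 9223717 0 .nil .nil) .nil)))) (.node 2584685 2 (.node 5169370 0 .nil (.node 4383469 7 .nil .nil)) (.node 2549287 4 (.node 5098574 0 .nil (.node 3578577 2 .nil .nil)) (.node 1747503 6 (.node 3495006 0 .nil .nil) .nil)))) (.node 14334090 1 dodTree_82 (.node 5000859 3 dodTree_81 (.node 931119 4 (.node 1862238 0 (.node 3724476 0 .nil (.node 5163492 1 .nil .nil)) (.node 6622169 2 (.node 4855731 0 .nil (.node 6714673 4 .nil (.node 7648025 5 .nil .nil))) (.node 3747115 3 (.node 7494230 0 .nil (.node 13735876 1 .nil .nil)) .nil))) dodTree_80)))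

/-- Part of `dodTree`. -/
def dodTree_84 : OTree := .node 2316478 0 (.node 6733332 1 (.node 8065148 4 .nil (.node 3939956 5 .nil (.node 4575124 6 .nil (.node 5051380 7 .nil .nil)))) (.node 4073836 2 (.node 7933530 2 .nil (.node 2932024 3 .nil (.node 5291420 4 .nil .nil))) (.node 4683082 3 (.node 977557 0 .nil (.node 1140602 4 .nil .nil)) (.node 5756422 4 (.node 3124237 0 .nil (.node 458192 2 .nil .nil)) (.node 6013102 6 (.node 6745192 2 .nil (.node 2287562 3 .nil .nil)) .nil))))) (.node 13340044 1 dodTree_79 (.node 829135 2 (.node 1658270 0 (.node 3316540 0 .nil (.node 5745988 1 .nil (.node 5186796 2 .nil (.node 8049738 3 .nil (.node 4615878 4 .nil (.node 4686798 5 .nil .nil)))))) (.node 4494075 2 (.node 3114291 4 .nil (.node 7895563 5 .nil .nil)) .nil)) dodTree_78))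

/-- Part of `dodTree`. -/
def dodTree_85 : OTree := .node 4292126 0 (.node 6786214 1 (.node 5183821 0 .nil (.node 1472418 3 (.node 1698150 3 .nil .nil) (.node 6082678 4 .nil (.node 882278 7 .nil .nil)))) (.node 5446862 3 (.node 1307802 3 .nil (.node 5854030 6 .nil (.node 638126 7 .nil .nil))) (.node 5345070 6 (.node 3011784 2 .nil .nil) (.node 4927902 7 (.node 7515346 1 (.node 6642085 0 .nil .nil) (.node 4549484 2 .nil (.node 7040138 3 .nil (.node 7414974 7 .nil .nil)))) .nil)))) (.node 15833260 1 dodTree_74 (.node 1938377 2 (.node 3876754 0 (.node 5586596 2 .nil (.node 6391794 5 .nil (.node 3734914 6 .nil (.node 7356210 7 .nil .nil)))) (.node 2867773 3 (.node 5735546 0 (.node 3082485 0 .nil .nil) (.node 8822392 1 .nil (.node 7518285 2 .nil (.node 3857925 4 (.node 7936709 4 .nil .nil) (.node 3590317 6 .nil .nil))))) dodTree_69)) dodTree_73))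

/-- Part of `dodTree`. -/
def dodTree_86 : OTree := .node 1448063 0 (.node 15387412 1 (.node 13997609 0 (.node 11218003 0 .nil (.node 10602283 1 .nil (.node 10548633 2 .nil .nil))) (.node 15480516 3 (.node 14183817 0 .nil (.node 2717923 1 .nil (.node 15809620 5 .nil .nil))) (.node 12518196 5 .nil .nil))) (.node 4306235 3 (.node 223863 0 .nil (.node 15959690 1 (.node 15142165 0 .nil .nil) (.node 2483085 2 .nil (.node 5966731 3 .nil (.node 779371 4 .nil (.node 1550091 6 .nil (.node 6647963 7 .nil .nil))))))) dodTree_50)) (.node 12815958 1 dodTree_61 dodTree_62)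

/-- Part of `dodTree`. -/
def dodTree_87 : OTree := .node 2319647 4 (.node 4639294 0 (.node 889981 0 (.node 11259464 1 .nil (.node 773461 4 (.node 5925701 4 .nil (.node 1024869 5 .nil (.node 4108341 7 .nil .nil))) (.node 653901 5 .nil (.node 3637597 6 .nil .nil)))) (.node 8029750 4 (.node 7658692 2 .nil (.node 3840230 4 .nil (.node 3752694 5 .nil (.node 1399606 7 .nil .nil)))) .nil)) (.node 14130320 1 dodTree_66 dodTree_67)) (.node 2146063 5 dodTree_85 (.node 1158239 6 dodTree_84 (.node 6332895 7 dodTree_83 .nil)))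

/-- The spanning tree `dodTree`. -/
def dodTree : OTree := .node 681662 0 (.node 1363324 0 (.node 2726648 0 (.node 5453296 0 (.node 2517985 0 .nil (.node 1565160 4 .nil (.node 5304288 5 .nil (.node 6421680 7 .nil .nil)))) dodTree_0) dodTree_5) dodTree_22) (.node 16436384 1 (.node 16095553 0 (.node 15413891 0 dodTree_33 dodTree_34) dodTree_49) (.node 4918335 3 dodTree_86 dodTree_87))

end Cfsg.Lib.Golay
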