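import Cfsg.Agent.Golay.M24
import Cfsg.Agent.Golay.SubgroupData
import Cfsg.Agent.Golay.DodecadOrbitData
import Cfsg.Agent.PermCert.Chain
import Cfsg.Agent.PermCert.Orbit
import Cfsg.Prelude.Def_Spor_Mathieu

/-!
Point and dodecad stabilisers in the group of the code: orders, simplicity, transitivity.
-/

namespace Cfsg.Lib.Golay

open Cfsg Cfsg.Lib.PermCert MulAction
open scoped Pointwise

/-- A group of tables, moved to the 24 points. -/
def onPts (c : List Level) : Subgroup (Equiv.Perm GolayPt) := (grp 24 c).map permHom.toMonoidHom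

theorem card_onPts {c : List Level} (h : check 24 c = true) : Nat.card (onPts c) = size c := by
  rw [← card_grp h]
  exact Nat.card_congr (permHom.subgroupMap (grp 24 c)).toEquiv.symm

theorem onPts_le_M24 {c : List Level} (h : (topGens c).all preserves = true) : onPts c ≤ M24 := by
  rw [onPts, Subgroup.map_le_iff_le_comap, grp, Subgroup.closure_le]
  rintro g ⟨s, hs, rfl⟩
  exact toP_mem_M24 (List.all_eq_true.mp h s hs)

theorem isSimple_onPts {c : List Level} (h : IsSimpleGroup (grp 24 c)) : IsSimpleGroup (onPts c) :=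
  have : Nontrivial (onPts c) := (permHom.subgroupMap (grp 24 c)).symm.toEquiv.nontrivial
  IsSimpleGroup.isSimpleGroup_of_surjective (permHom.subgroupMap (grp 24 c)).toMonoidHom
    (permHom.subgroupMap (grp 24 c)).surjective

/-- The tail is the point stabiliser. -/
theorem onPts_inf_stabilizer {L : Level} {r : List Level} (h : check 24 (L :: r) = true) :
    onPts (L :: r) ⊓ stabilizer (Equiv.Perm GolayPt) (ptAt L.b) = onPts r := by
  have hb := (check_cons h).1.b_lt
  have key : ∀ g : Equiv.Perm (Fin 24), permHom g (ptAt L.b) = ptAt L.b ↔ g ⟨L.b, hb⟩ = ⟨L.b, hb⟩ := by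
    intro g
    show ptEquiv.symm (g (ptEquiv (ptAt L.b))) = ptAt L.b ↔ _
    rw [show ptEquiv (ptAt L.b) = (⟨L.b, hb⟩ : Fin 24) from ptEquiv.apply_symm_apply ⟨L.b, hb⟩,
      show ptAt L.b = ptEquiv.symm ⟨L.b, hb⟩ from rfl, EmbeddingLike.apply_eq_iff_eq]
  ext g
  constructor
  · rintro ⟨⟨g', hg', rfl⟩, hs⟩
    refine ⟨g', ?_, rfl⟩
    rw [SetLike.mem_coe, ← stab_eq_tail h]
    exact ⟨hg', mem_stabilizer_iff.mpr ((key g').mp (mem_stabilizer_iff.mp hs))⟩
  · rintro ⟨g', hg', rfl⟩
    exact ⟨⟨g', tail_le h hg', rfl⟩, mem_stabilizer_iff.mpr ((key g').mpr (Fin.ext (tail_fix h hg')))⟩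

theorem pointChain_check : check 24 m24PointChain = true := by decide +kernel

theorem pointChain_check1 : check 24 (m24PointChain.drop 1) = true := (check_cons pointChain_check).2
theorem pointChain_check2 : check 24 (m24PointChain.drop 2) = true := (check_cons pointChain_check1).2
theorem pointChain_check3 : check 24 (m24PointChain.drop 3) = true := (check_cons pointChain_check2).2

theorem onPts_pointChain : onPts m24PointChain = M24 := by
  refine Subgroup.eq_of_le_of_card_ge (onPts_le_M24 (by decide +kernel)) ?_
  rw [card_M24, card_onPts pointChain_check]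
  decide +kernel

theorem M23_eq : Spor.M23 = onPts (m24PointChain.drop 1) := by
  have h : onPts m24PointChain ⊓ stabilizer (Equiv.Perm GolayPt) (none : GolayPt) = onPts (m24PointChain.drop 1) :=
    onPts_inf_stabilizer (L := m24PointChainL0) pointChain_check
  rw [onPts_pointChain] at h
  exact h

theorem M22_eq : Spor.M22 = onPts (m24PointChain.drop 2) := by
  rw [Spor.M22, M23_eq]
  exact onPts_inf_stabilizer (L := m24PointChainL1) pointChain_check1

theorem card_M23 : Nat.card Spor.M23 = 10200960 := by
  rw [M23_eq, card_onPts pointChain_check1]; decide +kernel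

theorem card_M22 : Nat.card Spor.M22 = 443520 := by
  rw [M22_eq, card_onPts pointChain_check2]; decide +kernel

theorem grpM23_simple : IsSimpleGroup (grp 24 (m24PointChain.drop 1)) :=
  isSimpleGroup_of_chain (p := 23) (wit := wit23) (L := m24PointChainL1) (by norm_num) pointChain_check1
    (by decide +kernel) (by decide +kernel)

theorem isSimple_M23 : IsSimpleGroup Spor.M23 := by rw [M23_eq]; exact isSimple_onPts grpM23_simple

theorem isSimple_M22 : IsSimpleGroup Spor.M22 := by
  rw [M22_eq]
  exact isSimple_onPts (isSimpleGroup_of_chain (p := 11) (wit := wit22) (L := m24PointChainL2)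
    (by norm_num) pointChain_check2 (by decide +kernel) (by decide +kernel))

/-- The pointwise stabiliser of three points. -/
def M21 : Subgroup (Equiv.Perm GolayPt) := Spor.M22 ⊓ stabilizer (Equiv.Perm GolayPt) (ptAt 1)

theorem M21_eq : M21 = onPts (m24PointChain.drop 3) := by
  rw [M21, M22_eq]
  exact onPts_inf_stabilizer (L := m24PointChainL2) pointChain_check2

theorem card_M21 : Nat.card M21 = 20160 := by rw [M21_eq, card_onPts pointChain_check3]; decide +kernel

theorem isSimple_M21 : IsSimpleGroup M21 := by
  rw [M21_eq]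
  exact isSimple_onPts (isSimpleGroup_of_chain (p := 7) (wit := wit21) (L := m24PointChainL3)
    (by norm_num) pointChain_check3 (by decide +kernel) (by decide +kernel))

theorem isSimple_M24 : IsSimpleGroup M24 := by
  rw [← onPts_pointChain]
  exact isSimple_onPts (isSimpleGroup_of_chain_stab (p := 2) (q := 3) Nat.prime_two Nat.prime_three (by norm_num)
    (L := m24PointChainL0) pointChain_check (by decide +kernel) (by decide +kernel) grpM23_simple)

/-- The orbit of an object under a certified list of elements, read through masks. -/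
theorem mem_orbit_of_tree {c : List Level} (_hc : onPts c ≤ M24) (hv : (topGens c).all (valid 24) = true)
    {root x : ℕ} {t : OTree} {targets : List ℕ} (hroot : root < 2 ^ 24) (key : ℕ → ℕ)
    (h : otCovers img (topGens c) key root t targets = true)
    (hkey : ∀ v, (∃ g ∈ onPts c, mk (g • pts root) = v) → key v = key x → v = x) (hx : x ∈ targets) :
    ∃ g ∈ onPts c, mk (g • pts root) = x := by
  refine otCovers_sound h (P := fun v => ∃ g ∈ onPts c, mk (g • pts root) = v)
    ⟨1, one_mem _, by rw [one_smul, mk_pts hroot]⟩ ?_ hx hkey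
  rintro s hs v ⟨g, hg, rfl⟩
  refine ⟨toP s * g, mul_mem ⟨perm 24 s, perm_mem_grp hs, rfl⟩ hg, ?_⟩
  rw [mul_smul, mk_smul (List.all_eq_true.mp hv s hs)]

theorem squareDodecad_eq : Spor.squareDodecad = pts 340831 := by decide +kernel

theorem dodTree_covers : otCovers img (topGens m24PointChain) (· % 4096) 340831 dodTree dodMasks = true := by
  decide +kernel

/-- Transitivity on dodecads. -/
theorem exists_smul_squareDodecad {d : Finset GolayPt} (hd : d ∈ dodecads) :
    ∃ g : M24, g • Spor.squareDodecad = d := by
  have hmem := mk_mem_dodMasks.mpr hd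
  have hk : ∀ v, (∃ g ∈ onPts m24PointChain, mk (g • pts 340831) = v) → v % 4096 = mk d % 4096 → v = mk d := by
    rintro v ⟨g, hg, rfl⟩ hk
    have hroot : pts 340831 ∈ dodecads := by
      rw [mem_dodecads_iff, ← pc_eq_card]; exact ⟨by decide +kernel, by decide +kernel⟩
    have h1 := ((mem_dodecads_iff _).mp (smul_mem_dodecads (onPts_pointChain.le hg) hroot)).1
    have h2 := (mem_dodMasks.mp hmem).1
    simp only [inCode, beq_iff_eq] at h1 h2
    rw [← h1, ← h2, hk]
  obtain ⟨g, hg, hgx⟩ := mem_orbit_of_tree (c := m24PointChain) onPts_pointChain.le (by decide +kernel)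
    (by norm_num) _ dodTree_covers hk hmem
  refine ⟨⟨g, onPts_pointChain.le hg⟩, ?_⟩
  rw [squareDodecad_eq]
  exact mk_injective hgx

theorem squareDodecad_mem : Spor.squareDodecad ∈ dodecads := by
  rw [squareDodecad_eq, mem_dodecads_iff, ← pc_eq_card]
  exact ⟨by decide +kernel, by decide +kernel⟩

theorem M24_dodecads_transitive {d d' : Finset GolayPt} (hd : d ∈ dodecads) (hd' : d' ∈ dodecads) :
    ∃ g : M24, g • d = d' := by
  obtain ⟨g, hg⟩ := exists_smul_squareDodecad hd
  obtain ⟨h, hh⟩ := exists_smul_squareDodecad hd'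
  exact ⟨h * g⁻¹, by rw [← hg, mul_smul, inv_smul_smul, hh]⟩

/-- A stabiliser inside a subgroup, seen in the ambient group. -/
theorem map_stabilizer {A β : Type*} [Group A] [MulAction A β] (H : Subgroup A) (x : β) :
    (stabilizer H x).map H.subtype = H ⊓ stabilizer A x := by
  ext g
  constructor
  · rintro ⟨h, hh, rfl⟩; exact ⟨h.2, mem_stabilizer_iff.mpr (mem_stabilizer_iff.mp hh :)⟩
  · rintro ⟨h1, h2⟩; exact ⟨⟨g, h1⟩, mem_stabilizer_iff.mpr (mem_stabilizer_iff.mp h2 :), rfl⟩

theorem card_stabilizer_dodecad : Nat.card (stabilizer M24 Spor.squareDodecad) = 95040 := by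
  have horb : orbit M24 Spor.squareDodecad = dodecads := by
    ext d
    constructor
    · rintro ⟨g, rfl⟩; exact smul_mem_dodecads g.2 squareDodecad_mem
    · intro hd
      obtain ⟨g, hg⟩ := exists_smul_squareDodecad hd
      exact ⟨g, hg⟩
  have h := Subgroup.index_mul_card (stabilizer M24 Spor.squareDodecad)
  rw [index_stabilizer, horb, ncard_dodecads, card_M24] at h
  omega

theorem card_M12 : Nat.card Spor.M12 = 95040 := by
  rw [Spor.M12, ← map_stabilizer,
    ← Nat.card_congr (Subgroup.equivMapOfInjective _ M24.subtype M24.subtype_injective).toEquiv]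
  exact card_stabilizer_dodecad

theorem m12Chain_check : check 24 m12Chain = true := by decide +kernel

theorem M12_eq : Spor.M12 = onPts m12Chain := by
  refine (Subgroup.eq_of_le_of_card_ge ?_ ?_).symm
  · refine le_inf (onPts_le_M24 (by decide +kernel)) ?_
    rw [onPts, Subgroup.map_le_iff_le_comap, grp, Subgroup.closure_le]
    rintro g ⟨s, hs, rfl⟩
    have hA : (topGens m12Chain).all (fun s => valid 24 s && img s 340831 == 340831) = true := by decide +kernel
    have hs' := List.all_eq_true.mp hA s hs
    simp only [Bool.and_eq_true, beq_iff_eq] at hs'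
    refine mem_stabilizer_iff.mpr (mk_injective ?_)
    rw [squareDodecad_eq]
    exact ((mk_smul hs'.1 _).trans (by rw [mk_pts (by norm_num)]; exact hs'.2)).trans (mk_pts (by norm_num)).symm
  · rw [card_M12, card_onPts m12Chain_check]
    decide +kernel

theorem m12Chain_check1 : check 24 (m12Chain.drop 1) = true := (check_cons m12Chain_check).2

theorem M11_eq : Spor.M11 = onPts (m12Chain.drop 1) := by
  rw [Spor.M11, M12_eq]
  exact onPts_inf_stabilizer (L := m12ChainL0) m12Chain_check

theorem card_M11 : Nat.card Spor.M11 = 7920 := by rw [M11_eq, card_onPts m12Chain_check1]; decide +kernel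

theorem grpM11_simple : IsSimpleGroup (grp 24 (m12Chain.drop 1)) :=
  isSimpleGroup_of_chain (p := 11) (wit := wit11) (L := m12ChainL1) (by norm_num) m12Chain_check1
    (by decide +kernel) (by decide +kernel)

theorem isSimple_M11 : IsSimpleGroup Spor.M11 := by rw [M11_eq]; exact isSimple_onPts grpM11_simple

theorem isSimple_M12 : IsSimpleGroup Spor.M12 := by
  rw [M12_eq]
  exact isSimple_onPts (isSimpleGroup_of_chain_stab (p := 2) (q := 3) Nat.prime_two Nat.prime_three (by norm_num)
    (L := m12ChainL0) m12Chain_check (by decide +kernel) (by decide +kernel) grpM11_simple)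

end Cfsg.Lib.Golay
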