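import Cfsg.Agent.Golay.Subgroups
import Cfsg.Agent.Fusion.SimpleGroup
import Cfsg.Agent.PGroups.Basic

/-!
A certificate for simplicity of the 2-fusion system of a permutation group on 24 points.
-/

set_option autoImplicit false

namespace Cfsg.Lib.Golay.FusionCert

open Cfsg Cfsg.Lib.PermCert Cfsg.Lib.Fusion
open scoped commutatorElement

/-- Two words act equally. -/
def same (w v : List PP) : Bool := (List.range 24).all fun x => evalWord w x == evalWord v x

/-- The label of a point. -/
def lab (f : List ℕ) (x : ℕ) : ℕ := f.getD x 0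

/-- One term of the lower central series: generators, extra conjugates, labels and paths. -/
structure Stage where
  W : List (PP × ℕ × ℕ)
  conn : List (PP × ℕ × ℕ)
  f : List ℕ
  path : List (List ℕ)

/-- The whole certificate. -/
structure Cert where
  chain : List Level
  z : PP
  stages : List Stage
  levels : List (List ℕ)
  steps : List (Bool × PP × ℕ × ℕ × PP)

/-- Build the connecting elements. -/
def connRun (gens : List PP) : List PP → List (PP × ℕ × ℕ) → Option (List PP)
  | acc, [] => some acc
  | acc, (x, i, j) :: r =>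
    match acc[i]?, gens[j]? with
    | some a, some s =>
      if valid 24 x && same [x] [s, a, pinv s] then connRun gens (acc ++ [x]) r else none
    | _, _ => none

/-- Check one stage. -/
def stageCheck (gens : List PP) (st : Stage) : Bool :=
  (st.W.all fun w => valid 24 w.1 && (List.range 24).all fun x => lab st.f (ap w.1.1 x) == lab st.f x) &&
  (gens.all fun s => (List.range 24).all fun x => (List.range 24).all fun y =>
    (lab st.f x == lab st.f y) == (lab st.f (ap s.1 x) == lab st.f (ap s.1 y))) &&
  match connRun gens (st.W.map (·.1)) st.conn with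
  | none => false
  | some E => (List.range 24).all fun x =>
      decide (lab st.f x < 24) && ((st.path.getD x []).all fun i => decide (i < E.length)) &&
      (evalWord ((st.path.getD x []).filterMap (E[·]?)) (lab st.f x) == x)

/-- Check the passage to the next stage. -/
def nextCheck (gens : List PP) (a b : Stage) : Bool :=
  (a.W.all fun w => gens.all fun s => isId 24 [w.1, s, pinv w.1, pinv s] ||
    b.W.any fun x => same [x.1] [w.1, s, pinv w.1, pinv s]) &&
  b.W.all fun x =>
    match a.W[x.2.1]?, gens[x.2.2]? with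
    | some w, some s => same [x.1] [w.1, s, pinv w.1, pinv s]
    | _, _ => false

/-- All stages. -/
def stagesCheck (gens : List PP) : List Stage → Bool
  | [] => true
  | [a] => stageCheck gens a
  | a :: b :: r => stageCheck gens a && nextCheck gens a b && stagesCheck gens (b :: r)

/-- The class size. -/
def classSize (f : List ℕ) (x : ℕ) : ℕ := ((List.range 24).filter fun y => lab f y == lab f x).length

/-- A level is a stage labelling, or is determined by the orbit length. -/
def levelOK (fs : List (List ℕ)) (h : List ℕ) : Bool :=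
  fs.any (fun f => decide (f = h)) ||
  match fs with
  | [] => false
  | f :: _ => (List.range 24).all fun x => (List.range 24).all fun y =>
      !(classSize f x == classSize f y) || (lab h x == lab h y)

/-- Successive levels split each class into at most two. -/
def splitCheck : List (List ℕ) → Bool
  | [] => false
  | [h] => (List.range 24).all fun x => (List.range 24).all fun y => !(lab h x == lab h y) || (x == y)
  | h :: h' :: r => ((List.range 24).all fun x => (List.range 24).all fun y => (List.range 24).all fun z =>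
      !(lab h x == lab h y && lab h y == lab h z) ||
        (lab h' x == lab h' y || lab h' x == lab h' z || lab h' y == lab h' z)) && splitCheck (h' :: r)

/-- All products of transversal elements. -/
def elems : List Level → List (List PP)
  | [] => [[]]
  | L :: r => L.tr.flatMap fun e => (elems r).map (e.2.1 :: ·)

/-- Grow the known elements of a strongly closed subgroup. -/
def stepsRun (cG cS : List Level) : List PP → List (Bool × PP × ℕ × ℕ × PP) → Option (List PP)
  | acc, [] => some acc
  | acc, (b, g, i, j, x) :: r =>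
    match acc[i]?, acc[j]? with
    | some a, some a' =>
      if valid 24 x && (if b then valid 24 g && sift 24 cG [g] && sift 24 cS [x] && same [x] [g, a, pinv g]
          else same [x] [a, a'])
      then stepsRun cG cS (acc ++ [x]) r else none
    | _, _ => none

/-- The basic part of the check. -/
def baseCheck (cG : List Level) (C : Cert) : Bool :=
  check 24 C.chain && (topGens C.chain).all (fun s => valid 24 s && sift 24 cG [s]) &&
  valid 24 C.z && sift 24 C.chain [C.z] && !isId 24 [C.z]

/-- The centre has order two. -/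
def centreCheck (C : Cert) : Bool :=
  (elems C.chain).all fun w => isId 24 w || same w [C.z] ||
    (topGens C.chain).any fun s => !same (s :: w) (w ++ [s])

/-- The series and levels. -/
def seriesCheck (C : Cert) : Bool :=
  match C.stages, C.levels with
  | st :: _, h :: _ =>
    decide (st.W.map (·.1) = topGens C.chain) && stagesCheck (topGens C.chain) C.stages &&
    C.levels.all (levelOK (C.stages.map (·.f))) && splitCheck C.levels &&
    (List.range 24).all fun x => lab h x == lab h 0
  | _, _ => false

/-- The fusion part. -/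
def fusionCheck (cG : List Level) (C : Cert) : Bool :=
  match stepsRun cG C.chain [C.z] C.steps with
  | some out => (topGens C.chain).all fun s => decide (s ∈ out)
  | none => false

/-! ### Soundness -/

theorem valid_all {w : List PP} (h : ∀ g ∈ w, valid 24 g = true) {x : Fin 24} :
    (wperm 24 w x : ℕ) = evalWord w x := wperm_apply h x

theorem same_sound {w v : List PP} (hw : ∀ g ∈ w, valid 24 g = true) (hv : ∀ g ∈ v, valid 24 g = true)
    (h : same w v = true) : wperm 24 w = wperm 24 v := by
  refine Equiv.ext fun x => Fin.ext ?_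
  rw [wperm_apply hw, wperm_apply hv]
  simpa using List.all_eq_true.mp h x.1 (List.mem_range.mpr x.2)

theorem same_of_eq {w v : List PP} (hw : ∀ g ∈ w, valid 24 g = true) (hv : ∀ g ∈ v, valid 24 g = true)
    (h : wperm 24 w = wperm 24 v) : same w v = true := by
  refine List.all_eq_true.mpr fun x hx => ?_
  have := congrArg (fun σ : Equiv.Perm (Fin 24) => (σ ⟨x, List.mem_range.mp hx⟩ : ℕ)) h
  simpa [wperm_apply hw, wperm_apply hv] using this

theorem mem_elems {c : List Level} (h : check 24 c = true) {g : Equiv.Perm (Fin 24)}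
    (hg : g ∈ prodSet 24 c) : ∃ w ∈ elems c, (∀ s ∈ w, valid 24 s = true) ∧ wperm 24 w = g := by
  induction c generalizing g with
  | nil => exact ⟨[], by simp [elems], by simp, by simpa [prodSet] using hg.symm⟩
  | cons L r ih =>
    obtain ⟨e, he, v, hv, rfl⟩ := hg
    simp only [check, Bool.and_eq_true] at h
    obtain ⟨w, hw, hwv, rfl⟩ := ih h.2 hv
    refine ⟨e.2.1 :: w, List.mem_flatMap.mpr ⟨e, he, List.mem_map.mpr ⟨w, hw, rfl⟩⟩, ?_, rfl⟩
    intro s hs
    rcases List.mem_cons.mp hs with rfl | hs
    · exact (tree_entry (PermCert.levelOK h.1).tree he).1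
    · exact hwv s hs

/-- The label as a function. -/
def labF (f : List ℕ) (x : Fin 24) : ℕ := lab f x.1

/-- Permutations preserving the partition given by `F`. -/
def pres {β : Type*} (F : Fin 24 → β) : Subgroup (Equiv.Perm (Fin 24)) where
  carrier := {σ | ∀ x y, F x = F y ↔ F (σ x) = F (σ y)}
  one_mem' := by simp
  mul_mem' := fun {a b} ha hb x y => (hb x y).trans (ha _ _)
  inv_mem' := fun {a} ha x y => by simpa using (ha (a⁻¹ x) (a⁻¹ y)).symm

/-- Permutations fixing every class. -/
def fixClasses {β : Type*} (F : Fin 24 → β) : Subgroup (Equiv.Perm (Fin 24)) where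
  carrier := {σ | ∀ x, F (σ x) = F x}
  one_mem' := by simp
  mul_mem' := fun {a b} ha hb x => (ha _).trans (hb x)
  inv_mem' := fun {a} ha x => by simpa using (ha (a⁻¹ x)).symm

theorem fixClasses_conj {β : Type*} {F : Fin 24 → β} {u m : Equiv.Perm (Fin 24)} (hu : u ∈ pres F)
    (hm : m ∈ fixClasses F) : u * m * u⁻¹ ∈ fixClasses F := fun x => by
  show F (u (m (u⁻¹ x))) = F x
  have := (hu (m (u⁻¹ x)) (u⁻¹ x)).mp (hm _)
  simpa using this

/-- The lower central series of a subgroup, inside the ambient group. -/
def lcsOf {G : Type*} [Group G] (S : Subgroup G) : ℕ → Subgroup G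
  | 0 => S
  | k + 1 => ⁅lcsOf S k, S⁆

theorem lcsOf_map {G : Type*} [Group G] {S : Subgroup G} {g : G}
    (hg : S.map (MulAut.conj g).toMonoidHom = S) :
    ∀ k, (lcsOf S k).map (MulAut.conj g).toMonoidHom = lcsOf S k
  | 0 => hg
  | k + 1 => by rw [lcsOf, Subgroup.map_commutator, lcsOf_map hg k, hg]

theorem lcsOf_le {G : Type*} [Group G] {S : Subgroup G} : ∀ k, lcsOf S k ≤ S
  | 0 => le_rfl
  | k + 1 => (Subgroup.commutator_mono (lcsOf_le k) le_rfl).trans (Subgroup.commutator_le_self S)

theorem conj_closure_mem {G : Type*} [Group G] {K : Subgroup G} {T : Set G} {S : Subgroup G}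
    (hS : S ≤ Subgroup.normalizer (K : Set G)) (hT : T ⊆ S) {w : G} (hw : ∀ t ∈ T, ⁅w, t⁆ ∈ K)
    {t : G} (ht : t ∈ Subgroup.closure T) : ⁅w, t⁆ ∈ K := by
  induction ht using Subgroup.closure_induction with
  | mem x hx => exact hw x hx
  | one => simp
  | mul a b ha _ iha ihb =>
    rw [show ⁅w, a * b⁆ = ⁅w, a⁆ * (a * ⁅w, b⁆ * a⁻¹) by simp [commutatorElement_def, mul_assoc]]
    exact K.mul_mem iha (conj_mem_of_mem_normalizer (hS ((Subgroup.closure_le S).mpr hT ha)) ihb)
  | inv a ha iha =>
    rw [show ⁅w, a⁻¹⁆ = a⁻¹ * ⁅w, a⁆⁻¹ * a⁻¹⁻¹ by simp [commutatorElement_def, mul_assoc]]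
    exact conj_mem_of_mem_normalizer (hS (S.inv_mem ((Subgroup.closure_le S).mpr hT ha))) (K.inv_mem iha)

/-- The conjugates of `W` by `S`. -/
def conjsOf {G : Type*} [Group G] (S : Subgroup G) (W : Set G) : Subgroup G :=
  Subgroup.closure {x | ∃ u ∈ S, ∃ w ∈ W, x = u * w * u⁻¹}

theorem le_normalizer_conjsOf {G : Type*} [Group G] [Finite G] (S : Subgroup G) (W : Set G) :
    S ≤ Subgroup.normalizer (conjsOf S W : Set G) := fun g hg => by
  refine mem_normalizer_of_maps_finite fun x hx => ?_
  induction hx using Subgroup.closure_induction with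
  | mem x hx =>
    obtain ⟨u, hu, w, hw, rfl⟩ := hx
    exact Subgroup.subset_closure ⟨g * u, S.mul_mem hg hu, w, hw, by group⟩
  | one => simp
  | mul a b _ _ iha ihb =>
    rw [show g * (a * b) * g⁻¹ = (g * a * g⁻¹) * (g * b * g⁻¹) by group]
    exact mul_mem iha ihb
  | inv a _ iha =>
    rw [show g * a⁻¹ * g⁻¹ = (g * a * g⁻¹)⁻¹ by group]
    exact inv_mem iha

theorem commutator_le_conjsOf {G : Type*} [Group G] [Finite G] {S : Subgroup G} {T W W' : Set G}
    (hT : Subgroup.closure T = S) (hW : W ⊆ S)
    (h : ∀ w ∈ W, ∀ t ∈ T, ⁅w, t⁆ ∈ conjsOf S W') :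
    ⁅conjsOf S W, S⁆ ≤ conjsOf S W' := by
  have hn := le_normalizer_conjsOf S W'
  have hTS : T ⊆ S := hT ▸ Subgroup.subset_closure
  have h1 : ∀ w ∈ W, ∀ t ∈ S, ⁅w, t⁆ ∈ conjsOf S W' := fun w hw t ht =>
    conj_closure_mem hn hTS (h w hw) (hT.symm ▸ ht)
  refine Subgroup.commutator_le.mpr fun m hm => ?_
  suffices h2 : m ∈ S ∧ ∀ t ∈ S, ⁅m, t⁆ ∈ conjsOf S W' from h2.2
  induction hm using Subgroup.closure_induction with
  | mem x hx =>
    obtain ⟨u, hu, w, hw, rfl⟩ := hx
    refine ⟨S.mul_mem (S.mul_mem hu (hW hw)) (S.inv_mem hu), fun t ht => ?_⟩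
    rw [show ⁅u * w * u⁻¹, t⁆ = u * ⁅w, u⁻¹ * t * u⁆ * u⁻¹ by simp [commutatorElement_def, mul_assoc]]
    exact conj_mem_of_mem_normalizer (hn hu) (h1 w hw _ (S.mul_mem (S.mul_mem (S.inv_mem hu) ht) hu))
  | one => exact ⟨S.one_mem, fun t _ => by simp⟩
  | mul a b _ _ iha ihb =>
    refine ⟨S.mul_mem iha.1 ihb.1, fun t ht => ?_⟩
    rw [show ⁅a * b, t⁆ = (a * ⁅b, t⁆ * a⁻¹) * ⁅a, t⁆ by simp [commutatorElement_def, mul_assoc]]
    exact mul_mem (conj_mem_of_mem_normalizer (hn iha.1) (ihb.2 t ht)) (iha.2 t ht)
  | inv a _ iha =>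
    refine ⟨S.inv_mem iha.1, fun t ht => ?_⟩
    rw [show ⁅a⁻¹, t⁆ = a⁻¹ * ⁅a, t⁆⁻¹ * a⁻¹⁻¹ by simp [commutatorElement_def, mul_assoc]]
    exact conj_mem_of_mem_normalizer (hn (S.inv_mem iha.1)) (inv_mem (iha.2 t ht))

/-- Invariance of a labelling under the normalizer. -/
def Inv {β : Type*} (N : Set (Equiv.Perm (Fin 24))) (F : Fin 24 → β) : Prop := ∀ g ∈ N, g ∈ pres F

theorem inv_count {β : Type*} [DecidableEq β] {F : Fin 24 → β} {g : Equiv.Perm (Fin 24)} (hg : g ∈ pres F)
    (x : Fin 24) : (Finset.univ.filter fun y => F y = F (g x)).card =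
      (Finset.univ.filter fun y => F y = F x).card := by
  refine (Finset.card_equiv g fun y => ?_).symm
  simp only [Finset.mem_filter, Finset.mem_univ, true_and]
  exact hg y x

theorem classSize_eq (f : List ℕ) (x : Fin 24) :
    classSize f x = (Finset.univ.filter fun y : Fin 24 => labF f y = labF f x).card := by
  have h1 : (Finset.univ.filter fun y : Fin 24 => labF f y = labF f x).card =
      (((Finset.range 24).filter fun y => lab f y = lab f x.1)).card := by
    refine Finset.card_bij (fun y _ => y.1) (fun y hy => ?_) (fun a _ b _ h => Fin.ext h) (fun y hy => ?_)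
    · simp only [Finset.mem_filter, Finset.mem_univ, true_and] at hy
      simp [y.2]
      exact hy
    · simp only [Finset.mem_filter, Finset.mem_range] at hy
      exact ⟨⟨y, hy.1⟩, Finset.mem_filter.mpr ⟨Finset.mem_univ _, hy.2⟩, rfl⟩
  rw [h1, classSize, ← List.toFinset_card_of_nodup (List.nodup_range.filter _)]
  congr 1
  ext y
  simp

theorem split_sound {N : Subgroup (Equiv.Perm (Fin 24))} : ∀ (L : List (List ℕ)), splitCheck L = true →
    (∀ h ∈ L, ∀ g ∈ N, g ∈ pres (labF h)) → ∀ h ∈ L.head?, ∀ g ∈ N, (∀ x, labF h (g x) = labF h x) →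
    g ^ 2 ^ (L.length - 1) = 1
  | [], h, _ => by simp [splitCheck] at h
  | [a], h, _ => by
    intro b hb g _ hfix
    simp only [List.head?_cons, Option.mem_def, Option.some.injEq] at hb
    subst hb
    refine Equiv.ext fun x => Fin.ext ?_
    simp only [splitCheck, List.all_eq_true, List.mem_range, Bool.or_eq_true, Bool.not_eq_true',
      beq_eq_false_iff_ne, beq_iff_eq] at h
    simpa using (h (g x).1 (g x).2 x.1 x.2).resolve_left (fun e => e (hfix x))
  | a :: b :: r, h, hinv => by
    intro c hc g hg hfix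
    simp only [List.head?_cons, Option.mem_def, Option.some.injEq] at hc
    subst hc
    simp only [splitCheck, Bool.and_eq_true, List.all_eq_true, List.mem_range, Bool.or_eq_true,
      Bool.not_eq_true', Bool.and_eq_false_iff, beq_eq_false_iff_ne, beq_iff_eq] at h
    have h2 : ∀ x, labF b ((g * g) x) = labF b x := by
      intro x
      have e1 : labF a (g x) = labF a x := hfix x
      have e2 : labF a (g (g x)) = labF a (g x) := hfix (g x)
      have hp := hinv b (List.mem_cons_of_mem _ List.mem_cons_self) g hg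
      rcases h.1 x.1 x.2 (g x).1 (g x).2 (g (g x)).1 (g (g x)).2 with hh | (hh | hh) | hh
      · rcases hh with hh | hh
        · exact absurd e1.symm hh
        · exact absurd e2.symm hh
      · exact (Eq.trans ((hp x (g x)).mp hh).symm (show labF b (g x) = labF b x from hh.symm) :)
      · exact hh.symm
      · have h4 : labF b x = labF b (g x) := (hp x (g x)).mpr hh
        exact (hh.symm.trans h4.symm :)
    have h3 := split_sound (b :: r) h.2 (fun h hh => hinv h (List.mem_cons_of_mem _ hh)) b rfl (g * g)
      (N.mul_mem hg hg) h2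
    rw [show (a :: b :: r).length - 1 = (b :: r).length - 1 + 1 by simp, pow_succ', pow_mul, sq]
    exact h3

theorem connRun_sound {K : Subgroup (Equiv.Perm (Fin 24))} {gens : List PP}
    (hg : ∀ s ∈ gens, valid 24 s = true ∧ perm 24 s ∈ Subgroup.normalizer (K : Set (Equiv.Perm (Fin 24)))) :
    ∀ (l : List (PP × ℕ × ℕ)) (acc out : List PP), connRun gens acc l = some out →
      (∀ g ∈ acc, valid 24 g = true ∧ perm 24 g ∈ K) → ∀ g ∈ out, valid 24 g = true ∧ perm 24 g ∈ K := by
  intro l
  induction l with
  | nil =>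
    intro acc out h ha
    have h' : some acc = some out := h
    exact Option.some.inj h' ▸ ha
  | cons e r ih =>
    obtain ⟨x, i, j⟩ := e
    intro acc out h ha
    simp only [connRun] at h
    split at h
    · next a s hi hj =>
      simp only [Option.ite_none_right_eq_some, Bool.and_eq_true] at h
      obtain ⟨⟨hxv, hx⟩, h⟩ := h
      obtain ⟨hav, haK⟩ := ha a (List.mem_of_getElem? hi)
      obtain ⟨hsv, hsN⟩ := hg s (List.mem_of_getElem? hj)
      refine ih _ out h fun g hg' => ?_
      rcases List.mem_append.mp hg' with hg' | hg'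
      · exact ha g hg'
      · rw [List.mem_singleton.mp hg']
        refine ⟨hxv, ?_⟩
        have he := same_sound (w := [x]) (v := [s, a, pinv s]) (by simp [hxv])
          (by simp [hav, hsv, valid_pinv hsv]) hx
        simp only [wperm_cons, wperm_nil, mul_one, perm_pinv hsv] at he
        rw [he, ← mul_assoc]
        exact conj_mem_of_mem_normalizer hsN haK
    · simp at h

/-- Everything known about one stage. -/
structure StageOK (S : Subgroup (Equiv.Perm (Fin 24))) (N : Subgroup (Equiv.Perm (Fin 24))) (st : Stage) : Prop where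
  inv : ∀ g, g ∈ Subgroup.normalizer (S : Set (Equiv.Perm (Fin 24))) → N.map (MulAut.conj g).toMonoidHom = N →
    g ∈ pres (labF st.f)

theorem stage_sound {gens : List PP} {st : Stage} {S N : Subgroup (Equiv.Perm (Fin 24))}
    (hgens : ∀ s ∈ gens, valid 24 s = true)
    (hS : Subgroup.closure {g | ∃ s ∈ gens, perm 24 s = g} = S)
    (hN : N = conjsOf S {g | ∃ w ∈ st.W, perm 24 w.1 = g})
    (h : stageCheck gens st = true) : StageOK S N st := by
  simp only [stageCheck, Bool.and_eq_true] at h
  obtain ⟨⟨hW, hP⟩, hE⟩ := h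
  set F := labF st.f
  have hSpres : S ≤ pres F := by
    rw [← hS, Subgroup.closure_le]
    rintro g ⟨s, hs, rfl⟩ x y
    have := List.all_eq_true.mp (List.all_eq_true.mp (List.all_eq_true.mp hP s hs) x.1
      (List.mem_range.mpr x.2)) y.1 (List.mem_range.mpr y.2)
    simp only [beq_iff_eq] at this
    simp only [F, labF, perm_apply (hgens s hs)]
    rw [← beq_iff_eq, ← beq_iff_eq (a := lab st.f (ap s.1 x.1)), this]
  have hfix : N ≤ fixClasses F := by
    rw [hN, conjsOf, Subgroup.closure_le]
    rintro _ ⟨u, hu, _, ⟨w, hw, rfl⟩, rfl⟩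
    refine fixClasses_conj (hSpres hu) fun x => ?_
    have := List.all_eq_true.mp hW w hw
    simp only [Bool.and_eq_true, List.all_eq_true, beq_iff_eq] at this
    simp only [F, labF, perm_apply this.1]
    exact this.2 x.1 (List.mem_range.mpr x.2)
  have hWv : ∀ g ∈ st.W.map (·.1), valid 24 g = true ∧ perm 24 g ∈ N := by
    intro g hg
    obtain ⟨w, hw, rfl⟩ := List.mem_map.mp hg
    have := List.all_eq_true.mp hW w hw
    simp only [Bool.and_eq_true] at this
    exact ⟨this.1, hN ▸ Subgroup.subset_closure ⟨1, S.one_mem, _, ⟨w, hw, rfl⟩, by simp⟩⟩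
  split at hE
  · cases hE
  next E hEe =>
  have hEN := connRun_sound (fun s hs => ⟨hgens s hs, hN ▸ le_normalizer_conjsOf S _
    (hS ▸ Subgroup.subset_closure ⟨s, hs, rfl⟩)⟩) _ _ E hEe hWv
  -- transitivity on classes
  have htrans : ∀ x y : Fin 24, F x = F y → ∃ m ∈ N, m x = y := by
    have hrep : ∀ x : Fin 24, ∃ m ∈ N, ((m⁻¹ x : Fin 24) : ℕ) = F x := by
      intro x
      have := List.all_eq_true.mp hE x.1 (List.mem_range.mpr x.2)
      simp only [Bool.and_eq_true, decide_eq_true_eq, beq_iff_eq] at this
      obtain ⟨⟨hlt, -⟩, hev⟩ := this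
      set w := (st.path.getD x.1 []).filterMap (E[·]?)
      have hw : ∀ g ∈ w, valid 24 g = true ∧ perm 24 g ∈ N := fun g hg => by
        obtain ⟨i, -, hi⟩ := List.mem_filterMap.mp hg
        exact hEN g (List.mem_of_getElem? hi)
      refine ⟨wperm 24 w, list_prod_mem fun g hg => ?_, ?_⟩
      · obtain ⟨a, ha, rfl⟩ := List.mem_map.mp hg
        exact (hw a ha).2
      · have he : wperm 24 w ⟨lab st.f x.1, hlt⟩ = x :=
          Fin.ext (by rw [wperm_apply fun g hg => (hw g hg).1]; exact hev)
        rw [show (wperm 24 w)⁻¹ x = ⟨lab st.f x.1, hlt⟩ from (Equiv.symm_apply_eq _).mpr he.symm]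
        rfl
    intro x y hxy
    obtain ⟨m, hm, hmx⟩ := hrep x
    obtain ⟨m', hm', hmy⟩ := hrep y
    refine ⟨m' * m⁻¹, N.mul_mem hm' (N.inv_mem hm), ?_⟩
    have h1 : m⁻¹ x = m'⁻¹ y := Fin.ext (by rw [hmx, hmy, hxy])
    show m' (m⁻¹ x) = y
    rw [h1]
    exact m'.apply_symm_apply y
  refine ⟨fun g _ hgN x y => ⟨fun hxy => ?_, fun hxy => ?_⟩⟩
  · obtain ⟨m, hm, rfl⟩ := htrans x y hxy
    have h1 : g * m * g⁻¹ ∈ N := hgN ▸ ⟨m, hm, rfl⟩
    have h2 := hfix h1 (g x)
    simp only [Equiv.Perm.mul_apply, Equiv.Perm.inv_def, Equiv.symm_apply_apply] at h2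
    exact h2.symm
  · obtain ⟨m, hm, e⟩ := htrans (g x) (g y) hxy
    obtain ⟨m', hm', rfl⟩ : m ∈ N.map (MulAut.conj g).toMonoidHom := hgN.symm ▸ hm
    have e' : m' x = y := g.injective (by simpa [Equiv.Perm.mul_apply] using e)
    rw [← e']
    exact (hfix hm' x).symm

theorem stages_sound {gens : List PP} {S : Subgroup (Equiv.Perm (Fin 24))}
    (hgens : ∀ s ∈ gens, valid 24 s = true)
    (hS : Subgroup.closure {g | ∃ s ∈ gens, perm 24 s = g} = S) :
    ∀ (l : List Stage) (k : ℕ), stagesCheck gens l = true →
      (∀ st ∈ l.head?, (∀ w ∈ st.W, perm 24 w.1 ∈ S) ∧ lcsOf S k = conjsOf S {g | ∃ w ∈ st.W, perm 24 w.1 = g}) →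
      ∀ st ∈ l, ∃ j, StageOK S (lcsOf S j) st := by
  intro l
  induction l with
  | nil => intro k _ _ st hst; simp at hst
  | cons a r ih =>
    intro k h hk st hst
    obtain ⟨haS, hak⟩ := hk a rfl
    cases r with
    | nil =>
      rw [List.mem_singleton] at hst
      subst hst
      exact ⟨k, stage_sound hgens hS hak h⟩
    | cons b r =>
      simp only [stagesCheck, Bool.and_eq_true] at h
      obtain ⟨⟨ha, hn⟩, hr⟩ := h
      rcases List.mem_cons.mp hst with rfl | hst
      · exact ⟨k, stage_sound hgens hS hak ha⟩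
      refine ih (k + 1) hr (fun st' hst' => ?_) st hst
      simp only [List.head?_cons, Option.mem_def, Option.some.injEq] at hst'
      subst hst'
      simp only [nextCheck, Bool.and_eq_true, List.all_eq_true, Bool.or_eq_true, List.any_eq_true] at hn
      obtain ⟨hn1, hn2⟩ := hn
      simp only [stageCheck, Bool.and_eq_true, List.all_eq_true] at ha
      have hb : ∀ w ∈ b.W, valid 24 w.1 = true := by
        intro w hw
        have : stageCheck gens b = true := by
          cases r with
          | nil => exact hr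
          | cons c r => simp only [stagesCheck, Bool.and_eq_true] at hr; exact hr.1.1
        simp only [stageCheck, Bool.and_eq_true, List.all_eq_true] at this
        exact (this.1.1 w hw).1
      have hgS : ∀ s ∈ gens, perm 24 s ∈ S := fun s hs => hS ▸ Subgroup.subset_closure ⟨s, hs, rfl⟩
      have hcw : ∀ (w : PP) (s : PP), valid 24 w = true → valid 24 s = true →
          wperm 24 [w, s, pinv w, pinv s] = ⁅perm 24 w, perm 24 s⁆ := by
        intro w s hw hs
        simp only [wperm_cons, wperm_nil, mul_one, perm_pinv hw, perm_pinv hs, commutatorElement_def, mul_assoc]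
      have hb2 : ∀ w ∈ b.W, perm 24 w.1 ∈ lcsOf S (k + 1) := by
        intro w hw
        have h2 := hn2 w hw
        split at h2
        · next w' s hw' hs =>
          have hw'm := List.mem_of_getElem? hw'
          have hsm := List.mem_of_getElem? hs
          have he := same_sound (w := [w.1]) (v := [w'.1, s, pinv w'.1, pinv s]) (by simp [hb w hw])
            (by simp [(ha.1.1 w' hw'm).1, hgens s hsm, valid_pinv (ha.1.1 w' hw'm).1,
              valid_pinv (hgens s hsm)]) h2
          rw [hcw _ _ (ha.1.1 w' hw'm).1 (hgens s hsm)] at he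
          simp only [wperm_cons, wperm_nil, mul_one] at he
          rw [he]
          refine Subgroup.commutator_mem_commutator ?_ (hgS s hsm)
          rw [hak]
          exact Subgroup.subset_closure ⟨1, S.one_mem, _, ⟨w', hw'm, rfl⟩, by simp⟩
        · cases h2
      refine ⟨fun w hw => lcsOf_le _ (hb2 w hw), le_antisymm ?_ ?_⟩
      · show ⁅lcsOf S k, S⁆ ≤ _
        rw [hak]
        refine commutator_le_conjsOf hS (fun g ⟨w, hw, e⟩ => e ▸ haS w hw) ?_
        rintro _ ⟨w, hw, rfl⟩ _ ⟨s, hs, rfl⟩
        rw [← hcw _ _ (ha.1.1 w hw).1 (hgens s hs)]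
        have hvalid : ∀ g ∈ [w.1, s, pinv w.1, pinv s], valid 24 g = true := by
          simp [(ha.1.1 w hw).1, hgens s hs, valid_pinv (ha.1.1 w hw).1, valid_pinv (hgens s hs)]
        rcases hn1 w hw s hs with h1 | ⟨x, hx, h1⟩
        · rw [isId_sound hvalid h1]
          exact one_mem _
        · rw [← same_sound (w := [x.1]) (by simp [hb x hx]) hvalid h1]
          exact Subgroup.subset_closure ⟨1, S.one_mem, _, ⟨x, hx, rfl⟩, by simp⟩
      · rw [conjsOf, Subgroup.closure_le]
        rintro _ ⟨u, hu, _, ⟨w, hw, rfl⟩, rfl⟩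
        have hmap : S.map (MulAut.conj u).toMonoidHom = S :=
          Subgroup.mem_normalizer_iff_map_conj_eq.mp (Subgroup.le_normalizer hu)
        rw [← lcsOf_map hmap (k + 1)]
        exact ⟨_, hb2 w hw, rfl⟩

/-- Every element normalizing the group has 2-power order. -/
theorem pow_eq_one {C : Cert} (hb : check 24 C.chain = true) (h : seriesCheck C = true)
    {g : Equiv.Perm (Fin 24)}
    (hg : g ∈ Subgroup.normalizer (grp 24 C.chain : Set (Equiv.Perm (Fin 24)))) :
    ∃ k : ℕ, g ^ 2 ^ k = 1 := by
  unfold seriesCheck at h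
  split at h
  rotate_left
  · cases h
  next st rs h0 hr hst hlev =>
  simp only [Bool.and_eq_true, decide_eq_true_eq, List.all_eq_true, beq_iff_eq] at h
  obtain ⟨⟨⟨⟨hW, hstages⟩, hlevels⟩, hsplit⟩, hconst⟩ := h
  set S := grp 24 C.chain
  have hgens : ∀ s ∈ topGens C.chain, valid 24 s = true := by
    cases hc : C.chain with
    | nil => simp [topGens]
    | cons L r =>
      rw [hc] at hb
      exact fun s hs => (PermCert.levelOK (Bool.and_eq_true_iff.mp hb).1).gens_valid s hs
  have hall := stages_sound (S := S) hgens rfl C.stages 0 hstages (fun st' hst' => by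
    rw [hst] at hst'
    simp only [List.head?_cons, Option.mem_def, Option.some.injEq] at hst'
    subst hst'
    have hWS : ∀ w ∈ st.W, perm 24 w.1 ∈ S := fun w hw =>
      perm_mem_grp (hW ▸ List.mem_map.mpr ⟨w, hw, rfl⟩)
    refine ⟨hWS, le_antisymm ((Subgroup.closure_le _).mpr ?_) ((Subgroup.closure_le _).mpr ?_)⟩
    · rintro g ⟨s, hs, rfl⟩
      obtain ⟨w, hw, rfl⟩ := List.mem_map.mp (hW.symm ▸ hs)
      exact Subgroup.subset_closure ⟨1, S.one_mem, _, ⟨w, hw, rfl⟩, by simp⟩
    · rintro _ ⟨u, hu, _, ⟨w, hw, rfl⟩, rfl⟩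
      exact S.mul_mem (S.mul_mem hu (hWS w hw)) (S.inv_mem hu))
  have hinv : ∀ st' ∈ C.stages, ∀ g' ∈ Subgroup.normalizer (S : Set (Equiv.Perm (Fin 24))),
      g' ∈ pres (labF st'.f) := by
    intro st' hst' g' hg'
    obtain ⟨j, hj⟩ := hall st' hst'
    exact hj.inv g' hg' (lcsOf_map (Subgroup.mem_normalizer_iff_map_conj_eq.mp hg') j)
  have hlev' : ∀ h ∈ C.levels, ∀ g' ∈ Subgroup.normalizer (S : Set (Equiv.Perm (Fin 24))),
      g' ∈ pres (labF h) := by
    intro h hh g' hg'
    have hok := hlevels h hh
    simp only [levelOK, Bool.or_eq_true, List.any_eq_true, decide_eq_true_eq] at hok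
    rcases hok with ⟨f, hf, rfl⟩ | hok
    · obtain ⟨st', hst', rfl⟩ := List.mem_map.mp hf
      exact hinv st' hst' g' hg'
    · rw [hst] at hok
      simp only [List.map_cons, List.all_eq_true, List.mem_range, Bool.or_eq_true, Bool.not_eq_true',
        beq_eq_false_iff_ne, beq_iff_eq] at hok
      have hp := hinv st (hst ▸ List.mem_cons_self) g' hg'
      have key : ∀ z : Fin 24, labF h (g' z) = labF h z := fun z => by
        refine (hok (g' z).1 (g' z).2 z.1 z.2).resolve_left fun e => e ?_
        rw [classSize_eq, classSize_eq]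
        exact inv_count hp z
      intro x y
      rw [key, key]
  refine ⟨C.levels.length - 1, split_sound C.levels hsplit hlev' h0 ?_ g hg fun x => ?_⟩
  · simp [hlev]
  · show lab h0 _ = lab h0 _
    rw [hconst _ (List.mem_range.mpr (g x).2), hconst _ (List.mem_range.mpr x.2)]

theorem stepsRun_sound {cG cS : List Level} (hcG : check 24 cG = true) (hcS : check 24 cS = true)
    {T : Subgroup (Equiv.Perm (Fin 24))}
    (hconj : ∀ g ∈ grp 24 cG, ∀ a ∈ T, g * a * g⁻¹ ∈ grp 24 cS → g * a * g⁻¹ ∈ T) :
    ∀ (l : List (Bool × PP × ℕ × ℕ × PP)) (acc out : List PP), stepsRun cG cS acc l = some out →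
      (∀ g ∈ acc, valid 24 g = true ∧ perm 24 g ∈ T) → ∀ g ∈ out, valid 24 g = true ∧ perm 24 g ∈ T := by
  intro l
  induction l with
  | nil =>
    intro acc out h ha
    have h' : some acc = some out := h
    exact Option.some.inj h' ▸ ha
  | cons e r ih =>
    obtain ⟨b, g, i, j, x⟩ := e
    intro acc out h ha
    simp only [stepsRun] at h
    split at h
    · next a a' hi hj =>
      simp only [Option.ite_none_right_eq_some, Bool.and_eq_true] at h
      obtain ⟨⟨hxv, hx⟩, h⟩ := h
      obtain ⟨hav, haT⟩ := ha a (List.mem_of_getElem? hi)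
      obtain ⟨hav', haT'⟩ := ha a' (List.mem_of_getElem? hj)
      refine ih _ out h fun y hy => ?_
      rcases List.mem_append.mp hy with hy | hy
      · exact ha y hy
      · rw [List.mem_singleton.mp hy]
        refine ⟨hxv, ?_⟩
        cases b with
        | true =>
          simp only [if_true, Bool.and_eq_true] at hx
          obtain ⟨⟨⟨hgv, hgG⟩, hxS⟩, hs⟩ := hx
          have he := same_sound (w := [x]) (v := [g, a, pinv g]) (by simp [hxv])
            (by simp [hgv, hav, valid_pinv hgv]) hs
          have hg' := mem_grp_of_sift hcG (w := [g]) (by simp [hgv]) hgG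
          have hx' := mem_grp_of_sift hcS (w := [x]) (by simp [hxv]) hxS
          simp only [wperm_cons, wperm_nil, mul_one, perm_pinv hgv, ← mul_assoc] at he hg' hx'
          rw [he]
          exact hconj _ hg' _ haT (he ▸ hx')
        | false =>
          simp only [Bool.false_eq_true, if_false] at hx
          have he := same_sound (w := [x]) (v := [a, a']) (by simp [hxv]) (by simp [hav, hav']) hx
          simp only [wperm_cons, wperm_nil, mul_one] at he
          rw [he]
          exact T.mul_mem haT haT'
    · simp at h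

/-- The main theorem. -/
theorem isSimple {G : Type*} [Group G] [Finite G] (cG : List Level) (C : Cert)
    (hcG : check 24 cG = true) (hbase : baseCheck cG C = true) (hcent : centreCheck C = true)
    (hser : seriesCheck C = true) (hfus : fusionCheck cG C = true)
    {m : ℕ} (hsizeS : size C.chain = 2 ^ (m + 1)) (hodd : size cG / 2 ^ (m + 1) % 2 = 1)
    (ι : G →* Equiv.Perm (Fin 24)) (hι : Function.Injective ι) (hrange : ι.range = grp 24 cG)
    (S : Sylow 2 G) : (groupFusionSystem (S : Subgroup G)).IsSimple 2 := by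
  haveI : Fact (Nat.Prime 2) := ⟨Nat.prime_two⟩
  simp only [baseCheck, Bool.and_eq_true, List.all_eq_true, Bool.not_eq_true'] at hbase
  obtain ⟨⟨⟨⟨hcS, hgens⟩, hzv⟩, hzS⟩, hz1⟩ := hbase
  set S0 := (grp 24 C.chain).comap ι with hS0
  have hle : grp 24 C.chain ≤ ι.range := by
    rw [hrange]
    refine (Subgroup.closure_le _).mpr ?_
    rintro g ⟨s, hs, rfl⟩
    obtain ⟨hv, hsift⟩ := hgens s hs
    simpa using mem_grp_of_sift hcG (w := [s]) (by simp [hv]) hsift
  have hmap : S0.map ι = grp 24 C.chain := Subgroup.map_comap_eq_self hle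
  have hcard : Nat.card S0 = 2 ^ (m + 1) := by
    rw [← hsizeS, ← card_grp hcS, ← hmap, Subgroup.card_map_of_injective hι]
  have hGcard : Nat.card G = size cG := by
    rw [← card_grp hcG, ← hrange]
    exact Nat.card_congr (MonoidHom.ofInjective hι).toEquiv
  have hindex : ¬ 2 ∣ S0.index := by
    intro hd
    have h1 := S0.card_mul_index
    rw [hcard, hGcard] at h1
    rw [← h1, Nat.mul_div_cancel_left _ (pow_pos two_pos _)] at hodd
    omega
  have hp : IsPGroup 2 S0 := IsPGroup.of_card hcard
  set S₀ : Sylow 2 G := hp.toSylow hindex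
  have hS₀ : (S₀ : Subgroup G) = S0 := rfl
  have hN : Subgroup.normalizer (S0 : Set G) = S0 := by
    refine le_antisymm ?_ Subgroup.le_normalizer
    have hp2 : IsPGroup 2 (Subgroup.normalizer (S0 : Set G)) := fun g => by
      have h1 : ι g ∈ Subgroup.normalizer (grp 24 C.chain : Set (Equiv.Perm (Fin 24))) :=
        hmap ▸ Subgroup.le_normalizer_map ι ⟨g, g.2, rfl⟩
      obtain ⟨k, hk⟩ := pow_eq_one hcS hser h1
      exact ⟨k, Subtype.ext (hι (by rw [Subgroup.coe_pow, map_pow, hk, Subgroup.coe_one, map_one]))⟩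
    exact (S₀.3 hp2 Subgroup.le_normalizer).le
  refine isSimple_of_normalResidual S₀ S ?_ (fun T hT => ?_) ?_
  · intro h
    rw [hS₀] at h
    rw [h, Subgroup.card_bot] at hcard
    exact absurd hcard (Nat.one_lt_two_pow (Nat.succ_ne_zero m)).ne
  · rw [hS₀] at hT ⊢
    refine or_iff_not_imp_left.mpr fun hT1 => le_antisymm hT.1 ?_
    have hTn : (T.subgroupOf S0).Normal :=
      (Subgroup.normal_subgroupOf_iff_le_normalizer hT.1).mpr (normalizes_of_stronglyClosed hT)
    obtain ⟨z, hzT, hzC, hz2⟩ := Cfsg.Lib.PGroups.exists_mem_center_of_normal_ne_bot hp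
      (N := T.subgroupOf S0) (by
        rw [Ne, Subgroup.subgroupOf_eq_bot, disjoint_iff, inf_eq_left.mpr hT.1]
        exact hT1)
    have hzne : (z : G) ≠ 1 := fun e => by
      rw [show z = 1 from Subtype.ext e, orderOf_one] at hz2
      omega
    obtain ⟨w, hw, hwv, hwe⟩ := mem_elems hcS ((chain_spec hcS).1 ▸ z.2 : ι (z : G) ∈ prodSet 24 C.chain)
    have hz : ι (z : G) = perm 24 C.z := by
      have hok := List.all_eq_true.mp hcent w hw
      simp only [Bool.or_eq_true, List.any_eq_true, Bool.not_eq_true'] at hok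
      rcases hok with (h | h) | ⟨s, hs, h⟩
      · exact absurd (hι ((hwe ▸ isId_sound hwv h).trans (map_one ι).symm)) hzne
      · have := same_sound hwv (v := [C.z]) (by simp [hzv]) h
        rw [← hwe, this]
        simp
      · exfalso
        have hsv := (hgens s hs).1
        obtain ⟨s', hs'⟩ := hle (perm_mem_grp hs)
        have hs'S : s' ∈ S0 := by
          rw [hS0, Subgroup.mem_comap, hs']
          exact perm_mem_grp hs
        have hc := congrArg (fun x : S0 => ι (x : G)) (Subgroup.mem_center_iff.mp hzC ⟨s', hs'S⟩)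
        simp only [Subgroup.coe_mul, map_mul, hs', ← hwe] at hc
        have hcons : ∀ g ∈ s :: w, valid 24 g = true := by
          intro g hg
          rcases List.mem_cons.mp hg with rfl | hg
          · exact hsv
          · exact hwv g hg
        have happ : ∀ g ∈ w ++ [s], valid 24 g = true := by
          intro g hg
          rcases List.mem_append.mp hg with hg | hg
          · exact hwv g hg
          · rw [List.mem_singleton.mp hg]; exact hsv
        rw [same_of_eq hcons happ (by simp [wperm] at hc ⊢; exact hc)] at h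
        exact Bool.noConfusion h
    unfold fusionCheck at hfus
    split at hfus
    rotate_left
    · cases hfus
    next out hout =>
    have hall := stepsRun_sound hcG hcS (T := T.map ι) (fun g hg a ha hga => by
        obtain ⟨g', rfl⟩ : g ∈ ι.range := hrange.symm ▸ hg
        obtain ⟨a', ha', rfl⟩ := ha
        refine ⟨g' * a' * g'⁻¹, ?_, by simp⟩
        have haS := hT.1 ha'
        have hm : IsMap (groupFusionSystem S0) (Subgroup.zpowers a') (fun x => g' * x * g'⁻¹) := by
          refine isMap_group_iff.mpr ⟨Subgroup.zpowers_le.mpr haS, fun x hx => ?_, g', fun _ _ => rfl⟩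
          obtain ⟨i, rfl⟩ := hx
          show g' * a' ^ i * g'⁻¹ ∈ S0
          rw [← _root_.conj_zpow]
          refine S0.zpow_mem ?_ i
          rw [hS0, Subgroup.mem_comap, map_mul, map_mul, map_inv]
          exact hga
        exact stronglyClosed_apply hT hm (Subgroup.mem_zpowers a') ha')
      C.steps [C.z] out hout (by
        intro g hg
        rw [List.mem_singleton.mp hg]
        exact ⟨hzv, ⟨z, Subgroup.mem_subgroupOf.mp hzT, hz⟩⟩)
    have h1 : grp 24 C.chain ≤ T.map ι := by
      refine (Subgroup.closure_le _).mpr ?_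
      rintro g ⟨s, hs, rfl⟩
      have := List.all_eq_true.mp hfus s hs
      simp only [decide_eq_true_eq] at this
      exact (hall s this).2
    intro x hx
    obtain ⟨y, hy, e⟩ := h1 (show ι x ∈ grp 24 C.chain from hx)
    exact hι e ▸ hy
  · rw [hS₀, hN]
    exact fun x hx => Subgroup.subset_closure (Or.inl (Or.inr hx))

/-- The inclusion of a group of permutations of the 24 points. -/
noncomputable def toFin (H : Subgroup (Equiv.Perm GolayPt)) : H →* Equiv.Perm (Fin 24) :=
  permHom.symm.toMonoidHom.comp H.subtype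

/-- The main theorem on the 24 points. -/
theorem isSimple_onPts {H : Subgroup (Equiv.Perm GolayPt)} (cG : List Level) (hH : H = onPts cG) (C : Cert)
    (hcG : check 24 cG = true) (hbase : baseCheck cG C = true) (hcent : centreCheck C = true)
    (hser : seriesCheck C = true) (hfus : fusionCheck cG C = true)
    {m : ℕ} (hsizeS : size C.chain = 2 ^ (m + 1)) (hodd : size cG / 2 ^ (m + 1) % 2 = 1)
    (S : Sylow 2 H) : (groupFusionSystem (S : Subgroup H)).IsSimple 2 := by
  refine isSimple cG C hcG hbase hcent hser hfus hsizeS hodd (toFin H)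
    (permHom.symm.injective.comp H.subtype_injective) ?_ S
  rw [toFin, MonoidHom.range_comp, Subgroup.range_subtype, hH, onPts, Subgroup.map_map]
  convert Subgroup.map_id _
  exact MonoidHom.ext fun g => permHom.symm_apply_apply g

end Cfsg.Lib.Golay.FusionCert
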