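import Cfsg.Agent.Golay.Translations
import Cfsg.Agent.Golay.Subgroups

/-!
Stabilisers of octads and of six-element sets.
-/

namespace Cfsg.Lib.Golay

open Cfsg Cfsg.Lib.PermCert MulAction
open scoped Pointwise

theorem mem_iff_of_smul_eq {g : Equiv.Perm GolayPt} {E : Finset GolayPt} (h : g • E = E) (x : GolayPt) :
    g x ∈ E ↔ x ∈ E := by
  conv_lhs => rw [← h]
  exact Finset.smul_mem_smul_finset_iff g

theorem smul_eq_of_mem_imp {g : Equiv.Perm GolayPt} {E : Finset GolayPt} (h : ∀ x ∈ E, g x ∈ E) : g • E = E := by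
  refine Finset.eq_of_subset_of_card_le ?_ (by rw [Finset.card_smul_finset])
  intro x hx
  obtain ⟨y, hy, rfl⟩ := Finset.mem_smul_finset.mp hx
  exact h y hy

/-- The action of a group preserving a set on that set. -/
def restrictHom (E : Finset GolayPt) (H : Subgroup (Equiv.Perm GolayPt)) (hH : ∀ g ∈ H, g • E = E) :
    H →* Equiv.Perm E where
  toFun g := (g : Equiv.Perm GolayPt).subtypePerm (mem_iff_of_smul_eq (hH g g.2))
  map_one' := Equiv.ext fun x => rfl
  map_mul' g h := Equiv.ext fun x => rfl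

theorem restrictHom_apply (E : Finset GolayPt) (H : Subgroup (Equiv.Perm GolayPt)) (hH : ∀ g ∈ H, g • E = E) (g : H)
    (x : E) : ((restrictHom E H hH g x : E) : GolayPt) = (g : Equiv.Perm GolayPt) x := rfl

theorem restrictHom_injective (E : Finset GolayPt) (H : Subgroup (Equiv.Perm GolayPt))
    (hH : ∀ g ∈ H, g • E = E) (h : ∀ g ∈ H, (∀ p ∈ E, g p = p) → g = 1) :
    Function.Injective (restrictHom E H hH) := by
  refine (injective_iff_map_eq_one _).mpr fun g hg => Subtype.ext (h g g.2 fun p hp => ?_)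
  have := congrArg (fun e : Equiv.Perm E => ((e ⟨p, hp⟩ : E) : GolayPt)) hg
  exact this

theorem card_subgroup_inter {β : Type*} [MulAction (Equiv.Perm GolayPt) β] (H : Subgroup (Equiv.Perm GolayPt)) (x : β) :
    Nat.card ↥(H ⊓ stabilizer (Equiv.Perm GolayPt) x) * (orbit H x).ncard = Nat.card H := by
  rw [← map_stabilizer,
    ← Nat.card_congr (Subgroup.equivMapOfInjective _ H.subtype H.subtype_injective).toEquiv, ← index_stabilizer,
    Subgroup.card_mul_index]

theorem card_stab_coe {β : Type*} [MulAction (Equiv.Perm GolayPt) β] (x : β) :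
    Nat.card ↥(stabilizer M24 x) = Nat.card ↥(M24 ⊓ stabilizer (Equiv.Perm GolayPt) x) := by
  rw [← map_stabilizer]
  exact Nat.card_congr (Subgroup.equivMapOfInjective _ M24.subtype M24.subtype_injective).toEquiv

/-- The stabiliser of a set in the group of the code. -/
abbrev setStab (s : Finset GolayPt) : Subgroup (Equiv.Perm GolayPt) := M24 ⊓ stabilizer (Equiv.Perm GolayPt) s

theorem smul_eq_of_mem_setStab {s : Finset GolayPt} {g : Equiv.Perm GolayPt} (hg : g ∈ setStab s) : g • s = s :=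
  hg.2

theorem card_setStab_octad {o : Finset GolayPt} (ho : o ∈ octads) : Nat.card ↥(setStab o) = 322560 := by
  have horb : orbit M24 o = octads := by
    ext d
    constructor
    · rintro ⟨g, rfl⟩; exact smul_mem_octads g.2 ho
    · intro hd
      obtain ⟨g, hg⟩ := M24_octads_transitive ho hd
      exact ⟨g, hg⟩
  have h := card_subgroup_inter M24 o
  rw [horb, ncard_octads, card_M24] at h
  change Nat.card ↥(setStab o) * 759 = 244823040 at h
  omega

theorem exists_not_mem_octad {o : Finset GolayPt} (ho : o ∈ octads) : ∃ c, c ∉ o := by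
  by_contra hne
  push Not at hne
  have := Finset.card_le_card (fun p _ => hne p : (Finset.univ : Finset GolayPt) ⊆ o)
  rw [ho.2, Finset.card_univ, Fintype.card_option, ZMod.card] at this
  omega

theorem card_not_mem_octad {o : Finset GolayPt} (ho : o ∈ octads) : Nat.card {c // c ∉ o} = 16 := by
  rw [Nat.card_eq_fintype_card, Fintype.card_subtype_compl, Fintype.card_coe, ho.2, Fintype.card_option,
    ZMod.card]

/-- Elements fixing six points of an octad are sixteen, one for each point outside. -/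
theorem card_fix_six {o A : Finset GolayPt} (ho : o ∈ octads) (hA : A ⊆ o) (h6 : 6 ≤ A.card) :
    Nat.card ↥(M24 ⊓ fixingSubgroup (Equiv.Perm GolayPt) (A : Set GolayPt)) = 16 ∧
      ∀ c, c ∉ o → ∀ c', c' ∉ o → ∃ g ∈ M24, (∀ p ∈ o, g p = p) ∧ g c = c' := by
  obtain ⟨x, a, hx, ha, hxa⟩ := exists_five h6
  have hox := octThrough_unique ho fun i => hA (hx i)
  have htrans : ∀ c, c ∉ o → ∀ c', c' ∉ o → ∃ g ∈ M24, (∀ p ∈ o, g p = p) ∧ g c = c' := by
    intro c hc c' hc'
    obtain ⟨g, hg, g1, g2, g3⟩ := exists_map_seven x x (hox ▸ hA ha) hxa (hox ▸ hc) (hox ▸ hA ha) hxa (hox ▸ hc')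
    refine ⟨g, hg, ?_, g3⟩
    refine (fix_six ho (A := insert a (Finset.univ.map x)) ?_ ?_ hg ?_).1
    · intro p hp
      simp only [Finset.mem_insert, Finset.mem_map, Finset.mem_univ, true_and] at hp
      rcases hp with rfl | ⟨i, rfl⟩
      exacts [hA ha, hA (hx i)]
    · rw [Finset.card_insert_of_notMem (by simpa using fun i => hxa i), Finset.card_map]; simp
    · intro p hp
      simp only [Finset.mem_insert, Finset.mem_map, Finset.mem_univ, true_and] at hp
      rcases hp with rfl | ⟨i, rfl⟩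
      exacts [g2, g1 i]
  refine ⟨?_, htrans⟩
  obtain ⟨c₀, hc₀⟩ := exists_not_mem_octad ho
  rw [← card_not_mem_octad ho]
  have hfix : ∀ g ∈ M24 ⊓ fixingSubgroup (Equiv.Perm GolayPt) (A : Set GolayPt), ∀ p ∈ o, g p = p :=
    fun g hg => (fix_six ho hA h6 hg.1 fun p hp => (mem_fixingSubgroup_iff _).mp hg.2 p hp).1
  have hout : ∀ g ∈ M24 ⊓ fixingSubgroup (Equiv.Perm GolayPt) (A : Set GolayPt), g c₀ ∉ o := fun g hg h =>
    hc₀ ((g.injective (hfix g hg _ h)) ▸ h)
  refine Nat.card_eq_of_bijective (fun g => ⟨(g : Equiv.Perm GolayPt) c₀, hout g g.2⟩) ⟨fun g k hgk => ?_, ?_⟩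
  · have he : (g : Equiv.Perm GolayPt) c₀ = (k : Equiv.Perm GolayPt) c₀ := congrArg Subtype.val hgk
    have h1 := eq_one_of_six_one ho hA h6 (k⁻¹ * g : ↥(M24 ⊓ fixingSubgroup (Equiv.Perm GolayPt) (A : Set GolayPt))).2.1
      (fun p hp => (mem_fixingSubgroup_iff _).mp (k⁻¹ * g : ↥(M24 ⊓ fixingSubgroup (Equiv.Perm GolayPt) (A : Set GolayPt))).2.2 p hp)
      hc₀ (by simp only [Subgroup.coe_mul, Subgroup.coe_inv, Equiv.Perm.mul_apply, Equiv.Perm.inv_eq_iff_eq, he])
    exact (inv_mul_eq_one.mp (Subtype.ext h1)).symm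
  · rintro ⟨c, hc⟩
    obtain ⟨g, hg, gfix, gc⟩ := htrans c₀ hc₀ c hc
    exact ⟨⟨g, hg, (mem_fixingSubgroup_iff _).mpr fun p hp => gfix p (hA hp)⟩, Subtype.ext gc⟩

theorem s0381 (o : Finset GolayPt) (ho : o ∈ octads) :
    Nat.card ↥(M24 ⊓ fixingSubgroup (Equiv.Perm GolayPt) (o : Set GolayPt)) = 16 ∧
      ∀ g ∈ M24 ⊓ fixingSubgroup (Equiv.Perm GolayPt) (o : Set GolayPt), g * g = 1 :=
  ⟨(card_fix_six ho (Finset.Subset.refl o) (by rw [ho.2]; norm_num)).1, fun _ hg =>
    (fix_six ho (Finset.Subset.refl o) (by rw [ho.2]; norm_num) hg.1 fun p hp =>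
      (mem_fixingSubgroup_iff _).mp hg.2 p hp).2⟩

/-- The complement in the octad stabiliser, restricted to the octad. -/
theorem restrict_point_stab {o : Finset GolayPt} (ho : o ∈ octads) {p : GolayPt} (hp : p ∉ o) :
    Function.Injective (restrictHom o (setStab o ⊓ stabilizer (Equiv.Perm GolayPt) p) fun _ h => h.1.2) ∧
      Nat.card ↥(setStab o ⊓ stabilizer (Equiv.Perm GolayPt) p) = 20160 ∧
      (restrictHom o (setStab o ⊓ stabilizer (Equiv.Perm GolayPt) p) fun _ h => h.1.2).range = alternatingGroup o := by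
  have hinj : Function.Injective (restrictHom o (setStab o ⊓ stabilizer (Equiv.Perm GolayPt) p) fun _ h => h.1.2) :=
    restrictHom_injective _ _ _ fun g hg hfix =>
      eq_one_of_six_one ho (Finset.Subset.refl o) (by rw [ho.2]; norm_num) hg.1.1 hfix hp hg.2
  have horb : orbit ↥(setStab o) p = {c | c ∉ o} := by
    ext c
    constructor
    · rintro ⟨g, rfl⟩ h
      exact hp ((mem_iff_of_smul_eq (smul_eq_of_mem_setStab g.2) p).mp h)
    · intro hc
      obtain ⟨g, hg, gfix, gc⟩ := (card_fix_six ho (Finset.Subset.refl o) (by rw [ho.2]; norm_num)).2 p hp c hc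
      exact ⟨⟨g, hg, smul_eq_of_mem_imp fun x hx => by rwa [gfix x hx]⟩, gc⟩
  have hcard : Nat.card ↥(setStab o ⊓ stabilizer (Equiv.Perm GolayPt) p) = 20160 := by
    have h := card_subgroup_inter (setStab o) p
    rw [horb, card_setStab_octad ho,
      show ({c | c ∉ o} : Set GolayPt).ncard = 16 from (Nat.card_coe_set_eq _).symm.trans (card_not_mem_octad ho)] at h
    omega
  refine ⟨hinj, hcard, Equiv.Perm.eq_alternatingGroup_of_index_eq_two ?_⟩
  have h := Subgroup.card_mul_index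
    (restrictHom o (setStab o ⊓ stabilizer (Equiv.Perm GolayPt) p) fun _ h => h.1.2).range
  rw [← Nat.card_congr (MonoidHom.ofInjective hinj).toEquiv, hcard, Nat.card_perm, Nat.card_eq_fintype_card,
    Fintype.card_coe, ho.2] at h
  norm_num [Nat.factorial] at h
  omega

theorem s1554 (o : Finset GolayPt) (ho : o ∈ octads) (p : GolayPt) (hp : p ∉ o) :
    (M24 ⊓ fixingSubgroup (Equiv.Perm GolayPt) (o : Set GolayPt)) ⊓
        (setStab o ⊓ stabilizer (Equiv.Perm GolayPt) p) = ⊥ ∧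
      (M24 ⊓ fixingSubgroup (Equiv.Perm GolayPt) (o : Set GolayPt)) ⊔
        (setStab o ⊓ stabilizer (Equiv.Perm GolayPt) p) = setStab o ∧
      Nonempty (↥(setStab o ⊓ stabilizer (Equiv.Perm GolayPt) p) ≃* alternatingGroup (Fin 8)) := by
  obtain ⟨hinj, -, hrange⟩ := restrict_point_stab ho hp
  refine ⟨?_, le_antisymm (sup_le ?_ inf_le_left) fun g hg => ?_, ?_⟩
  · refine eq_bot_iff.mpr fun g hg => Subgroup.mem_bot.mpr ?_
    exact eq_one_of_six_one ho (Finset.Subset.refl o) (by rw [ho.2]; norm_num) hg.1.1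
      (fun q hq => (mem_fixingSubgroup_iff _).mp hg.1.2 q hq) hp hg.2.2
  · exact fun g hg => ⟨hg.1, smul_eq_of_mem_imp fun x hx => by
      rwa [show g x = x from (mem_fixingSubgroup_iff _).mp hg.2 x hx]⟩
  · have hgp : g p ∉ o := fun h => hp ((mem_iff_of_smul_eq hg.2 p).mp h)
    obtain ⟨t, ht, tfix, tp⟩ := (card_fix_six ho (Finset.Subset.refl o) (by rw [ho.2]; norm_num)).2 p hp (g p) hgp
    rw [← mul_inv_cancel_left t g]
    refine Subgroup.mul_mem_sup ⟨ht, (mem_fixingSubgroup_iff _).mpr tfix⟩ ⟨⟨M24.mul_mem (M24.inv_mem ht) hg.1, ?_⟩, ?_⟩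
    · exact mem_stabilizer_iff.mpr (by
        rw [mul_smul, hg.2, inv_smul_eq_iff]
        exact (smul_eq_of_mem_imp fun x hx => by rwa [tfix x hx]).symm)
    · exact mem_stabilizer_iff.mpr (by
        show (t⁻¹ * g) p = p
        rw [Equiv.Perm.mul_apply, Equiv.Perm.inv_eq_iff_eq, tp])
  · exact ⟨((MonoidHom.ofInjective hinj).trans (MulEquiv.subgroupCongr hrange)).trans
      (Equiv.altCongrHom (o.equivFinOfCardEq ho.2))⟩

theorem s1553 (o : Finset GolayPt) (ho : o ∈ octads) :
    {e : Equiv.Perm ↥o | ∃ g : Equiv.Perm GolayPt, g ∈ M24 ∧ ∃ h : (∀ x, g x ∈ o ↔ x ∈ o), g.subtypePerm h = e}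
      = (alternatingGroup ↥o : Set (Equiv.Perm ↥o)) := by
  obtain ⟨p, hp⟩ := exists_not_mem_octad ho
  obtain ⟨-, -, hrange⟩ := restrict_point_stab ho hp
  rw [← hrange]
  ext e
  constructor
  · rintro ⟨g, hg, hgo, rfl⟩
    have hstab : g • o = o := smul_eq_of_mem_imp fun x hx => (hgo x).mpr hx
    have hgp : g p ∉ o := fun h => hp ((hgo p).mp h)
    obtain ⟨t, ht, tfix, tp⟩ := (card_fix_six ho (Finset.Subset.refl o) (by rw [ho.2]; norm_num)).2 p hp (g p) hgp
    refine ⟨⟨t⁻¹ * g, ⟨M24.mul_mem (M24.inv_mem ht) hg, ?_⟩, ?_⟩, Equiv.ext fun x => Subtype.ext ?_⟩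
    · exact mem_stabilizer_iff.mpr (by
        rw [mul_smul, hstab, inv_smul_eq_iff]
        exact (smul_eq_of_mem_imp fun x hx => by rwa [tfix x hx]).symm)
    · exact mem_stabilizer_iff.mpr (by
        show (t⁻¹ * g) p = p
        rw [Equiv.Perm.mul_apply, Equiv.Perm.inv_eq_iff_eq, tp])
    · show (t⁻¹ * g) x = g x
      rw [Equiv.Perm.mul_apply, Equiv.Perm.inv_eq_iff_eq, tfix _ ((hgo x).mpr x.2)]
  · rintro ⟨g, rfl⟩
    exact ⟨g, g.2.1.1, mem_iff_of_smul_eq g.2.1.2, rfl⟩

theorem exists_perm_extend {E : Finset GolayPt} (hE : E.card = 6) (σ : Equiv.Perm ↥E) :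
    ∃ g ∈ M24, ∀ p : ↥E, g p = σ p := by
  obtain ⟨x, e, hx, he, hxe⟩ := exists_five hE.ge
  let x' : Fin 5 ↪ GolayPt := ⟨fun i => σ ⟨x i, hx i⟩, fun i j h => x.injective
    (congrArg Subtype.val (σ.injective (Subtype.ext h)))⟩
  have hE' : E = insert e (Finset.univ.map x) := by
    refine (Finset.eq_of_subset_of_card_le ?_ ?_).symm
    · intro p hp
      simp only [Finset.mem_insert, Finset.mem_map, Finset.mem_univ, true_and] at hp
      rcases hp with rfl | ⟨i, rfl⟩
      exacts [he, hx i]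
    · rw [hE, Finset.card_insert_of_notMem (by simpa using hxe), Finset.card_map]; simp
  set e' : GolayPt := ((σ ⟨e, he⟩ : E) : GolayPt) with he'
  have hx'e : ∀ i, x' i ≠ e' := fun i h => hxe i (congrArg Subtype.val (σ.injective (Subtype.ext h)))
  have hx'E : ∀ i, x' i ∈ E := fun i => (σ ⟨x i, hx i⟩).2
  have he'E : e' ∈ E := (σ ⟨e, he⟩).2
  have hin : e ∈ octThrough x ↔ e' ∈ octThrough x' := by
    have hE'' : E = insert e' (Finset.univ.map x') := by
      refine (Finset.eq_of_subset_of_card_le ?_ ?_).symm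
      · intro p hp
        simp only [Finset.mem_insert, Finset.mem_map, Finset.mem_univ, true_and] at hp
        rcases hp with rfl | ⟨i, rfl⟩
        exacts [he'E, hx'E i]
      · rw [hE, Finset.card_insert_of_notMem (by simpa using hx'e), Finset.card_map]; simp
    constructor
    · intro h
      have hsub : E ⊆ octThrough x := by
        rw [hE']; exact Finset.insert_subset h (octThrough_spec x).2
      rw [← octThrough_unique (octThrough_spec x).1 fun i => hsub (hx'E i)]
      exact hsub he'E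
    · intro h
      have hsub : E ⊆ octThrough x' := by
        rw [hE'']; exact Finset.insert_subset h (octThrough_spec x').2
      rw [← octThrough_unique (octThrough_spec x').1 fun i => hsub (hx i)]
      exact hsub he
  have key : ∃ g ∈ M24, (∀ i, g (x i) = x' i) ∧ g e = e' := by
    by_cases h : e ∈ octThrough x
    · obtain ⟨c, hc⟩ := exists_not_mem_octad (octThrough_spec x).1
      obtain ⟨c', hc'⟩ := exists_not_mem_octad (octThrough_spec x').1
      obtain ⟨g, hg, g1, g2, -⟩ := exists_map_seven x x' h hxe hc (hin.mp h) hx'e hc'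
      exact ⟨g, hg, g1, g2⟩
    · obtain ⟨a, ha, hax⟩ := Finset.exists_mem_notMem_of_card_lt_card (s := Finset.univ.map x) (t := octThrough x)
        (by rw [Finset.card_map, (octThrough_spec x).1.2]; simp)
      obtain ⟨a', ha', hax'⟩ := Finset.exists_mem_notMem_of_card_lt_card (s := Finset.univ.map x')
        (t := octThrough x') (by rw [Finset.card_map, (octThrough_spec x').1.2]; simp)
      obtain ⟨g, hg, g1, -, g3⟩ := exists_map_seven x x' ha (fun i hi => hax (Finset.mem_map.mpr ⟨i, by simp, hi⟩)) h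
        ha' (fun i hi => hax' (Finset.mem_map.mpr ⟨i, by simp, hi⟩)) (fun h' => h (hin.mpr h'))
      exact ⟨g, hg, g1, g3⟩
  obtain ⟨g, hg, g1, g2⟩ := key
  refine ⟨g, hg, fun p => ?_⟩
  have hp : (p : GolayPt) ∈ insert e (Finset.univ.map x) := hE' ▸ p.2
  simp only [Finset.mem_insert, Finset.mem_map, Finset.mem_univ, true_and] at hp
  rcases hp with h | ⟨i, h⟩
  · rw [show p = ⟨e, he⟩ from Subtype.ext h]; exact g2
  · rw [show p = ⟨x i, hx i⟩ from Subtype.ext h.symm]; exact g1 i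

theorem card_fix_outside {E : Finset GolayPt} (hE : E.card = 6) (hno : ¬ ∃ o ∈ octads, E ⊆ o) :
    Nat.card ↥(M24 ⊓ fixingSubgroup (Equiv.Perm GolayPt) (E : Set GolayPt)) = 3 := by
  obtain ⟨x, e, hx, he, hxe⟩ := exists_five hE.ge
  have hsub : insert e (Finset.univ.map x) = E := by
    refine Finset.eq_of_subset_of_card_le ?_ ?_
    · intro p hp
      simp only [Finset.mem_insert, Finset.mem_map, Finset.mem_univ, true_and] at hp
      rcases hp with rfl | ⟨i, rfl⟩
      exacts [he, hx i]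
    · rw [hE, Finset.card_insert_of_notMem (by simpa using hxe), Finset.card_map]; simp
  have hout : e ∉ octThrough x := fun h => hno ⟨_, (octThrough_spec x).1, by
    rw [← hsub]; exact Finset.insert_subset h (octThrough_spec x).2⟩
  obtain ⟨a, ha, hax⟩ := Finset.exists_mem_notMem_of_card_lt_card (s := Finset.univ.map x) (t := octThrough x)
    (by rw [Finset.card_map, (octThrough_spec x).1.2]; simp)
  have hcard : Nat.card ↥(octThrough x \ Finset.univ.map x) = 3 := by
    rw [Nat.card_eq_fintype_card, Fintype.card_coe, Finset.card_sdiff_of_subset (octThrough_spec x).2,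
      (octThrough_spec x).1.2, Finset.card_map]; simp
  have hfix : ∀ g : ↥(M24 ⊓ fixingSubgroup (Equiv.Perm GolayPt) (E : Set GolayPt)),
      (g : Equiv.Perm GolayPt) a ∈ octThrough x \ Finset.univ.map x := fun g => by
    have hf : ∀ p ∈ E, (g : Equiv.Perm GolayPt) p = p := fun p hp => (mem_fixingSubgroup_iff _).mp g.2.2 p hp
    have ho : (g : Equiv.Perm GolayPt) • octThrough x = octThrough x := octThrough_unique
      (smul_mem_octads g.2.1 (octThrough_spec x).1) fun i => by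
        rw [← hf _ (hx i)]
        exact Finset.smul_mem_smul_finset ((octThrough_spec x).2 (Finset.mem_map.mpr ⟨i, by simp, rfl⟩))
    refine Finset.mem_sdiff.mpr ⟨(mem_iff_of_smul_eq ho a).mpr ha, fun h => ?_⟩
    obtain ⟨i, -, hi⟩ := Finset.mem_map.mp h
    exact hax (Finset.mem_map.mpr ⟨i, by simp, (g : Equiv.Perm GolayPt).injective ((hf _ (hx i)).trans hi)⟩)
  rw [← hcard]
  refine Nat.card_eq_of_bijective (fun g => ⟨(g : Equiv.Perm GolayPt) a, hfix g⟩) ⟨fun g k hgk => ?_, ?_⟩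
  · have he' : (g : Equiv.Perm GolayPt) a = (k : Equiv.Perm GolayPt) a := congrArg Subtype.val hgk
    have hf := fun (p) (hp : p ∈ E) => (mem_fixingSubgroup_iff _).mp
      (k⁻¹ * g : ↥(M24 ⊓ fixingSubgroup (Equiv.Perm GolayPt) (E : Set GolayPt))).2.2 p hp
    have h1 := eq_one_of_six_one (octThrough_spec x).1 (A := insert a (Finset.univ.map x))
      (Finset.insert_subset ha (octThrough_spec x).2)
      (by rw [Finset.card_insert_of_notMem hax, Finset.card_map]; simp)
      (k⁻¹ * g : ↥(M24 ⊓ fixingSubgroup (Equiv.Perm GolayPt) (E : Set GolayPt))).2.1 (fun p hp => by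
        rcases Finset.mem_insert.mp hp with rfl | hp
        · simp only [Subgroup.coe_mul, Subgroup.coe_inv, Equiv.Perm.mul_apply, Equiv.Perm.inv_eq_iff_eq, he']
        · obtain ⟨i, -, rfl⟩ := Finset.mem_map.mp hp
          exact hf _ (hx i)) hout (hf e he)
    exact (inv_mul_eq_one.mp (Subtype.ext h1)).symm
  · rintro ⟨a', ha'⟩
    obtain ⟨ha'o, ha'x⟩ := Finset.mem_sdiff.mp ha'
    obtain ⟨g, hg, g1, g2, g3⟩ := exists_map_seven x x ha (fun i hi => hax (Finset.mem_map.mpr ⟨i, by simp, hi⟩)) hout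
      ha'o (fun i hi => ha'x (Finset.mem_map.mpr ⟨i, by simp, hi⟩)) hout
    refine ⟨⟨g, hg, (mem_fixingSubgroup_iff _).mpr fun p hp => ?_⟩, Subtype.ext g2⟩
    rw [← hsub] at hp
    simp only [Finset.coe_insert, Finset.coe_map, Set.mem_insert_iff, Set.mem_image] at hp
    rcases hp with rfl | ⟨i, -, rfl⟩
    exacts [g3, g1 i]

theorem s5600 (E : Finset GolayPt) (hE : E.card = 6) :
    (∀ σ : Equiv.Perm ↥E, ∃ g ∈ M24, ∀ p : ↥E, g p = σ p) ∧
      ((∃ o ∈ octads, E ⊆ o) →
        Nat.card {g : Equiv.Perm GolayPt // g ∈ M24 ∧ ∀ p ∈ E, g p = p} = 16) ∧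
      ((¬ ∃ o ∈ octads, E ⊆ o) →
        Nat.card {g : Equiv.Perm GolayPt // g ∈ M24 ∧ ∀ p ∈ E, g p = p} = 3 ∧
          Nat.card ↥(stabilizer M24 E) = 2160) := by
  have hconv : Nat.card {g : Equiv.Perm GolayPt // g ∈ M24 ∧ ∀ p ∈ E, g p = p}
      = Nat.card ↥(M24 ⊓ fixingSubgroup (Equiv.Perm GolayPt) (E : Set GolayPt)) :=
    Nat.card_congr (Equiv.subtypeEquivRight fun g => by
      exact ⟨fun h => ⟨h.1, (mem_fixingSubgroup_iff _).mpr h.2⟩,
        fun h => ⟨h.1, fun p hp => (mem_fixingSubgroup_iff _).mp h.2 p hp⟩⟩)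
  refine ⟨exists_perm_extend hE, ?_, fun hno => ⟨hconv.trans (card_fix_outside hE hno), ?_⟩⟩
  · rintro ⟨o, ho, hEo⟩
    exact hconv.trans (card_fix_six ho hEo hE.ge).1
  · rw [card_stab_coe]
    let f := restrictHom E (setStab E) fun _ h => h.2
    have hsurj : Function.Surjective f := fun σ => by
      obtain ⟨g, hg, hgσ⟩ := exists_perm_extend hE σ
      refine ⟨⟨g, hg, smul_eq_of_mem_imp fun x hx => ?_⟩, Equiv.ext fun p => Subtype.ext (hgσ p)⟩
      have := hgσ ⟨x, hx⟩
      exact this ▸ (σ ⟨x, hx⟩).2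
    have hker : Nat.card f.ker = 3 := by
      rw [← card_fix_outside hE hno]
      refine Nat.card_congr ⟨fun g => ⟨g.1, g.1.2.1, (mem_fixingSubgroup_iff _).mpr fun p hp => ?_⟩,
        fun g => ⟨⟨g, g.2.1, smul_eq_of_mem_imp fun x hx => ?_⟩, ?_⟩, fun g => rfl, fun g => rfl⟩
      · exact congrArg (fun e : Equiv.Perm E => ((e ⟨p, hp⟩ : E) : GolayPt)) g.2
      · have := (mem_fixingSubgroup_iff _).mp g.2.2 x hx
        rw [show (g : Equiv.Perm GolayPt) x = x from this]; exact hx
      · exact Equiv.ext fun p => Subtype.ext ((mem_fixingSubgroup_iff _).mp g.2.2 p p.2)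
    have h := Subgroup.card_mul_index f.ker
    have hE6 : Nat.card ↥E = 6 := by rw [Nat.card_eq_fintype_card, Fintype.card_coe, hE]
    rw [hker, Subgroup.index_ker, MonoidHom.range_eq_top.mpr hsurj, Subgroup.card_top, Nat.card_perm, hE6] at h
    rw [show Nat.factorial 6 = 720 from rfl] at h
    exact h.symm

theorem s5521_fix (B : Finset GolayPt) (hB : B.card ≤ 6) : ∃ g ∈ M24, g ≠ 1 ∧ ∀ b ∈ B, g b = b := by
  obtain ⟨E, hBE, -, hE⟩ := Finset.exists_subsuperset_card_eq (Finset.subset_univ B) hB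
    (by rw [Finset.card_univ, Fintype.card_option, ZMod.card]; norm_num)
  have h2 : 1 < Nat.card ↥(M24 ⊓ fixingSubgroup (Equiv.Perm GolayPt) (E : Set GolayPt)) := by
    by_cases h : ∃ o ∈ octads, E ⊆ o
    · obtain ⟨o, ho, hEo⟩ := h
      rw [(card_fix_six ho hEo hE.ge).1]; norm_num
    · rw [card_fix_outside hE h]; norm_num
  have := Finite.one_lt_card_iff_nontrivial.mp h2
  obtain ⟨g, hg⟩ := exists_ne (1 : ↥(M24 ⊓ fixingSubgroup (Equiv.Perm GolayPt) (E : Set GolayPt)))
  exact ⟨g, g.2.1, fun h => hg (Subtype.ext h), fun b hb => (mem_fixingSubgroup_iff _).mp g.2.2 b (hBE hb)⟩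

theorem s5521 : (∀ B : Finset GolayPt, B.card ≤ 6 → ∃ g ∈ M24, g ≠ 1 ∧ ∀ b ∈ B, g b = b) ∧
    (∃ B : Finset GolayPt, B.card = 7 ∧ ∀ g ∈ M24, (∀ b ∈ B, g b = b) → g = 1) := by
  refine ⟨s5521_fix, (([0, 1, 2, 3, 4, 7, 5] : List ℕ).map ptAt).toFinset, by decide +kernel, fun g hg h => ?_⟩
  exact eq_one_of_fix hg fun i hi => h _ (List.mem_toFinset.mpr (List.mem_map.mpr ⟨i, hi, rfl⟩))

end Cfsg.Lib.Golay
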