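import Cfsg.Agent.Golay.StdObjects
import Cfsg.Agent.Golay.FusionCert
import Cfsg.Agent.Golay.ElementData

/-!
Classes of elements of order 2 and 3 in the group of the code; centralisers of the involutions.
-/

set_option autoImplicit false

namespace Cfsg.Lib.Golay

open Cfsg Cfsg.Lib.PermCert MulAction
open scoped Pointwise

/-- A number with the listed 16-bit digits. -/
def pack (l : List ℕ) : ℕ := l.foldr (fun v a => v + 65536 * a) 0

theorem ap_pack : ∀ (l : List ℕ), (∀ v ∈ l, v < 65536) → ∀ (i : ℕ) (hi : i < l.length), ap (pack l) i = l[i]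
  | [], _, i, hi => absurd hi (Nat.not_lt_zero i)
  | v :: l, hv, 0, _ => by
    have := hv v List.mem_cons_self
    simp only [ap, pack, List.foldr_cons, Nat.mul_zero, Nat.shiftRight_zero, List.getElem_cons_zero]
    omega
  | v :: l, hv, i + 1, hi => by
    have h := ap_pack l (fun w hw => hv w (List.mem_cons_of_mem v hw)) i (by simpa using hi)
    have := hv v List.mem_cons_self
    simp only [ap, pack, List.foldr_cons, List.getElem_cons_succ] at h ⊢
    rw [show 16 * (i + 1) = 16 + 16 * i by ring, Nat.shiftRight_add]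
    rw [Nat.shiftRight_eq_div_pow (v + _) 16]
    norm_num
    rw [show (v + 65536 * List.foldr (fun v a => v + 65536 * a) 0 l) / 65536
      = List.foldr (fun v a => v + 65536 * a) 0 l by omega]
    exact h

/-- Conjugation of the permutations of the points. -/
structure CJ where
  /-- The permutation. -/
  perm : Equiv.Perm GolayPt

instance : MulAction (Equiv.Perm GolayPt) CJ where
  smul g x := ⟨g * x.perm * g⁻¹⟩
  one_smul x := by cases x; show CJ.mk _ = _; simp
  mul_smul g h x := by show CJ.mk _ = CJ.mk (g * (h * x.perm * h⁻¹) * g⁻¹); simp [mul_assoc]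

/-- The forward table of a permutation. -/
def cjEnc (x : CJ) : ℕ := pack ((List.range 24).map fun i => pidx (x.perm (ptAt i)))

/-- Conjugation of tables. -/
def cjAct (g : FG) (E : ℕ) : ℕ := pack ((List.range 24).map fun i => ap g.1.1 (ap E (ap g.1.2 i)))

theorem ap_cjEnc (x : CJ) {i : ℕ} (hi : i < 24) : ap (cjEnc x) i = pidx (x.perm (ptAt i)) := by
  rw [cjEnc, ap_pack _ (fun v hv => by
    obtain ⟨j, -, rfl⟩ := List.mem_map.mp hv
    exact (pidx_lt _).trans (by norm_num)) i (by simpa using hi)]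
  simp

theorem ptAt_pidx (p : GolayPt) : ptAt (pidx p) = p := ptEquiv.symm_apply_apply p

theorem cjEnc_injective : Function.Injective cjEnc := by
  intro x y h
  obtain ⟨a⟩ := x
  obtain ⟨b⟩ := y
  refine congrArg CJ.mk (Equiv.ext fun p => pidx_injective ?_)
  have h1 := ap_cjEnc ⟨a⟩ (pidx_lt p)
  have h2 := ap_cjEnc ⟨b⟩ (pidx_lt p)
  rw [h, h2] at h1
  dsimp only at h1
  rw [ptAt_pidx] at h1
  exact h1.symm

theorem cjEnc_smul {g : FG} (hg : fvalid g = true) (x : CJ) : cjEnc (toP g.1 • x) = cjAct g (cjEnc x) := by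
  unfold cjAct
  conv_lhs => unfold cjEnc
  refine congrArg pack (List.map_congr_left fun i hi => ?_)
  have hi : i < 24 := List.mem_range.mp hi
  have hv := valid_of_fvalid hg
  have hv' := valid_pinv hv
  have e : (toP g.1)⁻¹ = toP (pinv g.1) := by rw [toP, toP, perm_pinv hv, map_inv]
  show pidx ((toP g.1 * x.perm * (toP g.1)⁻¹) (ptAt i)) = _
  rw [Equiv.Perm.mul_apply, Equiv.Perm.mul_apply, e, toP_ptAt hv' hi, pidx_toP hv]
  show _ = ap g.1.1 (ap (cjEnc x) (ap (pinv g.1).1 i))
  rw [ap_cjEnc x (valid_lt hv' hi)]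

/-- Permutations, by tables, under conjugation. -/
def cjCoding : Coding CJ where
  enc := cjEnc
  act := cjAct
  inj := cjEnc_injective
  spec _ hg x := cjEnc_smul hg x

/-- The number of fixed positions of a table. -/
def nfix (g : PP) : ℕ := (List.range 24).countP fun i => ap g.1 i == i

/-- The number of fixed points. -/
def fixCard (g : Equiv.Perm GolayPt) : ℕ := (Finset.univ.filter fun p => g p = p).card

theorem fixCard_toP {g : PP} (hg : valid 24 g = true) : fixCard (toP g) = nfix g := by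
  rw [fixCard, nfix, List.countP_eq_length_filter, ← List.toFinset_card_of_nodup (List.nodup_range.filter _)]
  refine Finset.card_bij (fun p _ => pidx p) (fun p hp => ?_) (fun p _ q _ h => pidx_injective h) fun i hi => ?_
  · simp only [Finset.mem_filter, Finset.mem_univ, true_and] at hp
    simp only [List.mem_toFinset, List.mem_filter, List.mem_range, beq_iff_eq]
    exact ⟨pidx_lt p, by rw [← pidx_toP hg, hp]⟩
  · simp only [List.mem_toFinset, List.mem_filter, List.mem_range, beq_iff_eq] at hi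
    refine ⟨ptAt i, ?_, pidx_ptAt ⟨i, hi.1⟩⟩
    simp only [Finset.mem_filter, Finset.mem_univ, true_and]
    rw [toP_ptAt hg hi.1, hi.2]

theorem fixCard_conj (h g : Equiv.Perm GolayPt) : fixCard (h * g * h⁻¹) = fixCard g := by
  refine Finset.card_bij (fun p _ => h⁻¹ p) (fun p hp => ?_) (fun p _ q _ e => h⁻¹.injective e) fun q hq => ?_
  · simp only [Finset.mem_filter, Finset.mem_univ, true_and] at hp ⊢
    exact h.injective (by simpa [Equiv.Perm.mul_apply] using hp)
  · simp only [Finset.mem_filter, Finset.mem_univ, true_and] at hq ⊢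
    exact ⟨h q, by simp [Equiv.Perm.mul_apply, hq], by simp⟩

theorem fixCard_eq_zero {g : Equiv.Perm GolayPt} : fixCard g = 0 ↔ ∀ p, g p ≠ p := by
  simp [fixCard, Finset.filter_eq_empty_iff]

theorem elems_spec {c : List Level} (h : check 24 c = true) {x : Equiv.Perm GolayPt} (hx : x ∈ onPts c) :
    ∃ w ∈ FusionCert.elems c, (∀ s ∈ w, valid 24 s = true) ∧ ∀ p, pidx (x p) = evalWord w (pidx p) := by
  obtain ⟨g, hg, rfl⟩ := hx
  have hg' : g ∈ prodSet 24 c := by rw [(chain_spec h).1]; exact hg
  obtain ⟨w, hw, hv, rfl⟩ := FusionCert.mem_elems h hg'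
  refine ⟨w, hw, hv, fun p => ?_⟩
  rw [← show (ptEquiv p : ℕ) = pidx p from rfl, ← wperm_apply hv]
  exact congrArg Fin.val (ptEquiv.apply_symm_apply _)

/-- A word is conjugate to a table by a given one. -/
def conjBy (w : List PP) (h r : PP) : Bool :=
  (List.range 24).all fun i => evalWord w (ap h.1 i) == ap h.1 (ap r.1 i)

/-- Every element of order dividing `k` of a chain is conjugate to one of two. -/
def classesOK (c : List Level) (k : ℕ) (certs : List PP) (r s : PP) : Bool :=
  certs.all preserves && valid 24 r && valid 24 s &&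
    (FusionCert.elems c).all fun w =>
      isId 24 w || !(isId 24 (List.replicate k w).flatten) || certs.any fun h => conjBy w h r || conjBy w h s

theorem evalWord_append (u v : List PP) (i : ℕ) : evalWord (u ++ v) i = evalWord u (evalWord v i) :=
  List.foldr_append ..

theorem classesOK_sound {c : List Level} {k : ℕ} {certs : List PP} {r s : PP} (hc : check 24 c = true)
    (h : classesOK c k certs r s = true) {x : Equiv.Perm GolayPt} (hx : x ∈ onPts c) (hx1 : x ≠ 1) (hxk : x ^ k = 1) :
    ∃ g ∈ M24, x = g * toP r * g⁻¹ ∨ x = g * toP s * g⁻¹ := by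
  simp only [classesOK, Bool.and_eq_true, List.all_eq_true, Bool.or_eq_true, List.any_eq_true,
    Bool.not_eq_true'] at h
  obtain ⟨⟨⟨hp, hr⟩, hs⟩, hall⟩ := h
  obtain ⟨w, hw, -, hev⟩ := elems_spec hc hx
  have hpow : ∀ n p, evalWord (List.replicate n w).flatten (pidx p) = pidx ((x ^ n) p) := by
    intro n
    induction n with
    | zero => intro p; rfl
    | succ n ih =>
      intro p
      rw [List.replicate_succ, List.flatten_cons, evalWord_append, ih, pow_succ', Equiv.Perm.mul_apply, hev]
  rcases hall w hw with (h1 | h2) | ⟨g, hg, h3⟩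
  · refine absurd (Equiv.ext fun p => pidx_injective ?_) hx1
    simp only [isId, List.all_eq_true, List.mem_range, beq_iff_eq] at h1
    rw [hev, h1 _ (pidx_lt p)]; rfl
  · exfalso
    rw [Bool.eq_false_iff] at h2
    apply h2
    simp only [isId, List.all_eq_true, List.mem_range, beq_iff_eq]
    intro i hi
    have e : pidx (ptAt i) = i := pidx_ptAt ⟨i, hi⟩
    rw [← e, hpow, hxk]; rfl
  · have hgm := toP_mem_M24 (hp g hg)
    have hgv : valid 24 g = true := by have := hp g hg; simp only [preserves, Bool.and_eq_true] at this; exact this.1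
    have key : ∀ r : PP, valid 24 r = true → conjBy w g r = true → x = toP g * toP r * (toP g)⁻¹ := by
      intro r hr hc
      simp only [conjBy, List.all_eq_true, List.mem_range, beq_iff_eq] at hc
      rw [eq_mul_inv_iff_mul_eq]
      refine Equiv.ext fun p => pidx_injective ?_
      rw [Equiv.Perm.mul_apply, Equiv.Perm.mul_apply, hev, pidx_toP hgv, pidx_toP hgv, pidx_toP hr,
        hc _ (pidx_lt p)]
    rcases h3 with h3 | h3
    · exact ⟨_, hgm, Or.inl (key r hr h3)⟩
    · exact ⟨_, hgm, Or.inr (key s hs h3)⟩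

/-- The two classes, from a certified Sylow subgroup. -/
theorem classes_of_sylow {K : CG} (hK : K.ok = true) (hin : gensIn K cgM24 = true) {k p e : ℕ} [Fact p.Prime]
    (hk : k = p) (hsize : size K.chain = p ^ e) (he : p ^ e ∣ 244823040 ∧ ¬ p ^ (e + 1) ∣ 244823040)
    {certs : List PP} {r s : PP} (h : classesOK K.chain k certs r s = true)
    {x : Equiv.Perm GolayPt} (hx : x ∈ M24) (ho : orderOf x = k) :
    ∃ g ∈ M24, x = g * toP r * g⁻¹ ∨ x = g * toP s * g⁻¹ := by
  subst hk
  have hle : K.grp ≤ M24 := grp_cgM24 ▸ grp_le_of_gensIn cgM24_ok hK hin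
  have hcard : Nat.card (K.grp.subgroupOf M24) = k ^ (Nat.card M24).factorization k := by
    rw [Nat.card_congr (Subgroup.subgroupOfEquivOfLe hle).toEquiv, CG.card_grp hK, hsize]
    congr 1
    rw [card_M24]
    have h1 := (Fact.out : k.Prime).pow_dvd_iff_le_factorization (k := e) (n := 244823040) (by norm_num)
    have h2 := (Fact.out : k.Prime).pow_dvd_iff_le_factorization (k := e + 1) (n := 244823040) (by norm_num)
    have := h1.mp he.1
    have := fun h => he.2 (h2.mpr h)
    omega
  set P : Sylow k M24 := Sylow.ofCard _ hcard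
  have hoy : orderOf (⟨x, hx⟩ : M24) = k := by rw [Subgroup.orderOf_mk]; exact ho
  obtain ⟨Q, hQ⟩ := (IsPGroup.of_card (p := k) (n := 1) ((Nat.card_zpowers _).trans (hoy.trans (pow_one k).symm))).exists_le_sylow
  obtain ⟨g, hg⟩ := MulAction.exists_smul_eq M24 P Q
  have hmem : (⟨x, hx⟩ : M24) ∈ (g • P : Sylow k M24) := hg ▸ hQ (Subgroup.mem_zpowers _)
  obtain ⟨u, hu, hgu⟩ := hmem
  have hgu : (g : Equiv.Perm GolayPt) * u * (g : Equiv.Perm GolayPt)⁻¹ = x := congrArg Subtype.val hgu
  have hu1 : (u : Equiv.Perm GolayPt) ≠ 1 := by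
    intro e
    rw [e, mul_one, mul_inv_cancel] at hgu
    rw [← hgu, orderOf_one] at ho
    exact (Fact.out : k.Prime).one_lt.ne ho
  have huk : (u : Equiv.Perm GolayPt) ^ k = 1 := by
    have e : (u : Equiv.Perm GolayPt) = (g : Equiv.Perm GolayPt)⁻¹ * x * g := by rw [← hgu]; group
    rw [e, show (g : Equiv.Perm GolayPt)⁻¹ * x * g = MulAut.conj (g : Equiv.Perm GolayPt)⁻¹ x by simp, ← map_pow,
      ← ho, pow_orderOf_eq_one, map_one]
  obtain ⟨h', hh', hor⟩ := classesOK_sound (CG.ok_spec hK).1 h (x := (u : Equiv.Perm GolayPt)) hu hu1 huk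
  refine ⟨(g : Equiv.Perm GolayPt) * h', mul_mem g.2 hh', ?_⟩
  rcases hor with e | e <;> rw [← hgu, e]
  · left; group
  · right; group

theorem cgSyl2_ok : cgSyl2.ok = true := by decide +kernel
theorem cgSyl3_ok : cgSyl3.ok = true := by decide +kernel
theorem cgInvA_ok : cgInvA.ok = true := by decide +kernel
theorem cgInvB_ok : cgInvB.ok = true := by decide +kernel
theorem classesTwo_ok : classesOK cgSyl2.chain 2 certs2 invA.1 invB.1 = true := by decide +kernel
theorem classesThree_ok : classesOK cgSyl3.chain 3 certs3 triA.1 triB.1 = true := by decide +kernel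
theorem reps_ok : fvalid invA = true ∧ fvalid invB = true ∧ fvalid triA = true ∧ fvalid triB = true ∧
    preserves invA.1 = true ∧ preserves invB.1 = true ∧ preserves triA.1 = true ∧ preserves triB.1 = true ∧
    nfix invA.1 = 8 ∧ nfix invB.1 = 0 ∧ nfix triA.1 = 6 ∧ nfix triB.1 = 0 := by decide +kernel

theorem fixCard_reps : fixCard (toP invA.1) = 8 ∧ fixCard (toP invB.1) = 0 ∧ fixCard (toP triA.1) = 6 ∧
    fixCard (toP triB.1) = 0 := by
  obtain ⟨h1, h2, h3, h4, -, -, -, -, n1, n2, n3, n4⟩ := reps_ok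
  exact ⟨(fixCard_toP (valid_of_fvalid h1)).trans n1, (fixCard_toP (valid_of_fvalid h2)).trans n2,
    (fixCard_toP (valid_of_fvalid h3)).trans n3, (fixCard_toP (valid_of_fvalid h4)).trans n4⟩

/-- The two classes of involutions. -/
theorem involution_classes {t : Equiv.Perm GolayPt} (ht : t ∈ M24) (h2 : orderOf t = 2) :
    ∃ g ∈ M24, (t = g * toP invA.1 * g⁻¹ ∧ fixCard t = 8) ∨ (t = g * toP invB.1 * g⁻¹ ∧ fixCard t = 0) := by
  haveI : Fact (Nat.Prime 2) := ⟨Nat.prime_two⟩
  obtain ⟨g, hg, e | e⟩ := classes_of_sylow cgSyl2_ok (by decide +kernel) (p := 2) rfl (e := 10)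
    (by decide +kernel) (by norm_num) classesTwo_ok ht h2
  · exact ⟨g, hg, Or.inl ⟨e, by rw [e, fixCard_conj]; exact fixCard_reps.1⟩⟩
  · exact ⟨g, hg, Or.inr ⟨e, by rw [e, fixCard_conj]; exact fixCard_reps.2.1⟩⟩

/-- The two classes of elements of order 3. -/
theorem three_classes {x : Equiv.Perm GolayPt} (hx : x ∈ M24) (h3 : orderOf x = 3) :
    ∃ g ∈ M24, (x = g * toP triA.1 * g⁻¹ ∧ fixCard x = 6) ∨ (x = g * toP triB.1 * g⁻¹ ∧ fixCard x = 0) := by
  haveI : Fact (Nat.Prime 3) := ⟨Nat.prime_three⟩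
  obtain ⟨g, hg, e | e⟩ := classes_of_sylow cgSyl3_ok (by decide +kernel) (p := 3) rfl (e := 3)
    (by decide +kernel) (by norm_num) classesThree_ok hx h3
  · exact ⟨g, hg, Or.inl ⟨e, by rw [e, fixCard_conj]; exact fixCard_reps.2.2.1⟩⟩
  · exact ⟨g, hg, Or.inr ⟨e, by rw [e, fixCard_conj]; exact fixCard_reps.2.2.2⟩⟩

end Cfsg.Lib.Golay
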