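import Cfsg.Agent.Golay.M22BlockData
import Cfsg.Agent.Golay.SmallSylow
import Cfsg.Agent.Golay.FusionM22

/-!
# Elements of prime order in M22

Fixed points, the constrained centralisers of involutions, and the centralisers of the elements of
order 7 and 11.
-/

set_option autoImplicit false

namespace Cfsg.Lib.Golay.M22Block

open Cfsg Cfsg.Lib.PermCert Cfsg.Lib.Golay.FusionCert MulAction

/-- A table in M22. -/
def wOK (s : PP) : Bool := preserves s && ap s.1 0 == 0 && ap s.1 23 == 23

theorem valid_of_wOK {s : PP} (h : wOK s = true) : valid 24 s = true := by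
  simp only [wOK, preserves, Bool.and_eq_true] at h; exact h.1.1.1

theorem ptAt_pidx (q : GolayPt) : ptAt (pidx q) = q := ptEquiv.symm_apply_apply q

theorem toP_fix {s : PP} (hv : valid 24 s = true) {q : GolayPt} (h : ap s.1 (pidx q) = pidx q) :
    toP s q = q := pidx_injective (by rw [pidx_toP hv, h])

theorem mem_M22_of_wOK {s : PP} (h : wOK s = true) : toP s ∈ Spor.M22 := by
  have hv := valid_of_wOK h
  simp only [wOK, Bool.and_eq_true, beq_iff_eq] at h
  obtain ⟨⟨h1, h2⟩, h3⟩ := h
  have e0 : pidx (some 0 : GolayPt) = 0 := by decide +kernel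
  have e1 : pidx (none : GolayPt) = 23 := by decide +kernel
  exact ⟨⟨toP_mem_M24 h1, mem_stabilizer_iff.mpr (toP_fix hv (by rw [e1]; exact h3))⟩,
    mem_stabilizer_iff.mpr (toP_fix hv (by rw [e0]; exact h2))⟩

theorem apply_none_zero {g : Equiv.Perm GolayPt} (hg : g ∈ Spor.M22) :
    g none = none ∧ g (some 0) = some 0 :=
  ⟨mem_stabilizer_iff.mp hg.1.2, mem_stabilizer_iff.mp hg.2⟩

/-- The fixed points. -/
def fixPts (g : Equiv.Perm GolayPt) : Finset GolayPt := Finset.univ.filter fun q => g q = q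

theorem mem_fixPts {g : Equiv.Perm GolayPt} {q : GolayPt} : q ∈ fixPts g ↔ g q = q := by
  simp [fixPts]

theorem card_fixPts_conj (h g : Equiv.Perm GolayPt) :
    (fixPts (h * g * h⁻¹)).card = (fixPts g).card := by
  symm
  refine Finset.card_equiv h fun q => ?_
  simp [mem_fixPts]

theorem fixPts_pow (g : Equiv.Perm GolayPt) (n : ℕ) : fixPts g ⊆ fixPts (g ^ n) := fun q hq => by
  rw [mem_fixPts] at hq ⊢
  exact Equiv.Perm.pow_apply_eq_self_of_apply_eq_self hq n

/-- The number of fixed points of a table. -/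
def nfix (s : PP) : ℕ := (Finset.univ.filter fun i : Fin 24 => ap s.1 i.val = i.val).card

theorem card_fixPts_toP {s : PP} (hv : valid 24 s = true) : (fixPts (toP s)).card = nfix s := by
  refine Finset.card_equiv ptEquiv fun q => ?_
  simp only [mem_fixPts, Finset.mem_filter, Finset.mem_univ, true_and]
  show _ ↔ ap s.1 (pidx q) = pidx q
  exact ⟨fun h => by rw [← pidx_toP hv, h], fun h => toP_fix hv h⟩

/-- A list of tables that is a group of elements of M22 with `f` fixed points off the identity. -/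
def listOK (f : ℕ) (l : List PP) : Bool :=
  isListGroup l && l.all fun s => wOK s && (nfix s == 24 || nfix s == f)

theorem eq_one_of_nfix {s : PP} (hv : valid 24 s = true) (h : nfix s = 24) : toP s = 1 := by
  have h' : (fixPts (toP s)).card = Fintype.card GolayPt := by
    rw [card_fixPts_toP hv, h, Fintype.card_option, ZMod.card]
  rw [Finset.card_eq_iff_eq_univ] at h'
  exact Equiv.ext fun q => mem_fixPts.mp (h' ▸ Finset.mem_univ q)

theorem factorization_M22 : (443520 : ℕ).factorization 2 = 7 ∧ (443520 : ℕ).factorization 3 = 2 ∧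
    (443520 : ℕ).factorization 5 = 1 ∧ (443520 : ℕ).factorization 7 = 1 ∧
    (443520 : ℕ).factorization 11 = 1 :=
  ⟨factorization_eq Nat.prime_two (by norm_num) (by norm_num) (by norm_num),
    factorization_eq Nat.prime_three (by norm_num) (by norm_num) (by norm_num),
    factorization_eq (by norm_num) (by norm_num) (by norm_num) (by norm_num),
    factorization_eq (by norm_num) (by norm_num) (by norm_num) (by norm_num),
    factorization_eq (by norm_num) (by norm_num) (by norm_num) (by norm_num)⟩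

theorem exists_conj_mem {q k : ℕ} (hq : q.Prime) {P₀ : Subgroup (Equiv.Perm GolayPt)}
    (hle : P₀ ≤ Spor.M22) (hcard : Nat.card P₀ = q ^ k) (hk : (443520 : ℕ).factorization q = k)
    {g : Equiv.Perm GolayPt} (hg : g ∈ Spor.M22) (hord : orderOf g = q) :
    ∃ h ∈ Spor.M22, h * g * h⁻¹ ∈ P₀ := by
  have := Fact.mk hq
  let P : Sylow q Spor.M22 := Sylow.ofCard (P₀.subgroupOf Spor.M22) (by
    rw [Nat.card_congr (Subgroup.subgroupOfEquivOfLe hle).toEquiv, hcard, card_M22, hk])
  let g' : Spor.M22 := ⟨g, hg⟩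
  have hpg : IsPGroup q (Subgroup.zpowers g') := IsPGroup.of_card (n := 1) (by
    rw [Nat.card_zpowers, ← Subgroup.orderOf_coe, pow_one]; exact hord)
  obtain ⟨Q, hQ⟩ := hpg.exists_le_sylow
  obtain ⟨h, hh⟩ := exists_smul_eq Spor.M22 Q P
  have hmemP : h * g' * h⁻¹ ∈ (P : Subgroup Spor.M22) := by
    rw [← hh, Sylow.coe_subgroup_smul, Subgroup.mem_pointwise_smul_iff_inv_smul_mem]
    have e : (MulAut.conj h)⁻¹ • (h * g' * h⁻¹) = g' := by
      simp only [MulAut.smul_def, MulAut.conj_inv_apply]; group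
    rw [e]; exact hQ (Subgroup.mem_zpowers g')
  exact ⟨h, h.2, Subgroup.mem_subgroupOf.mp hmemP⟩

theorem card_fixPts_of_list {q k f : ℕ} {l : List PP} (hl : listOK f l = true) (hne : l ≠ [])
    (hq : q.Prime) (hlen : l.length = q ^ k) (hk : (443520 : ℕ).factorization q = k)
    {g : Equiv.Perm GolayPt} (hg : g ∈ Spor.M22) (hord : orderOf g = q) : (fixPts g).card = f := by
  simp only [listOK, Bool.and_eq_true, List.all_eq_true, Bool.or_eq_true, beq_iff_eq] at hl
  obtain ⟨hgrp, hall⟩ := hl
  obtain ⟨P₀, hP₀, hmem⟩ := exists_listGroup hgrp hne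
  have hle : P₀ ≤ Spor.M22 := fun x hx => by
    obtain ⟨a, ha, rfl⟩ := (hmem x).mp hx
    exact mem_M22_of_wOK (hall a ha).1
  obtain ⟨h, -, hh⟩ := exists_conj_mem hq hle (by rw [hP₀, hlen]) hk hg hord
  obtain ⟨a, ha, hae⟩ := (hmem _).mp hh
  obtain ⟨hw, hn⟩ := hall a ha
  rcases hn with hn | hn
  · exfalso
    rw [eq_one_of_nfix (valid_of_wOK hw) hn] at hae
    rw [conj_eq_one_iff.mp hae.symm, orderOf_one] at hord
    exact hq.one_lt.ne hord
  · rw [← card_fixPts_conj h g, ← hae, card_fixPts_toP (valid_of_wOK hw), hn]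

theorem lists_ok : listOK 6 nineList = true ∧ listOK 4 fiveList = true ∧
    listOK 3 sevenList = true ∧ listOK 2 elevenList = true ∧ nineList.length = 9 ∧
    fiveList.length = 5 ∧ sevenList.length = 7 ∧ elevenList.length = 11 := by decide +kernel

/-! ### Involutions -/

/-- The central involution of a Sylow subgroup. -/
def zEl : PP := certM22.z

/-- The check that each involution of the Sylow subgroup is conjugate to the central one. -/
def sylTwoOK : Bool :=
  check 24 certM22.chain && decide (size certM22.chain = 128) &&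
  (topGens certM22.chain).all wOK && wOK zEl && decide (nfix zEl = 8) && invConj.all wOK &&
  (elems certM22.chain).all fun w =>
    isId 24 w || !isId 24 (w ++ w) || invConj.any fun h => same (h :: (w ++ [pinv h])) [zEl]

theorem sylTwo_ok : sylTwoOK = true := by decide +kernel

theorem wperm_append (w v : List PP) : wperm 24 (w ++ v) = wperm 24 w * wperm 24 v := by
  simp [wperm, List.map_append, List.prod_append]

/-- All involutions are conjugate to `zEl`. -/
theorem exists_conj_zEl {g : Equiv.Perm GolayPt} (hg : g ∈ Spor.M22) (hord : orderOf g = 2) :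
    ∃ h ∈ Spor.M22, h * g * h⁻¹ = toP zEl := by
  have hok := sylTwo_ok
  simp only [sylTwoOK, Bool.and_eq_true, List.all_eq_true, decide_eq_true_eq, Bool.or_eq_true,
    List.any_eq_true, Bool.not_eq_true'] at hok
  obtain ⟨⟨⟨⟨⟨⟨hchk, hsize⟩, hgen⟩, hz⟩, -⟩, hconj⟩, hall⟩ := hok
  have hle : onPts certM22.chain ≤ Spor.M22 := by
    rw [onPts, Subgroup.map_le_iff_le_comap, grp, Subgroup.closure_le]
    rintro x ⟨s, hs, rfl⟩
    exact mem_M22_of_wOK (hgen s hs)
  obtain ⟨h, hh, hmem⟩ := exists_conj_mem (k := 7) Nat.prime_two hle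
    (by rw [card_onPts hchk, hsize]; norm_num) factorization_M22.1 hg hord
  obtain ⟨x, hx, hxe⟩ := hmem
  change permHom x = h * g * h⁻¹ at hxe
  rw [SetLike.mem_coe, ← SetLike.mem_coe, ← (chain_spec hchk).1] at hx
  obtain ⟨w, hw, hwv, rfl⟩ := mem_elems hchk hx
  have h2 : (h * g * h⁻¹) * (h * g * h⁻¹) = 1 := by
    rw [← sq, conj_pow, ← hord, pow_orderOf_eq_one]; group
  rcases hall w hw with (hid | hsq) | ⟨c, hc, hsame⟩
  · exfalso
    rw [isId_sound hwv hid, map_one] at hxe
    rw [conj_eq_one_iff.mp hxe.symm, orderOf_one] at hord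
    exact absurd hord (by norm_num)
  · exfalso
    have hv2 : ∀ s ∈ w ++ w, valid 24 s = true := by
      intro s hs; rcases List.mem_append.mp hs with hs | hs <;> exact hwv s hs
    have h1 : wperm 24 (w ++ w) = wperm 24 [] := permHom.injective (by
      rw [wperm_append, map_mul, hxe, wperm_nil, map_one, h2])
    have := same_of_eq hv2 (by simp) h1
    rw [show same (w ++ w) [] = isId 24 (w ++ w) from rfl, hsq] at this
    exact Bool.false_ne_true this
  · have hcv := valid_of_wOK (hconj c hc)
    have hzv := valid_of_wOK hz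
    have hvv : ∀ s ∈ c :: (w ++ [pinv c]), valid 24 s = true := by
      intro s hs
      rcases List.mem_cons.mp hs with rfl | hs
      · exact hcv
      rcases List.mem_append.mp hs with hs | hs
      · exact hwv s hs
      · rw [List.mem_singleton] at hs; rw [hs]; exact valid_pinv hcv
    have h1 := same_sound hvv (by simpa using hzv) hsame
    rw [wperm_cons, wperm_append, wperm_cons, wperm_nil, wperm_cons, wperm_nil, mul_one,
      mul_one, perm_pinv hcv] at h1
    refine ⟨toP c * h, mul_mem (mem_M22_of_wOK (hconj c hc)) hh, ?_⟩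
    have h3 := congrArg permHom h1
    rw [map_mul, map_mul, map_inv, hxe] at h3
    show permHom (perm 24 c) * h * g * (permHom (perm 24 c) * h)⁻¹ = permHom (perm 24 zEl)
    rw [← h3]; group

theorem card_fixPts_two {g : Equiv.Perm GolayPt} (hg : g ∈ Spor.M22) (hord : orderOf g = 2) :
    (fixPts g).card = 8 := by
  obtain ⟨h, -, hh⟩ := exists_conj_zEl hg hord
  have hok := sylTwo_ok
  simp only [sylTwoOK, Bool.and_eq_true, decide_eq_true_eq] at hok
  rw [← card_fixPts_conj h g, hh, card_fixPts_toP (valid_of_wOK hok.1.1.1.2), hok.1.1.2]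

/-- Elements of prime order and their fixed points. -/
theorem card_fixPts_prime {g : Equiv.Perm GolayPt} (hg : g ∈ Spor.M22) {q : ℕ} (hq : q.Prime)
    (hord : orderOf g = q) : q = 2 ∧ (fixPts g).card = 8 ∨ q = 3 ∧ (fixPts g).card = 6 ∨
      q = 5 ∧ (fixPts g).card = 4 ∨ q = 7 ∧ (fixPts g).card = 3 ∨ q = 11 ∧ (fixPts g).card = 2 := by
  have hdvd : q ∣ 443520 := by
    have := orderOf_dvd_natCard (⟨g, hg⟩ : Spor.M22)
    rwa [card_M22, ← Subgroup.orderOf_coe, show orderOf g = q from hord] at this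
  have hne : ∀ {l : List PP} {n : ℕ}, l.length = n → 0 < n → l ≠ [] := fun h h0 hl => by
    subst hl; simp at h; omega
  obtain ⟨f2, f3, f5, f7, f11⟩ := factorization_M22
  obtain ⟨l3, l5, l7, l11, n3, n5, n7, n11⟩ := lists_ok
  have hle : q ∣ 2 ^ 7 * (3 ^ 2 * (5 * (7 * 11))) := by norm_num; exact hdvd
  rcases hq.dvd_mul.mp hle with h | h
  · obtain rfl := (Nat.prime_dvd_prime_iff_eq hq Nat.prime_two).mp (hq.dvd_of_dvd_pow h)
    exact Or.inl ⟨rfl, card_fixPts_two hg hord⟩
  rcases hq.dvd_mul.mp h with h | h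
  · obtain rfl := (Nat.prime_dvd_prime_iff_eq hq Nat.prime_three).mp (hq.dvd_of_dvd_pow h)
    exact Or.inr (Or.inl ⟨rfl, card_fixPts_of_list (k := 2) l3 (hne n3 (by norm_num)) hq n3 f3 hg hord⟩)
  rcases hq.dvd_mul.mp h with h | h
  · obtain rfl := (Nat.prime_dvd_prime_iff_eq hq (by norm_num)).mp h
    exact Or.inr (Or.inr (Or.inl
      ⟨rfl, card_fixPts_of_list (k := 1) l5 (hne n5 (by norm_num)) hq n5 f5 hg hord⟩))
  rcases hq.dvd_mul.mp h with h | h
  · obtain rfl := (Nat.prime_dvd_prime_iff_eq hq (by norm_num)).mp h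
    exact Or.inr (Or.inr (Or.inr (Or.inl
      ⟨rfl, card_fixPts_of_list (k := 1) l7 (hne n7 (by norm_num)) hq n7 f7 hg hord⟩)))
  · obtain rfl := (Nat.prime_dvd_prime_iff_eq hq (by norm_num)).mp h
    exact Or.inr (Or.inr (Or.inr (Or.inr
      ⟨rfl, card_fixPts_of_list (k := 1) l11 (hne n11 (by norm_num)) hq n11 f11 hg hord⟩)))

/-- A nontrivial element fixes at most eight points; eight only if it is a 2-element. -/
theorem card_fixPts_le {g : Equiv.Perm GolayPt} (hg : g ∈ Spor.M22) (hg1 : g ≠ 1) :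
    (fixPts g).card ≤ 8 ∧
      ((fixPts g).card = 8 → ∀ q : ℕ, q.Prime → q ∣ orderOf g → q = 2) := by
  have key : ∀ q : ℕ, q.Prime → q ∣ orderOf g →
      (fixPts g).card ≤ 8 ∧ ((fixPts g).card = 8 → q = 2) := by
    intro q hq hdvd
    have hord : orderOf (g ^ (orderOf g / q)) = q := orderOf_pow_orderOf_div (orderOf_pos g).ne' hdvd
    have h1 := Finset.card_le_card (fixPts_pow g (orderOf g / q))
    rcases card_fixPts_prime (pow_mem hg _) hq hord with h | h | h | h | h <;>
      (obtain ⟨rfl, hc⟩ := h; rw [hc] at h1; exact ⟨by omega, fun h8 => by omega⟩)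
  refine ⟨?_, fun h8 q hq hd => (key q hq hd).2 h8⟩
  obtain ⟨q, hq, hd⟩ := Nat.exists_prime_and_dvd (n := orderOf g)
    (fun h => hg1 (orderOf_eq_one_iff.mp h))
  exact (key q hq hd).1

/-- The check of the translations fixing the fixed points of `zEl`. -/
def fixListOK : Bool :=
  wOK zEl && fixList.all (fun e => wOK e && same [e, zEl] [zEl, e] &&
    (fixList.all fun e' => same [e, e'] [e', e]) &&
    (List.range 24).all fun i => !(ap zEl.1 i == i) || ap e.1 i == i) &&
  (List.range 24).all fun i => (ap zEl.1 i == i) || fixList.any fun e => ap e.1 2 == i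

theorem fixList_ok : fixListOK = true ∧ (ap zEl.1 2 == 2) = false := by decide +kernel

theorem toP_commute {a b : PP} (ha : valid 24 a = true) (hb : valid 24 b = true)
    (h : same [a, b] [b, a] = true) : toP a * toP b = toP b * toP a := by
  have h1 := congrArg permHom (same_sound (w := [a, b]) (v := [b, a])
    (by simp [ha, hb]) (by simp [ha, hb]) h)
  simpa [wperm, toP] using h1

/-- The elements fixing the fixed points of `g` and commuting with it. -/
def fixCent (g : Spor.M22) : Subgroup Spor.M22 where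
  carrier := {x | x * g = g * x ∧
    ∀ q, (g : Equiv.Perm GolayPt) q = q → (x : Equiv.Perm GolayPt) q = q}
  one_mem' := ⟨by simp, fun q _ => by simp⟩
  mul_mem' := by
    rintro a b ⟨ha, ha'⟩ ⟨hb, hb'⟩
    refine ⟨by rw [mul_assoc, hb, ← mul_assoc, ha, mul_assoc], fun q hq => ?_⟩
    rw [Subgroup.coe_mul, Equiv.Perm.mul_apply, hb' q hq, ha' q hq]
  inv_mem' := by
    rintro a ⟨ha, ha'⟩
    refine ⟨?_, fun q hq => ?_⟩
    · exact (Commute.inv_left ha).eq
    · rw [InvMemClass.coe_inv, Equiv.Perm.inv_eq_iff_eq]; exact (ha' q hq).symm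

theorem isPGroup_fixCent {g : Spor.M22} (hg : orderOf g = 2) : IsPGroup 2 (fixCent g) := by
  intro x
  by_cases hx : x = 1
  · exact ⟨0, by simp [hx]⟩
  have hxG : ((x : Spor.M22) : Equiv.Perm GolayPt) ≠ 1 := fun h =>
    hx (Subtype.ext (Subtype.ext h))
  have h8 := card_fixPts_two g.2 (by rw [Subgroup.orderOf_coe]; exact hg)
  have hle := Finset.card_le_card (s := fixPts (g : Equiv.Perm GolayPt))
    (t := fixPts ((x : Spor.M22) : Equiv.Perm GolayPt))
    fun q hq => mem_fixPts.mpr (x.2.2 q (mem_fixPts.mp hq))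
  obtain ⟨h1, h2⟩ := card_fixPts_le (x : Spor.M22).2 hxG
  have hq := h2 (by omega)
  obtain ⟨k, hk⟩ : ∃ k : ℕ, orderOf ((x : Spor.M22) : Equiv.Perm GolayPt) = 2 ^ k :=
    ⟨_, Nat.eq_prime_pow_of_unique_prime_dvd (orderOf_pos _).ne' fun {d} hd hdd => hq d hd hdd⟩
  refine ⟨k, Subtype.ext (Subtype.ext ?_)⟩
  simp [← hk, pow_orderOf_eq_one]

theorem centralizer_le_normalizer_fixCent (g : Spor.M22) :
    Subgroup.centralizer ({g} : Set Spor.M22) ≤ Subgroup.normalizer (fixCent g : Set Spor.M22) := by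
  intro c hc
  rw [Subgroup.mem_centralizer_singleton_iff] at hc
  have key : ∀ c : Spor.M22, c * g = g * c → ∀ x ∈ fixCent g, c * x * c⁻¹ ∈ fixCent g := by
    rintro c hc x ⟨hx, hx'⟩
    refine ⟨(((show Commute c g from hc).mul_left (show Commute x g from hx)).mul_left
      (show Commute c g from hc).inv_left).eq, fun q hq => ?_⟩
    have hq' : ((c⁻¹ * g : Spor.M22) : Equiv.Perm GolayPt) q =
        ((g * c⁻¹ : Spor.M22) : Equiv.Perm GolayPt) q := by
      rw [(show Commute c g from hc).inv_left.eq]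
    simp only [Subgroup.coe_mul, InvMemClass.coe_inv, Equiv.Perm.mul_apply, hq] at hq' ⊢
    rw [hx' _ hq'.symm]
    simp
  rw [Subgroup.mem_normalizer_iff]
  intro x
  refine ⟨key c hc x, fun hx => ?_⟩
  have := key c⁻¹ (Commute.inv_left hc).eq _ hx
  simpa [mul_assoc] using this

theorem mem_fixCent_of_commute {g : Spor.M22} (hg : orderOf g = 2) {x : Spor.M22}
    (hx : x * g = g * x) (hxQ : ∀ e ∈ fixCent g, e * x = x * e) : x ∈ fixCent g := by
  obtain ⟨h, hh, hhg⟩ := exists_conj_zEl g.2 (by rw [Subgroup.orderOf_coe]; exact hg)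
  obtain ⟨hok, hp0⟩ := fixList_ok
  simp only [fixListOK, Bool.and_eq_true, List.all_eq_true, List.any_eq_true, List.mem_range,
    Bool.or_eq_true, beq_iff_eq, Bool.not_eq_true', beq_eq_false_iff_ne] at hok
  rw [beq_eq_false_iff_ne] at hp0
  obtain ⟨⟨hzv, hall⟩, htr⟩ := hok
  have hz' := valid_of_wOK hzv
  set H : Spor.M22 := ⟨h, hh⟩ with hH
  have lift : ∀ e ∈ fixList, ∃ e' ∈ fixCent g,
      ((H * e' * H⁻¹ : Spor.M22) : Equiv.Perm GolayPt) = toP e := by
    intro e he
    obtain ⟨⟨⟨hw, hc⟩, -⟩, hf⟩ := hall e he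
    have hv := valid_of_wOK hw
    have hEz := toP_commute hv hz' hc
    refine ⟨H⁻¹ * ⟨toP e, mem_M22_of_wOK hw⟩ * H, ⟨Subtype.ext ?_, fun q hq => ?_⟩, by
      simp [hH, mul_assoc]⟩
    · have hgz : (g : Equiv.Perm GolayPt) = h⁻¹ * toP zEl * h := by rw [← hhg]; group
      simp only [Subgroup.coe_mul, InvMemClass.coe_inv, hH, hgz]
      calc h⁻¹ * toP e * h * (h⁻¹ * toP zEl * h) = h⁻¹ * (toP e * toP zEl) * h := by group
        _ = h⁻¹ * (toP zEl * toP e) * h := by rw [hEz]
        _ = _ := by group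
    · have hz1 : toP zEl (h q) = h q := by rw [← hhg]; simp [hq]
      have hi : ap zEl.1 (pidx (h q)) = pidx (h q) := by rw [← pidx_toP hz', hz1]
      have he2 : toP e (h q) = h q := toP_fix hv
        ((hf _ (pidx_lt _)).resolve_left fun hn => hn hi)
      simp [hH, he2]
  -- the element is one of the translations
  obtain ⟨X, hX⟩ : ∃ X : Equiv.Perm GolayPt, X = h * (x : Equiv.Perm GolayPt) * h⁻¹ := ⟨_, rfl⟩
  have hXz : X * toP zEl = toP zEl * X := by
    have hx' : (x : Equiv.Perm GolayPt) * g = g * x := congrArg Subtype.val hx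
    rw [hX, ← hhg]
    calc h * x * h⁻¹ * (h * g * h⁻¹) = h * ((x : Equiv.Perm GolayPt) * g) * h⁻¹ := by group
      _ = h * (g * (x : Equiv.Perm GolayPt)) * h⁻¹ := by rw [hx']
      _ = _ := by group
  have hXE : ∀ e ∈ fixList, toP e * X = X * toP e := by
    intro e he
    obtain ⟨e', he', hee⟩ := lift e he
    have := congrArg (fun t : Spor.M22 => ((H * t * H⁻¹ : Spor.M22) : Equiv.Perm GolayPt))
      (hxQ e' he')
    simp only [Subgroup.coe_mul, InvMemClass.coe_inv, hH] at this hee
    rw [hX, ← hee]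
    simpa [mul_assoc] using this
  have hout : ap zEl.1 (pidx (X (ptAt 2))) ≠ pidx (X (ptAt 2)) := by
    intro h0
    have h1 : toP zEl (X (ptAt 2)) = X (ptAt 2) := toP_fix hz' h0
    rw [← Equiv.Perm.mul_apply, ← hXz, Equiv.Perm.mul_apply, EmbeddingLike.apply_eq_iff_eq] at h1
    refine hp0 ?_
    have h2 := congrArg pidx h1
    rwa [pidx_toP hz', pidx_ptAt ⟨2, by norm_num⟩] at h2
  obtain ⟨e, he, hei⟩ := (htr _ (pidx_lt (X (ptAt 2)))).resolve_left hout
  obtain ⟨⟨⟨hw, -⟩, hcm⟩, -⟩ := hall e he
  have hv := valid_of_wOK hw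
  have he2 : toP e (ptAt 2) = X (ptAt 2) := by
    apply pidx_injective; rw [pidx_toP hv, pidx_ptAt ⟨2, by norm_num⟩]; exact hei
  obtain ⟨Y, hY⟩ : ∃ Y : Equiv.Perm GolayPt, Y = (toP e)⁻¹ * X := ⟨_, rfl⟩
  have hfix : ∀ q, toP zEl q ≠ q → Y q = q := by
    intro q hq
    obtain ⟨e₁, he₁, hi₁⟩ := (htr _ (pidx_lt q)).resolve_left fun h0 => hq (toP_fix hz' h0)
    have hv₁ := valid_of_wOK (hall e₁ he₁).1.1.1
    have hq₁ : toP e₁ (ptAt 2) = q := by
      apply pidx_injective; rw [pidx_toP hv₁, pidx_ptAt ⟨2, by norm_num⟩]; exact hi₁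
    have hc1 : Y * toP e₁ = toP e₁ * Y := by
      have := toP_commute hv hv₁ (hcm e₁ he₁)
      rw [hY, mul_assoc, ← hXE e₁ he₁, ← mul_assoc, ← mul_assoc]
      congr 1
      exact ((show Commute (toP e) (toP e₁) from this).inv_left).eq
    have hY2 : Y (ptAt 2) = ptAt 2 := by
      rw [hY, Equiv.Perm.mul_apply, ← he2, Equiv.Perm.inv_def, Equiv.symm_apply_apply]
    calc Y q = (Y * toP e₁) (ptAt 2) := by rw [Equiv.Perm.mul_apply, hq₁]
      _ = toP e₁ (Y (ptAt 2)) := by rw [hc1, Equiv.Perm.mul_apply]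
      _ = toP e₁ (ptAt 2) := by rw [hY2]
      _ = q := hq₁
  have hYG : Y ∈ Spor.M22 :=
    hY ▸ hX ▸ mul_mem (inv_mem (mem_M22_of_wOK hw)) (mul_mem (mul_mem hh x.2) (inv_mem hh))
  have hY1 : Y = 1 := by
    by_contra hne
    have hle := (card_fixPts_le hYG hne).1
    have hsub : (fixPts (toP zEl))ᶜ ⊆ fixPts Y := fun q hq =>
      mem_fixPts.mpr (hfix q fun h0 => Finset.mem_compl.mp hq (mem_fixPts.mpr h0))
    have h16 := Finset.card_le_card hsub
    have hz2 : orderOf (toP zEl) = 2 := by
      rw [← hhg, show h * (g : Equiv.Perm GolayPt) * h⁻¹ = MulAut.conj h g from rfl,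
        (MulAut.conj h).orderOf_eq, Subgroup.orderOf_coe]; exact hg
    rw [Finset.card_compl, card_fixPts_two (mem_M22_of_wOK hzv) hz2, Fintype.card_option,
      ZMod.card] at h16
    omega
  obtain ⟨e', he', hee⟩ := lift e he
  suffices x = e' by rw [this]; exact he'
  refine Subtype.ext ?_
  have hX' : X = toP e := by
    rw [hY, inv_mul_eq_one] at hY1; exact hY1.symm
  simp only [Subgroup.coe_mul, InvMemClass.coe_inv, hH] at hee
  rw [← hee, hX] at hX'
  simpa using hX'

/-! ### Elements of order 7 and 11 -/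

/-- A centralising element of another prime order is impossible. -/
theorem prime_eq_of_commute {q : ℕ} (hq : q.Prime) {y x : Equiv.Perm GolayPt} (hy : y ∈ Spor.M22)
    (hx : x ∈ Spor.M22) (hc : x * y = y * x) (hyo : orderOf y = q) (hq7 : q = 7 ∨ q = 11)
    {r : ℕ} (hr : r.Prime) (hxo : orderOf x = r) : r = q := by
  by_contra hrq
  have := Fact.mk hq
  have := Fact.mk hr
  have hmod : ∀ {s : ℕ} [Fact s.Prime] {a b : Equiv.Perm GolayPt}, orderOf a = s → a * b = b * a →
      (fixPts b).card ≡ (fixPts a ∩ fixPts b).card [MOD s] := by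
    intro s hs a b ha hab
    have hinv : ∀ t, a t ∈ fixPts b ↔ t ∈ fixPts b := fun t => by
      rw [mem_fixPts, mem_fixPts, ← Equiv.Perm.mul_apply, ← hab, Equiv.Perm.mul_apply,
        EmbeddingLike.apply_eq_iff_eq]
    have hσ : (a.subtypePerm hinv) ^ s ^ 1 = 1 := by
      rw [pow_one]
      exact Equiv.ext fun t => Subtype.ext (by
        rw [Equiv.Perm.subtypePerm_pow, Equiv.Perm.subtypePerm_apply]
        simp [← ha, pow_orderOf_eq_one])
    have h1 := (Equiv.Perm.card_compl_support_modEq hσ).symm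
    rw [Fintype.card_coe] at h1
    refine h1.trans ?_
    show _ % s = _ % s
    congr 1
    refine Finset.card_bij (fun t _ => (t : GolayPt)) (fun t ht => ?_)
      (fun t _ t' _ e => Subtype.ext e) fun t ht => ?_
    · rw [Finset.mem_compl, Equiv.Perm.mem_support, not_not] at ht
      exact Finset.mem_inter.mpr ⟨mem_fixPts.mpr (congrArg Subtype.val ht), t.2⟩
    · obtain ⟨h2, h3⟩ := Finset.mem_inter.mp ht
      refine ⟨⟨t, h3⟩, ?_, rfl⟩
      rw [Finset.mem_compl, Equiv.Perm.mem_support, not_not]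
      exact Subtype.ext (mem_fixPts.mp h2)
  have hA := hmod (s := q) hyo hc.symm
  have hB := hmod (s := r) hxo hc
  rw [Finset.inter_comm] at hA
  have hlx : (fixPts x ∩ fixPts y).card ≤ (fixPts y).card :=
    Finset.card_le_card Finset.inter_subset_right
  have h2le : 2 ≤ (fixPts x ∩ fixPts y).card := by
    refine le_trans ?_ (Finset.card_le_card (s := {none, some 0}) fun t ht => ?_)
    · rw [Finset.card_pair (by simp)]
    · rcases Finset.mem_insert.mp ht with rfl | ht
      · exact Finset.mem_inter.mpr ⟨mem_fixPts.mpr (apply_none_zero hx).1,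
          mem_fixPts.mpr (apply_none_zero hy).1⟩
      · rw [Finset.mem_singleton] at ht
        subst ht
        exact Finset.mem_inter.mpr ⟨mem_fixPts.mpr (apply_none_zero hx).2,
          mem_fixPts.mpr (apply_none_zero hy).2⟩
  rcases card_fixPts_prime hy hq hyo with h | h | h | h | h <;> obtain ⟨hq', hfy⟩ := h <;>
    first | omega | skip
  all_goals
    subst hq'
    rw [hfy] at hlx hB
    rcases card_fixPts_prime hx hr hxo with h | h | h | h | h <;> obtain ⟨rfl, hfx⟩ := h <;>
      rw [hfx] at hA <;> first | exact hrq rfl | (unfold Nat.ModEq at hA hB; omega)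

/-- Tables for an element of order `q`: power list data, orbit representatives, conjugator. -/
def orbitOK (s t : PP) (q k : ℕ) (reps : List ℕ) : Bool :=
  wOK s && wOK t && same [t, s, pinv t] (List.replicate k s) && !isId 24 [s] &&
    isId 24 (List.replicate q s) &&
    reps.all (fun j => decide (j < 24)) &&
    (List.range 24).all fun i => reps.any fun j => (List.range q).any fun m =>
      evalWord (List.replicate m s) j == i

theorem orbit_ok : orbitOK seven sevenConj 7 2 [0, 1, 2, 3, 6, 23] = true ∧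
    orbitOK eleven elevenConj 11 3 [0, 1, 2, 23] = true := by decide +kernel

theorem wperm_replicate (s : PP) (m : ℕ) : wperm 24 (List.replicate m s) = perm 24 s ^ m := by
  simp [wperm, List.map_replicate, List.prod_replicate]

theorem toP_pow_apply {s : PP} (hv : valid 24 s = true) (m : ℕ) (t : GolayPt) :
    pidx ((toP s ^ m) t) = evalWord (List.replicate m s) (pidx t) := by
  induction m generalizing t with
  | zero => simp [evalWord]
  | succ m ih =>
    rw [pow_succ', Equiv.Perm.mul_apply, pidx_toP hv, ih, List.replicate_succ]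
    rfl

/-- Orders, conjugates to powers, the centraliser and no conjugation to the inverse. -/
theorem element_spec {s t : PP} {q k : ℕ} {reps : List ℕ} (hq : q.Prime) (hq7 : q = 7 ∨ q = 11)
    (h : orbitOK s t q k reps = true) (hreps : reps.length < 8) :
    ∃ y : Spor.M22, orderOf y = q ∧ IsConj y (y ^ k) ∧ ¬ IsConj y y⁻¹ ∧
      Nat.card (Subgroup.centralizer ({y} : Set Spor.M22)) = q := by
  simp only [orbitOK, Bool.and_eq_true, List.all_eq_true, List.any_eq_true, List.mem_range,
    beq_iff_eq, Bool.not_eq_true', decide_eq_true_eq] at h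
  obtain ⟨⟨⟨⟨⟨⟨hs, ht⟩, hconj⟩, hne⟩, hpow⟩, hreps24⟩, hcov⟩ := h
  have hv := valid_of_wOK hs
  have htv := valid_of_wOK ht
  have := Fact.mk hq
  let y : Spor.M22 := ⟨toP s, mem_M22_of_wOK hs⟩
  have hy1 : toP s ≠ 1 := fun h1 => by
    have h0 : wperm 24 [s] = wperm 24 [] := permHom.injective (by
      rw [wperm_nil, map_one]; simpa [wperm, toP] using h1)
    have := same_of_eq (by simp [hv]) (by simp) h0
    rw [show same [s] [] = isId 24 [s] from rfl, hne] at this
    exact Bool.false_ne_true this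
  have hyq : toP s ^ q = 1 := by
    have h0 := congrArg permHom (isId_sound
      (fun g hg => by rw [List.eq_of_mem_replicate hg]; exact hv) hpow)
    rwa [wperm_replicate, map_pow, map_one] at h0
  have hyo' : orderOf (toP s) = q := orderOf_eq_prime hyq hy1
  have hyo : orderOf y = q := by rw [← Subgroup.orderOf_coe]; exact hyo'
  have hcard : Nat.card (Subgroup.centralizer ({y} : Set Spor.M22)) = q := by
    obtain ⟨n, hn⟩ : ∃ n, Nat.card (Subgroup.centralizer ({y} : Set Spor.M22)) = q ^ n := by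
      refine ⟨_, Nat.eq_prime_pow_of_unique_prime_dvd Nat.card_pos.ne' fun {r} hr hrd => ?_⟩
      have := Fact.mk hr
      obtain ⟨x, hx⟩ := exists_prime_orderOf_dvd_card' r hrd
      refine prime_eq_of_commute hq (mem_M22_of_wOK hs) (x : Spor.M22).2 ?_ hyo' hq7 hr
        (by rw [Subgroup.orderOf_coe, Subgroup.orderOf_coe]; exact hx)
      exact congrArg Subtype.val (Subgroup.mem_centralizer_singleton_iff.mp x.2)
    have hd : Nat.card (Subgroup.centralizer ({y} : Set Spor.M22)) ∣ 443520 := by
      rw [← card_M22]; exact Subgroup.card_subgroup_dvd_card _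
    have hge : q ∣ Nat.card (Subgroup.centralizer ({y} : Set Spor.M22)) := by
      rw [← hyo, ← Nat.card_zpowers]
      exact Subgroup.card_dvd_of_le (Subgroup.zpowers_le.mpr
        (Subgroup.mem_centralizer_singleton_iff.mpr rfl))
    rw [hn] at hd hge
    have hn1 : n ≤ 1 := by
      have hfac : (443520 : ℕ).factorization q = 1 := by
        rcases hq7 with rfl | rfl
        · exact factorization_M22.2.2.2.1
        · exact factorization_M22.2.2.2.2
      exact hfac ▸ (hq.pow_dvd_iff_le_factorization (by norm_num)).mp hd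
    rcases Nat.le_one_iff_eq_zero_or_eq_one.mp hn1 with rfl | rfl
    · exact absurd (Nat.eq_one_of_dvd_one (pow_zero q ▸ hge)) hq.one_lt.ne'
    · rw [hn, pow_one]
  refine ⟨y, hyo, isConj_iff.mpr ⟨⟨toP t, mem_M22_of_wOK ht⟩, Subtype.ext ?_⟩, ?_, hcard⟩
  · have h0 := congrArg permHom (same_sound (w := [t, s, pinv t]) (v := List.replicate k s)
      (by simp [hv, htv, valid_pinv htv])
      (fun g hg => by rw [List.eq_of_mem_replicate hg]; exact hv) hconj)
    rw [wperm_replicate, map_pow] at h0
    simpa [y, wperm, perm_pinv htv, toP, mul_assoc] using h0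
  · -- no inverting element
    intro hinv
    obtain ⟨c, hc⟩ := isConj_iff.mp hinv
    have hC : ∀ w : Spor.M22, w * y = y * w → w ^ q = 1 := by
      intro w hw
      have hmem : w ∈ Subgroup.centralizer ({y} : Set Spor.M22) :=
        Subgroup.mem_centralizer_singleton_iff.mpr hw
      have h1 : (⟨w, hmem⟩ : Subgroup.centralizer ({y} : Set Spor.M22)) ^ q = 1 := by
        rw [← hcard]; exact pow_card_eq_one'
      exact congrArg Subtype.val h1
    have hcy : c * y = y⁻¹ * c := by rw [← hc]; group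
    have hcy' : c * y⁻¹ = y * c := by
      have := congrArg (fun z => z⁻¹) hc
      simp only [mul_inv_rev, inv_inv] at this
      rw [show c * y⁻¹ = (c * (y⁻¹ * c⁻¹)) * c by group, this]
    have hcc : (c * c) * y = y * (c * c) := by
      rw [mul_assoc, hcy, ← mul_assoc, hcy', mul_assoc]
    have hodd : ∀ j : ℕ, c ^ (2 * j + 1) * y = y⁻¹ * c ^ (2 * j + 1) := by
      intro j
      have h2 : Commute ((c * c) ^ j) y := (show Commute (c * c) y from hcc).pow_left j
      rw [pow_succ, pow_mul, sq, mul_assoc, hcy, ← mul_assoc, h2.inv_right.eq, mul_assoc]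
    obtain ⟨j, hj⟩ : ∃ j, q = 2 * j + 1 := by
      rcases hq7 with rfl | rfl
      · exact ⟨3, rfl⟩
      · exact ⟨5, rfl⟩
    set d : Spor.M22 := c ^ q with hd
    have hd2 : d ^ 2 = 1 := by
      rw [hd, ← pow_mul, mul_comm, pow_mul, sq, hC _ hcc]
    have hdy : d * y = y⁻¹ * d := by rw [hd, hj]; exact hodd j
    have hsq : ∀ w : Spor.M22, w ^ q = 1 → w * w = 1 → w = 1 := fun w h1 h2 => by
      rw [hj, pow_succ, pow_mul, sq, h2, one_pow, one_mul] at h1; exact h1
    have hyne : y ≠ 1 := fun h1 => hy1 (congrArg Subtype.val h1)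
    have hd1 : d ≠ 1 := by
      intro h1
      rw [h1, one_mul, mul_one] at hdy
      exact hyne (hsq y (Subtype.ext hyq) (by conv_lhs => arg 1; rw [hdy]
                                              exact inv_mul_cancel y))
    have hdo : orderOf (d : Equiv.Perm GolayPt) = 2 := by
      rw [Subgroup.orderOf_coe]; exact orderOf_eq_prime hd2 hd1
    have h8 := card_fixPts_two d.2 hdo
    -- at most one fixed point in each orbit
    have hdpow : ∀ m : ℕ, d * y ^ m = (y⁻¹) ^ m * d := fun m =>
      (show SemiconjBy d y y⁻¹ from hdy).pow_right m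
    have hbound : (fixPts (d : Equiv.Perm GolayPt)).card ≤ reps.toFinset.card := by
      have hsel : ∀ u : GolayPt, ∃ v ∈ reps, ∃ m : ℕ, ((y : Spor.M22) : Equiv.Perm GolayPt) ^ m
          = toP s ^ m ∧ ∃ w, pidx w = v ∧ (toP s ^ m) w = u := by
        intro u
        obtain ⟨v, hv', m, -, hm⟩ := hcov (pidx u) (pidx_lt u)
        refine ⟨v, hv', m, rfl, ptAt v, ?_, ?_⟩
        · exact pidx_ptAt ⟨v, hreps24 v hv'⟩
        · apply pidx_injective; rw [toP_pow_apply hv, pidx_ptAt ⟨v, hreps24 v hv'⟩, hm]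
      choose fv hfv fm _ fw hfw hfu using hsel
      refine Finset.card_le_card_of_injOn fv (fun u _ => by simpa using hfv u) ?_
      intro u hu u' hu' huu
      rw [Finset.mem_coe, mem_fixPts] at hu hu'
      have hw : fw u = fw u' := pidx_injective (by rw [hfw, hfw, huu])
      -- `u' = y ^ e u` for a natural number `e`, and `d` fixes both
      obtain ⟨e, he⟩ : ∃ e : ℕ, (toP s ^ e) u = u' := by
        refine ⟨q * (fm u + 1) - fm u + fm u', ?_⟩
        have hle : fm u ≤ q * (fm u + 1) :=
          (Nat.le_succ _).trans (Nat.le_mul_of_pos_left _ hq.pos)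
        have h4 := hfu u
        rw [hw] at h4
        calc (toP s ^ (q * (fm u + 1) - fm u + fm u')) u
            = (toP s ^ (q * (fm u + 1) - fm u + fm u') * toP s ^ fm u) (fw u') := by
              rw [Equiv.Perm.mul_apply, h4]
          _ = (toP s ^ fm u') (fw u') := by
              rw [← pow_add,
                show q * (fm u + 1) - fm u + fm u' + fm u = fm u' + q * (fm u + 1) by omega,
                pow_add, pow_mul, hyq, one_pow, mul_one]
          _ = u' := hfu u'
      have h0 := congrArg (fun z : Spor.M22 => (z : Equiv.Perm GolayPt) u) (hdpow e)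
      simp only [Subgroup.coe_mul, SubmonoidClass.coe_pow, InvMemClass.coe_inv, inv_pow,
        Equiv.Perm.mul_apply] at h0
      change (d : Equiv.Perm GolayPt) ((toP s ^ e) u) =
        (toP s ^ e)⁻¹ ((d : Equiv.Perm GolayPt) u) at h0
      rw [he, hu', hu] at h0
      have h1 : (toP s ^ (2 * e)) u = u := by
        rw [two_mul, pow_add, Equiv.Perm.mul_apply, he, h0, Equiv.Perm.inv_def,
          Equiv.apply_symm_apply]
      have h2 : (toP s ^ e) u = u := by
        have h3 := Equiv.Perm.pow_apply_eq_self_of_apply_eq_self h1 (j + 1)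
        rw [← pow_mul, show 2 * e * (j + 1) = q * e + e by rw [hj]; ring, pow_add, pow_mul, hyq,
          one_pow, one_mul] at h3
        exact h3
      rw [← he, h2]
    have := List.toFinset_card_le reps
    omega

end Cfsg.Lib.Golay.M22Block
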