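import Cfsg.Agent.Golay.Family

/-!
Cosets and weights of length-24 codes.
-/

namespace Cfsg.Lib.Golay

open Cfsg

variable {α : Type*} [DecidableEq α] [Fintype α] {C : Submodule (ZMod 2) (α → ZMod 2)}

theorem mem_near_supports {u w : α → ZMod 2} :
    support₂ u ∈ near (supports (C : Set (α → ZMod 2))) (support₂ w) ↔ u - w ∈ C ∧ hammingNorm u ≤ 4 := by
  rw [mem_near, ← support₂_sub, support₂_mem_supports, hammingNorm_eq, SetLike.mem_coe]

theorem coset_set_eq (w : α → ZMod 2) :
    {u : α → ZMod 2 | u - w ∈ C ∧ hammingNorm u ≤ 4}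
      = ind '' (near (supports (C : Set (α → ZMod 2))) (support₂ w) : Set (Finset α)) := by
  ext u
  simp only [Set.mem_setOf_eq, Set.mem_image, SetLike.mem_coe]
  constructor
  · exact fun h => ⟨_, mem_near_supports.mpr h, ind_support₂ u⟩
  · rintro ⟨s, hs, rfl⟩
    exact mem_near_supports.mp (by rwa [support₂_ind])

theorem coset_dichotomy (hP : IsPacking (supports (C : Set (α → ZMod 2)))) (w : α → ZMod 2) :
    (∃ u, {u : α → ZMod 2 | u - w ∈ C ∧ hammingNorm u ≤ 4} = {u} ∧ hammingNorm u ≤ 3) ∨
      ({u : α → ZMod 2 | u - w ∈ C ∧ hammingNorm u ≤ 4}.ncard = 6 ∧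
        (∀ u ∈ {u : α → ZMod 2 | u - w ∈ C ∧ hammingNorm u ≤ 4}, hammingNorm u = 4 ∧
          ∀ u' ∈ {u : α → ZMod 2 | u - w ∈ C ∧ hammingNorm u ≤ 4}, u ≠ u' →
            Disjoint (support₂ u) (support₂ u')) ∧
        ∀ a : α, ∃ u, u - w ∈ C ∧ hammingNorm u ≤ 4 ∧ u a ≠ 0) := by
  rw [coset_set_eq]
  have hinj : Function.Injective (ind (α := α)) := fun s t h => by
    rw [← support₂_ind s, h, support₂_ind]
  rcases hP.dichotomy (support₂ w) with ⟨s, hs, he⟩ | ⟨h6, h4, hdis, hcov⟩
  · exact Or.inl ⟨ind s, by rw [he, Finset.coe_singleton, Set.image_singleton],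
      by rwa [hammingNorm_eq, support₂_ind]⟩
  · refine Or.inr ⟨by rw [Set.ncard_image_of_injective _ hinj, Set.ncard_coe_finset, h6], ?_, ?_⟩
    · rintro _ ⟨s, hs, rfl⟩
      refine ⟨by rw [hammingNorm_eq, support₂_ind]; exact h4 s hs, ?_⟩
      rintro _ ⟨t, ht, rfl⟩ hne
      rw [support₂_ind, support₂_ind]
      exact hdis s hs t ht fun e => hne (by rw [e])
    · intro a
      obtain ⟨s, hs, ha⟩ := hcov a
      have := (mem_near_supports (C := C) (u := ind s) (w := w)).mp (by rwa [support₂_ind])
      exact ⟨ind s, this.1, this.2, by rwa [← mem_support₂, support₂_ind]⟩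

theorem golayCode_min : ∀ w ∈ golayCode, w ≠ 0 → 8 ≤ hammingNorm w := by
  intro w hw hne
  have h := card_support_mem (support₂_mem_supports.mpr hw)
  rw [← hammingNorm_eq] at h
  have : hammingNorm w ≠ 0 := fun h0 => hne (hammingNorm_eq_zero.mp h0)
  omega

theorem golayCode_packing : IsPacking (supports (golayCode : Set (GolayPt → ZMod 2))) :=
  isPacking_supports (by rw [Fintype.card_option, ZMod.card]) finrank_golayCode golayCode_min

theorem zmod2_sub_comm {ι : Type*} (v w : ι → ZMod 2) : v - w = w - v := by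
  funext i
  rcases zmod2_cases (v i) with h | h <;> rcases zmod2_cases (w i) with h' | h' <;>
    simp only [Pi.sub_apply, h, h'] <;> decide

/-- The punctured code corrects three errors uniquely. -/
theorem punctured_perfect (u : ZMod 23 → ZMod 2) : ∃! c : ZMod 23 → ZMod 2,
    c ∈ {u : ZMod 23 → ZMod 2 | ∃ w ∈ golayCode, ∀ x : ZMod 23, u x = w (some x)} ∧ hammingDist u c ≤ 3 := by
  let W : GolayPt → ZMod 2 := fun p => p.elim 0 u
  have hnorm : ∀ z : GolayPt → ZMod 2,
      hammingNorm (fun x => z (some x)) + (if z none = 0 then 0 else 1) = hammingNorm z := by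
    intro z
    simp only [hammingNorm, Finset.card_filter, Fintype.sum_option]
    rw [add_comm]
    split <;> simp_all
  have hex : ∃ v : GolayPt → ZMod 2, v - W ∈ golayCode ∧ hammingNorm (fun x => v (some x)) ≤ 3 := by
    rcases coset_dichotomy golayCode_packing W with ⟨v, hv, h3⟩ | ⟨-, -, hcov⟩
    · have := hnorm v
      exact ⟨v, (hv.ge (Set.mem_singleton v)).1, by omega⟩
    · obtain ⟨v, hv, h4, hne⟩ := hcov none
      have := hnorm v
      rw [if_neg hne] at this
      exact ⟨v, hv, by omega⟩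
  obtain ⟨v, hv, h3⟩ := hex
  refine ⟨fun x => (v - W) (some x), ⟨⟨v - W, hv, fun x => rfl⟩, ?_⟩, ?_⟩
  · rw [hammingDist_eq, ← hammingNorm_eq]
    refine le_of_eq_of_le ?_ h3
    congr 1
    funext x
    show u x - (v (some x) - u x) = v (some x)
    rcases zmod2_cases (v (some x)) with h | h <;> rcases zmod2_cases (u x) with h' | h' <;> rw [h, h'] <;> decide
  · rintro c ⟨⟨z, hz, hc⟩, hd⟩
    have hd' : hammingDist u (fun x => (v - W) (some x)) ≤ 3 := by
      rw [hammingDist_eq, ← hammingNorm_eq]
      refine le_of_eq_of_le ?_ h3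
      congr 1
      funext x
      show u x - (v (some x) - u x) = v (some x)
      rcases zmod2_cases (v (some x)) with h | h <;> rcases zmod2_cases (u x) with h' | h' <;> rw [h, h'] <;> decide
    have h6 : hammingDist c (fun x => (v - W) (some x)) ≤ 6 :=
      (hammingDist_triangle_left c _ u).trans (by omega)
    have hdiff : z - (v - W) = 0 := by
      by_contra hne
      have h8 := golayCode_min _ (Submodule.sub_mem _ hz hv) hne
      rw [← hnorm, hammingDist_eq, ← hammingNorm_eq] at *
      have he : (fun x => (z - (v - W)) (some x)) = c - fun x => (v - W) (some x) := by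
        funext x; show _ = c x - _; rw [hc x]; rfl
      rw [he] at h8
      split at h8 <;> omega
    funext x
    rw [hc x, sub_eq_zero.mp hdiff]

end Cfsg.Lib.Golay
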