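import Cfsg.Agent.Golay.Transfer
import Cfsg.Agent.Golay.CodeFacts
import Cfsg.Agent.Steiner.Counting
import Cfsg.Prelude.Def_SporadicCombinatorics

/-!
Sextets and trios; the punctured code.
-/

namespace Cfsg.Lib.Golay

open Cfsg Finset Cfsg.Lib.Steiner

/-- The supports of the code. -/
abbrev codeS : Set (Finset GolayPt) := supports (golayCode : Set (GolayPt → ZMod 2))

theorem codeS_empty : (∅ : Finset GolayPt) ∈ codeS := ⟨0, Submodule.zero_mem _, by ext; simp [mem_support₂]⟩

theorem octad_union_mem {a b : Finset GolayPt} (ha : a.card = 4) (hb : b.card = 4) (h : a ∪ b ∈ octads) :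
    symmDiff a b ∈ codeS := by
  have hd : Disjoint a b := card_union_eq_card_add_card.mp (by rw [h.2, ha, hb])
  rw [hd.symmDiff_eq_sup]
  exact h.1

/-- The tetrads of the coset of `t` are six, and form its only sextet. -/
theorem sextet_unique {t : Finset GolayPt} (ht : t.card = 4) :
    near codeS t ∈ sextets ∧ t ∈ near codeS t ∧ ∀ S ∈ sextets, t ∈ S → S = near codeS t := by
  have hP := golayCode_packing
  have hself : t ∈ near codeS t := mem_near.mpr ⟨by rw [symmDiff_self]; exact codeS_empty, ht.le⟩
  rcases hP.dichotomy t with ⟨u, hu, he⟩ | ⟨h6, h4, hdis, -⟩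
  · rw [he, mem_singleton] at hself
    rw [← hself] at hu
    omega
  refine ⟨⟨h6, h4, fun a ha b hb hab => ?_⟩, hself, fun S hS htS => ?_⟩
  · have hd := hdis a ha b hb hab
    refine ⟨?_, by rw [card_union_of_disjoint hd, h4 a ha, h4 b hb]⟩
    have h := hP.symm_mem ha hb
    rwa [hd.symmDiff_eq_sup] at h
  · refine eq_of_subset_of_card_le (fun u hu => mem_near.mpr ⟨?_, (hS.2.1 u hu).le⟩) (by rw [h6, hS.1])
    by_cases hut : u = t
    · rw [hut, symmDiff_self]; exact codeS_empty
    · exact octad_union_mem (hS.2.1 u hu) ht (hS.2.2 u hu t htS hut)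

theorem sextets_facts :
    (∀ t : Finset GolayPt, t.card = 4 → ∃! S : Finset (Finset GolayPt), S ∈ sextets ∧ t ∈ S) ∧
      sextets.ncard = 1771 := by
  classical
  refine ⟨fun t ht => ⟨_, ⟨(sextet_unique ht).1, (sextet_unique ht).2.1⟩,
    fun S hS => (sextet_unique ht).2.2 S hS.1 hS.2⟩, ?_⟩
  set F := (Set.toFinite sextets).toFinset with hF
  have hmem : ∀ S, S ∈ F ↔ S ∈ sextets := fun S => Set.Finite.mem_toFinset _
  have hu : F.biUnion id = powersetCard 4 (univ : Finset GolayPt) := by
    ext t
    simp only [mem_biUnion, id_eq, mem_powersetCard, subset_univ, true_and, hmem]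
    exact ⟨fun ⟨S, hS, h⟩ => hS.2.1 t h, fun h => ⟨_, (sextet_unique h).1, (sextet_unique h).2.1⟩⟩
  have hd : (F : Set (Finset (Finset GolayPt))).PairwiseDisjoint id := by
    intro S hS S' hS' hne
    rw [Function.onFun, disjoint_left]
    intro t htS htS'
    simp only [mem_coe, hmem] at hS hS'
    have h4 := hS.2.1 t htS
    exact hne (((sextet_unique h4).2.2 S hS htS).trans ((sextet_unique h4).2.2 S' hS' htS').symm)
  have h := congrArg card hu
  rw [card_biUnion hd, sum_congr rfl fun S hS => show (id S).card = 6 from ((hmem S).mp hS).1, sum_const,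
    smul_eq_mul, card_powersetCard, card_univ, Fintype.card_option, ZMod.card] at h
  rw [Set.ncard_eq_toFinset_card _ (Set.toFinite _), ← hF]
  norm_num [Nat.choose] at h
  omega

theorem octad_compl_union {o o' : Finset GolayPt} (ho : o ∈ octads) (ho' : o' ∈ octads) (hd : Disjoint o o') :
    (o ∪ o')ᶜ ∈ octads := by
  refine ⟨compl_mem_supports ?_, ?_⟩
  · have := symmDiff_mem_supports ho.1 ho'.1
    rwa [hd.symmDiff_eq_sup] at this
  · rw [card_compl, card_union_of_disjoint hd, ho.2, ho'.2, Fintype.card_option, ZMod.card]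

theorem trios_facts : (∀ o o' : Finset GolayPt, o ∈ octads → o' ∈ octads → Disjoint o o' → (o ∪ o')ᶜ ∈ octads) ∧
    trios.ncard = 3795 := by
  classical
  refine ⟨fun o o' => octad_compl_union, ?_⟩
  set F := (Set.toFinite trios).toFinset with hF
  have hmem : ∀ T, T ∈ F ↔ T ∈ trios := fun T => Set.Finite.mem_toFinset _
  set O := blocks (octads) with hO
  set P := (O ×ˢ O).filter fun p => p.1 ≠ p.2 ∧ Disjoint p.1 p.2 with hPdef
  have htrio : ∀ o ∈ octads, ∀ o' ∈ octads, Disjoint o o' → o ≠ o' →
      ({o, o', (o ∪ o')ᶜ} : Finset (Finset GolayPt)) ∈ trios ∧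
        ∀ T ∈ trios, o ∈ T → o' ∈ T → T = {o, o', (o ∪ o')ᶜ} := by
    intro o ho o' ho' hd hne
    have h3 := octad_compl_union ho ho' hd
    have h1 : Disjoint o (o ∪ o')ᶜ := disjoint_compl_right.mono_left subset_union_left
    have h2 : Disjoint o' (o ∪ o')ᶜ := disjoint_compl_right.mono_left subset_union_right
    have ne1 : o ≠ (o ∪ o')ᶜ := fun e => by
      have := ho.2; rw [← e] at h1; rw [disjoint_self.mp h1] at this; simp at this
    have ne2 : o' ≠ (o ∪ o')ᶜ := fun e => by
      have := ho'.2; rw [← e] at h2; rw [disjoint_self.mp h2] at this; simp at this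
    refine ⟨⟨card_eq_three.mpr ⟨o, o', _, hne, ne1, ne2, rfl⟩, ?_, ?_⟩, ?_⟩
    · intro a ha
      simp only [mem_insert, mem_singleton] at ha
      rcases ha with rfl | rfl | rfl <;> assumption
    · intro a ha b hb hab
      simp only [mem_insert, mem_singleton] at ha hb
      rcases ha with rfl | rfl | rfl <;> rcases hb with rfl | rfl | rfl <;>
        first
        | exact absurd rfl hab
        | assumption
        | exact Disjoint.symm (by assumption)
    · intro T hT hoT ho'T
      obtain ⟨c, hc⟩ := card_eq_one.mp (show ((T.erase o).erase o').card = 1 by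
        rw [card_erase_of_mem (mem_erase.mpr ⟨hne.symm, ho'T⟩), card_erase_of_mem hoT, hT.1])
      have hcT : c ∈ (T.erase o).erase o' := hc ▸ mem_singleton_self c
      simp only [mem_erase] at hcT
      have hcsub : c ⊆ (o ∪ o')ᶜ := by
        intro x hx
        rw [mem_compl, mem_union]
        rintro (h | h)
        · exact disjoint_left.mp (hT.2.2 c hcT.2.2 o hoT hcT.2.1) hx h
        · exact disjoint_left.mp (hT.2.2 c hcT.2.2 o' ho'T hcT.1) hx h
      have hce := eq_of_subset_of_card_le hcsub (by rw [h3.2, (hT.2.1 c hcT.2.2).2])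
      refine (eq_of_subset_of_card_le ?_ ?_).symm
      · intro a ha
        simp only [mem_insert, mem_singleton] at ha
        rcases ha with rfl | rfl | rfl
        · exact hoT
        · exact ho'T
        · exact hce ▸ hcT.2.2
      · rw [hT.1, card_eq_three.mpr ⟨o, o', _, hne, ne1, ne2, rfl⟩]
  have hu : F.biUnion offDiag = P := by
    ext ⟨o, o'⟩
    simp only [mem_biUnion, mem_offDiag, hmem, hPdef, mem_filter, mem_product, hO, mem_blocks]
    constructor
    · rintro ⟨T, hT, ho, ho', hne⟩
      exact ⟨⟨hT.2.1 o ho, hT.2.1 o' ho'⟩, hne, hT.2.2 o ho o' ho' hne⟩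
    · rintro ⟨⟨ho, ho'⟩, hne, hd⟩
      exact ⟨_, (htrio o ho o' ho' hd hne).1, by simp, by simp, hne⟩
  have hd : (F : Set (Finset (Finset GolayPt))).PairwiseDisjoint offDiag := by
    intro T hT T' hT' hne
    rw [Function.onFun, disjoint_left]
    rintro ⟨o, o'⟩ h h'
    simp only [mem_offDiag] at h h'
    simp only [mem_coe, hmem] at hT hT'
    have hh := htrio o (hT.2.1 o h.1) o' (hT.2.1 o' h.2.1) (hT.2.2 o h.1 o' h.2.1 h.2.2) h.2.2
    exact hne ((hh.2 T hT h.1 h.2.1).trans (hh.2 T' hT' h'.1 h'.2.1).symm)
  have hP : P.card = 759 * 30 := by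
    have hO759 : O.card = 759 := by
      rw [hO, blocks, ← Set.ncard_eq_toFinset_card]; exact ncard_octads
    rw [hPdef, card_filter, sum_product, ← hO759]
    rw [sum_congr rfl fun o ho => ?_, sum_const, smul_eq_mul]
    rw [← card_filter]
    have h30 := (meet_s5824 (by rw [Fintype.card_option, ZMod.card]) octads_steiner (mem_blocks.mp ho)).1
    rw [meetCount] at h30
    rw [← h30, hO]
    congr 1
    ext x
    simp only [mem_filter, mem_erase, card_eq_zero, ← disjoint_iff_inter_eq_empty]
    tauto
  have h := congrArg card hu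
  rw [card_biUnion hd, hP, sum_congr rfl fun T hT => show (offDiag T).card = 6 by
    rw [offDiag_card, ((hmem T).mp hT).1], sum_const, smul_eq_mul] at h
  rw [Set.ncard_eq_toFinset_card _ (Set.toFinite _), ← hF]
  omega

/-- The punctured code. -/
def punctured : Set (ZMod 23 → ZMod 2) :=
  {u | ∃ w ∈ golayCode, ∀ x : ZMod 23, u x = w (some x)}

theorem punctured_count (n : ℕ) :
    {u : ZMod 23 → ZMod 2 | u ∈ punctured ∧ hammingNorm u = n}.ncard
      = codeMasks.countP fun m => decide (pc (m &&& 8388607) = n) := by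
  have hn : ∀ m, inCode m = true → hammingNorm (fun x : ZMod 23 => wd m (some x)) = pc (m &&& 8388607) := by
    intro m _
    rw [pc_eq_card, hammingNorm]
    refine (card_map Function.Embedding.some).symm.trans (congrArg card ?_)
    ext p
    have hnone : (8388607 : ℕ).testBit (pidx (none : GolayPt)) = false := by decide +kernel
    have hsome : ∀ x : ZMod 23, (8388607 : ℕ).testBit (pidx (some x : GolayPt)) = true := by decide +kernel
    cases p with
    | none => simp [Nat.testBit_and, hnone]
    | some x => simp [Nat.testBit_and, hsome, wd]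
  have himg : {u : ZMod 23 → ZMod 2 | u ∈ punctured ∧ hammingNorm u = n}
      = (fun m x => wd m (some x)) '' {m | m ∈ codeMasks ∧ pc (m &&& 8388607) = n} := by
    ext u
    constructor
    · rintro ⟨⟨w, hw, hu⟩, h⟩
      have hm : inCode (mk (support₂ w)) = true := (mem_supports_iff _).mp ⟨w, hw, rfl⟩
      refine ⟨mk (support₂ w), ⟨mem_codeMasks.mpr hm, ?_⟩, ?_⟩
      · rw [← hn _ hm, ← h]
        congr 1; funext x; rw [hu x, wd_mk_support₂]
      · funext x; rw [hu x]; exact congrFun (wd_mk_support₂ w) (some x)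
    · rintro ⟨m, ⟨hm, hk⟩, rfl⟩
      have hm' := mem_codeMasks.mp hm
      exact ⟨⟨wd m, (wd_mem_iff (lt_of_inCode hm')).mpr hm', fun x => rfl⟩, (hn m hm').trans hk⟩
  rw [himg, List.countP_eq_length_filter, ← List.toFinset_card_of_nodup (codeMasks_nodup.filter _),
    ← Set.ncard_coe_finset]
  rw [Set.ncard_image_of_injOn]
  · congr 1; ext m; simp
  · intro a ha b hb hab
    have ha' := mem_codeMasks.mp ha.1
    have hb' := mem_codeMasks.mp hb.1
    have hw : wd a - wd b ∈ golayCode := Submodule.sub_mem _ ((wd_mem_iff (lt_of_inCode ha')).mpr ha')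
      ((wd_mem_iff (lt_of_inCode hb')).mpr hb')
    have h0 : wd a - wd b = 0 := by
      by_contra hne
      have h8 := golayCode_min _ hw hne
      have hsub : support₂ (wd a - wd b) ⊆ {none} := by
        intro p hp
        rw [mem_singleton]
        by_contra hpn
        obtain ⟨x, rfl⟩ := Option.ne_none_iff_exists'.mp hpn
        have hx : wd a (some x) = wd b (some x) := congrFun hab x
        rw [mem_support₂, Pi.sub_apply, hx, sub_self] at hp
        exact hp rfl
      have := card_le_card hsub
      rw [hammingNorm_eq] at h8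
      simp at this
      omega
    have hpts : pts a = pts b := by
      have e : support₂ (wd a) = support₂ (wd b) := by rw [sub_eq_zero.mp h0]
      rwa [support₂_wd, support₂_wd] at e
    exact eq_of_pts_eq (lt_of_inCode ha') (lt_of_inCode hb') hpts

theorem punctured_facts :
    punctured.ncard = 4096 ∧ {u | u ∈ punctured ∧ hammingNorm u = 7}.ncard = 253 ∧
      {u | u ∈ punctured ∧ hammingNorm u = 8}.ncard = 506 ∧
      {u | u ∈ punctured ∧ hammingNorm u = 11}.ncard = 1288 ∧
      {u | u ∈ punctured ∧ hammingNorm u = 12}.ncard = 1288 ∧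
      {u | u ∈ punctured ∧ hammingNorm u = 15}.ncard = 506 ∧
      {u | u ∈ punctured ∧ hammingNorm u = 16}.ncard = 253 ∧
      ∀ u ∈ punctured, u ≠ 0 → 7 ≤ hammingNorm u := by
  simp only [punctured_count]
  refine ⟨?_, by decide +kernel, by decide +kernel, by decide +kernel, by decide +kernel, by decide +kernel,
    by decide +kernel, ?_⟩
  · rw [← card_golayCode, ← Nat.card_coe_set_eq punctured]
    refine (Nat.card_eq_of_bijective (fun w : golayCode => (⟨fun x => (w : GolayPt → ZMod 2) (some x),
      w, w.2, fun x => rfl⟩ : punctured)) ⟨fun v w h => ?_, ?_⟩).symm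
    · have h' := congrArg Subtype.val h
      by_contra hne
      have hsub : (v : GolayPt → ZMod 2) - w ≠ 0 := fun e => hne (Subtype.ext (sub_eq_zero.mp e))
      have h8 := golayCode_min _ (Submodule.sub_mem _ v.2 w.2) hsub
      rw [hammingNorm_eq] at h8
      have := card_le_card (show support₂ ((v : GolayPt → ZMod 2) - (w : GolayPt → ZMod 2)) ⊆ {none} from fun p hp => by
        rw [mem_singleton]
        by_contra hpn
        obtain ⟨x, rfl⟩ := Option.ne_none_iff_exists'.mp hpn
        rw [mem_support₂, Pi.sub_apply, show (v : GolayPt → ZMod 2) (some x) = (w : GolayPt → ZMod 2) (some x)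
          from congrFun h' x, sub_self] at hp
        exact hp rfl)
      simp at this
      omega
    · rintro ⟨u, w, hw, hu⟩
      exact ⟨⟨w, hw⟩, Subtype.ext (funext fun x => (hu x).symm)⟩
  · rintro u ⟨w, hw, hu⟩ hne
    have hwne : w ≠ 0 := fun e => hne (funext fun x => by rw [hu x, e]; rfl)
    have h8 := golayCode_min w hw hwne
    have : hammingNorm w ≤ hammingNorm u + 1 := by
      simp only [hammingNorm, card_filter, Fintype.sum_option, hu]
      split <;> omega
    omega

end Cfsg.Lib.Golay
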