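import Cfsg.Agent.Golay.OctadCounts

/-!
Octads and dodecads against a dodecad.
-/

namespace Cfsg.Lib.Golay

open Cfsg Cfsg.Lib.PermCert MulAction
open scoped Pointwise

theorem ncard_dodecads_transport (h : M24) (q₀ q : Finset GolayPt → Prop) (hq : ∀ x, q₀ (h • x) ↔ q x) :
    {x | x ∈ dodecads ∧ q x}.ncard = {x | x ∈ dodecads ∧ q₀ x}.ncard :=
  ncard_smul_congr (h : Equiv.Perm GolayPt) fun x => by
    rw [smul_mem_dodecads_iff h.2]; exact and_congr_right fun _ => hq x

theorem meetD_pts (m : ℕ) : meetD m = (pts 340831 ∩ pts m).card := by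
  rw [meetD, pc_eq_card, pts_land, Finset.inter_comm]

theorem exists_std_dodecad {d : Finset GolayPt} (hd : d ∈ dodecads) : ∃ h : M24, h • d = pts 340831 := by
  obtain ⟨g, hg⟩ := M24_dodecads_transitive hd squareDodecad_mem
  exact ⟨g, hg.trans squareDodecad_eq⟩

theorem octad_meet_dodecad_values : (octMasks.all fun m =>
    meetD m == 2 || meetD m == 4 || meetD m == 6) = true := by decide +kernel

theorem dodecad_meet_values : (dodMasks.all fun m =>
    meetD m == 0 || meetD m == 4 || meetD m == 6 || meetD m == 8 || m == 340831) = true := by decide +kernel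

theorem octad_meet_dodecad {d o : Finset GolayPt} (hd : d ∈ dodecads) (ho : o ∈ octads) :
    (o ∩ d).card = 2 ∨ (o ∩ d).card = 4 ∨ (o ∩ d).card = 6 := by
  obtain ⟨h, h1⟩ := exists_std_dodecad hd
  have := List.all_eq_true.mp octad_meet_dodecad_values _ (mk_mem_octMasks.mpr (smul_mem_octads h.2 ho))
  simp only [Bool.or_eq_true, beq_iff_eq] at this
  rw [meetD_eq, ← smul_coe, card_inter_transport h h1, Finset.inter_comm] at this
  omega

theorem s0386 (d : Finset GolayPt) (hd : d ∈ dodecads) :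
    {o : Finset GolayPt | o ∈ octads ∧ (o ∩ d).card = 6}.ncard = 132 ∧
    {o : Finset GolayPt | o ∈ octads ∧ (o ∩ d).card = 2}.ncard = 132 ∧
    {o : Finset GolayPt | o ∈ octads ∧ (o ∩ d).card = 4}.ncard = 495 := by
  obtain ⟨h, h1⟩ := exists_std_dodecad hd
  have hcnt : ∀ k, {o | o ∈ octads ∧ (o ∩ d).card = k}.ncard
      = {o | o ∈ octads ∧ (pts 340831 ∩ o).card = k}.ncard := fun k =>
    ncard_octads_transport h _ _ fun y => by rw [card_inter_transport h h1, Finset.inter_comm]
  refine ⟨?_, ?_, ?_⟩ <;> rw [hcnt]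
  · exact count_check (fun m => meetD m == 6) _ _ (by decide +kernel) fun m => by simp [meetD_pts]
  · exact count_check (fun m => meetD m == 2) _ _ (by decide +kernel) fun m => by simp [meetD_pts]
  · exact count_check (fun m => meetD m == 4) _ _ (by decide +kernel) fun m => by simp [meetD_pts]

theorem s0385 (d : Finset GolayPt) (hd : d ∈ dodecads) :
    IsSteinerSystem 5 6 {h : Finset {p : GolayPt // p ∈ d} |
      ∃ o ∈ octads, (o ∩ d).card = 6 ∧ h = Finset.subtype (fun p => p ∈ d) o} := by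
  have hmap : ∀ o : Finset GolayPt, (Finset.subtype (fun p => p ∈ d) o).map (Function.Embedding.subtype _) = o ∩ d := by
    intro o; rw [Finset.subtype_map, ← Finset.filter_mem_eq_inter]
  refine ⟨?_, fun s hs => ?_⟩
  · rintro _ ⟨o, -, h6, rfl⟩
    rw [← Finset.card_map (Function.Embedding.subtype _), hmap, h6]
  · set S := s.map (Function.Embedding.subtype _) with hS
    have hSc : S.card = 5 := by rw [hS, Finset.card_map, hs]
    have hSd : S ⊆ d := fun p hp => by
      obtain ⟨q, -, rfl⟩ := Finset.mem_map.mp hp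
      exact q.2
    obtain ⟨o, ⟨ho, hSo⟩, huniq⟩ := octads_steiner.2 S hSc
    have h6 : (o ∩ d).card = 6 := by
      have := Finset.card_le_card (Finset.subset_inter hSo hSd)
      rcases octad_meet_dodecad hd ho with e | e | e <;> omega
    have hsub : ∀ o' : Finset GolayPt, s ⊆ Finset.subtype (fun p => p ∈ d) o' ↔ S ⊆ o' := by
      intro o'
      rw [hS]
      constructor
      · intro h p hp
        obtain ⟨q, hq, rfl⟩ := Finset.mem_map.mp hp
        exact Finset.mem_subtype.mp (h hq)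
      · exact fun h q hq => Finset.mem_subtype.mpr (h (Finset.mem_map.mpr ⟨q, hq, rfl⟩))
    refine ⟨Finset.subtype (fun p => p ∈ d) o, ⟨⟨o, ho, h6, rfl⟩, (hsub o).mpr hSo⟩, ?_⟩
    rintro b ⟨⟨o', ho', -, rfl⟩, hsb⟩
    rw [huniq o' ⟨ho', (hsub o').mp hsb⟩]

theorem s1560 (d : Finset GolayPt) (hd : d ∈ dodecads) :
    (∀ d' ∈ dodecads, d' ≠ d →
      (d ∩ d').card = 0 ∨ (d ∩ d').card = 4 ∨ (d ∩ d').card = 6 ∨ (d ∩ d').card = 8) ∧
    {d' : Finset GolayPt | d' ∈ dodecads ∧ (d ∩ d').card = 4}.ncard = 495 ∧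
    {d' : Finset GolayPt | d' ∈ dodecads ∧ (d ∩ d').card = 6}.ncard = 1584 ∧
    {d' : Finset GolayPt | d' ∈ dodecads ∧ (d ∩ d').card = 8}.ncard = 495 := by
  obtain ⟨h, h1⟩ := exists_std_dodecad hd
  have hcnt : ∀ k, {x | x ∈ dodecads ∧ (d ∩ x).card = k}.ncard
      = {x | x ∈ dodecads ∧ (pts 340831 ∩ x).card = k}.ncard := fun k =>
    ncard_dodecads_transport h _ _ fun y => by rw [card_inter_transport h h1]
  refine ⟨fun d' hd' hne => ?_, ?_, ?_, ?_⟩
  · have := List.all_eq_true.mp dodecad_meet_values _ (mk_mem_dodMasks.mpr (smul_mem_dodecads h.2 hd'))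
    simp only [Bool.or_eq_true, beq_iff_eq] at this
    rw [meetD_eq, ← smul_coe, card_inter_transport h h1] at this
    rcases this with (((e | e) | e) | e) | e
    iterate 4 tauto
    exfalso
    refine hne (MulAction.injective h ?_)
    show h • d' = h • d
    rw [h1]
    exact (pts_mk _).symm.trans (congrArg pts e)
  · rw [hcnt]
    exact (ncard_dodecads_countP _ (fun m => meetD m == 4) fun m => by simp [meetD_pts]).trans (by decide +kernel)
  · rw [hcnt]
    exact (ncard_dodecads_countP _ (fun m => meetD m == 6) fun m => by simp [meetD_pts]).trans (by decide +kernel)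
  · rw [hcnt]
    exact (ncard_dodecads_countP _ (fun m => meetD m == 8) fun m => by simp [meetD_pts]).trans (by decide +kernel)

theorem s1561 (d d' d'' : Finset GolayPt) (hd : d ∈ dodecads) (hd' : d' ∈ dodecads) (hd'' : d'' ∈ dodecads)
    (h : (d ∩ d').card = (d ∩ d'').card) :
    ∃ g : Equiv.Perm GolayPt, g ∈ M24 ∧ g • d = d ∧ g • d' = d'' := by
  obtain ⟨a, ha⟩ := exists_std_dodecad hd
  obtain ⟨g, hg, go, gx⟩ := dodecads_orbit_F (smul_mem_dodecads a.2 hd') (smul_mem_dodecads a.2 hd'')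
    (by rw [← smul_coe, ← smul_coe, card_inter_transport a ha, card_inter_transport a ha, h])
  obtain ⟨k, hk, -, hko, hkx⟩ := orbit_transport a ha hg go gx
  exact ⟨k, hk, hko, hkx⟩

theorem s1639 (x : GolayPt) (d : Finset GolayPt) (hd : d ∈ dodecads) (hx : x ∈ d) :
    {d' : Finset GolayPt | d' ∈ dodecads ∧ x ∈ d' ∧ (d ∩ d').card = 4}.ncard = 165 ∧
    {d' : Finset GolayPt | d' ∈ dodecads ∧ x ∈ d' ∧ (d ∩ d').card = 8}.ncard = 330 ∧
    {d' : Finset GolayPt | d' ∈ dodecads ∧ x ∈ d' ∧ (d ∩ d').card = 6}.ncard = 792 ∧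
    ∀ d' d'' : Finset GolayPt, d' ∈ dodecads → d'' ∈ dodecads → x ∈ d' → x ∈ d'' →
      (d ∩ d').card = (d ∩ d'').card →
      ∃ g : Equiv.Perm GolayPt, g ∈ M24 ∧ g x = x ∧ g • d = d ∧ g • d' = d'' := by
  obtain ⟨h, h1, h2⟩ := exists_dodecad_config hd hx
  have hcnt : ∀ k, {y | y ∈ dodecads ∧ x ∈ y ∧ (d ∩ y).card = k}.ncard
      = {y | y ∈ dodecads ∧ ptAt 0 ∈ y ∧ (pts 340831 ∩ y).card = k}.ncard := fun k =>
    ncard_dodecads_transport h _ _ fun y => by rw [smul_mem_iff h h2, card_inter_transport h h1]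
  refine ⟨?_, ?_, ?_, fun d' d'' h' h'' hx' hx'' he => ?_⟩
  · rw [hcnt]
    exact (ncard_dodecads_countP _ (fun m => m.testBit 0 && (meetD m == 4)) fun m => by
      simp [meetD_pts, pidx_small, -Nat.testBit_zero]).trans (by decide +kernel)
  · rw [hcnt]
    exact (ncard_dodecads_countP _ (fun m => m.testBit 0 && (meetD m == 8)) fun m => by
      simp [meetD_pts, pidx_small, -Nat.testBit_zero]).trans (by decide +kernel)
  · rw [hcnt]
    exact (ncard_dodecads_countP _ (fun m => m.testBit 0 && (meetD m == 6)) fun m => by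
      simp [meetD_pts, pidx_small, -Nat.testBit_zero]).trans (by decide +kernel)
  · obtain ⟨g, hg, g0, go, gx⟩ := dodecads_orbit_E (smul_mem_dodecads h.2 h') (smul_mem_dodecads h.2 h'')
      ((smul_mem_iff h h2 _).mpr hx') ((smul_mem_iff h h2 _).mpr hx'')
      (by rw [← smul_coe, ← smul_coe, card_inter_transport h h1, card_inter_transport h h1, he])
    obtain ⟨k, hk, hfix, hko, hkx⟩ := orbit_transport h h1 hg go gx
    exact ⟨k, hk, hfix x (by rw [show (h : Equiv.Perm GolayPt) x = _ from h2]; exact g0), hko, hkx⟩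

end Cfsg.Lib.Golay
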