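import Cfsg.Agent.Golay.Coding
import Cfsg.Agent.Golay.Conj

/-!
Orbits of a stabiliser on a certified orbit, and a maximality criterion.
-/

namespace Cfsg.Lib.Golay

open Cfsg Cfsg.Lib.PermCert MulAction
open scoped Pointwise

/-- The listed orbits are closed and cover a given one. -/
def subOK (act : FG → ℕ → ℕ) (gens : List FG) (big : STree) (subs : List (ℕ × STree)) : Bool :=
  subs.all (fun e => (stFind big e.1).isSome && closedOK act gens e.1 e.2) &&
    (stVals big).all fun v => subs.any fun e => (stFind e.2 v).isSome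

theorem mem_stVals_of_find {t : STree} {v : ℕ} (h : (stFind t v).isSome = true) : v ∈ stVals t := by
  obtain ⟨d, hd⟩ := Option.isSome_iff_exists.mp h
  obtain ⟨e, he, h1, -⟩ := stFind_mem hd
  exact List.mem_map.mpr ⟨e, he, h1⟩

variable {X Y : Type*} [MulAction (Equiv.Perm GolayPt) X] [MulAction (Equiv.Perm GolayPt) Y]

/-- A certified standard object: its stabiliser and its orbit under the whole group. -/
structure StdObj (C : Coding X) (G K : CG) (x₀ : X) (orb : STree) : Prop where
  okG : G.ok = true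
  grpG : G.grp = M24
  okK : K.ok = true
  hin : gensIn K G = true
  hfix : gensFix C K (C.enc x₀) = true
  horb : closedOK C.act G.gens (C.enc x₀) orb = true
  hsize : size K.chain * (stVals orb).length = size G.chain

variable {C : Coding X} {G K : CG} {x₀ : X} {orb : STree}

theorem StdObj.stab_eq (h : StdObj C G K x₀ orb) :
    M24 ⊓ stabilizer (Equiv.Perm GolayPt) x₀ = K.grp :=
  h.grpG ▸ stab_inf_eq C h.okG h.okK rfl h.horb h.hin h.hfix h.hsize

theorem orbit_M24_eq (x : Y) : orbit M24 x = orbit (M24 : Subgroup (Equiv.Perm GolayPt)) x := rfl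

theorem StdObj.mem_orbit (h : StdObj C G K x₀ orb) (y : X) : y ∈ orbit M24 x₀ ↔ C.enc y ∈ stVals orb := by
  have := (orbit_cert C h.okG rfl h.horb).1 y
  rwa [h.grpG] at this

theorem StdObj.ncard_orbit (h : StdObj C G K x₀ orb) : (orbit M24 x₀).ncard = (stVals orb).length := by
  have := (orbit_cert C h.okG rfl h.horb).2
  rwa [h.grpG] at this

/-- An invariant set with as many members as the certified orbit is that orbit. -/
theorem StdObj.eq_orbit (h : StdObj C G K x₀ orb) {S : Set X} (hS : S.Finite) (h0 : x₀ ∈ S)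
    (hinv : ∀ g ∈ M24, ∀ x ∈ S, g • x ∈ S) (hcard : S.ncard = (stVals orb).length) : S = orbit M24 x₀ := by
  refine (Set.eq_of_subset_of_ncard_le ?_ (by rw [hcard, h.ncard_orbit]) hS).symm
  rintro _ ⟨g, rfl⟩
  exact hinv _ g.2 _ h0

theorem StdObj.stab_orbit (h : StdObj C G K x₀ orb) (y : Y) : orbit (stabilizer M24 x₀) y = orbit K.grp y :=
  orbit_stabilizer_M24_eq h.stab_eq y

/-- Moving the orbits of a stabiliser along a group element. -/
theorem orbit_stab_smul (g : M24) {x x' : X} (hx : g • x = x') (y : Y) :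
    orbit (stabilizer M24 x') (g • y) = (fun z => g • z) '' orbit (stabilizer M24 x) y := by
  ext z
  constructor
  · rintro ⟨k, rfl⟩
    refine ⟨(g⁻¹ * (k : M24) * g) • y, ⟨⟨g⁻¹ * (k : M24) * g, ?_⟩, rfl⟩, ?_⟩
    · rw [mem_stabilizer_iff, mul_smul, mul_smul, hx, mem_stabilizer_iff.mp k.2, ← hx, inv_smul_smul]
    · show g • ((g⁻¹ * (k : M24) * g) • y) = (k : M24) • g • y
      rw [← mul_smul, ← mul_smul, ← mul_assoc, ← mul_assoc, mul_inv_cancel, one_mul]
  · rintro ⟨_, ⟨k, rfl⟩, rfl⟩
    refine ⟨⟨g * (k : M24) * g⁻¹, ?_⟩, ?_⟩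
    · rw [mem_stabilizer_iff, mul_smul, mul_smul, ← hx, inv_smul_smul, mem_stabilizer_iff.mp k.2]
    · show (g * (k : M24) * g⁻¹) • g • y = g • (k : M24) • y
      rw [mul_smul, mul_smul, inv_smul_smul]

theorem image_orbit_M24 (g : M24) (y : Y) : (fun z => g • z) '' orbit M24 y = orbit M24 y := by
  rw [Set.image_smul, smul_orbit]

variable {C' : Coding Y} {orb' : STree} {subs : List (ℕ × STree)} {G' K' : CG} {y₀ : Y}

/-- The certified suborbits, at the standard object. -/
theorem StdObj.suborbits (h : StdObj C G K x₀ orb) (h' : StdObj C' G' K' y₀ orb')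
    (hsub : subOK C'.act K.gens orb' subs = true) :
    (∀ e ∈ subs, ∃ y ∈ orbit M24 y₀, C'.enc y = e.1 ∧
      (∀ z, z ∈ orbit (stabilizer M24 x₀) y ↔ C'.enc z ∈ stVals e.2) ∧
      (orbit (stabilizer M24 x₀) y).ncard = (stVals e.2).length) ∧
    ∀ z ∈ orbit M24 y₀, ∃ e ∈ subs, C'.enc z ∈ stVals e.2 := by
  simp only [subOK, Bool.and_eq_true, List.all_eq_true, List.any_eq_true] at hsub
  refine ⟨fun e he => ?_, fun z hz => ?_⟩
  · obtain ⟨hroot, hclosed⟩ := hsub.1 e he
    have hmem := mem_stVals_of_find hroot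
    obtain ⟨y, hy, hye⟩ : ∃ y ∈ orbit M24 y₀, C'.enc y = e.1 := by
      by_contra hne
      push Not at hne
      have hinj : Set.InjOn C'.enc (orbit M24 y₀) := C'.inj.injOn
      have hsub' : C'.enc '' orbit M24 y₀ ⊆ {v | v ∈ stVals orb'} \ {e.1} := by
        rintro _ ⟨y, hy, rfl⟩
        exact ⟨(h'.mem_orbit y).mp hy, hne y hy⟩
      have hfin : {v | v ∈ stVals orb'}.Finite := (stVals orb').finite_toSet
      have h1 := Set.ncard_le_ncard hsub' (hfin.subset Set.sdiff_subset)
      rw [hinj.ncard_image, h'.ncard_orbit,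
        Set.ncard_sdiff_singleton_of_mem (s := {v | v ∈ stVals orb'}) hmem] at h1
      have h2 : {v | v ∈ stVals orb'}.ncard ≤ (stVals orb').length := by
        rw [show {v | v ∈ stVals orb'} = ((stVals orb').toFinset : Set ℕ) by ext; simp, Set.ncard_coe_finset]
        exact List.toFinset_card_le _
      have : 0 < (stVals orb').length := List.length_pos_of_mem hmem
      omega
    have hc := orbit_cert C' h.okK hye hclosed
    exact ⟨y, hy, hye, fun z => by rw [h.stab_orbit]; exact hc.1 z, by rw [h.stab_orbit]; exact hc.2⟩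
  · obtain ⟨e, he, hf⟩ := hsub.2 _ ((h'.mem_orbit z).mp hz)
    exact ⟨e, he, mem_stVals_of_find hf⟩

/-- The certified suborbits, carried to any object of the orbit. -/
theorem StdObj.suborbits_at (h : StdObj C G K x₀ orb) (h' : StdObj C' G' K' y₀ orb')
    (hsub : subOK C'.act K.gens orb' subs = true) {x : X} (hx : x ∈ orbit M24 x₀) :
    ∃ O : ℕ × STree → Set Y,
      (∀ e ∈ subs, ∃ y ∈ orbit M24 y₀, O e = orbit (stabilizer M24 x) y ∧ (O e).ncard = (stVals e.2).length) ∧
      (∀ z, z ∈ orbit M24 y₀ ↔ ∃ e ∈ subs, z ∈ O e) ∧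
      (∀ e ∈ subs, e.1 = C'.enc y₀ → ∀ g : M24, g • x₀ = x → g • y₀ ∈ O e) := by
  obtain ⟨g, hg⟩ := hx
  obtain ⟨h1, h2⟩ := h.suborbits h' hsub
  refine ⟨fun e => (fun z => g • z) '' {z | C'.enc z ∈ stVals e.2}, fun e he => ?_, fun z => ⟨fun hz => ?_, ?_⟩, ?_⟩
  · obtain ⟨y, hy, -, hiff, hn⟩ := h1 e he
    refine ⟨g • y, ?_, ?_, ?_⟩
    · exact image_orbit_M24 g y₀ ▸ ⟨y, hy, rfl⟩
    · rw [orbit_stab_smul g hg,
        show orbit (stabilizer M24 x₀) y = {z | C'.enc z ∈ stVals e.2} from Set.ext hiff]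
    · rw [Set.ncard_image_of_injective _ (MulAction.injective g), ← hn]
      congr 1
      ext z; exact (hiff z).symm
  · rw [← image_orbit_M24 g y₀] at hz
    obtain ⟨w, hw, rfl⟩ := hz
    obtain ⟨e, he, hwe⟩ := h2 w hw
    exact ⟨e, he, w, hwe, rfl⟩
  · rintro ⟨e, he, w, hw, rfl⟩
    obtain ⟨y, hy, -, hiff, -⟩ := h1 e he
    refine image_orbit_M24 g y₀ ▸ ⟨w, ?_, rfl⟩
    obtain ⟨k, hk⟩ := (hiff w).mpr hw
    exact mem_orbit_of_mem_orbit (k : M24) hy |> fun m => hk ▸ m
  · intro e he heq g' hg'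
    obtain ⟨y, hy, hye, hiff, -⟩ := h1 e he
    obtain rfl : y = y₀ := C'.inj (hye.trans heq)
    refine ⟨(g⁻¹ * g') • y, ?_, ?_⟩
    swap
    · show g • (g⁻¹ * g') • y = g' • y
      rw [← mul_smul, mul_inv_cancel_left]
    exact (hiff _).mp ⟨⟨g⁻¹ * g', by rw [mem_stabilizer_iff, mul_smul, hg', ← hg, inv_smul_smul]⟩, rfl⟩

/-- Sums over sublists. -/
def subSums : List ℕ → List ℕ
  | [] => [0]
  | a :: l => (subSums l).map (a + ·) ++ subSums l

theorem mem_subSums {ι : Type*} (f : ι → ℕ) (p : ι → Bool) : ∀ l : List ι,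
    ((l.filter p).map f).sum ∈ subSums (l.map f)
  | [] => by simp [subSums]
  | a :: l => by
    have ih := mem_subSums f p l
    cases hp : p a
    · simp only [List.filter_cons, hp, List.map_cons, subSums]
      exact List.mem_append_right _ ih
    · simp only [List.filter_cons, hp, if_true, List.map_cons, List.sum_cons, subSums]
      exact List.mem_append_left _ (List.mem_map.mpr ⟨_, ih, rfl⟩)

/-- A point stabiliser is maximal when no proper union of its orbits containing the point has admissible size. -/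
theorem isCoatom_stabilizer {G X : Type*} [Group G] [MulAction G X] [Finite G] (x : X) {ι : Type*} (l : List ι)
    (O : ι → Set X) (hO : ∀ i ∈ l, ∃ y, O i = orbit (stabilizer G x) y)
    (hcov : ∀ z, z ∈ orbit G x ↔ ∃ i ∈ l, z ∈ O i)
    (hsum : (l.map fun i => (O i).ncard).sum = (orbit G x).ncard) (hN : 1 < (orbit G x).ncard)
    (harith : ((subSums (l.map fun i => (O i).ncard)).all fun s =>
      s == 1 || s == (orbit G x).ncard || (orbit G x).ncard % s != 0) = true) :
    IsCoatom (stabilizer G x) := by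
  classical
  have horbfin : (orbit G x).Finite := Set.finite_range _
  refine ⟨fun htop => ?_, fun H hlt => ?_⟩
  · have := index_stabilizer G x
    rw [htop, Subgroup.index_top] at this
    omega
  set S := orbit H x with hS
  have hfin : ∀ s : Set X, s ⊆ orbit G x → s.Finite := fun s hs => horbfin.subset hs
  have hSsub : S ⊆ orbit G x := by rintro _ ⟨k, rfl⟩; exact ⟨(k : G), rfl⟩
  have hdich : ∀ i ∈ l, O i ⊆ S ∨ Disjoint (O i) S := by
    intro i hi
    obtain ⟨y, hy⟩ := hO i hi
    by_cases hd : Disjoint (O i) S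
    · exact Or.inr hd
    · obtain ⟨z, hz, hzS⟩ := Set.not_disjoint_iff.mp hd
      refine Or.inl fun w hw => ?_
      rw [hy] at hz hw
      rw [← MulAction.orbit_eq_iff.mpr hz] at hw
      obtain ⟨k, rfl⟩ := hw
      obtain ⟨m, hm⟩ := hzS
      refine ⟨⟨(k : G), hlt.le k.2⟩ * m, ?_⟩
      show ((k : G) * (m : G)) • x = (k : G) • z
      rw [mul_smul, show (m : G) • x = z from hm]
  -- the pieces partition the orbit
  have hunion : ∀ m : List ι, (m.foldr (fun i s => O i ∪ s) ∅ : Set X).ncard ≤ (m.map fun i => (O i).ncard).sum := by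
    intro m
    induction m with
    | nil => simp
    | cons a m ih =>
      simp only [List.foldr_cons, List.map_cons, List.sum_cons]
      exact (Set.ncard_union_le _ _).trans (by omega)
  have hmemfold : ∀ (m : List ι) (z : X), z ∈ (m.foldr (fun i s => O i ∪ s) ∅ : Set X) ↔ ∃ i ∈ m, z ∈ O i := by
    intro m z
    induction m with
    | nil => simp
    | cons a m ih => simp [ih]
  let p : ι → Bool := fun i => decide (O i ⊆ S)
  have hsplit : (l.map fun i => (O i).ncard).sum
      = ((l.filter p).map fun i => (O i).ncard).sum + ((l.filter fun i => !p i).map fun i => (O i).ncard).sum := by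
    clear hO hcov hsum harith hdich
    induction l with
    | nil => simp
    | cons a l ih => cases hp : p a <;> simp [hp] <;> omega
  have hS1 : S.ncard ≤ ((l.filter p).map fun i => (O i).ncard).sum := by
    refine le_trans (Set.ncard_le_ncard ?_ ?_) (hunion _)
    · intro z hz
      obtain ⟨i, hi, hzi⟩ := (hcov z).mp (hSsub hz)
      refine (hmemfold _ _).mpr ⟨i, List.mem_filter.mpr ⟨hi, decide_eq_true ?_⟩, hzi⟩
      exact (hdich i hi).resolve_right fun hd => Set.disjoint_left.mp hd hzi hz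
    · refine hfin _ fun z hz => ?_
      obtain ⟨i, hi, hzi⟩ := (hmemfold _ _).mp hz
      exact (hcov z).mpr ⟨i, (List.mem_filter.mp hi).1, hzi⟩
  have hS2 : (orbit G x \ S).ncard ≤ ((l.filter fun i => !p i).map fun i => (O i).ncard).sum := by
    refine le_trans (Set.ncard_le_ncard ?_ ?_) (hunion _)
    · intro z hz
      obtain ⟨i, hi, hzi⟩ := (hcov z).mp hz.1
      refine (hmemfold _ _).mpr ⟨i, List.mem_filter.mpr ⟨hi, ?_⟩, hzi⟩
      simp only [p, Bool.not_eq_true', decide_eq_false_iff_not]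
      exact fun h => hz.2 (h hzi)
    · refine hfin _ fun z hz => ?_
      obtain ⟨i, hi, hzi⟩ := (hmemfold _ _).mp hz
      exact (hcov z).mpr ⟨i, (List.mem_filter.mp hi).1, hzi⟩
  have hadd := Set.ncard_sdiff_add_ncard_of_subset hSsub horbfin
  have hval : S.ncard = ((l.filter p).map fun i => (O i).ncard).sum := by omega
  have hmem := List.all_eq_true.mp harith _ (mem_subSums (fun i => (O i).ncard) p l)
  rw [← hval] at hmem
  simp only [Bool.or_eq_true, beq_iff_eq, bne_iff_ne, ne_eq] at hmem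
  -- orders
  have hK : (stabilizer H x).map H.subtype = stabilizer G x := by
    rw [map_stabilizer, inf_eq_right.mpr hlt.le]
  have hcardK : Nat.card (stabilizer H x) = Nat.card (stabilizer G x) := by
    rw [← hK]
    exact Nat.card_congr (Subgroup.equivMapOfInjective _ _ (Subgroup.subtype_injective _)).toEquiv
  have hH := Subgroup.index_mul_card (stabilizer H x)
  rw [index_stabilizer, hcardK, ← hS] at hH
  have hG := Subgroup.index_mul_card (stabilizer G x)
  rw [index_stabilizer] at hG
  have hpos : 0 < Nat.card (stabilizer G x) := Nat.card_pos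
  have hdvd : S.ncard ∣ (orbit G x).ncard := by
    have := Subgroup.card_subgroup_dvd_card H
    rw [← hH, ← hG] at this
    exact Nat.dvd_of_mul_dvd_mul_right hpos this
  rcases hmem with (h1 | h1) | h1
  · exfalso
    refine hlt.ne (Subgroup.eq_of_le_of_card_ge hlt.le ?_)
    rw [← hH, h1, one_mul]
  · exact Subgroup.eq_top_of_card_eq _ (by rw [← hH, h1, hG])
  · exact absurd (Nat.mod_eq_zero_of_dvd hdvd) h1

end Cfsg.Lib.Golay
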