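import Cfsg.Agent.Golay.Stab
import Cfsg.Agent.Golay.SubOrbits
import Cfsg.Agent.Golay.Sextets
import Cfsg.Agent.Golay.DodecadCounts

/-!
The standard octad, trio, sextet, dodecad pair, duad and triad, with their orbits.
-/

namespace Cfsg.Lib.Golay

open Cfsg Cfsg.Lib.PermCert MulAction
open scoped Pointwise

theorem stdObj_set {K : CG} {m : ℕ} {orb : STree} (hm : m < 2 ^ 24) (hK : K.ok = true)
    (hin : gensIn K cgM24 = true) (hfix : gensFix setCoding K m = true)
    (horb : closedOK setCoding.act cgM24.gens m orb = true)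
    (hsize : size K.chain * (stVals orb).length = size cgM24.chain) :
    StdObj setCoding cgM24 K (pts m) orb := by
  have he : setCoding.enc (pts m) = m := mk_pts hm
  exact ⟨cgM24_ok, grp_cgM24, hK, hin, by rw [he]; exact hfix, by rw [he]; exact horb, hsize⟩

theorem stdObj_fam {K : CG} {E : ℕ} {orb : STree} (hE : famOK E = true) (hK : K.ok = true)
    (hin : gensIn K cgM24 = true) (hfix : gensFix famCoding K E = true)
    (horb : closedOK famCoding.act cgM24.gens E orb = true)
    (hsize : size K.chain * (stVals orb).length = size cgM24.chain) :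
    StdObj famCoding cgM24 K (famOf E) orb := by
  have he : famCoding.enc (famOf E) = E := encFam_famOf hE
  exact ⟨cgM24_ok, grp_cgM24, hK, hin, by rw [he]; exact hfix, by rw [he]; exact horb, hsize⟩

theorem stdOct : StdObj setCoding cgM24 cgOct (pts codeOct) orbOct :=
  stdObj_set (by decide +kernel) cgOct_ok (by decide +kernel) (by decide +kernel) orbOct_ok (by decide +kernel)

theorem stdTrio : StdObj famCoding cgM24 cgTrio (famOf codeTrio) orbTrio :=
  stdObj_fam (by decide +kernel) cgTrio_ok (by decide +kernel) (by decide +kernel) orbTrio_ok (by decide +kernel)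

theorem stdSext : StdObj famCoding cgM24 cgSext (famOf codeSext) orbSext :=
  stdObj_fam (by decide +kernel) cgSext_ok (by decide +kernel) (by decide +kernel) orbSext_ok (by decide +kernel)

theorem stdDodPair : StdObj famCoding cgM24 cgDodPair (famOf codeDodPair) orbDodPair :=
  stdObj_fam (by decide +kernel) cgDodPair_ok (by decide +kernel) (by decide +kernel) orbDodPair_ok (by decide +kernel)

theorem stdDuo : StdObj setCoding cgM24 cgDuo (pts codeDuo) orbDuo :=
  stdObj_set (by decide +kernel) cgDuo_ok (by decide +kernel) (by decide +kernel) orbDuo_ok (by decide +kernel)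

theorem stdTri : StdObj setCoding cgM24 cgTri (pts codeTri) orbTri :=
  stdObj_set (by decide +kernel) cgTri_ok (by decide +kernel) (by decide +kernel) orbTri_ok (by decide +kernel)

theorem orbLengths : (stVals orbOct).length = 759 ∧ (stVals orbTrio).length = 3795 ∧
    (stVals orbSext).length = 1771 ∧ (stVals orbDodPair).length = 1288 ∧ (stVals orbDuo).length = 276 ∧
    (stVals orbTri).length = 2024 := by decide +kernel

theorem smul_fam_mem {g : Equiv.Perm GolayPt} {S : Finset (Finset GolayPt)} {p : Finset GolayPt → Prop}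
    (hp : ∀ t ∈ S, p (g • t)) : ∀ t ∈ g • S, p t := by
  intro t ht
  obtain ⟨u, hu, rfl⟩ := Finset.mem_smul_finset.mp ht
  exact hp u hu

theorem smul_mem_sextets {g : Equiv.Perm GolayPt} (hg : g ∈ M24) {S : Finset (Finset GolayPt)} (hS : S ∈ sextets) :
    g • S ∈ sextets := by
  refine ⟨by rw [Finset.card_smul_finset]; exact hS.1,
    smul_fam_mem fun t ht => by rw [Finset.card_smul_finset]; exact hS.2.1 t ht, ?_⟩
  refine smul_fam_mem fun t ht => smul_fam_mem fun u hu hne => ?_
  rw [← Finset.smul_finset_union]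
  exact smul_mem_octads hg (hS.2.2 t ht u hu fun e => hne (by rw [e]))

theorem smul_mem_trios {g : Equiv.Perm GolayPt} (hg : g ∈ M24) {T : Finset (Finset GolayPt)} (hT : T ∈ trios) :
    g • T ∈ trios := by
  refine ⟨by rw [Finset.card_smul_finset]; exact hT.1, smul_fam_mem fun t ht => smul_mem_octads hg (hT.2.1 t ht), ?_⟩
  refine smul_fam_mem fun t ht => smul_fam_mem fun u hu hne => ?_
  exact Finset.disjoint_iff_inter_eq_empty.mpr (by
    rw [← Finset.smul_finset_inter,
      Finset.disjoint_iff_inter_eq_empty.mp (hT.2.2 t ht u hu fun e => hne (by rw [e])), Finset.smul_finset_empty])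

theorem pts_lor (a b : ℕ) : pts (a ||| b) = pts a ∪ pts b := by
  ext p; simp [Nat.testBit_or]

theorem mem_famOf {E : ℕ} {l : List ℕ} (h : decList E = l) {t : Finset GolayPt} (ht : t ∈ famOf E) :
    ∃ m ∈ l, pts m = t := by
  rw [famOf, h, List.mem_toFinset, List.mem_map] at ht
  exact ht

theorem card_famOf {E : ℕ} {l : List ℕ} (h : decList E = l) (hl : l.Nodup) (hlt : ∀ m ∈ l, m < 2 ^ 24) :
    (famOf E).card = l.length := by
  rw [famOf, h, List.toFinset_card_of_nodup (hl.map_on fun a ha b hb e => eq_of_pts_eq (hlt a ha) (hlt b hb) e),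
    List.length_map]

theorem pts_mem_octads {m : ℕ} (h : inCode m = true) (h8 : pc m = 8) : pts m ∈ octads :=
  (mem_octads_iff _).mpr ⟨by rw [mk_pts (lt_of_inCode h)]; exact h, by rw [← pc_eq_card]; exact h8⟩

theorem famSext_mem : famOf codeSext ∈ sextets := by
  have hl : decList codeSext = [15, 5264, 622848, 3416064, 4196928, 8536096] := by decide +kernel
  refine ⟨by rw [card_famOf hl (by decide) (by decide)]; rfl, fun t ht => ?_, fun t ht u hu hne => ?_⟩
  · obtain ⟨m, hm, rfl⟩ := mem_famOf hl ht
    rw [← pc_eq_card]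
    revert m; decide +kernel
  · obtain ⟨a, ha, rfl⟩ := mem_famOf hl ht
    obtain ⟨b, hb, rfl⟩ := mem_famOf hl hu
    have key : ([15, 5264, 622848, 3416064, 4196928, 8536096].all fun a =>
      [15, 5264, 622848, 3416064, 4196928, 8536096].all fun b =>
        a == b || (inCode (a ||| b) && pc (a ||| b) == 8)) = true := by decide +kernel
    simp only [List.all_eq_true, Bool.or_eq_true, beq_iff_eq, Bool.and_eq_true] at key
    rcases key a ha b hb with e | ⟨h1, h2⟩
    · exact absurd (congrArg pts e) hne
    · rw [← pts_lor]; exact pts_mem_octads h1 h2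

theorem famTrio_mem : famOf codeTrio ∈ trios := by
  have hl : decList codeTrio = [5279, 1009728, 15762208] := by decide +kernel
  refine ⟨by rw [card_famOf hl (by decide) (by decide)]; rfl, fun t ht => ?_, fun t ht u hu hne => ?_⟩
  · obtain ⟨m, hm, rfl⟩ := mem_famOf hl ht
    have key : ([5279, 1009728, 15762208].all fun a => inCode a && pc a == 8) = true := by decide +kernel
    simp only [List.all_eq_true, Bool.and_eq_true, beq_iff_eq] at key
    exact pts_mem_octads (key m hm).1 (key m hm).2
  · obtain ⟨a, ha, rfl⟩ := mem_famOf hl ht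
    obtain ⟨b, hb, rfl⟩ := mem_famOf hl hu
    have key : ([5279, 1009728, 15762208].all fun a =>
      [5279, 1009728, 15762208].all fun b => a == b || a &&& b == 0) = true := by decide +kernel
    simp only [List.all_eq_true, Bool.or_eq_true, beq_iff_eq] at key
    rcases key a ha b hb with e | e
    · exact absurd (congrArg pts e) hne
    · rw [Finset.disjoint_iff_inter_eq_empty, ← pts_land, e]; ext p; simp

theorem octads_eq_orbit : octads = orbit M24 (pts codeOct) :=
  stdOct.eq_orbit (Set.toFinite _) oct0_mem (fun _ hg _ hx => smul_mem_octads hg hx)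
    (by rw [ncard_octads, orbLengths.1])

theorem trios_eq_orbit : trios = orbit M24 (famOf codeTrio) :=
  stdTrio.eq_orbit (Set.toFinite _) famTrio_mem (fun _ hg _ hx => smul_mem_trios hg hx)
    (by rw [trios_facts.2, orbLengths.2.1])

theorem sextets_eq_orbit : sextets = orbit M24 (famOf codeSext) :=
  stdSext.eq_orbit (Set.toFinite _) famSext_mem (fun _ hg _ hx => smul_mem_sextets hg hx)
    (by rw [sextets_facts.2, orbLengths.2.2.1])

theorem card_eq_orbit {m : ℕ} {K : CG} {orb : STree} {k : ℕ} (h : StdObj setCoding cgM24 K (pts m) orb)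
    (hm : (pts m).card = k) (hlen : (stVals orb).length = Nat.choose 24 k) :
    {s : Finset GolayPt | s.card = k} = orbit M24 (pts m) := by
  refine h.eq_orbit (Set.toFinite _) hm (fun g _ x hx => by simpa [Finset.card_smul_finset] using hx) ?_
  rw [hlen, show {s : Finset GolayPt | s.card = k}
    = ((Finset.powersetCard k (Finset.univ : Finset GolayPt)) : Set (Finset GolayPt)) by ext; simp,
    Set.ncard_coe_finset, Finset.card_powersetCard, Finset.card_univ, Fintype.card_option, ZMod.card]

theorem pairs_eq_orbit : {s : Finset GolayPt | s.card = 2} = orbit M24 (pts codeDuo) :=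
  card_eq_orbit stdDuo (by decide +kernel) (by rw [orbLengths.2.2.2.2.1]; decide)

theorem triples_eq_orbit : {s : Finset GolayPt | s.card = 3} = orbit M24 (pts codeTri) :=
  card_eq_orbit stdTri (by decide +kernel) (by rw [orbLengths.2.2.2.2.2]; decide)

theorem dodPair_mem_orbit {d : Finset GolayPt} (hd : d ∈ dodecads) :
    ({d, dᶜ} : Finset (Finset GolayPt)) ∈ orbit M24 (famOf codeDodPair) := by
  obtain ⟨h, hh⟩ := exists_std_dodecad hd
  have h0 : famOf codeDodPair = {pts 340831, (pts 340831)ᶜ} := by decide +kernel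
  refine ⟨h⁻¹, ?_⟩
  show (h : Equiv.Perm GolayPt)⁻¹ • famOf codeDodPair = _
  have hh' : (h : Equiv.Perm GolayPt) • d = pts 340831 := hh
  have hd0 : (h : Equiv.Perm GolayPt)⁻¹ • pts 340831 = d := inv_smul_eq_iff.mpr hh'.symm
  rw [h0, Finset.smul_finset_insert, Finset.smul_finset_singleton, hd0,
    show (h : Equiv.Perm GolayPt)⁻¹ • (pts 340831)ᶜ = ((h : Equiv.Perm GolayPt)⁻¹ • pts 340831)ᶜ by
      ext x; simp [Finset.mem_inv_smul_finset_iff], hd0]

variable {X Y : Type*} [MulAction (Equiv.Perm GolayPt) X] [MulAction (Equiv.Perm GolayPt) Y]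
  {C : Coding X} {G K : CG} {x₀ : X} {orb : STree} {C' : Coding Y} {orb' : STree} {subs : List (ℕ × STree)}
  {G' K' : CG} {y₀ : Y}

/-- Representatives of the orbits of a stabiliser, in the order of the certificate. -/
theorem StdObj.suborbit_reps (h : StdObj C G K x₀ orb) (h' : StdObj C' G' K' y₀ orb')
    (hsub : subOK C'.act K.gens orb' subs = true) {sizes : List ℕ}
    (hsz : subs.map (fun e => (stVals e.2).length) = sizes) {x : X} (hx : x ∈ orbit M24 x₀) :
    ∃ ys : List Y, ys.map (fun y => (orbit (stabilizer M24 x) y).ncard) = sizes ∧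
      (∀ y ∈ ys, y ∈ orbit M24 y₀) ∧
      ∀ z, z ∈ orbit M24 y₀ ↔ ∃ y ∈ ys, z ∈ orbit (stabilizer M24 x) y := by
  obtain ⟨O, hO, hcov, -⟩ := h.suborbits_at h' hsub hx
  haveI : Nonempty Y := ⟨y₀⟩
  choose! r hr using hO
  refine ⟨subs.map r, ?_, ?_, fun z => ⟨fun hz => ?_, ?_⟩⟩
  · rw [← hsz, List.map_map]
    refine List.map_congr_left fun e he => ?_
    show (orbit (stabilizer M24 x) (r e)).ncard = _
    rw [← (hr e he).2.1, (hr e he).2.2]
  · intro y hy
    obtain ⟨e, he, rfl⟩ := List.mem_map.mp hy
    exact (hr e he).1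
  · obtain ⟨e, he, hze⟩ := (hcov z).mp hz
    exact ⟨r e, List.mem_map.mpr ⟨e, he, rfl⟩, (hr e he).2.1 ▸ hze⟩
  · rintro ⟨y, hy, hzy⟩
    obtain ⟨e, he, rfl⟩ := List.mem_map.mp hy
    exact (hcov z).mpr ⟨e, he, (hr e he).2.1 ▸ hzy⟩

theorem orbit_stab_self {G β : Type*} [Group G] [MulAction G β] (x : β) : orbit (stabilizer G x) x = {x} := by
  ext z
  simp only [Set.mem_singleton_iff]
  exact ⟨fun ⟨k, hk⟩ => hk ▸ mem_stabilizer_iff.mp k.2, fun e => by subst e; exact mem_orbit_self _⟩

/-- The representative of the orbit of size one is the object itself. -/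
theorem rep_eq_self {G β : Type*} [Group G] [MulAction G β] {x a : β} {ys : List β}
    (hmem : ∃ y ∈ ys, x ∈ orbit (stabilizer G x) y)
    (hsz : ∀ y ∈ ys, (orbit (stabilizer G x) y).ncard = 1 → y = a) : orbit (stabilizer G x) a = {x} := by
  obtain ⟨y, hy, hxy⟩ := hmem
  have e : orbit (stabilizer G x) y = {x} := by rw [← MulAction.orbit_eq_iff.mpr hxy, orbit_stab_self]
  rwa [← hsz y hy (by rw [e, Set.ncard_singleton])]

/-- Stabilisers in the whole group are maximal when the suborbit sizes allow no block. -/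
theorem StdObj.isCoatom (h : StdObj C G K x₀ orb) (hsub : subOK C.act K.gens orb subs = true) {sizes : List ℕ}
    (hsz : subs.map (fun e => (stVals e.2).length) = sizes) {x : X} (hx : x ∈ orbit M24 x₀) {n : ℕ}
    (hn : (stVals orb).length = n) (hsum : sizes.sum = n) (h1 : 1 < n)
    (harith : ((subSums sizes).all fun s => s == 1 || s == n || n % s != 0) = true) :
    IsCoatom (stabilizer M24 x) := by
  obtain ⟨ys, hys, hmem, hcov⟩ := h.suborbit_reps h hsub hsz hx
  have hox : orbit M24 x = orbit M24 x₀ := MulAction.orbit_eq_iff.mpr hx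
  have hcard : (orbit M24 x).ncard = n := by rw [hox, h.ncard_orbit, hn]
  refine isCoatom_stabilizer x ys (fun y => orbit (stabilizer M24 x) y) (fun y _ => ⟨y, rfl⟩)
    (fun z => by rw [hox]; exact hcov z) ?_ (hcard ▸ h1) ?_
  · rw [hys, hcard, hsum]
  · rw [hys, hcard]; exact harith

end Cfsg.Lib.Golay
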