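import Cfsg.Agent.Golay.M22Nine
import Cfsg.Agent.Schur.Corestriction

/-!
A stem extension of `M22` with kernel of order three, by corestriction from the Sylow 3-subgroup.
-/

set_option autoImplicit false
set_option linter.style.haveILetI false
set_option maxRecDepth 100000
set_option Elab.async false

open scoped commutatorElement

namespace Cfsg.Lib.Golay.M22Mult

open Cfsg Cfsg.Lib.PermCert
open Cfsg.Lib.Schur.Corestriction (Datum cor Ext)

/-- A linear function. -/
def dot3 (l v : V3) : ZMod 3 := l.1 * v.1 + l.2 * v.2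

/-- Scaling. -/
def scal3 (a : ZMod 3) (w : V3) : V3 := (a * w.1, a * w.2)

/-- The determinant. -/
def det3 (x y : V3) : ZMod 3 := x.1 * y.2 - y.1 * x.2

theorem line_dual : ∀ w : V3, w ≠ 0 → ∃ l : V3, dot3 l w = 1 := by decide +kernel

theorem span_pair : ∀ w v : V3, (∀ a : ZMod 3, scal3 a w ≠ v) → ∀ z : V3, w ≠ 0 →
    ∃ a b : Fin 3, a.val • w + b.val • v = z := by decide +kernel

theorem scal3_eq (a : ZMod 3) (w : V3) : scal3 a w = a.val • w := by
  revert a w
  decide +kernel

/-- A subgroup of the plane is the whole plane or a line with a projection onto it. -/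
theorem subgroup_cases (S : AddSubgroup V3) :
    (∀ v, v ∈ S) ∨ ∃ w l : V3, w ∈ S ∧ ∀ v ∈ S, scal3 (dot3 l v) w = v := by
  by_cases h : ∃ w ∈ S, w ≠ 0
  · obtain ⟨w, hw, hw0⟩ := h
    by_cases hall : ∀ v ∈ S, ∃ a : ZMod 3, scal3 a w = v
    · obtain ⟨l, hl⟩ := line_dual w hw0
      refine Or.inr ⟨w, l, hw, fun v hv => ?_⟩
      obtain ⟨a, rfl⟩ := hall v hv
      have e : dot3 l (scal3 a w) = a := by
        calc dot3 l (scal3 a w) = a * dot3 l w := by simp only [dot3, scal3]; ring
          _ = a := by rw [hl, mul_one]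
      rw [e]
    · push Not at hall
      obtain ⟨v, hv, hv'⟩ := hall
      refine Or.inl fun z => ?_
      obtain ⟨a, b, rfl⟩ := span_pair w v hv' z hw0
      exact add_mem (nsmul_mem hw _) (nsmul_mem hv _)
  · refine Or.inr ⟨0, 0, zero_mem S, fun v hv => ?_⟩
    have : v = 0 := by
      by_contra hv0
      exact h ⟨v, hv, hv0⟩
    subst this
    decide +kernel

theorem scal3_scal3 : ∀ b : ZMod 3, b ≠ 0 → ∀ w : V3, scal3 b (scal3 b w) = w := by decide +kernel

theorem not_both : ∀ w : V3, ∀ x y : ZMod 3, scal3 x w = ((1, 0) : V3) → scal3 y w ≠ ((0, 1) : V3) := by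
  decide +kernel

theorem two_gen : ∀ z : ZMod 3, (2 * z.val) • (2 : ZMod 3) = z := by decide +kernel

theorem index_mod : ((49280 : ℕ) : ZMod 3) = 2 := by decide +kernel

theorem exists_triple_cover :
    ∃ (Γ : Type) (_ : Group Γ) (_ : Finite Γ) (σ : Γ →* QM),
      Cfsg.IsStemExtension σ ∧ Nat.card σ.ker = 3 := by
  classical
  haveI : Fact (Nat.Prime 3) := ⟨Nat.prime_three⟩
  let P : Subgroup QM := psi.range
  haveI : Fintype (QM ⧸ P) := Fintype.ofFinite _
  have hP9 : Nat.card P = 9 := by
    show Nat.card (Set.range psi) = 9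
    rw [Nat.card_range_of_injective psi_injective, Nat.card_congr Multiplicative.toAdd, Nat.card_prod, Nat.card_zmod]
  let ps : V3 → P := fun v => ⟨psi (Multiplicative.ofAdd v), _, rfl⟩
  let num : P → V3 := fun y => (y.2.choose).toAdd
  have hnum : ∀ y : P, psi (Multiplicative.ofAdd (num y)) = y := fun y => y.2.choose_spec
  have hps : ∀ v, num (ps v) = v := fun v =>
    Multiplicative.ofAdd.injective (psi_injective (hnum (ps v)))
  have hnum_mul : ∀ y z, num (y * z) = num y + num z := fun y z =>
    Multiplicative.ofAdd.injective (psi_injective (by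
      rw [ofAdd_add, map_mul, hnum, hnum, hnum, Subgroup.coe_mul]))
  have hnum_one : num 1 = 0 := by
    have h := hnum_mul 1 1
    rw [one_mul] at h
    simpa using h
  -- the fixed points of the subgroup on a coset
  let S : QM ⧸ P → AddSubgroup V3 := fun i =>
    ((MulAction.stabilizer QM i).comap psi).toAddSubgroup'
  have hS : ∀ i v, v ∈ S i ↔ psi (Multiplicative.ofAdd v) • i = i := fun i v => Iff.rfl
  have hproj : ∀ i, ∃ π : V3 →+ V3, (∀ v, π v ∈ S i) ∧ (∀ v ∈ S i, π v = v) ∧
      ((∀ v, v ∈ S i) ∨ ∀ x y, ∃ w a b, π x = scal3 a w ∧ π y = scal3 b w) := by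
    intro i
    rcases subgroup_cases (S i) with h | ⟨w, l, hw, hl⟩
    · exact ⟨AddMonoidHom.id V3, h, fun v _ => rfl, Or.inl h⟩
    · refine ⟨AddMonoidHom.mk' (fun v => scal3 (dot3 l v) w) fun a b => ?_, fun v => ?_, hl,
        Or.inr fun x y => ⟨w, _, _, rfl, rfl⟩⟩
      · simp only [dot3, scal3, Prod.fst_add, Prod.snd_add, Prod.mk_add_mk]
        exact Prod.ext (by ring) (by ring)
      · show scal3 (dot3 l v) w ∈ S i
        rw [scal3_eq]
        exact nsmul_mem hw _
  choose pr hpr1 hpr2 hpr3 using hproj
  -- orbits and the transversal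
  let o : QM ⧸ P → MulAction.orbitRel.Quotient P (QM ⧸ P) := fun i => Quotient.mk'' i
  have hex : ∀ i, ∃ a : V3, psi (Multiplicative.ofAdd a) • (o i).out = i := by
    intro i
    obtain ⟨⟨-, v, rfl⟩, hv⟩ : (o i).out ∈ MulAction.orbit P i :=
      MulAction.orbitRel_apply.mp (Quotient.mk_out i)
    refine ⟨-v.toAdd, ?_⟩
    rw [← hv]
    show psi v⁻¹ • psi v • i = i
    rw [map_inv, inv_smul_smul]
  choose a ha using hex
  let s : QM ⧸ P → QM := fun i => psi (Multiplicative.ofAdd (a i - pr (o i).out (a i))) * (o i).out.out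
  have hs : ∀ i, (s i : QM ⧸ P) = i := by
    intro i
    show (QuotientGroup.mk (_ * (o i).out.out) : QM ⧸ P) = i
    rw [← smul_eq_mul]
    show psi (Multiplicative.ofAdd _) • ((o i).out.out : QM ⧸ P) = i
    rw [QuotientGroup.out_eq', sub_eq_add_neg, ofAdd_add, map_mul, mul_smul,
      (hS _ _).mp (neg_mem (hpr1 _ (a i))), ha]
  have hmove : ∀ v i, o (psi (Multiplicative.ofAdd v) • i) = o i ∧
      s (psi (Multiplicative.ofAdd v) • i) * (o i).out.out⁻¹ =
        psi (Multiplicative.ofAdd (v + a i - pr (o i).out (v + a i))) := by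
    intro v i
    have ho : o (psi (Multiplicative.ofAdd v) • i) = o i := Quotient.sound' ⟨ps v, rfl⟩
    refine ⟨ho, ?_⟩
    have e1 := ha (psi (Multiplicative.ofAdd v) • i)
    rw [ho] at e1
    have hmem : a (psi (Multiplicative.ofAdd v) • i) - (v + a i) ∈ S (o i).out := by
      rw [hS, sub_eq_neg_add, ofAdd_add, map_mul, mul_smul, e1, ofAdd_neg, map_inv, inv_smul_eq_iff, ofAdd_add,
        map_mul, mul_smul, ha]
    have hfix := hpr2 _ _ hmem
    rw [map_sub] at hfix
    show psi (Multiplicative.ofAdd (a (psi (Multiplicative.ofAdd v) • i) -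
        pr (o (psi (Multiplicative.ofAdd v) • i)).out (a (psi (Multiplicative.ofAdd v) • i)))) *
        (o (psi (Multiplicative.ofAdd v) • i)).out.out * _ = _
    rw [ho, mul_inv_cancel_right, sub_eq_sub_iff_sub_eq_sub.mp hfix.symm]
  let D : Datum P (ZMod 3) :=
    { f := fun y z => (num y).1 * (num z).2
      cocycle := fun x y z => by simp only [hnum_mul, Prod.fst_add, Prod.snd_add]; ring
      left := fun x => by simp [hnum_one]
      right := fun x => by simp [hnum_one]
      s := s
      hs := hs }
  let C : QM ⧸ P → V3 → V3 := fun i v => num (Cfsg.Lib.Schur.Corestriction.beta D (psi (Multiplicative.ofAdd v)) i)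
  have hC : ∀ v i, psi (Multiplicative.ofAdd (pr (o i).out v)) * (o i).out.out =
      (o i).out.out * psi (Multiplicative.ofAdd (C i v)) := by
    intro v i
    show _ = _ * psi (Multiplicative.ofAdd (num _))
    rw [hnum]
    show _ = (o i).out.out * ((s (psi (Multiplicative.ofAdd v) • i))⁻¹ * (psi (Multiplicative.ofAdd v) * s i))
    obtain ⟨-, hm⟩ := hmove v i
    rw [mul_inv_eq_iff_eq_mul] at hm
    rw [hm, mul_inv_rev]
    simp only [s, mul_assoc, mul_inv_cancel_left, ← map_inv]
    simp only [← mul_assoc, ← map_mul, ← ofAdd_neg, ← ofAdd_add]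
    refine congrArg (fun z => psi (Multiplicative.ofAdd z) * (o i).out.out) ?_
    rw [map_add]
    abel
  -- the value at a coset
  have horb : ∀ v i, (o (psi (Multiplicative.ofAdd v) • i)) = o i := fun v i => (hmove v i).1
  have hCconst : ∀ v w i, C (psi (Multiplicative.ofAdd w) • i) v = C i v := by
    intro v w i
    have h1 := hC v (psi (Multiplicative.ofAdd w) • i)
    rw [horb w i, hC v i] at h1
    exact (Multiplicative.ofAdd.injective (psi_injective (mul_left_cancel h1))).symm
  set e1 : V3 := (1, 0)
  set e2 : V3 := (0, 1)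
  have hterm : ∀ i, det3 (C i e1) (C i e2) = if i ∈ MulAction.fixedPoints P (QM ⧸ P) then 1 else 0 := by
    intro i
    have hfixmem : i ∈ MulAction.fixedPoints P (QM ⧸ P) ↔ ∀ v, v ∈ S (o i).out := by
      constructor
      · intro h v
        have hr : psi (Multiplicative.ofAdd (a i)) • (o i).out = i := ha i
        rw [hS]
        have h' : psi (Multiplicative.ofAdd v) • i = i := h (ps v)
        rw [← hr, ← mul_smul, ← map_mul, mul_comm, map_mul, mul_smul] at h'
        exact (smul_left_cancel_iff _).mp h'
      · rintro h ⟨-, v, rfl⟩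
        show psi v • i = i
        rw [← ha i, ← mul_smul, ← map_mul, mul_comm, map_mul, mul_smul, ← ofAdd_toAdd v, (hS _ _).mp (h _)]
    rcases hpr3 (o i).out with h | h
    · rw [if_pos (hfixmem.mpr h)]
      have hid : ∀ v, pr (o i).out v = v := fun v => hpr2 _ v (h v)
      obtain ⟨k, k1, k2⟩ := exists_conj (g := (o i).out.out) fun v =>
        ⟨Multiplicative.ofAdd (C i v.toAdd), by rw [← hC, hid, ofAdd_toAdd]⟩
      have c1 : C i e1 = cxv k := Multiplicative.ofAdd.injective (psi_injective (mul_left_cancel
        (a := (o i).out.out) (by rw [← hC, hid, ← k1])))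
      have c2 : C i e2 = cyv k := Multiplicative.ofAdd.injective (psi_injective (mul_left_cancel
        (a := (o i).out.out) (by rw [← hC, hid, ← k2])))
      rw [c1, c2, det3, ← conj_det k]
      ring
    · rw [if_neg]
      · obtain ⟨w, x, y, hx, hy⟩ := h e1 e2
        have hadd : ∀ (b : ZMod 3) (v : V3), C i v = scal3 b (C i w) ∨ pr (o i).out v ≠ scal3 b w := by
          intro b v
          by_cases hv : pr (o i).out v = scal3 b w
          · left
            have hw' : psi (Multiplicative.ofAdd w) * (o i).out.out =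
                (o i).out.out * psi (Multiplicative.ofAdd (C i w)) ∨ b = 0 := by
              by_cases hb : b = 0
              · exact Or.inr hb
              · left
                have hwS : w ∈ S (o i).out := by
                  have hm := hpr1 (o i).out v
                  rw [hv] at hm
                  have e : scal3 b (scal3 b w) = w := by
                    exact scal3_scal3 b hb w
                  rw [← e, scal3_eq]
                  exact nsmul_mem hm _
                have := hC w i
                rwa [hpr2 _ w hwS] at this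
            have h1 := hC v i
            rw [hv, scal3_eq, ofAdd_nsmul, map_pow] at h1
            refine Multiplicative.ofAdd.injective (psi_injective (mul_left_cancel (a := (o i).out.out) ?_))
            rw [← h1, scal3_eq, ofAdd_nsmul, map_pow]
            rcases hw' with hw' | hb
            · exact (SemiconjBy.pow_right (show SemiconjBy (o i).out.out _ _ from hw'.symm) _).eq.symm
            · subst hb
              simp
          · exact Or.inr hv
        rw [(hadd x e1).resolve_right (not_not.mpr hx), (hadd y e2).resolve_right (not_not.mpr hy)]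
        simp only [det3, scal3]
        ring
      · intro hall
        have hid : ∀ v, pr (o i).out v = v := fun v => hpr2 _ v (hfixmem.mp hall v)
        obtain ⟨w, x, y, hx, hy⟩ := h e1 e2
        rw [hid] at hx hy
        exact not_both w x y hx.symm hy.symm
  have hval : cor D (psi (Multiplicative.ofAdd e1)) (psi (Multiplicative.ofAdd e2)) -
      cor D (psi (Multiplicative.ofAdd e2)) (psi (Multiplicative.ofAdd e1)) = 2 := by
    rw [cor, cor, ← Finset.sum_sub_distrib]
    have h : ∀ i, D.f (Cfsg.Lib.Schur.Corestriction.beta D (psi (Multiplicative.ofAdd e1))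
          (psi (Multiplicative.ofAdd e2) • i)) (Cfsg.Lib.Schur.Corestriction.beta D (psi (Multiplicative.ofAdd e2)) i) -
        D.f (Cfsg.Lib.Schur.Corestriction.beta D (psi (Multiplicative.ofAdd e2))
          (psi (Multiplicative.ofAdd e1) • i)) (Cfsg.Lib.Schur.Corestriction.beta D (psi (Multiplicative.ofAdd e1)) i) =
        det3 (C i e1) (C i e2) := by
      intro i
      show (C _ e1).1 * (C i e2).2 - (C _ e2).1 * (C i e1).2 = _
      rw [hCconst, hCconst, det3]
    rw [Finset.sum_congr rfl fun i _ => (h i).trans (hterm i), Finset.sum_boole]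
    have hp : IsPGroup 3 P := IsPGroup.of_card (n := 2) (by rw [hP9]; norm_num)
    have hmod := hp.card_modEq_card_fixedPoints (QM ⧸ P)
    have hq : Nat.card (QM ⧸ P) = 49280 := by
      have := Subgroup.card_eq_card_quotient_mul_card_subgroup P
      rw [hP9, card_QM] at this
      omega
    rw [hq] at hmod
    have hnat : Nat.card (MulAction.fixedPoints P (QM ⧸ P)) =
        (Finset.univ.filter fun i => i ∈ MulAction.fixedPoints P (QM ⧸ P)).card := by
      rw [Nat.card_eq_fintype_card, Fintype.card_subtype]
    rw [← hnat, ← (ZMod.natCast_eq_natCast_iff _ _ _).mpr hmod]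
    exact index_mod
  have hcomm : psi (Multiplicative.ofAdd e1) * psi (Multiplicative.ofAdd e2) =
      psi (Multiplicative.ofAdd e2) * psi (Multiplicative.ofAdd e1) := by
    rw [← map_mul psi, ← map_mul psi, mul_comm]
  let π := Cfsg.Lib.Schur.Corestriction.proj D
  refine ⟨Ext D, inferInstance, inferInstance, π, ⟨fun g => ⟨⟨0, g⟩, rfl⟩,
    Cfsg.Lib.Schur.Corestriction.ker_le_center D, fun w hw => ?_⟩, ?_⟩
  · have hA : (Ext.mk (D := D) (2 : ZMod 3) 1) ∈ commutator (Ext D) := by
      rw [← hval, ← Cfsg.Lib.Schur.Corestriction.commutator_lifts D hcomm]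
      exact Subgroup.commutator_mem_commutator (Subgroup.mem_top _) (Subgroup.mem_top _)
    let J : Subgroup (Multiplicative (ZMod 3)) :=
      (commutator (Ext D)).comap ((π.ker.subtype).comp (Cfsg.Lib.Schur.Corestriction.kerEquiv D).toMonoidHom)
    have hJ : ∀ n : ℕ, Multiplicative.ofAdd (n • (2 : ZMod 3)) ∈ J := by
      intro n
      rw [ofAdd_nsmul]
      exact pow_mem (show Multiplicative.ofAdd (2 : ZMod 3) ∈ J from hA) n
    have h := hJ (2 * w.z.val)
    rw [two_gen] at h
    have hw' : w.g = 1 := hw
    rwa [show w = Ext.mk (D := D) w.z 1 from Cfsg.Lib.Schur.Corestriction.Ext.ext rfl hw']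
  · rw [← Nat.card_congr (Cfsg.Lib.Schur.Corestriction.kerEquiv D).toEquiv,
      Nat.card_congr Multiplicative.toAdd, Nat.card_zmod]

end Cfsg.Lib.Golay.M22Mult
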