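import Cfsg.Agent.Golay.MultCert
import Cfsg.Agent.Schur.CollectBound

/-!
The certificate bound for elementary kernels, for certified permutation groups.
-/

set_option autoImplicit false

namespace Cfsg.Lib.Golay

open Cfsg Cfsg.Lib.PermCert MulAction
open Cfsg.Lib.Schur (PcCert wordVal)

theorem mult_two_bound {K P : CG} (hK : K.ok = true) (hP : P.ok = true) (hin : gensIn P K = true) {c : PcCert}
    {des : List (List (ℕ × ℕ))} {xs hs rs : List PP} {g : PP} (hc : c.okWith des = true)
    (hdesR : ∀ d ∈ des, ∀ p ∈ d, p.1 < c.n ∧ p.2 ≤ p.1) (hf : pcFacts K P c xs hs rs g = true)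
    (hsize : size P.chain = 2 ^ c.n) (hd : 2 ^ c.n ∣ size K.chain)
    (hnd : ¬ 2 ^ (c.n + 1) ∣ size K.chain) {Γ : Type} [Group Γ] [Finite Γ] {σ : Γ →* K.grp}
    (hσ : Cfsg.IsStemExtension σ) (h2 : ∀ z ∈ σ.ker, z * z = 1) : Nat.card σ.ker ≤ 2 ^ des.length := by
  classical
  simp only [pcFacts, Bool.and_eq_true, List.all_eq_true, List.any_eq_true, Bool.or_eq_true, beq_iff_eq,
    Nat.blt, Nat.ble_eq, List.mem_range] at hf
  obtain ⟨⟨⟨⟨⟨⟨⟨⟨⟨⟨hlx, hxs⟩, hlr⟩, hrs⟩, hgv⟩, hgs⟩, hhs⟩, hgen⟩, hrules⟩, hsq⟩, hfus⟩ := hf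
  have mem : ∀ {v : PP}, valid 24 v = true → sift 24 K.chain [v] = true → toP v ∈ K.grp :=
    fun h1 h2 => mem_of_sift hK h1 h2
  let el : PP → K.grp := fun v => if h : toP v ∈ K.grp then ⟨toP v, h⟩ else 1
  have hel : ∀ {v : PP}, valid 24 v = true → sift 24 K.chain [v] = true →
      Rep ((el v : K.grp) : Equiv.Perm GolayPt) [v] := fun h1 h2 => by
    simp only [el, dif_pos (mem h1 h2)]; exact rep_toP h1
  let x : ℕ → K.grp := fun k => el (xs.getD k g)
  have hxv : ∀ k < c.n, xs.getD k g ∈ xs := fun k hk => by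
    rw [List.getD_eq_getElem _ _ (hlx ▸ hk)]; exact List.getElem_mem _
  have hW : ∀ w : List ℕ, (∀ k ∈ w, k < c.n) →
      Rep ((wordVal x w : K.grp) : Equiv.Perm GolayPt) (w.map fun k => xs.getD k g) := by
    intro w
    induction w with
    | nil => intro _; exact rep_one
    | cons a w ih =>
      intro h
      obtain ⟨⟨h1, h2⟩, -⟩ := hxs _ (hxv a (h a List.mem_cons_self))
      rw [Cfsg.Lib.Schur.wordVal_cons, List.map_cons, Subgroup.coe_mul]
      exact (hel h1 h2).mul (ih fun k hk => h k (List.mem_cons_of_mem _ hk))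
  have hr0 : ∀ b : Bool, rs.getD (bif b then 1 else 0) g ∈ rs := fun b => by
    rw [List.getD_eq_getElem _ _ (by cases b <;> simp [hlr])]; exact List.getElem_mem _
  have hle : P.grp ≤ K.grp := grp_le_of_gensIn hK hP hin
  have hclos : Subgroup.closure (x '' {i | i < c.n}) = P.grp.subgroupOf K.grp := by
    refine le_antisymm ((Subgroup.closure_le _).mpr ?_) ?_
    · rintro _ ⟨k, hk, rfl⟩
      obtain ⟨⟨h1, h2⟩, h3⟩ := hxs _ (hxv k hk)
      show ((x k : K.grp) : Equiv.Perm GolayPt) ∈ P.grp
      simp only [x, el, dif_pos (mem h1 h2)]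
      exact mem_of_sift hP h1 h3
    · intro y hy
      have hsub : P.grp ≤ (Subgroup.closure (x '' {i | i < c.n})).map K.grp.subtype := by
        rw [← (CG.ok_spec hP).2.2, Subgroup.closure_le]
        rintro _ ⟨u, hu, rfl⟩
        obtain ⟨w, hw, hsame⟩ := hgen u hu
        have hwn : ∀ k ∈ w, k < c.n := by
          have aux : ∀ (l : List ℕ), ∀ w ∈ subWords l, ∀ k ∈ w, k ∈ l := by
            intro l
            induction l with
            | nil => intro w hw k hk; simp [subWords] at hw; subst hw; simp at hk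
            | cons a l ih =>
              intro w hw k hk
              rcases List.mem_append.mp hw with hw | hw
              · obtain ⟨w', hw', rfl⟩ := List.mem_map.mp hw
                rcases List.mem_cons.mp hk with rfl | hk
                · exact List.mem_cons_self
                · exact List.mem_cons_of_mem _ (ih w' hw' k hk)
              · exact List.mem_cons_of_mem _ (ih w hw k hk)
          exact fun k hk => List.mem_range.mp (aux _ w hw k hk)
        refine ⟨wordVal x w, Subgroup.list_prod_mem _ fun z hz => ?_, ?_⟩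
        · obtain ⟨k, hk, rfl⟩ := List.mem_map.mp hz
          exact Subgroup.subset_closure ⟨k, hwn k hk, rfl⟩
        · exact (((rep_toP (valid_of_fvalid ((CG.ok_spec hP).2.1 u hu))).eq_iff (hW w hwn)).mpr hsame).symm
      obtain ⟨z, hz, hzy⟩ := hsub hy
      exact (Subtype.ext hzy : z = y) ▸ hz
  have hcard : Nat.card (Subgroup.closure (x '' {i | i < c.n})) = 2 ^ c.n := by
    rw [hclos, Nat.card_congr (Subgroup.subgroupOfEquivOfLe hle).toEquiv, CG.card_grp hP, hsize]
  have hfac : (Nat.card K.grp).factorization 2 = c.n := by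
    rw [CG.card_grp hK]
    have h0 : size K.chain ≠ 0 := by rw [← CG.card_grp hK]; exact Nat.card_pos.ne'
    have h1 := (Nat.prime_two.pow_dvd_iff_le_factorization h0 (k := c.n)).mp hd
    have h2 : ¬ c.n + 1 ≤ (size K.chain).factorization 2 :=
      fun h => hnd ((Nat.prime_two.pow_dvd_iff_le_factorization h0 (k := c.n + 1)).mpr h)
    omega
  refine c.card_ker_le des hc hσ h2 x (fun b => el (rs.getD (bif b then 1 else 0) g)) (fun b => ?_) ?_ ?_
    (by rw [hfac]; exact hcard) hcard.symm hdesR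
  · obtain ⟨⟨h1, h2⟩, h3⟩ := hrs _ (hr0 b)
    exact Subtype.ext ((((hel h1 h2).mul (hel h1 h2)).eq_iff rep_one).mpr h3)
  · intro j hj i hi
    rcases hrules j hj i (lt_of_le_of_lt hi hj) with h | ⟨htl, h⟩
    · omega
    · refine Subtype.ext ?_
      have e : x j * x i = wordVal x [j, i] := by simp [wordVal]
      rw [e]
      refine ((hW _ ?_).eq_iff (hW _ fun k hk => htl k hk)).mpr h
      intro k hk
      simp only [List.mem_cons, List.not_mem_nil, or_false] at hk
      omega
  · intro s hs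
    obtain ⟨hlt, v, hv, hsame⟩ := hsq s hs
    obtain ⟨h1, h2⟩ := hhs v hv
    obtain ⟨⟨r1, r2⟩, -⟩ := hrs _ (hr0 s.2)
    refine ⟨el v, Subtype.ext ?_⟩
    refine ((hW _ fun k hk => hlt k hk).eq_iff (((hel h1 h2).mul (hel r1 r2)).mul ?_)).mpr hsame
    simp only [el, dif_pos (mem h1 h2), Subgroup.coe_inv]
    exact rep_inv h1

end Cfsg.Lib.Golay
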