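import Cfsg.Agent.Golay.M22Four
import Cfsg.Agent.Golay.M22Triple
import Cfsg.Agent.Golay.MultCertBound
import Cfsg.Agent.Schur.ElementaryDihedral
import Cfsg.Agent.Schur.Exponent
import Cfsg.Agent.Schur.FibreProduct

/-!
The Schur multiplier of `M22` is cyclic of order twelve.
-/

set_option autoImplicit false
set_option linter.style.haveILetI false
set_option maxRecDepth 100000
set_option Elab.async false

namespace Cfsg.Lib.Golay.M22Mult

open Cfsg Cfsg.Lib.PermCert
open Cfsg.Lib.Schur (mul_comm_of_le_center normal_of_le_center stem_quotient exponent_sq_dvd_index)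

theorem factorization_QM :
    (Nat.card QM).factorization 2 = 7 ∧ (Nat.card QM).factorization 3 = 2 := by
  rw [card_QM]
  constructor
  · refine le_antisymm ?_ ((Nat.prime_two.pow_dvd_iff_le_factorization (by norm_num)).mp (by norm_num))
    by_contra h
    have := (Nat.prime_two.pow_dvd_iff_le_factorization (n := 443520) (k := 8) (by norm_num)).mpr (by omega)
    norm_num at this
  · refine le_antisymm ?_ ((Nat.prime_three.pow_dvd_iff_le_factorization (by norm_num)).mp (by norm_num))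
    by_contra h
    have := (Nat.prime_three.pow_dvd_iff_le_factorization (n := 443520) (k := 3) (by norm_num)).mpr (by omega)
    norm_num at this

theorem phi_mem_of_gens {H : Subgroup QM} (h : ∀ k : Fin 7, phi (Fin.ofNat 128 (2 ^ k.val)) ∈ H) (u : Fin 128) :
    phi u ∈ H := by
  have key : ∀ l : List ℕ, (∀ k ∈ l, k < 7) → ∃ g ∈ H, ∀ x < 24,
      ev g x = l.foldr (fun k y => ap5 (upr (Fin.ofNat 128 (2 ^ k))) y) x := by
    intro l
    induction l with
    | nil => exact fun _ => ⟨1, one_mem H, fun x hx => ev_one hx⟩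
    | cons k l ih =>
      intro hl
      obtain ⟨g, hgH, hg⟩ := ih fun j hj => hl j (List.mem_cons_of_mem _ hj)
      refine ⟨phi (Fin.ofNat 128 (2 ^ k)) * g, mul_mem (h ⟨k, hl k List.mem_cons_self⟩) hgH, fun x hx => ?_⟩
      rw [ev_mul, hg x hx, List.foldr_cons, ev_phi _ _ (hg x hx ▸ ev_lt g x)]
  obtain ⟨g, hgH, hg⟩ := key (uword u) fun k hk => List.mem_range.mp (List.mem_filter.mp hk).1
  have : g = phi u := ev_ext fun x hx => by
    rw [hg x hx, ev_phi u x hx]
    exact upr_word u ⟨x, hx⟩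
  exact this ▸ hgH

theorem word_letters : ∀ w : Fin 8, ∀ a ∈ dWords.getD w.val [], a = dd ∨ a = de := by decide +kernel

theorem plane_span : ∀ v : V3, v.1.val • ((1, 0) : V3) + v.2.val • ((0, 1) : V3) = v := by decide +kernel

variable {Γ : Type} [Group Γ] [Finite Γ] {σ : Γ →* QM}

theorem pow_four (hσ : Cfsg.IsStemExtension σ) {z : Γ} (hz : z ∈ σ.ker) {k : ℕ} (hzk : z ^ 2 ^ k = 1) :
    z ^ 4 = 1 := by
  obtain ⟨h0, hab, hconj⟩ := elem_facts
  obtain ⟨hd, he, hne, h4⟩ := dihedral_facts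
  let E : Subgroup QM :=
    { carrier := {g | ∃ u, inE u = true ∧ phi u = g}
      one_mem' := ⟨0, h0, phi_zero⟩
      mul_mem' := by
        rintro _ _ ⟨a, ha, rfl⟩ ⟨b, hb, rfl⟩
        exact ⟨_, (hab a b ha hb).1, (phi_mul a b).symm⟩
      inv_mem' := by
        rintro _ ⟨a, ha, rfl⟩
        refine ⟨a, ha, eq_inv_of_mul_eq_one_right ?_⟩
        rw [phi_mul, (hab a a ha ha).2.2, phi_zero] }
  have inv_dd : (phi dd)⁻¹ = phi dd := inv_eq_of_mul_eq_one_right (by rw [phi_mul, hd, phi_zero])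
  have inv_de : (phi de)⁻¹ = phi de := inv_eq_of_mul_eq_one_right (by rw [phi_mul, he, phi_zero])
  refine Cfsg.Lib.Schur.pow_four_of_elementary_dihedral hσ syl E (phi dd) (phi de) ?_ ?_ ?_ ?_ ?_ ?_ ?_ ?_ ?_ hz hzk
  · rw [card_syl, factorization_QM.1]
    rfl
  · rintro _ ⟨u, rfl⟩
    refine phi_mem_of_gens (fun j => ?_) u
    obtain ⟨w, s, hs, e⟩ := gen_cases j
    rw [← e, ← phi_mul]
    refine mul_mem (Subgroup.subset_closure (Or.inl ⟨s, hs, rfl⟩)) ?_
    have hw : ∀ l : List (Fin 128), (∀ a ∈ l, a = dd ∨ a = de) →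
        phi (l.foldr um 0) ∈ Subgroup.closure ((E : Set QM) ∪ {phi dd, phi de}) := by
      intro l
      induction l with
      | nil => exact fun _ => by rw [List.foldr_nil, phi_zero]; exact one_mem _
      | cons a l ih =>
        intro hl
        rw [List.foldr_cons, ← phi_mul]
        refine mul_mem ?_ (ih fun b hb => hl b (List.mem_cons_of_mem _ hb))
        rcases hl a List.mem_cons_self with rfl | rfl
        · exact Subgroup.subset_closure (Or.inr (Or.inl rfl))
        · exact Subgroup.subset_closure (Or.inr (Or.inr rfl))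
    exact hw _ (word_letters w)
  · rintro _ ⟨a, ha, rfl⟩
    rw [phi_mul, (hab a a ha ha).2.2, phi_zero]
  · rintro _ ⟨a, ha, rfl⟩
    exact ⟨_, (hconj a ha).1, by rw [inv_dd, phi_mul, phi_mul]⟩
  · rintro _ ⟨a, ha, rfl⟩
    exact ⟨_, (hconj a ha).2, by rw [inv_de, phi_mul, phi_mul]⟩
  · rw [phi_mul, hd, phi_zero]
  · rw [phi_mul, he, phi_zero]
  · rintro ⟨u, hu, e⟩
    rw [phi_mul, phi_mul] at e
    rw [phi_injective e, hne] at hu
    exact Bool.false_ne_true hu
  · rw [phi_mul, phi_mul, phi_mul, h4, phi_zero]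

theorem card_two (hσ : Cfsg.IsStemExtension σ) (h2 : ∀ z ∈ σ.ker, z ^ 2 = 1) : Nat.card σ.ker ≤ 2 := by
  obtain ⟨hin, hsz, hd, hnd, -⟩ := autCoverM22
  have hn : cert.n = 7 := rfl
  have h := mult_two_bound (K := cgAutM22) (P := cgAutSylM22) cgAutM22_ok.1 cgAutM22_ok.2 hin cert_ok
    (by decide +kernel) pc_facts (by rw [hn]; exact hsz) (by rw [hn]; exact hd) (by rw [hn]; exact hnd) hσ
    (fun z hz => by rw [← pow_two]; exact h2 z hz)
  exact h.trans (by decide +kernel)

theorem card_three (hσ : Cfsg.IsStemExtension σ) (h3 : ∀ z ∈ σ.ker, z ^ 3 = 1) : Nat.card σ.ker ≤ 3 := by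
  haveI : Fact (Nat.Prime 3) := ⟨Nat.prime_three⟩
  obtain ⟨x, hx⟩ : ∃ x, psi (Multiplicative.ofAdd ((1, 0) : V3)) = x := ⟨_, rfl⟩
  obtain ⟨y, hy⟩ : ∃ y, psi (Multiplicative.ofAdd ((0, 1) : V3)) = y := ⟨_, rfl⟩
  refine Cfsg.Lib.Schur.card_le_of_commuting_pair hσ h3 x y (by rw [← hx, ← hy, ← map_mul psi, ← map_mul psi, mul_comm]) ?_
  have e : Subgroup.closure ({x, y} : Set QM) = psi.range := by
    refine le_antisymm ((Subgroup.closure_le _).mpr ?_) ?_
    · rintro g (rfl | rfl)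
      · exact ⟨_, hx⟩
      · exact ⟨_, hy⟩
    · rintro _ ⟨v, rfl⟩
      rw [← ofAdd_toAdd v, ← plane_span v.toAdd, ofAdd_add, map_mul, ofAdd_nsmul, ofAdd_nsmul, map_pow, map_pow, hx, hy]
      have mx : x ∈ Subgroup.closure ({x, y} : Set QM) := Subgroup.subset_closure (Set.mem_insert x {y})
      have my : y ∈ Subgroup.closure ({x, y} : Set QM) :=
        Subgroup.subset_closure (Set.mem_insert_of_mem x (Set.mem_singleton y))
      exact mul_mem (pow_mem mx _) (pow_mem my _)
  rw [e, factorization_QM.2]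
  show Nat.card (Set.range psi) = _
  rw [Nat.card_range_of_injective psi_injective, Nat.card_congr Multiplicative.toAdd, Nat.card_prod, Nat.card_zmod]
  rfl

theorem kernel_image (hσ : Cfsg.IsStemExtension σ) :
    ∃ π : Multiplicative (ZMod 12) →* σ.ker, Function.Surjective π := by
  classical
  letI : CommGroup σ.ker := { (inferInstance : Group σ.ker) with mul_comm := mul_comm_of_le_center hσ.2.1 }
  have hidx : σ.ker.index = 443520 := by
    rw [Subgroup.index_ker, MonoidHom.range_eq_top.mpr hσ.1, Subgroup.card_top, card_QM]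
  have hexp := exponent_sq_dvd_index σ.ker hσ.2.1 hσ.2.2
  rw [hidx] at hexp
  have h24 : Monoid.exponent σ.ker ∣ 24 := by
    generalize Monoid.exponent σ.ker = e at hexp ⊢
    have hle : e ≤ 665 := by
      by_contra h
      have := Nat.le_of_dvd (by norm_num) hexp
      have : 666 * 666 ≤ e ^ 2 := by rw [pow_two]; exact Nat.mul_le_mul (by omega) (by omega)
      omega
    have key : ∀ i < 666, i ^ 2 ∣ 443520 → i ∣ 24 := by decide +kernel
    exact key e (by omega) hexp
  have h12 : ∀ z : σ.ker, z ^ 12 = 1 := by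
    intro z
    have h : (z : Γ) ^ 24 = 1 := by
      rw [← Subgroup.coe_pow, Monoid.exponent_dvd_iff_forall_pow_eq_one.mp h24 z, Subgroup.coe_one]
    refine Subtype.ext ?_
    rw [Subgroup.coe_pow, Subgroup.coe_one, show (12 : ℕ) = 3 * 4 from rfl, pow_mul]
    exact pow_four hσ (pow_mem z.2 3) (k := 3) (by rw [← pow_mul]; exact h)
  have hbound : ∀ (n b : ℕ), (∀ (Δ : Type) [Group Δ] [Finite Δ] (τ : Δ →* QM),
      Cfsg.IsStemExtension τ → (∀ z ∈ τ.ker, z ^ n = 1) → Nat.card τ.ker ≤ b) →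
      (powMonoidHom n : σ.ker →* σ.ker).range.index ≤ b := by
    intro n b hn
    set L := (powMonoidHom n : σ.ker →* σ.ker).range
    set L' : Subgroup Γ := L.map σ.ker.subtype with hL'
    have hle : L' ≤ σ.ker := Subgroup.map_subtype_le L
    haveI : L'.Normal := normal_of_le_center (hle.trans hσ.2.1)
    obtain ⟨hτ, hker⟩ := stem_quotient hσ L' hle
    refine le_trans (le_of_eq ?_) (hn (Γ ⧸ L') _ hτ fun z hz => ?_)
    · rw [hker, ← Subgroup.relIndex_bot_left (σ.ker.map _), ← Subgroup.map_bot (QuotientGroup.mk' L'),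
        Subgroup.relIndex_map_map, QuotientGroup.ker_mk', bot_sup_eq, sup_eq_left.mpr hle, hL',
        Subgroup.relIndex, ← Subgroup.comap_subtype,
        Subgroup.comap_map_eq_self_of_injective (Subgroup.subtype_injective _)]
    · rw [hker] at hz
      obtain ⟨w, hw, rfl⟩ := hz
      rw [← map_pow]
      exact (QuotientGroup.eq_one_iff _).mpr ⟨(⟨w, hw⟩ : σ.ker) ^ n, ⟨⟨w, hw⟩, rfl⟩, rfl⟩
  exact Cfsg.Lib.Schur.exists_surj_twelve h12
    (hbound 2 2 fun Δ _ _ τ hτ h => card_two hτ h) (hbound 3 3 fun Δ _ _ τ hτ h => card_three hτ h)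

theorem multiplier : Cfsg.HasCyclicSchurMultiplier QM 12 := by
  refine ⟨?_, fun Γ _ _ σ hσ => kernel_image hσ⟩
  obtain ⟨Γ, _, _, σ, hσ, h4⟩ := exists_four_cover
  obtain ⟨Λ, _, _, τ, hτ, h3⟩ := exists_triple_cover
  obtain ⟨Δ, π, -, hst, -, hc⟩ := Cfsg.Lib.Schur.exists_fibre_stem σ τ hσ hτ (by rw [h4, h3]; norm_num)
  refine ⟨↥Δ, inferInstance, inferInstance, σ.comp π, hst, ?_⟩
  obtain ⟨f, hf⟩ := kernel_image hst
  have hb : Function.Bijective f := (Nat.bijective_iff_surjective_and_card f).mpr ⟨hf, by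
    rw [hc, h4, h3, Nat.card_congr Multiplicative.toAdd, Nat.card_zmod]⟩
  exact ⟨(MulEquiv.ofBijective f hb).symm⟩

end Cfsg.Lib.Golay.M22Mult
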