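import Cfsg.Agent.Golay.ElementFix
import Cfsg.Agent.Golay.OctInvData
import Cfsg.Agent.LargeExtra.SplitCentralizer

/-!
The centraliser of an involution with eight fixed points as a split extension.
-/

set_option autoImplicit false

namespace Cfsg.Lib.Golay

open Cfsg Cfsg.Lib.PermCert MulAction
open scoped Pointwise commutatorElement

/-- A word describes a permutation. -/
def Rep (x : Equiv.Perm GolayPt) (w : List PP) : Prop := ∀ p, pidx (x p) = evalWord w (pidx p)

theorem Rep.mul {x y : Equiv.Perm GolayPt} {w v : List PP} (hx : Rep x w) (hy : Rep y v) : Rep (x * y) (w ++ v) :=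
  fun p => by rw [Equiv.Perm.mul_apply, hx, hy, evalWord_append]

theorem rep_toP {g : PP} (hg : valid 24 g = true) : Rep (toP g) [g] := fun p => pidx_toP hg p

theorem rep_one : Rep 1 [] := fun _ => rfl

theorem Rep.eq_iff {x y : Equiv.Perm GolayPt} {w v : List PP} (hx : Rep x w) (hy : Rep y v) :
    x = y ↔ FusionCert.same w v = true := by
  simp only [FusionCert.same, List.all_eq_true, List.mem_range, beq_iff_eq]
  constructor
  · rintro rfl i hi
    have e : pidx (ptAt i) = i := pidx_ptAt ⟨i, hi⟩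
    rw [← e, ← hx, ← hy]
  · intro h
    exact Equiv.ext fun p => pidx_injective (by rw [hx, hy, h _ (pidx_lt p)])

/-- The word test for the extraspecial group and the elementary subgroup. -/
def octQOK : Bool :=
  let z := [invA.1]
  let eq := FusionCert.same
  let Q := FusionCert.elems cgOctQ.chain
  Q.all (fun w => eq (w ++ z) (z ++ w) && (eq (w ++ w) [] || eq (w ++ w) z) &&
    (eq w [] || eq w z || cgOctQ.gens.any fun g => !(eq (w ++ [g.1]) ([g.1] ++ w))) &&
    Q.all fun v => eq (w ++ v) (v ++ w) || eq (w ++ v) (z ++ (v ++ w))) &&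
  (FusionCert.elems cgOctE.chain).all fun w => eq (w ++ w) []

theorem octQOK_true : octQOK = true := by decide +kernel

/-- The generators of the centraliser normalise the extraspecial group. -/
def octNormOK : Bool :=
  cgInvA.gens.all fun g => cgOctQ.gens.all fun q => sift 24 cgOctQ.chain [g.1, q.1, pinv g.1]

theorem octNormOK_true : octNormOK = true := by decide +kernel

theorem cgOctQ_ok : cgOctQ.ok = true := by decide +kernel
theorem cgOctE_ok : cgOctE.ok = true := by decide +kernel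
theorem cgOctK_ok : cgOctK.ok = true := by decide +kernel

theorem oct_gensIn : gensIn cgOctQ cgInvA = true ∧ gensIn cgOctK cgInvA = true ∧ gensIn cgOctE cgOctQ = true ∧
    gensIn cgInvA cgM24 = true := by decide +kernel

theorem oct_sizes : size cgOctQ.chain = 128 ∧ size cgOctE.chain = 16 ∧ size cgOctK.chain = 168 ∧
    size cgInvA.chain = 21504 := by decide +kernel

theorem grpOctK_simple : IsSimpleGroup (grp 24 cgOctK.chain) :=
  isSimpleGroup_of_chain (p := 7) (wit := witOctK) (L := cgOctKL0) (by norm_num) (CG.ok_spec cgOctK_ok).1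
    (by decide +kernel) (by decide +kernel)

theorem oct_elements : fvalid invA = true ∧ fvalid octQA = true ∧ fvalid octKWit = true ∧ fvalid octQWit = true ∧
    fvalid octQN1 = true ∧ fvalid octQN2 = true ∧ preserves conjOctA.1 = true ∧ preserves conjOctB.1 = true ∧
    sift 24 cgOctQ.chain [invA.1] = true ∧ sift 24 cgOctQ.chain [octQA.1] = true ∧
    sift 24 cgOctK.chain [octKWit.1] = true ∧ sift 24 cgOctQ.chain [octQWit.1] = true ∧
    sift 24 cgOctQ.chain [octQN1.1] = true ∧ sift 24 cgOctQ.chain [octQN2.1] = true := by decide +kernel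

theorem oct_relations :
    toP invA.1 * toP invA.1 = 1 ∧ toP invA.1 ≠ 1 ∧ toP octQA.1 ≠ toP invA.1 ∧
    toP conjOctA.1 * toP invA.1 = toP octQA.1 * toP conjOctA.1 ∧
    toP conjOctB.1 * toP invA.1 = toP invA.1 * toP octQA.1 * toP conjOctB.1 ∧
    toP octKWit.1 * toP octQWit.1 ≠ toP octQWit.1 * toP octKWit.1 ∧
    toP octKWit.1 * toP octQWit.1 ≠ toP invA.1 * toP octQWit.1 * toP octKWit.1 ∧
    toP octQN1.1 * toP octQN2.1 ≠ toP octQN2.1 * toP octQN1.1 := by decide +kernel

theorem mem_of_sift {K : CG} (hK : K.ok = true) {g : PP} (hg : valid 24 g = true)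
    (hs : sift 24 K.chain [g] = true) : toP g ∈ K.grp :=
  ⟨perm 24 g, by simpa using mem_grp_of_sift (CG.ok_spec hK).1 (w := [g]) (by simpa using hg) hs, rfl⟩

theorem rep_of_mem {K : CG} (hK : K.ok = true) {x : Equiv.Perm GolayPt} (hx : x ∈ K.grp) :
    ∃ w ∈ FusionCert.elems K.chain, Rep x w := by
  obtain ⟨w, hw, -, h⟩ := elems_spec (CG.ok_spec hK).1 hx
  exact ⟨w, hw, h⟩

theorem octQ_facts :
    (∀ a ∈ cgOctQ.grp, Commute a (toP invA.1) ∧ (a * a = 1 ∨ a * a = toP invA.1)) ∧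
    (∀ a ∈ cgOctQ.grp, ∀ b ∈ cgOctQ.grp, ⁅a, b⁆ = 1 ∨ ⁅a, b⁆ = toP invA.1) ∧
    (∀ a ∈ cgOctQ.grp, (∀ b ∈ cgOctQ.grp, Commute b a) → a = 1 ∨ a = toP invA.1) ∧
    (∀ a ∈ cgOctE.grp, a * a = 1) := by
  have hz := rep_toP (valid_of_fvalid fvalid_reps.1)
  have h := octQOK_true
  simp only [octQOK, Bool.and_eq_true, List.all_eq_true, List.any_eq_true, Bool.or_eq_true, Bool.not_eq_true'] at h
  obtain ⟨hQ, hE⟩ := h
  refine ⟨fun a ha => ?_, fun a ha b hb => ?_, fun a ha hall => ?_, fun a ha => ?_⟩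
  · obtain ⟨w, hw, hr⟩ := rep_of_mem cgOctQ_ok ha
    obtain ⟨⟨⟨h1, h2⟩, -⟩, -⟩ := hQ w hw
    exact ⟨((hr.mul hz).eq_iff (hz.mul hr)).mpr h1,
      h2.imp ((hr.mul hr).eq_iff rep_one).mpr ((hr.mul hr).eq_iff hz).mpr⟩
  · obtain ⟨w, hw, hr⟩ := rep_of_mem cgOctQ_ok ha
    obtain ⟨v, hv, hs⟩ := rep_of_mem cgOctQ_ok hb
    rcases (hQ w hw).2 v hv with e | e
    · left
      exact commutatorElement_eq_one_iff_mul_comm.mpr (((hr.mul hs).eq_iff (hs.mul hr)).mpr e)
    · right
      rw [commutatorElement_def, ((hr.mul hs).eq_iff (hz.mul (hs.mul hr))).mpr e]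
      group
  · obtain ⟨w, hw, hr⟩ := rep_of_mem cgOctQ_ok ha
    obtain ⟨⟨-, h3⟩, -⟩ := hQ w hw
    rcases h3 with (e | e) | ⟨g, hg, e⟩
    · exact Or.inl ((hr.eq_iff rep_one).mpr e)
    · exact Or.inr ((hr.eq_iff hz).mpr e)
    · exfalso
      have hgm : toP g.1 ∈ cgOctQ.grp := by
        rw [← (CG.ok_spec cgOctQ_ok).2.2]; exact Subgroup.subset_closure ⟨g, hg, rfl⟩
      have hrg := rep_toP (valid_of_fvalid ((CG.ok_spec cgOctQ_ok).2.1 g hg))
      rw [((hr.mul hrg).eq_iff (hrg.mul hr)).mp (hall _ hgm).eq.symm] at e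
      exact absurd e (by simp)
  · obtain ⟨w, hw, hr⟩ := rep_of_mem cgOctE_ok ha
    exact ((hr.mul hr).eq_iff rep_one).mpr (hE w hw)

theorem cgInvA_le_normalizer :
    cgInvA.grp ≤ Subgroup.normalizer (cgOctQ.grp : Set (Equiv.Perm GolayPt)) := by
  rw [← (CG.ok_spec cgInvA_ok).2.2, Subgroup.closure_le]
  rintro _ ⟨g, hg, rfl⟩
  have hgv := valid_of_fvalid ((CG.ok_spec cgInvA_ok).2.1 g hg)
  have hmap : cgOctQ.grp.map (MulAut.conj (toP g.1)).toMonoidHom = cgOctQ.grp := by
    refine Subgroup.eq_of_le_of_card_ge ?_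
      (le_of_eq (Nat.card_congr (Subgroup.equivMapOfInjective _ _ (MulAut.conj _).injective).toEquiv))
    conv_lhs => rw [← (CG.ok_spec cgOctQ_ok).2.2]
    rw [MonoidHom.map_closure, Subgroup.closure_le]
    rintro _ ⟨_, ⟨q, hq, rfl⟩, rfl⟩
    have hqv := valid_of_fvalid ((CG.ok_spec cgOctQ_ok).2.1 q hq)
    have hs := List.all_eq_true.mp (List.all_eq_true.mp octNormOK_true g hg) q hq
    have hv : ∀ x ∈ [g.1, q.1, pinv g.1], valid 24 x = true := by
      simp [hgv, hqv, valid_pinv hgv]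
    refine ⟨_, mem_grp_of_sift (CG.ok_spec cgOctQ_ok).1 hv hs, ?_⟩
    have e : toP (pinv g.1) = (toP g.1)⁻¹ := by rw [toP, toP, perm_pinv hgv, map_inv]
    show _ = toP g.1 * toP q.1 * (toP g.1)⁻¹
    rw [← e]
    simp [toP, mul_assoc]
  refine Subgroup.mem_normalizer_iff.mpr fun y => ?_
  have e : toP g.1 * y * (toP g.1)⁻¹ = (MulAut.conj (toP g.1)).toMonoidHom y := by simp
  constructor
  · intro hy
    have := Subgroup.mem_map_of_mem (MulAut.conj (toP g.1)).toMonoidHom hy
    rwa [hmap, ← e] at this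
  · intro hy
    rw [← hmap, e] at hy
    obtain ⟨u, hu, huy⟩ := hy
    rwa [(MulAut.conj _).injective huy] at hu

end Cfsg.Lib.Golay
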