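import Cfsg.Agent.Golay.OctInv
import Cfsg.Prelude.Def_KGroupFacts

/-!
Automorphisms of a certified group from a generating pair, its relations and the involution classes.
-/

set_option autoImplicit false

namespace Cfsg.Lib.Golay

open Cfsg Cfsg.Lib.PermCert MulAction
open scoped Pointwise

/-- The value of a word in two letters. -/
def wEval {M : Type*} [Monoid M] (a b : M) (w : List Bool) : M := (w.map fun x => bif x then b else a).prod

/-- A word in two tables. -/
def wordPP (r q : PP) (w : List Bool) : List PP := w.map fun x => bif x then q else r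

/-- The code of a table as an object of the conjugation action. -/
def tabCode (r : PP) : ℕ := pack ((List.range 24).map (ap r.1))

theorem map_wEval {M N F : Type*} [Monoid M] [Monoid N] [FunLike F M N] [MonoidHomClass F M N] (f : F) (a b : M)
    (w : List Bool) : f (wEval a b w) = wEval (f a) (f b) w := by
  induction w with
  | nil => simp [wEval]
  | cons x w ih =>
    simp only [wEval, List.map_cons, List.prod_cons, map_mul] at ih ⊢
    rw [ih]
    cases x <;> rfl

theorem rep_wEval {x y : Equiv.Perm GolayPt} {r q : PP} (hx : Rep x [r]) (hy : Rep y [q]) :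
    ∀ w : List Bool, Rep (wEval x y w) (wordPP r q w)
  | [] => rep_one
  | false :: w => Rep.mul hx (rep_wEval hx hy w)
  | true :: w => Rep.mul hy (rep_wEval hx hy w)

theorem rep_pow {x : Equiv.Perm GolayPt} {r : PP} (hx : Rep x [r]) : ∀ i : ℕ, Rep (x ^ i) (List.replicate i r)
  | 0 => by rw [pow_zero]; exact rep_one
  | i + 1 => by rw [pow_succ', List.replicate_succ]; exact Rep.mul hx (rep_pow hx i)

theorem rep_inv {g : PP} (hg : valid 24 g = true) : Rep (toP g)⁻¹ [pinv g] := by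
  rw [show (toP g)⁻¹ = toP (pinv g) by rw [toP, toP, perm_pinv hg, map_inv]]
  exact rep_toP (valid_pinv hg)

theorem rep_cjEnc (y : Equiv.Perm GolayPt) : Rep y [(cjEnc ⟨y⟩, cjEnc ⟨y⟩)] := fun p => by
  show pidx (y p) = ap (cjEnc ⟨y⟩) (pidx p)
  rw [ap_cjEnc _ (pidx_lt p), ptAt_pidx]

theorem Rep.cjEnc_eq {x : Equiv.Perm GolayPt} {w : List PP} (h : Rep x w) :
    cjEnc ⟨x⟩ = pack ((List.range 24).map (evalWord w)) := by
  refine congrArg pack (List.map_congr_left fun i hi => ?_)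
  rw [h (ptAt i)]
  exact congrArg _ (pidx_ptAt ⟨i, List.mem_range.mp hi⟩)

theorem Rep.unique {x y : Equiv.Perm GolayPt} {w : List PP} (hx : Rep x w) (hy : Rep y w) : x = y :=
  Equiv.ext fun p => pidx_injective (by rw [hx, hy])

/-- Data for the automorphisms of a certified group. -/
structure AutData where
  K : CG
  p : ℕ
  r : ℕ
  s : PP
  n : PP
  t : PP
  rels : List (List Bool)
  words : List (List Bool)
  imgs : List ℕ
  cands : List ℕ
  candsInv : List ℕ

/-- An image fails a relation or is admissible. -/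
def imgOK (rels : List (List Bool)) (s' : PP) (cs : List ℕ) (E : ℕ) : Bool :=
  !(rels.all fun w => FusionCert.same (wordPP s' (E, E) w) []) || cs.contains E

/-- A property holds at a node and in both subtrees. -/
theorem all_node {P : ℕ × ℕ × ℕ × ℕ → Bool} {v a b c : ℕ} {l r : STree} (h : P (v, a, b, c) = true)
    (hl : (stNodes l).all P = true) (hr : (stNodes r).all P = true) :
    (stNodes (.node v a b c l r)).all P = true := by
  simp [stNodes, h, hl, hr]

/-- The admissible images form one class under the generator. -/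
def candsBase (d : AutData) (cs : List ℕ) : Bool :=
  cs.all fun E => (List.range d.p).any fun i => FusionCert.same
      (List.replicate i (pinv d.s) ++ [(E, E)] ++ List.replicate i d.s) [(cs.headD 0, cs.headD 0)]

/-- Admissible images. -/
def candsOK (d : AutData) (s' : PP) (cs : List ℕ) : Bool :=
  d.imgs.all (imgOK d.rels s' cs) && candsBase d cs

/-- The check of the pair, its relations and the generators. -/
def AutData.baseOK (d : AutData) : Bool :=
  valid 24 d.s && valid 24 d.n && valid 24 d.t &&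
  sift 24 d.K.chain [d.s] && sift 24 d.K.chain [d.n] && sift 24 d.K.chain [d.t] &&
  FusionCert.same (List.replicate d.p d.s) [] && !FusionCert.same [d.s] [] &&
  FusionCert.same ([d.n] ++ [d.s] ++ [pinv d.n]) (List.replicate d.r d.s) &&
  ((List.range d.p).all fun k => k == 0 || (List.range d.p).any fun j =>
    d.r ^ j % d.p == k || d.r ^ j % d.p == d.p - k) &&
  (d.rels.all fun w => FusionCert.same (wordPP d.s d.t w) []) &&
  (d.K.gens.all fun g => d.words.any fun w => FusionCert.same [g.1] (wordPP d.s d.t w))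

/-- The check. -/
def AutData.ok (d : AutData) : Bool :=
  d.baseOK && candsOK d d.s d.cands && candsOK d (pinv d.s) d.candsInv

theorem AutData.ok_intro {d : AutData} (h0 : d.baseOK = true) (h1 : d.imgs.all (imgOK d.rels d.s d.cands) = true)
    (h2 : d.imgs.all (imgOK d.rels (pinv d.s) d.candsInv) = true) (h3 : candsBase d d.cands = true)
    (h4 : candsBase d d.candsInv = true) : d.ok = true := by
  simp only [AutData.ok, candsOK, h0, h1, h2, h3, h4, Bool.and_self]

/-- The normal forms of automorphisms. -/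
def AutData.Normal (d : AutData) (hs : toP d.s ∈ d.K.grp) (ht : toP d.t ∈ d.K.grp) (b : Bool)
    (α : MulAut d.K.grp) : Prop :=
  (α ⟨_, hs⟩ = bif b then (⟨_, hs⟩ : d.K.grp)⁻¹ else ⟨_, hs⟩) ∧
  (bif b then d.candsInv else d.cands) ≠ [] ∧
  Rep (α ⟨_, ht⟩ : Equiv.Perm GolayPt)
    [((bif b then d.candsInv else d.cands).headD 0, (bif b then d.candsInv else d.cands).headD 0)]

theorem AutData.mem (d : AutData) (hK : d.K.ok = true) (h : d.ok = true) :
    toP d.s ∈ d.K.grp ∧ toP d.n ∈ d.K.grp ∧ toP d.t ∈ d.K.grp := by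
  simp only [AutData.ok, AutData.baseOK, Bool.and_eq_true] at h
  obtain ⟨⟨⟨⟨⟨⟨⟨⟨⟨⟨⟨⟨⟨hsv, hnv⟩, htv⟩, hs⟩, hn⟩, ht⟩, -⟩, -⟩, -⟩, -⟩, -⟩, -⟩, -⟩, -⟩ := h
  exact ⟨mem_of_sift hK hsv hs, mem_of_sift hK hnv hn, mem_of_sift hK htv ht⟩

theorem AutData.exists_normal (d : AutData) (hK : d.K.ok = true) (h : d.ok = true) (hp : d.p.Prime)
    (hdvd : d.p ∣ size d.K.chain) (hsq : ¬ d.p ^ 2 ∣ size d.K.chain)
    (hs : toP d.s ∈ d.K.grp) (ht : toP d.t ∈ d.K.grp)
    (himg : ∀ α : MulAut d.K.grp, cjEnc ⟨(α ⟨_, ht⟩ : Equiv.Perm GolayPt)⟩ ∈ d.imgs) (α : MulAut d.K.grp) :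
    ∃ g : d.K.grp, ∃ b : Bool, d.Normal hs ht b (MulAut.conj g * α) := by
  obtain ⟨-, hn, -⟩ := d.mem hK h
  simp only [AutData.ok, AutData.baseOK, Bool.and_eq_true, Bool.not_eq_true'] at h
  obtain ⟨⟨⟨⟨⟨⟨⟨⟨⟨⟨⟨⟨⟨hsv, hnv⟩, htv⟩, -⟩, -⟩, -⟩, hsp⟩, hs1⟩, hns⟩, htab⟩, hrels⟩, -⟩, hc⟩, hci⟩ := h
  set S : d.K.grp := ⟨_, hs⟩ with hS
  set T : d.K.grp := ⟨_, ht⟩ with hT
  set N : d.K.grp := ⟨_, hn⟩ with hN
  have rs : Rep (S : Equiv.Perm GolayPt) [d.s] := rep_toP hsv
  have rn : Rep (N : Equiv.Perm GolayPt) [d.n] := rep_toP hnv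
  have hSp : S ^ d.p = 1 := Subtype.ext (((rep_pow rs d.p).eq_iff rep_one).mpr hsp)
  have hS1 : S ≠ 1 := fun e => by
    have := (rs.eq_iff rep_one).mp (congrArg Subtype.val e)
    rw [this] at hs1
    exact Bool.noConfusion hs1
  haveI : Fact d.p.Prime := ⟨hp⟩
  have hord : orderOf S = d.p := orderOf_eq_prime hSp hS1
  have hNS : N * S * N⁻¹ = S ^ d.r :=
    Subtype.ext ((((rn.mul rs).mul (rep_inv hnv)).eq_iff (rep_pow rs d.r)).mpr hns)
  have hNj : ∀ j, N ^ j * S * (N ^ j)⁻¹ = S ^ (d.r ^ j) := by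
    intro j
    induction j with
    | zero => simp
    | succ j ih =>
      rw [pow_succ', mul_inv_rev, show N * N ^ j * S * ((N ^ j)⁻¹ * N⁻¹) = N * (N ^ j * S * (N ^ j)⁻¹) * N⁻¹ by group,
        ih, ← conj_pow, hNS, ← pow_mul, ← pow_succ']
  have hcard : Nat.card (Subgroup.zpowers S) = d.p ^ (Nat.card d.K.grp).factorization d.p := by
    rw [Nat.card_zpowers, hord, CG.card_grp hK]
    have h0 : size d.K.chain ≠ 0 := by
      rw [← CG.card_grp hK]; exact Nat.card_pos.ne'
    have h1 := (hp.pow_dvd_iff_le_factorization h0 (k := 1)).mp (by simpa using hdvd)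
    have h2 : ¬ 2 ≤ (size d.K.chain).factorization d.p := fun e => hsq ((hp.pow_dvd_iff_le_factorization h0 (k := 2)).mpr e)
    rw [show (size d.K.chain).factorization d.p = 1 by omega, pow_one]
  let P : Sylow d.p d.K.grp := Sylow.ofCard _ hcard
  have hu : orderOf (α S) = d.p := (MulEquiv.orderOf_eq α S).trans hord
  obtain ⟨Q, hQ⟩ :=
    (IsPGroup.of_card (p := d.p) (n := 1) ((Nat.card_zpowers _).trans (hu.trans (pow_one d.p).symm))).exists_le_sylow
  obtain ⟨g, hg⟩ := MulAction.exists_smul_eq d.K.grp Q P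
  have hmem : g * α S * g⁻¹ ∈ Subgroup.zpowers S := by
    have : g * α S * g⁻¹ ∈ (g • Q : Sylow d.p d.K.grp) :=
      ⟨α S, hQ (Subgroup.mem_zpowers _), rfl⟩
    rw [hg] at this
    exact this
  rw [mem_zpowers_iff_mem_range_orderOf, hord] at hmem
  obtain ⟨k, hk, hku⟩ := Finset.mem_image.mp hmem
  have hk0 : k ≠ 0 := by
    rintro rfl
    rw [pow_zero, eq_comm, conj_eq_one_iff] at hku
    exact hS1 ((MulEquiv.map_eq_one_iff α).mp hku)
  simp only [List.all_eq_true, List.mem_range, Bool.or_eq_true, beq_iff_eq, List.any_eq_true] at htab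
  obtain ⟨j, -, hj⟩ := (htab k (Finset.mem_range.mp hk)).resolve_left hk0
  have hmod : S ^ (d.r ^ j % d.p) = S ^ (d.r ^ j) := by
    rw [← hord]
    exact pow_mod_orderOf S _
  obtain ⟨b, hb⟩ : ∃ b : Bool, ((N ^ j)⁻¹ * g) * α S * ((N ^ j)⁻¹ * g)⁻¹ = bif b then S⁻¹ else S := by
    have e : ((N ^ j)⁻¹ * g) * α S * ((N ^ j)⁻¹ * g)⁻¹ = (N ^ j)⁻¹ * S ^ k * N ^ j := by rw [hku]; group
    rcases hj with hj | hj
    · refine ⟨false, ?_⟩
      rw [e, ← hj, hmod, ← hNj j]
      show _ = S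
      group
    · refine ⟨true, ?_⟩
      have hk' : S ^ k = (S ^ (d.r ^ j))⁻¹ := by
        rw [← hmod, hj]
        exact eq_inv_of_mul_eq_one_left (by
          rw [← pow_add, Nat.add_sub_cancel' (Finset.mem_range.mp hk).le, hSp])
      rw [e, hk', ← hNj j]
      show _ = S⁻¹
      group
  set β : MulAut d.K.grp := MulAut.conj ((N ^ j)⁻¹ * g) * α with hβ
  have hβS : β S = bif b then S⁻¹ else S := hb
  set y : Equiv.Perm GolayPt := ((β T : d.K.grp) : Equiv.Perm GolayPt) with hy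
  have hfix : ∀ i, MulAut.conj (S ^ i)⁻¹ (bif b then S⁻¹ else S) = bif b then S⁻¹ else S := by
    intro i
    rw [MulAut.conj_apply]
    cases b
    · show (S ^ i)⁻¹ * S * (S ^ i)⁻¹⁻¹ = S
      rw [inv_inv, mul_assoc, (Commute.self_pow S i).eq, inv_mul_cancel_left]
    · show (S ^ i)⁻¹ * S⁻¹ * (S ^ i)⁻¹⁻¹ = S⁻¹
      rw [inv_inv, mul_assoc, ((Commute.self_pow S i).inv_left).eq, inv_mul_cancel_left]
  have hfin : ∀ (s' : PP) (cs : List ℕ), Rep ((bif b then S⁻¹ else S : d.K.grp) : Equiv.Perm GolayPt) [s'] →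
      candsOK d s' cs = true →
      ∃ i, cs ≠ [] ∧ Rep ((MulAut.conj (S ^ i)⁻¹ (β T) : d.K.grp) : Equiv.Perm GolayPt) [(cs.headD 0, cs.headD 0)] := by
    intro s' cs hs' hcs
    simp only [candsOK, candsBase, imgOK, Bool.and_eq_true, List.all_eq_true, Bool.or_eq_true, Bool.not_eq_true', List.any_eq_true,
      List.mem_range, List.contains_iff_mem] at hcs
    have hE : cjEnc ⟨y⟩ ∈ d.imgs := himg β
    rcases hcs.1 _ hE with e | e
    · exfalso
      rw [Bool.eq_false_iff] at e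
      refine e (List.all_eq_true.mpr fun w hw => ?_)
      have hw0 : wEval (S : Equiv.Perm GolayPt) (T : Equiv.Perm GolayPt) w = 1 :=
        ((rep_wEval rs (rep_toP htv) w).eq_iff rep_one).mpr (List.all_eq_true.mp hrels w hw)
      have hw1 : wEval S T w = 1 := Subtype.ext ((map_wEval d.K.grp.subtype S T w).trans hw0)
      have hw2 : wEval (β S) (β T) w = 1 := by rw [← map_wEval β, hw1, map_one]
      have hw3 := (map_wEval d.K.grp.subtype (β S) (β T) w).symm
      rw [hw2, map_one, hβS] at hw3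
      exact ((rep_wEval hs' (rep_cjEnc y) w).eq_iff rep_one).mp hw3
    · obtain ⟨i, -, hi⟩ := hcs.2 _ e
      refine ⟨i, List.ne_nil_of_mem e, ?_⟩
      have hrep : Rep ((MulAut.conj (S ^ i)⁻¹ (β T) : d.K.grp) : Equiv.Perm GolayPt)
          (List.replicate i (pinv d.s) ++ [(cjEnc ⟨y⟩, cjEnc ⟨y⟩)] ++ List.replicate i d.s) := by
        rw [MulAut.conj_apply, inv_inv, Subgroup.coe_mul, Subgroup.coe_mul, Subgroup.coe_inv, Subgroup.coe_pow,
          ← inv_pow]
        exact ((rep_pow (rep_inv hsv) i).mul (rep_cjEnc y)).mul (rep_pow rs i)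
      intro q
      rw [hrep q]
      exact beq_iff_eq.mp (List.all_eq_true.mp hi _ (List.mem_range.mpr (pidx_lt q)))
  obtain ⟨i, hne, hi⟩ := hfin (bif b then pinv d.s else d.s) (bif b then d.candsInv else d.cands)
    (by cases b
        · exact rs
        · exact rep_inv hsv)
    (by cases b
        · exact hc
        · exact hci)
  refine ⟨(S ^ i)⁻¹ * ((N ^ j)⁻¹ * g), b, ?_⟩
  rw [map_mul, mul_assoc, ← hβ]
  exact ⟨(congrArg _ hβS).trans (hfix i), hne, hi⟩

theorem AutData.normal_unique (d : AutData) (hK : d.K.ok = true) (h : d.ok = true)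
    (hs : toP d.s ∈ d.K.grp) (ht : toP d.t ∈ d.K.grp) {b : Bool} {α β : MulAut d.K.grp}
    (hα : d.Normal hs ht b α) (hβ : d.Normal hs ht b β) : α = β := by
  simp only [AutData.ok, AutData.baseOK, Bool.and_eq_true] at h
  obtain ⟨⟨⟨⟨⟨⟨⟨⟨⟨⟨⟨⟨⟨hsv, -⟩, htv⟩, -⟩, -⟩, -⟩, -⟩, -⟩, -⟩, -⟩, -⟩, hgen⟩, -⟩, -⟩ := h
  have hT : α ⟨_, ht⟩ = β ⟨_, ht⟩ := Subtype.ext (hα.2.2.unique hβ.2.2)
  have hS : α ⟨_, hs⟩ = β ⟨_, hs⟩ := hα.1.trans hβ.1.symm
  have key : ∀ x, ∀ hx : x ∈ Subgroup.closure {p | ∃ g ∈ d.K.gens, toP g.1 = p}, ∀ hx' : x ∈ d.K.grp,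
      α ⟨x, hx'⟩ = β ⟨x, hx'⟩ := by
    intro x hx
    induction hx using Subgroup.closure_induction with
    | mem x hx =>
      obtain ⟨g, hg, rfl⟩ := hx
      intro hx'
      obtain ⟨w, -, hw⟩ := List.any_eq_true.mp (List.all_eq_true.mp hgen g hg)
      have e : (⟨toP g.1, hx'⟩ : d.K.grp) = wEval (⟨_, hs⟩ : d.K.grp) ⟨_, ht⟩ w := by
        refine Subtype.ext (Eq.trans ?_ (map_wEval d.K.grp.subtype _ _ w).symm)
        exact ((rep_toP (valid_of_fvalid ((CG.ok_spec hK).2.1 g hg))).eq_iff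
          (rep_wEval (rep_toP hsv) (rep_toP htv) w)).mpr hw
      rw [e, map_wEval α, map_wEval β, hS, hT]
    | one => intro hx'; exact (map_one α).trans (map_one β).symm
    | mul x y hx hy ihx ihy =>
      intro hxy
      have hx' : x ∈ d.K.grp := (CG.ok_spec hK).2.2 ▸ hx
      have hy' : y ∈ d.K.grp := (CG.ok_spec hK).2.2 ▸ hy
      show α (⟨x, hx'⟩ * ⟨y, hy'⟩) = β (⟨x, hx'⟩ * ⟨y, hy'⟩)
      rw [map_mul, map_mul, ihx hx', ihy hy']
    | inv x hx ihx =>
      intro hxi
      have hx' : x ∈ d.K.grp := (CG.ok_spec hK).2.2 ▸ hx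
      show α (⟨x, hx'⟩⁻¹) = β (⟨x, hx'⟩⁻¹)
      rw [map_inv, map_inv, ihx hx']
  refine MulEquiv.ext fun x => ?_
  exact key x.1 ((CG.ok_spec hK).2.2.symm ▸ x.2) x.2

theorem out_mk_conj_mul {G : Type*} [Group G] (g : G) (α : MulAut G) :
    ((MulAut.conj g * α : MulAut G) : Cfsg.Out G) = (α : Cfsg.Out G) := by
  rw [QuotientGroup.mk_mul, (QuotientGroup.eq_one_iff _).mpr (MonoidHom.mem_range.mpr ⟨g, rfl⟩), one_mul]

/-- There are at most two classes of automorphisms, and one if no inverted normal form is admissible. -/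
theorem AutData.card_out_le (d : AutData) (hK : d.K.ok = true) (h : d.ok = true) (hp : d.p.Prime)
    (hdvd : d.p ∣ size d.K.chain) (hsq : ¬ d.p ^ 2 ∣ size d.K.chain) (ht : toP d.t ∈ d.K.grp)
    (himg : ∀ α : MulAut d.K.grp, cjEnc ⟨(α ⟨_, ht⟩ : Equiv.Perm GolayPt)⟩ ∈ d.imgs) :
    Nat.card (Cfsg.Out d.K.grp) ≤ 2 ∧ (d.candsInv = [] → Nat.card (Cfsg.Out d.K.grp) = 1) := by
  have hs := (d.mem hK h).1
  choose g b hn using fun q : Cfsg.Out d.K.grp =>
    d.exists_normal hK h hp hdvd hsq hs ht himg (Quotient.out q)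
  have hinj : Function.Injective b := by
    intro q q' e
    have h1 : MulAut.conj (g q) * Quotient.out q = MulAut.conj (g q') * Quotient.out q' :=
      d.normal_unique hK h hs ht (hn q) (e ▸ hn q')
    have h2 := congrArg (fun x : MulAut d.K.grp => (x : Cfsg.Out d.K.grp)) h1
    simpa only [out_mk_conj_mul, QuotientGroup.out_eq'] using h2
  refine ⟨(Nat.card_le_card_of_injective b hinj).trans_eq (by simp), fun hnil => ?_⟩
  have hb : ∀ q, b q = false := by
    intro q
    cases hbq : b q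
    · rfl
    · have := (hn q).2.1
      rw [hbq] at this
      exact absurd hnil this
  haveI : Subsingleton (Cfsg.Out d.K.grp) := ⟨fun q q' => hinj ((hb q).trans (hb q').symm)⟩
  exact Nat.card_unique

/-- Every involution of the chain occurs in one of the trees. -/
def invCover (c : List Level) (trees : List STree) : Bool :=
  (FusionCert.elems c).all fun w => FusionCert.same w [] || !FusionCert.same (w ++ w) [] ||
    trees.any fun T => (stFind T (pack ((List.range 24).map (evalWord w)))).isSome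

/-- Conjugation of tables by a table. -/
def cjActP (g : PP) (E : ℕ) : ℕ := pack ((List.range 24).map fun i => ap g.1 (ap E (ap g.2 i)))

/-- A node stays in the tree under the generators. -/
def stableAt (gens : List PP) (T : STree) (e : ℕ × ℕ × ℕ × ℕ) : Bool :=
  gens.all fun g => (stFind T (cjActP g e.1)).isSome

/-- The set of codes in a tree is stable. -/
def stableOK (gens : List PP) (T : STree) : Bool := (stNodes T).all (stableAt gens T)

theorem cjEnc_smulP {g : PP} (hv : valid 24 g = true) (x : CJ) : cjEnc (toP g • x) = cjActP g (cjEnc x) := by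
  unfold cjActP
  conv_lhs => unfold cjEnc
  refine congrArg pack (List.map_congr_left fun i hi => ?_)
  have hi : i < 24 := List.mem_range.mp hi
  have hv' := valid_pinv hv
  have e : (toP g)⁻¹ = toP (pinv g) := by rw [toP, toP, perm_pinv hv, map_inv]
  show pidx ((toP g * x.perm * (toP g)⁻¹) (ptAt i)) = _
  rw [Equiv.Perm.mul_apply, Equiv.Perm.mul_apply, e, toP_ptAt hv' hi, pidx_toP hv]
  show _ = ap g.1 (ap (cjEnc x) (ap (pinv g).1 i))
  rw [ap_cjEnc x (valid_lt hv' hi)]

theorem AutData.conj_mem (d : AutData) (hK : d.K.ok = true) (h : d.ok = true) {T : STree}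
    (hT : stableOK [d.s, d.t] T = true) {g u : Equiv.Perm GolayPt} (hg : g ∈ d.K.grp)
      : cjEnc ⟨u⟩ ∈ stVals T → cjEnc ⟨g * u * g⁻¹⟩ ∈ stVals T := by
  simp only [AutData.ok, AutData.baseOK, Bool.and_eq_true] at h
  obtain ⟨⟨⟨⟨⟨⟨⟨⟨⟨⟨⟨⟨⟨hsv, -⟩, htv⟩, -⟩, -⟩, -⟩, -⟩, -⟩, -⟩, -⟩, -⟩, hgen⟩, -⟩, -⟩ := h
  have hle : d.K.grp ≤ Subgroup.closure {toP d.s, toP d.t} := by
    rw [← (CG.ok_spec hK).2.2, Subgroup.closure_le]
    rintro _ ⟨x, hx, rfl⟩
    obtain ⟨w, -, hw⟩ := List.any_eq_true.mp (List.all_eq_true.mp hgen x hx)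
    rw [((rep_toP (valid_of_fvalid ((CG.ok_spec hK).2.1 x hx))).eq_iff
      (rep_wEval (rep_toP hsv) (rep_toP htv) w)).mpr hw]
    refine Subgroup.list_prod_mem _ fun z hz => ?_
    obtain ⟨b, -, rfl⟩ := List.mem_map.mp hz
    exact Subgroup.subset_closure (by cases b <;> simp)
  have hm : g ∈ Submonoid.closure {toP d.s, toP d.t} := by
    rw [← Subgroup.closure_toSubmonoid_of_finite]; exact hle hg
  clear hg
  have key : ∀ v : CJ, cjEnc v ∈ stVals T → cjEnc (g • v) ∈ stVals T := by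
    induction hm using Submonoid.closure_induction with
    | mem x hx =>
      intro v hv
      obtain ⟨e, he, hev⟩ := List.mem_map.mp hv
      simp only [stableOK, stableAt, List.all_eq_true] at hT
      have hfind : ∀ z, valid 24 z = true → z ∈ [d.s, d.t] → cjEnc (toP z • v) ∈ stVals T := by
        intro z hz hzm
        obtain ⟨dd, hd⟩ := Option.isSome_iff_exists.mp (hT e he z hzm)
        obtain ⟨en, hen, hen1, -⟩ := stFind_mem hd
        exact List.mem_map.mpr ⟨en, hen, hen1.trans (by rw [cjEnc_smulP hz, hev])⟩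
      rcases hx with rfl | rfl
      · exact hfind _ hsv (by simp)
      · exact hfind _ htv (by simp)
    | one => intro v hv; rwa [one_smul]
    | mul x y _ _ hx hy => intro v hv; rw [mul_smul]; exact hx _ (hy v hv)
  exact key ⟨u⟩

theorem AutData.invCover_sound (d : AutData) (hK : d.K.ok = true) (h : d.ok = true) {P : CG} (hP : P.ok = true)
    (hin : gensIn P d.K = true) {e : ℕ} (hsize : size P.chain = 2 ^ e) (hdvd : 2 ^ e ∣ size d.K.chain)
    (hnd : ¬ 2 ^ (e + 1) ∣ size d.K.chain) {trees : List STree} (hst : trees.all (stableOK [d.s, d.t]) = true)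
    (hcov : invCover P.chain trees = true) {y : Equiv.Perm GolayPt} (hy : y ∈ d.K.grp) (h2 : orderOf y = 2) :
    cjEnc ⟨y⟩ ∈ trees.flatMap stVals := by
  haveI : Fact (Nat.Prime 2) := ⟨Nat.prime_two⟩
  have hle : P.grp ≤ d.K.grp := grp_le_of_gensIn hK hP hin
  have hcard : Nat.card (P.grp.subgroupOf d.K.grp) = 2 ^ (Nat.card d.K.grp).factorization 2 := by
    rw [Nat.card_congr (Subgroup.subgroupOfEquivOfLe hle).toEquiv, CG.card_grp hP, hsize, CG.card_grp hK]
    congr 1
    have h0 : size d.K.chain ≠ 0 := by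
      rw [← CG.card_grp hK]; exact Nat.card_pos.ne'
    have h1 := (Nat.prime_two.pow_dvd_iff_le_factorization h0 (k := e)).mp hdvd
    have h2 : ¬ e + 1 ≤ (size d.K.chain).factorization 2 := fun h => hnd ((Nat.prime_two.pow_dvd_iff_le_factorization h0 (k := e + 1)).mpr h)
    omega
  let S : Sylow 2 d.K.grp := Sylow.ofCard _ hcard
  have hoy : orderOf (⟨y, hy⟩ : d.K.grp) = 2 := by rw [Subgroup.orderOf_mk]; exact h2
  obtain ⟨Q, hQ⟩ :=
    (IsPGroup.of_card (p := 2) (n := 1) ((Nat.card_zpowers _).trans (hoy.trans (pow_one 2).symm))).exists_le_sylow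
  obtain ⟨g, hg⟩ := MulAction.exists_smul_eq d.K.grp S Q
  have hmem : (⟨y, hy⟩ : d.K.grp) ∈ (g • S : Sylow 2 d.K.grp) := hg ▸ hQ (Subgroup.mem_zpowers _)
  obtain ⟨u, hu, hgu⟩ := hmem
  have hgu : (g : Equiv.Perm GolayPt) * u * (g : Equiv.Perm GolayPt)⁻¹ = y := congrArg Subtype.val hgu
  have hne1 : y ≠ 1 := fun e1 => by rw [e1, orderOf_one] at h2; omega
  have huu : (u : Equiv.Perm GolayPt) * u = 1 := by
    have hyy : y * y = 1 := by rw [← sq, ← h2, pow_orderOf_eq_one]
    rw [← hgu, show (g : Equiv.Perm GolayPt) * u * (g : Equiv.Perm GolayPt)⁻¹ * ((g : Equiv.Perm GolayPt) * u *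
      (g : Equiv.Perm GolayPt)⁻¹) = (g : Equiv.Perm GolayPt) * (u * u) * (g : Equiv.Perm GolayPt)⁻¹ by group,
      conj_eq_one_iff] at hyy
    exact hyy
  obtain ⟨w, hw, hr⟩ := rep_of_mem hP hu
  simp only [invCover, List.all_eq_true, Bool.or_eq_true, Bool.not_eq_true', List.any_eq_true] at hcov
  rcases hcov w hw with (h1 | h1) | ⟨T, hT, hf⟩
  · exfalso
    apply hne1
    rw [← hgu, show (u : Equiv.Perm GolayPt) = 1 from (hr.eq_iff rep_one).mpr h1, mul_one, mul_inv_cancel]
  · exact absurd (((hr.mul hr).eq_iff rep_one).mp huu) (by rw [h1]; exact Bool.false_ne_true)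
  · obtain ⟨dd, hd⟩ := Option.isSome_iff_exists.mp hf
    obtain ⟨en, hen, hen1, -⟩ := stFind_mem hd
    refine List.mem_flatMap.mpr ⟨T, hT, ?_⟩
    rw [← hgu]
    exact d.conj_mem hK h (List.all_eq_true.mp hst T hT) g.2
      (List.mem_map.mpr ⟨en, hen, hen1.trans hr.cjEnc_eq.symm⟩)

end Cfsg.Lib.Golay
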