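import Cfsg.Agent.Golay.M24
import Cfsg.Agent.Golay.Subgroups
import Cfsg.Agent.PermCert.Orbit

/-!
Reduction to standard configurations, counting and orbit certificates on masks.
-/

namespace Cfsg.Lib.Golay

open Cfsg Cfsg.Lib.PermCert
open scoped Pointwise

theorem ncard_smul_congr {β : Type*} [MulAction (Equiv.Perm GolayPt) β] (g : Equiv.Perm GolayPt) {q q' : β → Prop}
    (h : ∀ x, q' (g • x) ↔ q x) : {x | q x}.ncard = {x | q' x}.ncard := by
  rw [show {x | q' x} = (g • ·) '' {x | q x} by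
    ext y
    constructor
    · intro hy; exact ⟨g⁻¹ • y, (h _).mp (by rwa [smul_inv_smul]), smul_inv_smul g y⟩
    · rintro ⟨x, hx, rfl⟩; exact (h x).mpr hx]
  exact (Set.ncard_image_of_injective _ (MulAction.injective g)).symm

theorem smul_mem_octads_iff {g : Equiv.Perm GolayPt} (hg : g ∈ M24) {o : Finset GolayPt} :
    g • o ∈ octads ↔ o ∈ octads :=
  ⟨fun h => by simpa using smul_mem_octads (inv_mem hg) h, smul_mem_octads hg⟩

theorem smul_mem_dodecads_iff {g : Equiv.Perm GolayPt} (hg : g ∈ M24) {o : Finset GolayPt} :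
    g • o ∈ dodecads ↔ o ∈ dodecads :=
  ⟨fun h => by simpa using smul_mem_dodecads (inv_mem hg) h, smul_mem_dodecads hg⟩

theorem card_smul_inter (g : Equiv.Perm GolayPt) (a b : Finset GolayPt) :
    (g • a ∩ g • b).card = (a ∩ b).card := by
  rw [← Finset.smul_finset_inter, Finset.card_smul_finset]

theorem ncard_masks {l : List ℕ} (hl : l.Nodup) (hlt : ∀ m ∈ l, m < 2 ^ 24) (f : ℕ → Bool) :
    (pts '' {m | m ∈ l ∧ f m = true}).ncard = l.countP f := by
  rw [List.countP_eq_length_filter, ← List.toFinset_card_of_nodup (hl.filter f), ← Set.ncard_coe_finset,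
    show ((l.filter f).toFinset : Set ℕ) = {m | m ∈ l ∧ f m = true} by ext; simp]
  exact Set.ncard_image_of_injOn fun a ha b hb h => eq_of_pts_eq (hlt a ha.1) (hlt b hb.1) h

/-- Counting octads with a property read off the mask. -/
theorem ncard_octads_countP (q : Finset GolayPt → Prop) (f : ℕ → Bool)
    (hf : ∀ m, f m = true ↔ q (pts m)) : {o | o ∈ octads ∧ q o}.ncard = octMasks.countP f := by
  rw [← ncard_masks octMasks_nodup (fun m hm => lt_of_inCode (mem_octMasks.mp hm).1)]
  congr 1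
  ext s
  constructor
  · rintro ⟨hs, hq⟩
    exact ⟨mk s, ⟨mk_mem_octMasks.mpr hs, (hf _).mpr (by rwa [pts_mk])⟩, pts_mk s⟩
  · rintro ⟨m, ⟨hm, hf'⟩, rfl⟩
    refine ⟨mk_mem_octMasks.mp ?_, (hf m).mp hf'⟩
    rwa [mk_pts (lt_of_inCode (mem_octMasks.mp hm).1)]

/-- Counting dodecads with a property read off the mask. -/
theorem ncard_dodecads_countP (q : Finset GolayPt → Prop) (f : ℕ → Bool)
    (hf : ∀ m, f m = true ↔ q (pts m)) : {o | o ∈ dodecads ∧ q o}.ncard = dodMasks.countP f := by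
  rw [← ncard_masks dodMasks_nodup (fun m hm => lt_of_inCode (mem_dodMasks.mp hm).1)]
  congr 1
  ext s
  constructor
  · rintro ⟨hs, hq⟩
    exact ⟨mk s, ⟨mk_mem_dodMasks.mpr hs, (hf _).mpr (by rwa [pts_mk])⟩, pts_mk s⟩
  · rintro ⟨m, ⟨hm, hf'⟩, rfl⟩
    refine ⟨mk_mem_dodMasks.mp ?_, (hf m).mp hf'⟩
    rwa [mk_pts (lt_of_inCode (mem_dodMasks.mp hm).1)]

/-- The standard octad: it contains the first six base points. -/
def oct0 : Finset GolayPt := pts 5279

theorem oct0_mem : oct0 ∈ octads := by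
  rw [oct0, mem_octads_iff, ← pc_eq_card]
  exact ⟨by decide +kernel, by decide +kernel⟩

/-- Five points of an octad and a point outside it go to the standard ones. -/
theorem exists_config {o : Finset GolayPt} (ho : o ∈ octads) (x : Fin 5 ↪ GolayPt) (hx : ∀ i, x i ∈ o)
    {c : GolayPt} (hc : c ∉ o) :
    ∃ g : M24, g • o = oct0 ∧ (∀ i, g • x i = base5 i) ∧ g • c = b7 := by
  have hox := octThrough_unique ho hx
  obtain ⟨a, ha, hax⟩ := Finset.exists_mem_notMem_of_card_lt_card (s := Finset.univ.map x) (t := octThrough x)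
    (by rw [Finset.card_map, (octThrough_spec x).1.2]; simp)
  obtain ⟨g, hg, -, hgc⟩ := exists_base_image x ha (fun i hi => hax (Finset.mem_map.mpr ⟨i, by simp, hi⟩))
    (c := c) (hox ▸ hc)
  have hgo : g • oct0 = o := by
    rw [hox]
    refine octThrough_unique (smul_mem_octads g.2 oct0_mem) fun i => ?_
    rw [← hg i]
    refine Finset.smul_mem_smul_finset ?_
    have : ∀ i, base5 i ∈ oct0 := by decide +kernel
    exact this i
  exact ⟨g⁻¹, inv_smul_eq_iff.mpr hgo.symm, fun i => inv_smul_eq_iff.mpr (hg i).symm, inv_smul_eq_iff.mpr hgc.symm⟩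

/-- Up to four chosen points of an octad, completed to five of its points. -/
theorem exists_five_in {o : Finset GolayPt} (ho : o ∈ octads) {k : ℕ} (hk : k ≤ 5) (y : Fin k ↪ GolayPt)
    (hy : ∀ i, y i ∈ o) : ∃ x : Fin 5 ↪ GolayPt, (∀ i, x i ∈ o) ∧ ∀ i : Fin k, x (Fin.castLE hk i) = y i := by
  obtain ⟨u, hyu, huo, hu⟩ := Finset.exists_subsuperset_card_eq (s := Finset.univ.map y) (t := o) (n := 5)
    (fun p hp => by obtain ⟨i, -, rfl⟩ := Finset.mem_map.mp hp; exact hy i)
    (by simpa using hk) (by rw [ho.2]; norm_num)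
  let e5 : u ≃ Fin 5 := u.equivFinOfCardEq hu
  let z : Fin k → Fin 5 := fun i => e5 ⟨y i, hyu (Finset.mem_map.mpr ⟨i, by simp, rfl⟩)⟩
  have hz : Function.Injective z := fun i j h => y.injective (congrArg Subtype.val (e5.injective h))
  let e₀ : {a // a ∈ Set.range (Fin.castLE hk)} ≃ {a // a ∈ Set.range z} :=
    (Equiv.ofInjective _ (Fin.castLE_injective hk)).symm.trans (Equiv.ofInjective z hz)
  let π : Equiv.Perm (Fin 5) := e₀.extendSubtype
  refine ⟨(π.trans e5.symm).toEmbedding.trans (Function.Embedding.subtype _), fun i => huo (e5.symm (π i)).2,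
    fun i => ?_⟩
  show ((e5.symm (π (Fin.castLE hk i)) : u) : GolayPt) = y i
  have hπ : π (Fin.castLE hk i) = z i := by
    simp only [π]
    rw [Equiv.extendSubtype_apply_of_mem _ _ ⟨i, rfl⟩]
    simp [e₀]
  rw [hπ]
  simp [z]

/-- Orbit certificates: objects with the same class lie in one orbit. -/
def orbitsOK (gens : List PP) (key cls : ℕ → ℕ) (univ : List ℕ) (certs : List (ℕ × OTree)) : Bool :=
  gens.all preserves && certs.all (fun c => decide (c.1 < 2 ^ 24) &&
    otCovers img gens key c.1 c.2 (univ.filter fun m => cls m == cls c.1)) &&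
  univ.all fun m => certs.any fun c => cls m == cls c.1

theorem orbitsOK_sound {gens : List PP} {key cls : ℕ → ℕ} {univ : List ℕ} {certs : List (ℕ × OTree)}
    (h : orbitsOK gens key cls univ certs = true) (K : Subgroup (Equiv.Perm GolayPt))
    (hK : ∀ g ∈ gens, toP g ∈ K) (P : Finset GolayPt → Prop) (hP : ∀ g ∈ K, ∀ s, P s → P (g • s))
    (hroot : ∀ c ∈ certs, P (pts c.1)) (hkey : ∀ s t, P s → P t → key (mk s) = key (mk t) → s = t)
    (hu : ∀ m ∈ univ, P (pts m)) {x y : Finset GolayPt} (hx : mk x ∈ univ) (hy : mk y ∈ univ)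
    (hxy : cls (mk x) = cls (mk y)) : ∃ g ∈ K, g • x = y := by
  simp only [orbitsOK, Bool.and_eq_true, List.all_eq_true, List.any_eq_true, decide_eq_true_eq, beq_iff_eq] at h
  obtain ⟨⟨hgens, hcerts⟩, hcover⟩ := h
  obtain ⟨c, hc, hxc⟩ := hcover _ hx
  have key' : ∀ z : Finset GolayPt, mk z ∈ univ → cls (mk z) = cls c.1 → ∃ g ∈ K, g • pts c.1 = z := by
    intro z hz hzc
    obtain ⟨hlt, hcov⟩ := hcerts c hc
    have := otCovers_sound hcov (P := fun v => ∃ g ∈ K, mk (g • pts c.1) = v)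
      ⟨1, one_mem _, by rw [one_smul, mk_pts hlt]⟩
      (by
        rintro g hg _ ⟨k, hk, rfl⟩
        have hv : valid 24 g = true := by
          have := hgens g hg; simp only [preserves, Bool.and_eq_true] at this; exact this.1
        exact ⟨toP g * k, mul_mem (hK g hg) hk, by rw [mul_smul, mk_smul hv]⟩)
      (List.mem_filter.mpr ⟨hz, by simpa using hzc⟩)
      (by
        rintro _ ⟨k, hk, rfl⟩ hkz
        refine congrArg mk (hkey _ _ (hP k hk _ (hroot c hc)) ?_ hkz)
        have := hu _ hz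
        rwa [pts_mk] at this)
    obtain ⟨g, hg, hgz⟩ := this
    exact ⟨g, hg, mk_injective hgz⟩
  obtain ⟨g₁, h₁, e₁⟩ := key' x hx hxc
  obtain ⟨g₂, h₂, e₂⟩ := key' y hy (hxy ▸ hxc)
  exact ⟨g₂ * g₁⁻¹, mul_mem h₂ (inv_mem h₁), by rw [mul_smul, inv_smul_eq_iff.mpr e₁.symm, e₂]⟩

theorem code_key_inj {s t : Finset GolayPt} (hs : s ∈ supports (golayCode : Set (GolayPt → ZMod 2)))
    (ht : t ∈ supports (golayCode : Set (GolayPt → ZMod 2))) (h : mk s % 4096 = mk t % 4096) : s = t := by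
  apply mk_injective
  have h1 := (mem_supports_iff s).mp hs
  have h2 := (mem_supports_iff t).mp ht
  simp only [inCode, beq_iff_eq] at h1 h2
  rw [← h1, ← h2, h]

end Cfsg.Lib.Golay
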