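import Cfsg.Agent.Golay.Code

/-!
Weights in the code, octads, dodecads, the Steiner system.
-/

namespace Cfsg.Lib.Golay

open Cfsg

theorem weights_all : (codeMasks.all fun m =>
    (fun c => c == 0 || c == 8 || c == 12 || c == 16 || c == 24) (pc m)) = true := by
  decide +kernel

theorem card_pts_of_inCode {m : ℕ} (h : inCode m = true) :
    (pts m).card = 0 ∨ (pts m).card = 8 ∨ (pts m).card = 12 ∨ (pts m).card = 16 ∨ (pts m).card = 24 := by
  have := List.all_eq_true.mp weights_all m (mem_codeMasks.mpr h)
  simp only [Bool.or_eq_true, beq_iff_eq, pc_eq_card] at this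
  tauto

/-- The weight of a support in the code. -/
theorem card_support_mem {s : Finset GolayPt}
    (h : s ∈ supports (golayCode : Set (GolayPt → ZMod 2))) :
    s.card = 0 ∨ s.card = 8 ∨ s.card = 12 ∨ s.card = 16 ∨ s.card = 24 := by
  have := card_pts_of_inCode ((mem_supports_iff s).mp h)
  rwa [pts_mk] at this

theorem hammingNorm_eq_card (w : GolayPt → ZMod 2) : hammingNorm w = (support₂ w).card := rfl

theorem card_golayCode : Nat.card golayCode = 4096 := by
  have e : ↥golayCode ≃ Fin 4096 :=
    { toFun := fun w => ⟨mk (support₂ (w : GolayPt → ZMod 2)) % 4096, Nat.mod_lt _ (by norm_num)⟩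
      invFun := fun i => ⟨wd (enc i), enc_mem i⟩
      left_inv := fun w => by
        have := (mem_golayCode_iff w.1).mp w.2
        simp only [inCode, beq_iff_eq] at this
        exact Subtype.ext (by simp only; rw [this, wd_mk_support₂])
      right_inv := fun i => Fin.ext (by
        simp only
        rw [support₂_wd, mk_pts (enc_systematic i).2, (enc_systematic i).1, Nat.mod_eq_of_lt i.2]) }
  rw [Nat.card_congr e, Nat.card_fin]

theorem finrank_golayCode : Module.finrank (ZMod 2) golayCode = 12 := by
  have h := Module.natCard_eq_pow_finrank (K := ZMod 2) (V := golayCode)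
  rw [card_golayCode, Nat.card_zmod] at h
  exact Nat.pow_right_injective (le_refl 2) (h.symm.trans (by norm_num : (4096 : ℕ) = 2 ^ 12))

/-- The masks of the octads. -/
def octMasks : List ℕ := codeMasks.filter fun m => pc m == 8

/-- The masks of the dodecads. -/
def dodMasks : List ℕ := codeMasks.filter fun m => pc m == 12

theorem octMasks_length : octMasks.length = 759 := by decide +kernel

theorem dodMasks_length : dodMasks.length = 2576 := by decide +kernel

theorem mem_octMasks {m : ℕ} : m ∈ octMasks ↔ inCode m = true ∧ (pts m).card = 8 := by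
  simp [octMasks, List.mem_filter, mem_codeMasks, pc_eq_card]

theorem mem_dodMasks {m : ℕ} : m ∈ dodMasks ↔ inCode m = true ∧ (pts m).card = 12 := by
  simp [dodMasks, List.mem_filter, mem_codeMasks, pc_eq_card]

theorem mk_mem_octMasks {s : Finset GolayPt} : mk s ∈ octMasks ↔ s ∈ octads := by
  rw [mem_octMasks, pts_mk, mem_octads_iff]

theorem mk_mem_dodMasks {s : Finset GolayPt} : mk s ∈ dodMasks ↔ s ∈ dodecads := by
  rw [mem_dodMasks, pts_mk, mem_dodecads_iff]

theorem octMasks_nodup : octMasks.Nodup := codeMasks_nodup.filter _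

theorem dodMasks_nodup : dodMasks.Nodup := codeMasks_nodup.filter _

theorem ncard_octads : octads.ncard = 759 := by
  have := ncard_supports_filter (fun s => s.card = 8) (fun m => pc m == 8) (by simp [pc_eq_card])
  rw [← octMasks_length]; exact this

theorem ncard_dodecads : dodecads.ncard = 2576 := by
  have := ncard_supports_filter (fun s => s.card = 12) (fun m => pc m == 12) (by simp [pc_eq_card])
  rw [← dodMasks_length]; exact this

/-- The symmetric difference of two supports is a support. -/
theorem symmDiff_mem_supports {s t : Finset GolayPt}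
    (hs : s ∈ supports (golayCode : Set (GolayPt → ZMod 2)))
    (ht : t ∈ supports (golayCode : Set (GolayPt → ZMod 2))) :
    symmDiff s t ∈ supports (golayCode : Set (GolayPt → ZMod 2)) := by
  rw [mem_supports_iff] at *
  have h := inCode_xor hs ht
  have : mk (symmDiff s t) = mk s ^^^ mk t := by
    apply eq_of_pts_eq (mk_lt _) (lt_of_inCode h)
    ext p
    simp only [pts_mk, mem_pts, Nat.testBit_xor, Finset.mem_symmDiff]
    rw [← testBit_mk s p, ← testBit_mk t p]
    cases (mk s).testBit (pidx p) <;> cases (mk t).testBit (pidx p) <;> simp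
  rwa [this]

/-- The complement of a support is a support. -/
theorem compl_mem_supports {s : Finset GolayPt}
    (hs : s ∈ supports (golayCode : Set (GolayPt → ZMod 2))) :
    sᶜ ∈ supports (golayCode : Set (GolayPt → ZMod 2)) := by
  have hu : (Finset.univ : Finset GolayPt) ∈ supports (golayCode : Set (GolayPt → ZMod 2)) := by
    rw [mem_supports_iff]; decide +kernel
  simpa [Finset.compl_eq_univ_sdiff, symmDiff, Finset.sdiff_eq_empty_iff_subset.mpr (Finset.subset_univ s)]
    using symmDiff_mem_supports hs hu

theorem octad_card {o : Finset GolayPt} (ho : o ∈ octads) : o.card = 8 := ho.2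

theorem dodecad_card {d : Finset GolayPt} (hd : d ∈ dodecads) : d.card = 12 := hd.2

theorem octad_eq_of_five_le {b c : Finset GolayPt} (hb : b ∈ octads) (hc : c ∈ octads)
    (h : 5 ≤ (b ∩ c).card) : b = c := by
  by_contra hne
  have hcard := card_support_mem (symmDiff_mem_supports hb.1 hc.1)
  have h1 : (symmDiff b c).card + 2 * (b ∩ c).card = b.card + c.card := by
    have e1 := Finset.card_sdiff_add_card_inter b c
    have e2 := Finset.card_sdiff_add_card_inter c b
    rw [Finset.inter_comm c b] at e2
    rw [symmDiff_def, Finset.sup_eq_union, Finset.card_union_of_disjoint disjoint_sdiff_sdiff]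
    omega
  have h0 : (symmDiff b c).card ≠ 0 := by
    simpa [Finset.card_eq_zero, ← Finset.bot_eq_empty, symmDiff_eq_bot] using hne
  have := octad_card hb
  have := octad_card hc
  omega

/-- The octads form an S(5,8,24). -/
theorem octads_steiner : IsSteinerSystem 5 8 octads := by
  classical
  refine ⟨fun b hb => hb.2, fun s hs => ?_⟩
  have hfin : octads.Finite := Set.toFinite _
  let P := hfin.toFinset.sigma fun b => b.powersetCard 5
  let F : (Σ _ : Finset GolayPt, Finset GolayPt) → Finset GolayPt := fun q => q.2
  have hinj : Set.InjOn F P := by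
    rintro ⟨b, u⟩ hq ⟨b', u'⟩ hq' h
    simp only [F] at h
    subst h
    simp only [P, Finset.coe_sigma, Set.mem_sigma_iff, Finset.mem_coe, Set.Finite.mem_toFinset,
      Finset.mem_powersetCard] at hq hq'
    have : 5 ≤ (b ∩ b').card := hq.2.2 ▸ Finset.card_le_card (Finset.subset_inter hq.2.1 hq'.2.1)
    rw [octad_eq_of_five_le hq.1 hq'.1 this]
  have himg : P.image F = (Finset.univ : Finset GolayPt).powersetCard 5 := by
    refine Finset.eq_of_subset_of_card_le (fun u hu => ?_) ?_
    · obtain ⟨q, hq, rfl⟩ := Finset.mem_image.mp hu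
      simp only [P, Finset.mem_sigma, Finset.mem_powersetCard] at hq
      simp [Finset.mem_powersetCard, F, hq.2.2]
    · rw [Finset.card_image_of_injOn hinj, Finset.card_sigma, Finset.sum_congr rfl
        (fun b hb => by rw [Finset.card_powersetCard, (hfin.mem_toFinset.mp hb).2]),
        Finset.sum_const, ← Set.ncard_eq_toFinset_card _ hfin, ncard_octads,
        Finset.card_powersetCard, Finset.card_univ, Fintype.card_option, ZMod.card]
      decide
  have : s ∈ P.image F := by rw [himg]; simp [hs]
  obtain ⟨⟨b, u⟩, hq, rfl⟩ := Finset.mem_image.mp this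
  simp only [P, Finset.mem_sigma, Set.Finite.mem_toFinset, Finset.mem_powersetCard] at hq
  refine ⟨b, ⟨hq.1, hq.2.1⟩, fun c hc => octad_eq_of_five_le hc.1 hq.1 ?_⟩
  exact hq.2.2 ▸ Finset.card_le_card (Finset.subset_inter hc.2 hq.2.1)

theorem rows_orth : (rows.all fun a => rows.all fun b => pc (a &&& b) % 2 == 0) = true := by
  decide +kernel

theorem sum_wd_mul (a b : ℕ) : ∑ p, wd a p * wd b p = (pc (a &&& b) : ZMod 2) := by
  rw [pc_eq_card, Finset.card_eq_sum_ones, Nat.cast_sum, pts, Finset.sum_filter]
  refine Finset.sum_congr rfl fun p _ => ?_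
  simp only [wd, Nat.testBit_and]
  cases a.testBit (pidx p) <;> cases b.testBit (pidx p) <;> simp

theorem golayCode_eq_span_rows : golayCode = Submodule.span (ZMod 2) (wd '' {m | m ∈ rows}) := by
  apply le_antisymm
  · intro w hw
    have h := (mem_golayCode_iff w).mp hw
    simp only [inCode, beq_iff_eq] at h
    rw [← wd_mk_support₂ w, ← h]
    unfold enc
    induction List.range 12 with
    | nil => simp
    | cons k l ih =>
      simp only [List.foldr_cons]
      split
      · rw [wd_xor]
        refine add_mem ?_ ih
        by_cases hk : k < rows.length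
        · rw [List.getD_eq_getElem _ _ hk]
          exact Submodule.subset_span ⟨_, List.getElem_mem hk, rfl⟩
        · rw [List.getD_eq_default _ _ (by omega)]; simp
      · exact ih
  · rw [Submodule.span_le]
    rintro w ⟨m, hm, rfl⟩
    have : rows.all inCode = true := by decide +kernel
    exact (wd_mem_iff (lt_of_inCode (List.all_eq_true.mp this m hm))).mpr (List.all_eq_true.mp this m hm)

theorem golayCode_orthogonal {v w : GolayPt → ZMod 2} (hv : v ∈ golayCode) (hw : w ∈ golayCode) :
    ∑ i, v i * w i = 0 := by
  rw [golayCode_eq_span_rows] at hv hw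
  induction hv, hw using Submodule.span_induction₂ with
  | mem_mem x y hx hy =>
    obtain ⟨a, ha, rfl⟩ := hx
    obtain ⟨b, hb, rfl⟩ := hy
    rw [sum_wd_mul, ZMod.natCast_eq_zero_iff_even, Nat.even_iff]
    simpa using List.all_eq_true.mp (List.all_eq_true.mp rows_orth a ha) b hb
  | zero_left y hy => simp
  | zero_right x hx => simp
  | add_left x y z hx hy hz h1 h2 => simp [add_mul, Finset.sum_add_distrib, h1, h2]
  | add_right x y z hx hy hz h1 h2 => simp [mul_add, Finset.sum_add_distrib, h1, h2]
  | smul_left r x y hx hy h => simp [mul_assoc, ← Finset.mul_sum, h]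
  | smul_right r x y hx hy h => simp [mul_left_comm, ← Finset.mul_sum, h]

end Cfsg.Lib.Golay
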