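import Cfsg.Agent.Golay.Conj
import Cfsg.Agent.Golay.AutM11Data
import Cfsg.Agent.Golay.AutCert
import Cfsg.Agent.S5599

/-!
Outer automorphisms induced by the large group on two of the smaller ones.
-/

set_option autoImplicit false

namespace Cfsg.Lib.Golay

open Cfsg Cfsg.Lib.PermCert MulAction
open scoped Pointwise

/-- An element normalising a subgroup without inducing an inner automorphism gives a nontrivial outer one. -/
theorem two_le_card_out {P : Type*} [Group P] [Finite P] (G : Subgroup P) (g : P)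
    (hn : ∀ x ∈ G, g * x * g⁻¹ ∈ G) (hni : ¬ ∃ h ∈ G, ∀ x ∈ G, g * x * g⁻¹ = h * x * h⁻¹) :
    2 ≤ Nat.card (Cfsg.Out G) := by
  let f : G →* G :=
    { toFun := fun x => ⟨g * x * g⁻¹, hn x x.2⟩
      map_one' := Subtype.ext (by simp)
      map_mul' := fun x y => Subtype.ext (by simp [mul_assoc]) }
  have hf : Function.Bijective f := Finite.injective_iff_bijective.mp fun x y e =>
    Subtype.ext (mul_left_cancel (mul_right_cancel (congrArg Subtype.val e)))
  let β : MulAut G := MulEquiv.ofBijective f hf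
  have hβ : (β : Cfsg.Out G) ≠ 1 := by
    intro e
    obtain ⟨h, hh⟩ := MonoidHom.mem_range.mp ((QuotientGroup.eq_one_iff _).mp e)
    refine hni ⟨h, h.2, fun x hx => ?_⟩
    exact (congrArg Subtype.val (DFunLike.congr_fun hh ⟨x, hx⟩)).symm
  haveI : Nontrivial (Cfsg.Out G) := ⟨⟨_, _, hβ⟩⟩
  exact Finite.one_lt_card

theorem two_le_card_out_M22 : 2 ≤ Nat.card (Cfsg.Out Spor.M22) := by
  obtain ⟨g, h1, h2⟩ := exists_smul_eq_pair (p := (none : GolayPt)) (q := some 0) (by simp)
    (p' := (some 0 : GolayPt)) (q' := none) (by simp)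
  obtain ⟨-, hn, hni⟩ := Cfsg.Agent.S5599.result g g.2 h1 h2
  exact two_le_card_out _ _ hn hni

theorem autM11_moves :
    ((List.range 24).all fun i => i == 0 || cgAutM11.gens.any fun g => !(ap g.1.1 i == i)) = true ∧
    cgAutM11.ok = true := by decide +kernel

theorem compl_squareDodecad :
    (Spor.squareDodecad)ᶜ ∈ dodecads ∧ (some 0 : GolayPt) ∈ Spor.squareDodecad := by
  rw [squareDodecad_eq, show (pts 340831)ᶜ = pts (16777215 - 340831) by decide +kernel, mem_dodecads_iff,
    ← pc_eq_card]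
  decide +kernel

theorem two_le_card_out_M12 : 2 ≤ Nat.card (Cfsg.Out Spor.M12) := by
  obtain ⟨hD, h0⟩ := compl_squareDodecad
  obtain ⟨g, hg⟩ := M24_dodecads_transitive squareDodecad_mem hD
  have hg' : (g : Equiv.Perm GolayPt) • Spor.squareDodecad = (Spor.squareDodecad)ᶜ := hg
  have hmem : ∀ x, x ∈ Spor.M12 ↔ x ∈ M24 ∧ x • Spor.squareDodecad = Spor.squareDodecad := fun x => by
    simp only [Spor.M12, Subgroup.mem_inf, mem_stabilizer_iff]
  have hcompl : ∀ (x : Equiv.Perm GolayPt) (s : Finset GolayPt), x • sᶜ = (x • s)ᶜ := fun x s => by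
    ext p
    simp only [← Finset.inv_smul_mem_iff, Finset.mem_compl]
  refine two_le_card_out _ (g : Equiv.Perm GolayPt) (fun x hx => ?_) ?_
  · obtain ⟨h1, h2⟩ := (hmem x).mp hx
    refine (hmem _).mpr ⟨mul_mem (mul_mem g.2 h1) (inv_mem g.2), ?_⟩
    have e : ((g : Equiv.Perm GolayPt) * x * (g : Equiv.Perm GolayPt)⁻¹) • (Spor.squareDodecad)ᶜ =
        (Spor.squareDodecad)ᶜ := by
      rw [mul_smul, mul_smul]
      conv_lhs => rw [← hg', inv_smul_smul, h2, hg']
    rwa [hcompl, compl_inj_iff] at e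
  · rintro ⟨h, hh, hconj⟩
    obtain ⟨hh1, hh2⟩ := (hmem h).mp hh
    set c := h⁻¹ * (g : Equiv.Perm GolayPt) with hc
    have hcD : c • Spor.squareDodecad = (Spor.squareDodecad)ᶜ := by
      rw [hc, mul_smul, hg', hcompl, inv_smul_eq_iff.mpr hh2.symm]
    have hcomm : ∀ x ∈ Spor.M12, c * x = x * c := by
      intro x hx
      calc c * x = h⁻¹ * ((g : Equiv.Perm GolayPt) * x * (g : Equiv.Perm GolayPt)⁻¹) * g := by rw [hc]; group
        _ = h⁻¹ * (h * x * h⁻¹) * g := by rw [hconj x hx]
        _ = x * c := by rw [hc]; group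
    set q := c (some 0) with hq
    have hqD : q ∉ Spor.squareDodecad := by
      have : q ∈ c • Spor.squareDodecad := Finset.smul_mem_smul_finset h0
      rw [hcD] at this
      exact Finset.mem_compl.mp this
    obtain ⟨hmov, hok⟩ := autM11_moves
    simp only [List.all_eq_true, List.mem_range, Bool.or_eq_true, beq_iff_eq, List.any_eq_true,
      Bool.not_eq_true', beq_eq_false_iff_ne] at hmov
    rcases hmov _ (pidx_lt q) with e | ⟨x, hx, hne⟩
    · exact hqD (by rw [show q = (some 0 : GolayPt) from pidx_injective e]; exact h0)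
    · have hxM : toP x.1 ∈ Spor.M11 := by
        rw [M11_eq]
        exact mem_of_sift hok (valid_of_fvalid ((CG.ok_spec hok).2.1 x hx))
          (by
            have h' := hok
            simp only [CG.ok, Bool.and_eq_true, List.all_eq_true] at h'
            exact (h'.1.1.2 x hx).2)
      simp only [Spor.M11, Subgroup.mem_inf, mem_stabilizer_iff] at hxM
      refine hne ?_
      rw [← pidx_toP (valid_of_fvalid ((CG.ok_spec hok).2.1 x hx)) q]
      congr 1
      have e2 := congrArg (fun s : Equiv.Perm GolayPt => s (some 0)) (hcomm _ hxM.1)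
      simp only [Equiv.Perm.mul_apply] at e2
      rw [show toP x.1 (some 0) = (some 0 : GolayPt) from hxM.2] at e2
      exact e2.symm

end Cfsg.Lib.Golay
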