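import Cfsg.Agent.Golay.Weights
import Cfsg.Agent.PermCert.Basic

/-!
Permutations of the 24 points given by certified tables, acting on masks.
-/

namespace Cfsg.Lib.Golay

open Cfsg Cfsg.Lib.PermCert
open scoped Pointwise

/-- Transport of permutations of `Fin 24` to the 24 points. -/
def permHom : Equiv.Perm (Fin 24) ≃* Equiv.Perm GolayPt := ptEquiv.symm.permCongrHom

/-- The permutation of the points given by a table pair. -/
def toP (g : PP) : Equiv.Perm GolayPt := permHom (perm 24 g)

theorem pidx_toP {g : PP} (hg : valid 24 g = true) (p : GolayPt) :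
    pidx (toP g p) = ap g.1 (pidx p) := by
  rw [← show (ptEquiv p : ℕ) = pidx p from rfl, ← perm_apply hg]
  exact congrArg Fin.val (ptEquiv.apply_symm_apply _)

theorem toP_ptAt {g : PP} (hg : valid 24 g = true) {i : ℕ} (hi : i < 24) :
    toP g (ptAt i) = ptAt (ap g.1 i) := by
  apply pidx_injective
  rw [pidx_toP hg, pidx_ptAt ⟨i, hi⟩, pidx_ptAt ⟨_, valid_lt hg hi⟩]

/-- The image of a mask. -/
def img (g : PP) (m : ℕ) : ℕ :=
  (List.range 24).foldr (fun x a => if m.testBit x then a ||| (1 <<< ap g.1 x) else a) 0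

theorem testBit_img (g : PP) (m j : ℕ) :
    (img g m).testBit j = true ↔ ∃ x < 24, m.testBit x = true ∧ ap g.1 x = j := by
  have : ∀ l : List ℕ, (l.foldr (fun x a => if m.testBit x then a ||| (1 <<< ap g.1 x) else a) 0).testBit j = true
      ↔ ∃ x ∈ l, m.testBit x = true ∧ ap g.1 x = j := by
    intro l
    induction l with
    | nil => simp
    | cons x l ih =>
      simp only [List.foldr_cons, List.mem_cons, exists_eq_or_imp]
      by_cases h : m.testBit x = true
      · simp only [h, if_true, Nat.testBit_or, Bool.or_eq_true, ih, true_and]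
        rw [Nat.one_shiftLeft, Nat.testBit_two_pow, decide_eq_true_eq]
        exact or_comm
      · simp [h, ih]
  simpa [img] using this (List.range 24)

theorem img_lt {g : PP} (hg : valid 24 g = true) (m : ℕ) : img g m < 2 ^ 24 := by
  refine Nat.lt_pow_two_of_testBit _ fun i hi => ?_
  by_contra h
  obtain ⟨x, hx, -, rfl⟩ := (testBit_img g m i).mp (by simpa using h)
  have := valid_lt hg hx
  omega

theorem pts_img {g : PP} (hg : valid 24 g = true) (m : ℕ) : pts (img g m) = toP g • pts m := by
  ext q
  obtain ⟨p, rfl⟩ := (toP g).surjective q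
  rw [show toP g p = toP g • p from rfl, Finset.smul_mem_smul_finset_iff, Equiv.Perm.smul_def,
    mem_pts, mem_pts, pidx_toP hg, testBit_img]
  constructor
  · rintro ⟨x, hx, hm, h⟩
    have : x = pidx p := by
      have hx' := List.all_eq_true.mp hg x (List.mem_range.mpr hx)
      have hp' := List.all_eq_true.mp hg _ (List.mem_range.mpr (pidx_lt p))
      simp only [Bool.and_eq_true, beq_iff_eq] at hx' hp'
      rw [← hx'.2, h, hp'.2]
    rwa [← this]
  · exact fun h => ⟨_, pidx_lt p, h, rfl⟩

theorem mk_smul {g : PP} (hg : valid 24 g = true) (s : Finset GolayPt) :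
    mk (toP g • s) = img g (mk s) := by
  apply eq_of_pts_eq (mk_lt _) (img_lt hg _)
  rw [pts_mk, pts_img hg, pts_mk]

/-- Membership in the automorphism group of the code. -/
theorem mem_M24_iff (σ : Equiv.Perm GolayPt) :
    σ ∈ M24 ↔ ∀ s ∈ supports (golayCode : Set (GolayPt → ZMod 2)),
      σ • s ∈ supports (golayCode : Set (GolayPt → ZMod 2)) := by
  rw [MulAction.mem_stabilizer_iff]
  constructor
  · intro h s hs
    rw [← h]; exact Set.smul_mem_smul_set hs
  · intro h
    refine Set.eq_of_subset_of_ncard_le ?_ ?_ (Set.toFinite _)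
    · rintro t ⟨s, hs, rfl⟩; exact h s hs
    · exact le_of_eq (Set.ncard_image_of_injective _ (MulAction.injective σ)).symm

theorem support₂_comp (σ : Equiv.Perm GolayPt) (w : GolayPt → ZMod 2) :
    support₂ (w ∘ σ.symm) = σ • support₂ w := by
  ext q
  obtain ⟨p, rfl⟩ := σ.surjective q
  rw [show σ p = σ • p from rfl, Finset.smul_mem_smul_finset_iff]
  simp [support₂, Equiv.Perm.smul_def]

/-- A permutation maps the code to itself as soon as it maps the rows to code words. -/
theorem mem_M24_of_rows (σ : Equiv.Perm GolayPt)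
    (h : ∀ r ∈ rows, inCode (mk (σ • pts r)) = true) : σ ∈ M24 := by
  rw [mem_M24_iff]
  have key : ∀ w ∈ golayCode, w ∘ σ.symm ∈ golayCode := by
    intro w hw
    rw [golayCode_eq_span_rows] at hw
    induction hw using Submodule.span_induction with
    | mem x hx =>
      obtain ⟨r, hr, rfl⟩ := hx
      rw [mem_golayCode_iff, support₂_comp, support₂_wd]
      exact h r hr
    | zero => simp [Function.comp_def, Pi.zero_def.symm]
    | add x y _ _ hx hy => exact add_mem hx hy
    | smul c x _ hx => exact Submodule.smul_mem _ c hx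
  rintro _ ⟨w, hw, rfl⟩
  exact ⟨w ∘ σ.symm, key w hw, support₂_comp σ w⟩

/-- The check that a table preserves the code. -/
def preserves (g : PP) : Bool := valid 24 g && rows.all fun r => inCode (img g r)

theorem toP_mem_M24 {g : PP} (h : preserves g = true) : toP g ∈ M24 := by
  simp only [preserves, Bool.and_eq_true, List.all_eq_true] at h
  refine mem_M24_of_rows _ fun r hr => ?_
  have : rows.all (fun r => decide (r < 2 ^ 24)) = true := by decide +kernel
  rw [mk_smul h.1, mk_pts (by simpa using List.all_eq_true.mp this r hr)]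
  exact h.2 r hr

theorem smul_mem_octads {σ : Equiv.Perm GolayPt} (hσ : σ ∈ M24) {o : Finset GolayPt} (ho : o ∈ octads) :
    σ • o ∈ octads :=
  ⟨(mem_M24_iff σ).mp hσ o ho.1, by rw [Finset.card_smul_finset, ho.2]⟩

theorem smul_mem_dodecads {σ : Equiv.Perm GolayPt} (hσ : σ ∈ M24) {o : Finset GolayPt} (ho : o ∈ dodecads) :
    σ • o ∈ dodecads :=
  ⟨(mem_M24_iff σ).mp hσ o ho.1, by rw [Finset.card_smul_finset, ho.2]⟩

end Cfsg.Lib.Golay
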