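import Cfsg.Agent.Golay.Coding

/-! Affine coordinates on the sixteen points outside the standard octad. -/

namespace Cfsg.Lib.Golay

open Cfsg.Lib.PermCert

/-- Positions with their affine coordinates. -/
def affTab : List (ℕ × ℕ) := [(5, 2), (6, 3), (8, 6), (9, 10), (11, 18), (13, 22), (14, 11), (15, 23), (16, 30), (17, 26), (18, 7), (19, 15), (20, 14), (21, 31), (22, 27), (23, 19)]

/-- The matrices of the generators of the centraliser, as rows. -/
def affMats : List (List ℕ) := [[17, 2, 4, 24, 16], [1, 2, 20, 24, 16], [1, 2, 20, 8, 16], [1, 2, 12, 24, 8], [29, 2, 16, 8, 28], [27, 2, 20, 8, 18]]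

/-- An octad missing the standard one. -/
def octApart : ℕ := 1009728

/-- A position outside both. -/
def posApart : ℕ := 5

end Cfsg.Lib.Golay
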