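import Cfsg.Agent.PermCert.Basic

/-!
The elements fixing the standard octad pointwise.
-/

namespace Cfsg.Lib.Golay

open Cfsg.Lib.PermCert

/-- The sixteen elements fixing the standard octad pointwise. -/
def translList : List PP := [(13828420558190244866574637839445640249728477439516252944985145374523144572076163752536843051111466511170724233216, 13828420558190244866574637839445640249728477439516252944985145374523144572076163752536843051111466511170724233216), (6613651873236787021182909095408538762464289417265956204417961215052717085065991755123089188085286708698184482816, 6613651873236787021182909095408538762464289417265956204417961215052717085065991755123089188085286708698184482816), (9018596174814931005936683921093246367716862170191725309354191460475149167551055072564445184264989696037266456576, 9018596174814931005936683921093246367716862170191725309354191460475149167551055072564445184264989696037266456576), (13227202830154677610327277541727474566473564908364455471572144354492550730464229391433916291804054715933403447296, 13227202830154677610327277541727474566473564908364455471572144354492550730464229391433916291804054715933403447296), (3607489845722834339856061185202072360341788752166683164582108657704455294362658031261173141735886139133012279296, 3607489845722834339856061185202072360341788752166683164582108657704455294362658031261173141735886139133012279296), (10822258529276451721451846454358419268424841674223860344984265005131722119288988302353173413000891786155712905216, 10822258529276451721451846454358419268424841674223860344984265005131722119288988302353173413000891786155712905216), (10220958235990656821968393482416073808287655279184972856439266635165019885734137656498173250466351071523462250496,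 10220958235990656821968393482416073808287655279184972856439266635165019885734137656498173250466351071523462250496), (4809998690669993066182469512619325173378990476999946555839581708103483677282838087506154176668823783124018200576, 4809998690669993066182469512619325173378990476999946555839581708103483677282838087506154176668823783124018200576), (11423476255352203880526981491320745128787143655039286202797366736165596109938494495396033922742670620113407901696, 11423476255352203880526981491320745128787143655039286202797366736165596109938494495396033922742670620113407901696), (8417231663147942653742572905448849801518186001920710690574680182623098476102886038043046854125402077680736731136, 8417231663147942653742572905448849801518186001920710690574680182623098476102886038043046854125402077680736731136), (7816096501762499039668690052478359064444998793928357992951777264744097534998011230258147148915841898687244599296, 7816096501762499039668690052478359064444998793928357992951777264744097534998011230258147148915841898687244599296), (9619749682509489711486339561484133604305955040553755595319261293266105781209792110218218051692965010114137358336, 9619749682509489711486339561484133604305955040553755595319261293266105781209792110218218051692965010114137358336), (12625902538128730584435879911172002067543738171401627014434377604691069383375203672071893367476972860771642966016, 12625902538128730584435879911172002067543738171401627014434377604691069383375203672071893367476972860771642966016), (12024611416457707169073428985027634163931702933024438935358142337083958742699539709450109866995814211057929486336, 12024611416457707169073428985027634163931702933024438935358142337083958742699539709450109866995814211057929486336),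 (5411087981803135969805747870645384667406798430286204903490827874272457902798130228890573760066853643300047486976, 5411087981803135969805747870645384667406798430286204903490827874272457902798130228890573760066853643300047486976), (3006217074700407958244450431001059086755622665809096121773575816696694685213168872397311485598203546050043641856, 3006217074700407958244450431001059086755622665809096121773575816696694685213168872397311485598203546050043641856)]

end Cfsg.Lib.Golay
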