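import Cfsg.Agent.Golay.M24
import Cfsg.Agent.Golay.Weights
import Cfsg.Agent.Golay.TranslData

/-!
Elements fixing six points of an octad; injectivity criteria.
-/

namespace Cfsg.Lib.Golay

open Cfsg Cfsg.Lib.PermCert MulAction
open scoped Pointwise

/-- The list of translations is correct. -/
def translOK : Bool :=
  translList.all (fun g => preserves g && (List.range 24).all fun i =>
    (ap g.1 (ap g.1 i) == i) && (!(Nat.testBit 5279 i) || ap g.1 i == i)) &&
  (List.range 24).all fun i => Nat.testBit 5279 i || translList.any fun g => ap g.1 5 == i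

theorem translOK_eq : translOK = true := by decide +kernel

/-- A translation moves every word meeting the outside of the standard octad in six points. -/
theorem transl_moves : ((octMasks ++ dodMasks).all fun m => pc (m &&& (16777215 - 5279)) != 6 ||
    translList.all fun g => ap g.1 5 == 5 ||
      (List.range 24).any fun i => m.testBit i && !m.testBit (ap g.1 i)) = true := by decide +kernel

/-- The standard octad. -/
abbrev stdOct₀ : Finset GolayPt := pts 5279

theorem oct0_std : stdOct₀ ∈ octads ∧ (∀ i, base5 i ∈ stdOct₀) ∧ b6 ∈ stdOct₀ ∧ b7 ∉ stdOct₀ :=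
  ⟨(mem_octads_iff _).mpr ⟨by decide +kernel, by decide +kernel⟩, by decide +kernel, by decide +kernel,
    by decide +kernel⟩

theorem fix_octad_of_base {g : Equiv.Perm GolayPt} {t : PP} (ht : t ∈ translList) (hg : g = toP t) :
    g ∈ M24 ∧ (∀ p ∈ pts 5279, g p = p) ∧ g * g = 1 := by
  have h := translOK_eq
  simp only [translOK, Bool.and_eq_true, List.all_eq_true, Bool.or_eq_true, beq_iff_eq, Bool.not_eq_true',
    List.mem_range] at h
  obtain ⟨hp, hi⟩ := h.1 t ht
  have hv : valid 24 t = true := by simp only [preserves, Bool.and_eq_true] at hp; exact hp.1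
  subst hg
  refine ⟨toP_mem_M24 hp, fun p hp' => pidx_injective ?_, Equiv.ext fun p => pidx_injective ?_⟩
  · rw [pidx_toP hv]
    rcases (hi (pidx p) (pidx_lt p)).2 with h0 | h0
    · rw [mem_pts.mp hp'] at h0; cases h0
    · exact h0
  · show pidx (toP t (toP t p)) = pidx p
    rw [pidx_toP hv, pidx_toP hv]
    exact (hi (pidx p) (pidx_lt p)).1

theorem exists_transl {c : GolayPt} (hc : c ∉ pts 5279) : ∃ t ∈ translList, toP t b7 = c := by
  have h := translOK_eq
  simp only [translOK, Bool.and_eq_true, List.all_eq_true, Bool.or_eq_true, List.any_eq_true, beq_iff_eq,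
    List.mem_range] at h
  rcases h.2 (pidx c) (pidx_lt c) with h0 | ⟨t, ht, h0⟩
  · exact absurd (mem_pts.mpr h0) hc
  · refine ⟨t, ht, pidx_injective ?_⟩
    have hp := (h.1 t ht).1
    rw [pidx_toP (by simp only [preserves, Bool.and_eq_true] at hp; exact hp.1)]
    exact (congrArg (ap t.1) (by decide +kernel : pidx b7 = 5)).trans h0

/-- Fixing six base points means being a translation. -/
theorem eq_transl {g : Equiv.Perm GolayPt} (hg : g ∈ M24) (h5 : ∀ i, g (base5 i) = base5 i) (h6 : g b6 = b6) :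
    ∃ t ∈ translList, g = toP t := by
  obtain ⟨ho, hb, hb6, hb7⟩ := oct0_std
  have hfo : g • stdOct₀ = stdOct₀ := by
    rw [octThrough_unique (x := base5) ho hb]
    refine octThrough_unique (smul_mem_octads hg (octThrough_spec _).1) fun i => ?_
    rw [← h5 i]
    exact Finset.smul_mem_smul_finset ((octThrough_spec base5).2 (Finset.mem_map.mpr ⟨i, by simp, rfl⟩))
  obtain ⟨t, ht, htc⟩ := exists_transl (c := g b7) (fun hin => hb7 (by
    have hin' : g • b7 ∈ g • stdOct₀ := by rw [hfo]; exact hin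
    exact Finset.smul_mem_smul_finset_iff _ |>.mp hin'))
  obtain ⟨htM, htf, htt⟩ := fix_octad_of_base ht rfl
  refine ⟨t, ht, ?_⟩
  have hk : (toP t)⁻¹ * g = 1 := by
    refine eq_one_of_fix (mul_mem (inv_mem htM) hg) fun i hi => ?_
    rw [Equiv.Perm.mul_apply, Equiv.Perm.inv_eq_iff_eq]
    simp only [List.mem_cons, List.not_mem_nil, or_false] at hi
    rcases hi with rfl | rfl | rfl | rfl | rfl | rfl | rfl
    · exact (h5 0).trans (htf _ (hb 0)).symm
    · exact (h5 1).trans (htf _ (hb 1)).symm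
    · exact (h5 2).trans (htf _ (hb 2)).symm
    · exact (h5 3).trans (htf _ (hb 3)).symm
    · exact (h5 4).trans (htf _ (hb 4)).symm
    · exact h6.trans (htf _ hb6).symm
    · exact htc.symm
  exact (inv_mul_eq_one.mp hk).symm

/-- Seven points in general position go to any others. -/
theorem exists_map_seven (x x' : Fin 5 ↪ GolayPt) {a a' c c' : GolayPt} (ha : a ∈ octThrough x)
    (hax : ∀ i, x i ≠ a) (hc : c ∉ octThrough x) (ha' : a' ∈ octThrough x') (hax' : ∀ i, x' i ≠ a')
    (hc' : c' ∉ octThrough x') :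
    ∃ g ∈ M24, (∀ i, g (x i) = x' i) ∧ g a = a' ∧ g c = c' := by
  obtain ⟨g, g1, g2, g3⟩ := exists_base_image x ha hax hc
  obtain ⟨h, h1, h2, h3⟩ := exists_base_image x' ha' hax' hc'
  refine ⟨((h * g⁻¹ : M24) : Equiv.Perm GolayPt), (h * g⁻¹ : M24).2, fun i => ?_, ?_, ?_⟩
  · show (h * g⁻¹) • x i = x' i; rw [← g1 i, mul_smul, inv_smul_smul, h1]
  · show (h * g⁻¹) • a = a'; rw [← g2, mul_smul, inv_smul_smul, h2]
  · show (h * g⁻¹) • c = c'; rw [← g3, mul_smul, inv_smul_smul, h3]

theorem exists_five {A : Finset GolayPt} (h6 : 6 ≤ A.card) :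
    ∃ (x : Fin 5 ↪ GolayPt) (a : GolayPt), (∀ i, x i ∈ A) ∧ a ∈ A ∧ ∀ i, x i ≠ a := by
  obtain ⟨u, hu, hu5⟩ := Finset.exists_subset_card_eq (s := A) (n := 5) (by omega)
  obtain ⟨a, haA, hau⟩ := Finset.exists_mem_notMem_of_card_lt_card (s := u) (t := A) (by omega)
  let x : Fin 5 ↪ GolayPt := (u.equivFinOfCardEq hu5).symm.toEmbedding.trans (Function.Embedding.subtype _)
  exact ⟨x, a, fun i => hu (Subtype.prop _), haA, fun i e => hau (e ▸ Subtype.prop _)⟩

/-- An element fixing six points of an octad, moved to the base. -/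
theorem fix_six_conj {o A : Finset GolayPt} (ho : o ∈ octads) (hA : A ⊆ o) (h6 : 6 ≤ A.card)
    {g : Equiv.Perm GolayPt} (hg : g ∈ M24) (hfix : ∀ p ∈ A, g p = p) :
    ∃ h ∈ M24, h • stdOct₀ = o ∧ ∃ t ∈ translList, g = h * toP t * h⁻¹ := by
  obtain ⟨x, a, hx, ha, hxa⟩ := exists_five h6
  have hox := octThrough_unique ho fun i => hA (hx i)
  obtain ⟨c, hc⟩ : ∃ c, c ∉ o := by
    by_contra hne
    push Not at hne
    have := Finset.card_le_card (fun p _ => hne p : (Finset.univ : Finset GolayPt) ⊆ o)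
    rw [ho.2, Finset.card_univ, Fintype.card_option, ZMod.card] at this
    omega
  obtain ⟨h, h1, h2, -⟩ := exists_base_image x (hox ▸ hA ha) hxa (hox ▸ hc)
  refine ⟨h, h.2, ?_, ?_⟩
  · rw [hox]
    refine octThrough_unique (smul_mem_octads h.2 oct0_std.1) fun i => ?_
    rw [← h1 i]
    exact Finset.smul_mem_smul_finset (oct0_std.2.1 i)
  · obtain ⟨t, ht, he⟩ := eq_transl (g := (h : Equiv.Perm GolayPt)⁻¹ * g * h)
      (mul_mem (mul_mem (inv_mem h.2) hg) h.2) (fun i => by
        rw [Equiv.Perm.mul_apply, Equiv.Perm.mul_apply, Equiv.Perm.inv_eq_iff_eq,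
          show (h : Equiv.Perm GolayPt) (base5 i) = x i from h1 i, hfix _ (hx i)]) (by
        rw [Equiv.Perm.mul_apply, Equiv.Perm.mul_apply, Equiv.Perm.inv_eq_iff_eq,
          show (h : Equiv.Perm GolayPt) b6 = a from h2, hfix _ ha])
    exact ⟨t, ht, by rw [← he]; group⟩

/-- An element fixing six points of an octad fixes all eight and is an involution or trivial. -/
theorem fix_six {o A : Finset GolayPt} (ho : o ∈ octads) (hA : A ⊆ o) (h6 : 6 ≤ A.card) {g : Equiv.Perm GolayPt}
    (hg : g ∈ M24) (hfix : ∀ p ∈ A, g p = p) : (∀ p ∈ o, g p = p) ∧ g * g = 1 := by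
  obtain ⟨h, -, ho', t, ht, rfl⟩ := fix_six_conj ho hA h6 hg hfix
  obtain ⟨-, htf, htt⟩ := fix_octad_of_base ht rfl
  refine ⟨fun p hp => ?_, ?_⟩
  · rw [← ho', Finset.mem_smul_finset] at hp
    obtain ⟨q, hq, rfl⟩ := hp
    simp [Equiv.Perm.smul_def, htf q hq]
  · calc h * toP t * h⁻¹ * (h * toP t * h⁻¹) = h * (toP t * toP t) * h⁻¹ := by group
    _ = 1 := by rw [htt]; group

/-- Six fixed points of an octad and a point outside it leave only the identity. -/
theorem eq_one_of_six_one {o A : Finset GolayPt} (ho : o ∈ octads) (hA : A ⊆ o) (h6 : 6 ≤ A.card)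
    {g : Equiv.Perm GolayPt} (hg : g ∈ M24) (hfix : ∀ p ∈ A, g p = p) {c : GolayPt} (hc : c ∉ o) (hgc : g c = c) :
    g = 1 := by
  obtain ⟨x, a, hx, ha, hxa⟩ := exists_five h6
  have hox := octThrough_unique ho fun i => hA (hx i)
  obtain ⟨h, h1, h2, h3⟩ := exists_base_image x (hox ▸ hA ha) hxa (hox ▸ hc)
  have hk : (h : Equiv.Perm GolayPt)⁻¹ * g * h = 1 := by
    refine eq_one_of_fix (mul_mem (mul_mem (inv_mem h.2) hg) h.2) fun i hi => ?_
    rw [Equiv.Perm.mul_apply, Equiv.Perm.mul_apply, Equiv.Perm.inv_eq_iff_eq]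
    simp only [List.mem_cons, List.not_mem_nil, or_false] at hi
    rcases hi with rfl | rfl | rfl | rfl | rfl | rfl | rfl
    all_goals
      first
      | (rw [show (h : Equiv.Perm GolayPt) (ptAt 7) = a from h2]; exact hfix _ ha)
      | (rw [show (h : Equiv.Perm GolayPt) (ptAt 5) = c from h3]; exact hgc)
      | skip
    · rw [show (h : Equiv.Perm GolayPt) (ptAt 0) = x 0 from h1 0]; exact hfix _ (hx 0)
    · rw [show (h : Equiv.Perm GolayPt) (ptAt 1) = x 1 from h1 1]; exact hfix _ (hx 1)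
    · rw [show (h : Equiv.Perm GolayPt) (ptAt 2) = x 2 from h1 2]; exact hfix _ (hx 2)
    · rw [show (h : Equiv.Perm GolayPt) (ptAt 3) = x 3 from h1 3]; exact hfix _ (hx 3)
    · rw [show (h : Equiv.Perm GolayPt) (ptAt 4) = x 4 from h1 4]; exact hfix _ (hx 4)
  calc g = h * ((h : Equiv.Perm GolayPt)⁻¹ * g * h) * (h : Equiv.Perm GolayPt)⁻¹ := by group
  _ = 1 := by rw [hk]; group

/-- Six fixed points of an octad and a preserved word with six points outside leave only the identity. -/
theorem eq_one_of_six_word {o A : Finset GolayPt} (ho : o ∈ octads) (hA : A ⊆ o) (h6 : 6 ≤ A.card)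
    {g : Equiv.Perm GolayPt} (hg : g ∈ M24) (hfix : ∀ p ∈ A, g p = p) {s : Finset GolayPt}
    (hs : s ∈ octads ∨ s ∈ dodecads) (hs6 : (s \ o).card = 6) (hgs : g • s = s) : g = 1 := by
  obtain ⟨h, hh, ho', t, ht, rfl⟩ := fix_six_conj ho hA h6 hg hfix
  obtain ⟨htM, htf, -⟩ := fix_octad_of_base ht rfl
  set s₀ := h⁻¹ • s with hs0
  have hm : mk s₀ ∈ octMasks ++ dodMasks := List.mem_append.mpr (hs.imp
    (fun e => mk_mem_octMasks.mpr (smul_mem_octads (inv_mem hh) e))
    (fun e => mk_mem_dodMasks.mpr (smul_mem_dodecads (inv_mem hh) e)))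
  have hts : toP t • s₀ = s₀ := by
    have e : h⁻¹ • (h * toP t * h⁻¹) • s = toP t • s₀ := by rw [hs0, ← mul_smul, ← mul_smul]; group
    rw [← e, hgs]
  have h6' : pc (mk s₀ &&& (16777215 - 5279)) = 6 := by
    rw [pc_eq_card, ← hs6, ← Finset.card_smul_finset h⁻¹ (s \ o), Finset.smul_finset_sdiff,
      show h⁻¹ • o = stdOct₀ from inv_smul_eq_iff.mpr ho'.symm, ← hs0]
    congr 1
    ext p
    have hcompl : ∀ p : GolayPt, (16777215 - 5279).testBit (pidx p) = !(Nat.testBit 5279 (pidx p)) := by decide +kernel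
    have hmk : (mk s₀).testBit (pidx p) = true ↔ p ∈ s₀ := by rw [← mem_pts, pts_mk]
    rw [mem_pts, Nat.testBit_and, hcompl p, Finset.mem_sdiff, mem_pts, Bool.and_eq_true, hmk]
    simp
  have := List.all_eq_true.mp transl_moves _ hm
  simp only [Bool.or_eq_true, bne_iff_ne, ne_eq, List.all_eq_true, beq_iff_eq] at this
  rcases this with h0 | h0
  · exact absurd h6' h0
  have hv : valid 24 t = true := by
    have := translOK_eq
    simp only [translOK, Bool.and_eq_true, List.all_eq_true] at this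
    have := (this.1 t ht).1
    simp only [preserves, Bool.and_eq_true] at this; exact this.1
  have hb7 : toP t b7 = b7 := by
    rcases h0 t ht with h1 | h1
    · refine pidx_injective ?_
      rw [pidx_toP hv, show pidx b7 = 5 by decide +kernel]; exact h1
    · simp only [List.any_eq_true, Bool.and_eq_true, Bool.not_eq_true', List.mem_range] at h1
      obtain ⟨i, hi, hin, hout⟩ := h1
      have hp : toP t (ptAt i) ∈ s₀ := by
        rw [← hts]
        refine Finset.smul_mem_smul_finset ?_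
        rw [← pts_mk s₀, mem_pts, pidx_ptAt ⟨i, hi⟩]; exact hin
      rw [← pts_mk s₀, mem_pts, pidx_toP hv, pidx_ptAt ⟨i, hi⟩, hout] at hp
      cases hp
  rw [eq_one_of_six_one oct0_std.1 (Finset.Subset.refl _) (by rw [oct0_std.1.2]; norm_num) htM htf
    oct0_std.2.2.2 hb7, mul_one, mul_inv_cancel]

end Cfsg.Lib.Golay
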