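import Cfsg.Agent.Golay.ElementFix
import Cfsg.Agent.Golay.Translations
import Cfsg.Agent.Golay.AffineSixteenData

/-!
The centraliser of an involution with eight fixed points, acting linearly in five dimensions.
-/

set_option autoImplicit false

namespace Cfsg.Lib.Golay

open Cfsg Cfsg.Lib.PermCert MulAction Matrix
open scoped Pointwise

/-- Matrices of size five over two elements of determinant one. -/
abbrev SL5 := Matrix.SpecialLinearGroup (Fin 5) (ZMod 2)

/-- The transvection. -/
def transFive : SL5 := ⟨Matrix.transvection 0 1 1, Matrix.det_transvection_of_ne _ _ (by decide) _⟩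

/-- The affine coordinates of a point. -/
def affLab (p : GolayPt) : Fin 5 → ZMod 2 :=
  fun i => if ((affTab.lookup (pidx p)).getD 0).testBit i.val then 1 else 0

/-- A listed matrix. -/
def affMatOf (rows : List ℕ) : Matrix (Fin 5) (Fin 5) (ZMod 2) :=
  Matrix.of fun i j => if (rows.getD i.val 0).testBit j.val then 1 else 0

/-- A permutation acts as a matrix on the sixteen points. -/
def AffRel (x : Equiv.Perm GolayPt) (A : SL5) : Prop :=
  ∀ p, p ∉ pts codeOct → x p ∉ pts codeOct ∧ (A : Matrix (Fin 5) (Fin 5) (ZMod 2)) *ᵥ affLab p = affLab (x p)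

theorem affRel_one : AffRel 1 1 := fun p hp => ⟨hp, by simp⟩

theorem AffRel.mul {x y : Equiv.Perm GolayPt} {A B : SL5} (hx : AffRel x A) (hy : AffRel y B) :
    AffRel (x * y) (A * B) := fun p hp => by
  obtain ⟨h1, h2⟩ := hy p hp
  obtain ⟨h3, h4⟩ := hx _ h1
  refine ⟨h3, ?_⟩
  rw [Matrix.SpecialLinearGroup.coe_mul, ← Matrix.mulVec_mulVec, h2, h4]
  rfl

/-- The pairs. -/
def affPairs : Subgroup (Equiv.Perm GolayPt × SL5) where
  carrier := {q | q.1 ∈ cgInvA.grp ∧ q.2 * transFive = transFive * q.2 ∧ AffRel q.1 q.2}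
  one_mem' := ⟨one_mem _, by simp, affRel_one⟩
  mul_mem' := fun {a b} ha hb => ⟨mul_mem ha.1 hb.1,
    (Commute.mul_left (show Commute a.2 transFive from ha.2.1) hb.2.1).eq, ha.2.2.mul hb.2.2⟩
  inv_mem' := by
    intro a ha
    have key : ∀ n : ℕ, (a ^ n).1 ∈ cgInvA.grp ∧ (a ^ n).2 * transFive = transFive * (a ^ n).2 ∧
        AffRel (a ^ n).1 (a ^ n).2 := by
      intro n
      induction n with
      | zero => exact ⟨one_mem _, by simp, affRel_one⟩
      | succ n ih =>
        rw [pow_succ]
        exact ⟨mul_mem ih.1 ha.1, (Commute.mul_left (show Commute (a ^ n).2 transFive from ih.2.1) ha.2.1).eq,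
          ih.2.2.mul ha.2.2⟩
    have e : a⁻¹ = a ^ (orderOf a - 1) := inv_eq_of_mul_eq_one_right (by
      rw [← pow_succ', Nat.sub_add_cancel (orderOf_pos a), pow_orderOf_eq_one])
    rw [e]
    exact key _

theorem aff_gens : ∀ k : Fin 6, fvalid (cgInvA.gens[k.val]!) = true ∧
    (affMatOf (affMats[k.val]!)).det = 1 ∧
    affMatOf (affMats[k.val]!) * Matrix.transvection 0 1 1 = Matrix.transvection 0 1 1 * affMatOf (affMats[k.val]!) ∧
    ∀ p, p ∉ pts codeOct → toP (cgInvA.gens[k.val]!).1 p ∉ pts codeOct ∧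
      affMatOf (affMats[k.val]!) *ᵥ affLab p = affLab (toP (cgInvA.gens[k.val]!).1 p) := by decide +kernel

theorem aff_spans : ∀ j : Fin 5, ∃ p q, p ∉ pts codeOct ∧ q ∉ pts codeOct ∧
    (affLab p + affLab q = Pi.single j 1 ∨ affLab p = Pi.single j 1) := by decide +kernel

theorem affLab_inj : ∀ p, p ∉ pts codeOct → ∀ q, q ∉ pts codeOct → affLab p = affLab q → p = q := by decide +kernel

theorem apart_facts : inCode octApart = true ∧ (pts octApart).card = 8 ∧ octApart < 2 ^ 24 ∧
    (∀ p ∈ pts octApart, p ∉ pts codeOct) ∧ ptAt posApart ∉ pts octApart ∧ ptAt posApart ∉ pts codeOct := by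
  decide +kernel

theorem aff_fst_surj {x : Equiv.Perm GolayPt} (hx : x ∈ cgInvA.grp) : ∃ A, (x, A) ∈ affPairs := by
  have hle : cgInvA.grp ≤ affPairs.map (MonoidHom.fst _ _) := by
    rw [← (CG.ok_spec cgInvA_ok).2.2, Subgroup.closure_le]
    rintro _ ⟨g, hg, rfl⟩
    obtain ⟨n, hn, rfl⟩ := List.getElem_of_mem hg
    have hlen : cgInvA.gens.length = 6 := rfl
    obtain ⟨-, h2, h3, h4⟩ := aff_gens ⟨n, by omega⟩
    simp only [getElem!_pos cgInvA.gens n hn] at h4
    let A : SL5 := ⟨affMatOf (affMats[n]!), h2⟩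
    have hA : A * transFive = transFive * A := Subtype.ext h3
    exact ⟨(toP cgInvA.gens[n].1, A), ⟨by
      rw [← (CG.ok_spec cgInvA_ok).2.2]; exact Subgroup.subset_closure ⟨_, hg, rfl⟩, hA, h4⟩, rfl⟩
  obtain ⟨⟨y, A⟩, hA, rfl⟩ := hle hx
  exact ⟨A, hA⟩

theorem aff_fst_inj {A : SL5} (h : (1, A) ∈ affPairs) : A = 1 := by
  refine Subtype.ext (Matrix.ext fun i j => ?_)
  have hsingle : (A : Matrix (Fin 5) (Fin 5) (ZMod 2)) *ᵥ Pi.single j 1 = Pi.single j 1 := by
    obtain ⟨p, q, hp, hq, e | e⟩ := aff_spans j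
    · rw [← e, Matrix.mulVec_add, (h.2.2 p hp).2, (h.2.2 q hq).2]; rfl
    · rw [← e, (h.2.2 p hp).2]; rfl
  have := congrFun hsingle i
  rw [Matrix.mulVec_single_one, Matrix.col_apply] at this
  rw [this, Matrix.SpecialLinearGroup.coe_one, Matrix.one_apply, Pi.single_apply]

theorem aff_snd_inj {x : Equiv.Perm GolayPt} (hxM : x ∈ M24) (h : (x, 1) ∈ affPairs) : x = 1 := by
  have hfix : ∀ p, p ∉ pts codeOct → x p = p := fun p hp => by
    obtain ⟨h1, h2⟩ := h.2.2 p hp
    rw [Matrix.SpecialLinearGroup.coe_one, Matrix.one_mulVec] at h2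
    exact (affLab_inj p hp _ h1 h2).symm
  obtain ⟨hin, h8, hlt, hap, hc, hc'⟩ := apart_facts
  exact eq_one_of_six_one (o := pts octApart) ((mem_octads_iff _).mpr ⟨by rw [mk_pts hlt]; exact hin, h8⟩)
    (Finset.Subset.refl _) (by omega) hxM (fun p hp => hfix p (hap p hp)) hc (hfix _ hc')

theorem card_centralizer_transFive :
    Nat.card (Subgroup.centralizer ({transFive} : Set SL5)) ≤ 21504 := by
  set C := Subgroup.centralizer ({transFive} : Set SL5)
  have key : ∀ A : C, (∀ i, (A : SL5).1 i 0 = if i = 0 then 1 else 0) ∧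
      ∀ j, (A : SL5).1 1 j = if j = 1 then 1 else 0 := by
    intro A
    set M := (A : SL5).1 with hM
    have h : M * Matrix.transvection 0 1 1 = Matrix.transvection 0 1 1 * M :=
      congrArg Subtype.val (show (A : SL5) * transFive = transFive * (A : SL5) from
        Subgroup.mem_centralizer_singleton_iff.mp A.2)
    have e1 : ∀ i, i ≠ 0 → M i 0 = 0 := fun i hi => by
      have := congrFun (congrFun h i) 1
      rw [Matrix.mul_transvection_apply_same, Matrix.transvection_mul_apply_of_ne _ _ _ _ hi, one_mul] at this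
      exact left_eq_add.mp this.symm
    have e2 : ∀ j, j ≠ 1 → M 1 j = 0 := fun j hj => by
      have := congrFun (congrFun h 0) j
      rw [Matrix.transvection_mul_apply_same, Matrix.mul_transvection_apply_of_ne _ _ _ _ hj, one_mul] at this
      exact left_eq_add.mp this
    have e3 : M 0 0 = M 1 1 := by
      have := congrFun (congrFun h 0) 1
      rw [Matrix.mul_transvection_apply_same, Matrix.transvection_mul_apply_same, one_mul, one_mul] at this
      exact add_left_cancel this
    have e4 : M 0 0 = 1 := by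
      by_contra hne
      have h0 : M 0 0 = 0 := by
        have : ∀ a : ZMod 2, a ≠ 1 → a = 0 := by decide
        exact this _ hne
      have hd := (A : SL5).2
      rw [Matrix.det_eq_zero_of_column_eq_zero 0 fun i => if hi : i = 0 then hi ▸ h0 else e1 i hi] at hd
      exact zero_ne_one hd
    constructor
    · intro i
      split
      · next hi => rw [hi, e4]
      · next hi => exact e1 i hi
    · intro j
      split
      · next hj => rw [hj, ← e3, e4]
      · next hj => exact e2 j hj
  let s : Fin 3 → Fin 5 := ![2, 3, 4]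
  have inv3 : ∀ A : C, IsUnit ((A : SL5).1.submatrix s s) := by
    intro A
    rw [← Matrix.mulVec_injective_iff_isUnit]
    intro u v huv
    obtain ⟨hc, hr⟩ := key A
    set M := (A : SL5).1
    let w : Fin 5 → ZMod 2 := ![0, 0, u 0 - v 0, u 1 - v 1, u 2 - v 2]
    have hMw : M *ᵥ w = Pi.single 0 ((M *ᵥ w) 0) := by
      funext i
      fin_cases i
      · simp
      · simp [Matrix.mulVec, dotProduct, Fin.sum_univ_five, w, hr]
      all_goals
        simp only [Pi.single_apply, Matrix.mulVec, dotProduct, Fin.sum_univ_five, w]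
        simp
      · have := congrFun huv 0
        simp [Matrix.mulVec, dotProduct, Fin.sum_univ_three, s] at this
        linear_combination this
      · have := congrFun huv 1
        simp [Matrix.mulVec, dotProduct, Fin.sum_univ_three, s] at this
        linear_combination this
      · have := congrFun huv 2
        simp [Matrix.mulVec, dotProduct, Fin.sum_univ_three, s] at this
        linear_combination this
    have hM0 : M *ᵥ Pi.single 0 ((M *ᵥ w) 0) = Pi.single 0 ((M *ᵥ w) 0) := by
      funext i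
      rw [Matrix.mulVec_single]
      simp [Pi.single_apply, hc]
    have hinj : Function.Injective M.mulVec := Matrix.mulVec_injective_iff_isUnit.mpr
      ((Matrix.isUnit_iff_isUnit_det _).mpr (by rw [(A : SL5).2]; exact isUnit_one))
    have hw : w = Pi.single 0 ((M *ᵥ w) 0) := hinj (hMw.trans hM0.symm)
    funext i
    fin_cases i
    · have := congrFun hw 2
      simpa [w, sub_eq_zero] using this
    · have := congrFun hw 3
      simpa [w, sub_eq_zero] using this
    · have := congrFun hw 4
      simpa [w, sub_eq_zero] using this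
  let f : C → GL (Fin 3) (ZMod 2) × (Fin 7 → ZMod 2) := fun A =>
    ((inv3 A).unit, ![(A : SL5).1 0 1, (A : SL5).1 0 2, (A : SL5).1 0 3, (A : SL5).1 0 4, (A : SL5).1 2 1,
      (A : SL5).1 3 1, (A : SL5).1 4 1])
  have hf : Function.Injective f := by
    intro A B h
    obtain ⟨h1, h2⟩ := Prod.mk.inj h
    have h1' : ∀ a b : Fin 3, (A : SL5).1 (s a) (s b) = (B : SL5).1 (s a) (s b) := fun a b =>
      congrFun (congrFun (congrArg Units.val h1 :) a) b
    obtain ⟨a0, a1⟩ := key A
    obtain ⟨b0, b1⟩ := key B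
    refine Subtype.ext (Subtype.ext (Matrix.ext fun i j => ?_))
    fin_cases i <;> fin_cases j <;>
      first
      | exact (a0 _).trans (b0 _).symm
      | exact (a1 _).trans (b1 _).symm
      | exact h1' 0 0 | exact h1' 0 1 | exact h1' 0 2 | exact h1' 1 0 | exact h1' 1 1 | exact h1' 1 2
      | exact h1' 2 0 | exact h1' 2 1 | exact h1' 2 2
      | exact congrFun h2 0 | exact congrFun h2 1 | exact congrFun h2 2 | exact congrFun h2 3
      | exact congrFun h2 4 | exact congrFun h2 5 | exact congrFun h2 6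
  refine le_trans (Nat.card_le_card_of_injective f hf) ?_
  haveI : Fact (Nat.Prime 2) := ⟨Nat.prime_two⟩
  rw [Nat.card_prod, Nat.card_fun, Matrix.card_GL_field, ZMod.card, Fin.prod_univ_three, Nat.card_zmod,
    Nat.card_eq_fintype_card, Fintype.card_fin]
  norm_num

/-- The isomorphism. -/
theorem centralizer_invA_iso :
    Nonempty (cgInvA.grp ≃* Subgroup.centralizer ({transFive} : Set SL5)) := by
  have hM : ∀ x ∈ cgInvA.grp, x ∈ M24 := fun x hx => (centralizer_invA.mpr hx).1
  let π₁ : affPairs →* cgInvA.grp := ((MonoidHom.fst _ _).comp affPairs.subtype).codRestrict _ fun q => q.2.1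
  let π₂ : affPairs →* Subgroup.centralizer ({transFive} : Set SL5) :=
    ((MonoidHom.snd _ _).comp affPairs.subtype).codRestrict _ fun q =>
      Subgroup.mem_centralizer_singleton_iff.mpr q.2.2.1
  have h1i : Function.Injective π₁ := (injective_iff_map_eq_one π₁).mpr fun q hq => by
    have e : (q : Equiv.Perm GolayPt × SL5).1 = 1 := congrArg Subtype.val hq
    exact Subtype.ext (Prod.ext e (aff_fst_inj (e ▸ q.2)))
  have h2i : Function.Injective π₂ := (injective_iff_map_eq_one π₂).mpr fun q hq => by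
    have e : (q : Equiv.Perm GolayPt × SL5).2 = 1 := congrArg Subtype.val hq
    exact Subtype.ext (Prod.ext (aff_snd_inj (hM _ q.2.1) (e ▸ q.2)) e)
  have h1s : Function.Surjective π₁ := fun x => by
    obtain ⟨A, hA⟩ := aff_fst_surj x.2
    exact ⟨⟨_, hA⟩, rfl⟩
  have hs : size cgInvA.chain = 21504 := by decide +kernel
  have hcard : Nat.card affPairs = 21504 := by
    rw [Nat.card_eq_of_bijective π₁ ⟨h1i, h1s⟩, CG.card_grp cgInvA_ok, hs]
  have h2b : Function.Bijective π₂ := (Nat.bijective_iff_injective_and_card π₂).mpr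
    ⟨h2i, le_antisymm (Nat.card_le_card_of_injective π₂ h2i) (hcard ▸ card_centralizer_transFive)⟩
  exact ⟨(MulEquiv.ofBijective π₁ ⟨h1i, h1s⟩).symm.trans (MulEquiv.ofBijective π₂ h2b)⟩

end Cfsg.Lib.Golay
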