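import Cfsg.Agent.Golay.AutCert

/-!
Faster forms of the checks of stability and of admissible images.
-/

set_option autoImplicit false

namespace Cfsg.Lib.Golay

open Cfsg Cfsg.Lib.PermCert

/-- A fast form. -/
def apF (p x : ℕ) : ℕ := Nat.mod (Nat.shiftRight p (Nat.mul 16 x)) 65536
/-- A fast form. -/
def evB (r q : ℕ) : List Bool → ℕ → ℕ
  | [], i => i
  | b :: w, i => apF (bif b then q else r) (evB r q w i)
/-- A fast form. -/
def fixFrom (f : ℕ → ℕ) : ℕ → ℕ → Bool
  | 0, _ => true
  | n + 1, i => Nat.beq (f i) i && fixFrom f n (Nat.succ i)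
/-- A fast form. -/
def relsF (r q : ℕ) : List (List Bool) → Bool
  | [] => true
  | w :: l => fixFrom (evB r q w) 24 0 && relsF r q l
/-- A fast form. -/
def imgF (rels : List (List Bool)) (r : ℕ) (cs : List ℕ) (E : ℕ) : Bool :=
  !(relsF r E rels) || cs.contains E
/-- A fast form. -/
def packF (f : ℕ → ℕ) : ℕ → ℕ → ℕ
  | 0, _ => 0
  | n + 1, i => Nat.add (f i) (Nat.mul 65536 (packF f n (Nat.succ i)))
/-- A fast form. -/
def stabF (gens : List PP) (T : STree) (e : ℕ × ℕ × ℕ × ℕ) : Bool :=
  gens.all fun g => (stFind T (packF (fun i => apF g.1 (apF e.1 (apF g.2 i))) 24 0)).isSome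

theorem packF_eq (f : ℕ → ℕ) : ∀ n i : ℕ, packF f n i = pack ((List.range' i n).map f)
  | 0, _ => rfl
  | n + 1, i => by
    show f i + 65536 * packF f n (i + 1) = _
    rw [packF_eq f n (i + 1)]
    rfl

theorem stabF_eq (gens : List PP) (T : STree) : stabF gens T = stableAt gens T := by
  funext e
  simp only [stabF, stableAt, packF_eq, cjActP, List.range_eq_range']
  rfl

theorem fixFrom_eq (f : ℕ → ℕ) : ∀ n i : ℕ, fixFrom f n i = (List.range' i n).all fun x => f x == x
  | 0, _ => rfl
  | n + 1, i => by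
    show (Nat.beq (f i) i && fixFrom f n (i + 1)) = _
    rw [fixFrom_eq f n (i + 1), List.range'_succ, List.all_cons]
    congr 1
    rw [Bool.eq_iff_iff, Nat.beq_eq, beq_iff_eq]

theorem evB_eq (s' q : PP) : ∀ (w : List Bool) (i : ℕ), evalWord (wordPP s' q w) i = evB s'.1 q.1 w i
  | [], _ => rfl
  | b :: w, i => by
    show ap (bif b then q else s').1 (evalWord (wordPP s' q w) i) = apF (bif b then q.1 else s'.1) (evB s'.1 q.1 w i)
    rw [evB_eq s' q w i]
    cases b <;> rfl

theorem relsF_eq (s' : PP) (E : ℕ) : ∀ rels : List (List Bool),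
    relsF s'.1 E rels = rels.all fun w => FusionCert.same (wordPP s' (E, E) w) []
  | [] => rfl
  | w :: l => by
    rw [relsF, relsF_eq s' E l, fixFrom_eq, List.all_cons]
    congr 1
    simp only [FusionCert.same, List.range_eq_range', evB_eq]
    rfl

theorem imgF_eq (rels : List (List Bool)) (s' : PP) (cs : List ℕ) : imgF rels s'.1 cs = imgOK rels s' cs := by
  funext E
  rw [imgF, imgOK, relsF_eq]

end Cfsg.Lib.Golay
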