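import Cfsg.Agent.Golay.AutCert
import Cfsg.Agent.Golay.AutNormData
import Cfsg.Agent.Golay.AutM12Data

/-!
The outer automorphism group of M12.
-/

set_option autoImplicit false
set_option maxRecDepth 100000

namespace Cfsg.Lib.Golay

open Cfsg Cfsg.Lib.PermCert MulAction

/-- The certificate data. -/
noncomputable def autDataM12 : AutData :=
  ⟨cgAutM12, 11, 3, autSM12.1, autNM12, autTM12, autRelsM12, autWordsM12, [autTreeM12A, autTreeM12B].flatMap stVals, autCandsM12, autCandsInvM12⟩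

theorem cgAutM12_ok : cgAutM12.ok = true ∧ cgAutSylM12.ok = true := by decide +kernel

theorem autDataM12_ok : autDataM12.ok = true := by decide +kernel

theorem autCoverM12 : gensIn cgAutSylM12 cgAutM12 = true ∧ size cgAutSylM12.chain = 2 ^ 6 ∧
    2 ^ 6 ∣ size cgAutM12.chain ∧ ¬ 2 ^ (6 + 1) ∣ size cgAutM12.chain ∧
    invCover cgAutSylM12.chain [autTreeM12A, autTreeM12B] = true ∧
    FusionCert.same [autTM12] [] = false ∧ FusionCert.same [autTM12, autTM12] [] = true ∧
    11 ∣ size cgAutM12.chain ∧ ¬ 11 ^ 2 ∣ size cgAutM12.chain ∧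
    ([autTreeM12A, autTreeM12B]).all (stableOK [autSM12.1, autTM12]) = true := by
  decide +kernel

theorem card_out_le_M12 : Nat.card (Cfsg.Out cgAutM12.grp) ≤ 2 ∧
    (autCandsInvM12 = [] → Nat.card (Cfsg.Out cgAutM12.grp) = 1) := by
  obtain ⟨hin, hsz, hd, hnd, hcov, ht1, ht2, hp, hp2, hst⟩ := autCoverM12
  have hm := autDataM12.mem cgAutM12_ok.1 autDataM12_ok
  have htv : valid 24 autTM12 = true := by decide +kernel
  refine autDataM12.card_out_le cgAutM12_ok.1 autDataM12_ok (by decide +kernel : Nat.Prime 11) hp hp2 hm.2.2 fun α => ?_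
  refine autDataM12.invCover_sound cgAutM12_ok.1 autDataM12_ok cgAutM12_ok.2 hin hsz hd hnd hst hcov (α ⟨_, hm.2.2⟩).2 ?_
  rw [Subgroup.orderOf_coe]
  refine (MulEquiv.orderOf_eq α _).trans ?_
  rw [Subgroup.orderOf_mk]
  refine orderOf_eq_prime ?_ fun e => ?_
  · rw [sq]
    exact (((rep_toP htv).mul (rep_toP htv)).eq_iff rep_one).mpr ht2
  · exact Bool.false_ne_true (ht1.symm.trans (((rep_toP htv).eq_iff rep_one).mp e))

end Cfsg.Lib.Golay
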