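import Cfsg.Agent.Golay.AutCert
import Cfsg.Agent.Golay.AutM23Data

/-!
A certificate for the automorphisms, by parts.
-/

set_option autoImplicit false
set_option maxRecDepth 100000

namespace Cfsg.Lib.Golay

open Cfsg Cfsg.Lib.PermCert

theorem autImg_autPartM23LL : (stNodes autPartM23LL).all (imgOK autRelsM23 autSM23.1 autCandsM23 ∘ Prod.fst) = true := by decide +kernel

theorem autImg_autPartM23LR : (stNodes autPartM23LR).all (imgOK autRelsM23 autSM23.1 autCandsM23 ∘ Prod.fst) = true := by decide +kernel

theorem autImg_autPartM23RL : (stNodes autPartM23RL).all (imgOK autRelsM23 autSM23.1 autCandsM23 ∘ Prod.fst) = true := by decide +kernel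

theorem autImg_autPartM23RR : (stNodes autPartM23RR).all (imgOK autRelsM23 autSM23.1 autCandsM23 ∘ Prod.fst) = true := by decide +kernel

theorem autImgM23 : (stNodes autTreeM23A).all (imgOK autRelsM23 autSM23.1 autCandsM23 ∘ Prod.fst) = true := by
  unfold autTreeM23A
  exact (all_node (by decide +kernel) (all_node (by decide +kernel) autImg_autPartM23LL autImg_autPartM23LR) (all_node (by decide +kernel) autImg_autPartM23RL autImg_autPartM23RR))

end Cfsg.Lib.Golay
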