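import Cfsg.Agent.Golay.AutCert
import Cfsg.Agent.Golay.AutNormData
import Cfsg.Agent.Golay.AutM23Stable
import Cfsg.Agent.Golay.AutM23Img
import Cfsg.Agent.Golay.AutM23ImgInv

/-!
The outer automorphism group of M23.
-/

set_option autoImplicit false
set_option maxRecDepth 100000

namespace Cfsg.Lib.Golay

open Cfsg Cfsg.Lib.PermCert MulAction

/-- The certificate data. -/
noncomputable def autDataM23 : AutData :=
  ⟨cgAutM23, 23, 2, autSM23.1, autNM23, autTM23, autRelsM23, autWordsM23, [autTreeM23A].flatMap stVals, autCandsM23, autCandsInvM23⟩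

theorem cgAutM23_ok : cgAutM23.ok = true ∧ cgAutSylM23.ok = true := by decide +kernel

theorem autDataM23_ok : autDataM23.ok = true :=
  AutData.ok_intro (by decide +kernel) (by simpa [autDataM23, stVals, List.all_map] using autImgM23)
    (by simpa [autDataM23, stVals, List.all_map] using autImgInvM23) (by decide +kernel) (by decide +kernel)

theorem autCoverM23 : gensIn cgAutSylM23 cgAutM23 = true ∧ size cgAutSylM23.chain = 2 ^ 7 ∧
    2 ^ 7 ∣ size cgAutM23.chain ∧ ¬ 2 ^ (7 + 1) ∣ size cgAutM23.chain ∧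
    invCover cgAutSylM23.chain [autTreeM23A] = true ∧
    FusionCert.same [autTM23] [] = false ∧ FusionCert.same [autTM23, autTM23] [] = true ∧
    23 ∣ size cgAutM23.chain ∧ ¬ 23 ^ 2 ∣ size cgAutM23.chain := by
  decide +kernel

theorem card_out_le_M23 : Nat.card (Cfsg.Out cgAutM23.grp) ≤ 2 ∧
    (autCandsInvM23 = [] → Nat.card (Cfsg.Out cgAutM23.grp) = 1) := by
  obtain ⟨hin, hsz, hd, hnd, hcov, ht1, ht2, hp, hp2⟩ := autCoverM23
  have hst : [autTreeM23A].all (stableOK [autSM23.1, autTM23]) = true := by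
    simp only [List.all_cons, List.all_nil, Bool.and_true]
    exact autStableM23
  have hm := autDataM23.mem cgAutM23_ok.1 autDataM23_ok
  have htv : valid 24 autTM23 = true := by decide +kernel
  refine autDataM23.card_out_le cgAutM23_ok.1 autDataM23_ok (by decide +kernel : Nat.Prime 23) hp hp2 hm.2.2 fun α => ?_
  refine autDataM23.invCover_sound cgAutM23_ok.1 autDataM23_ok cgAutM23_ok.2 hin hsz hd hnd hst hcov (α ⟨_, hm.2.2⟩).2 ?_
  rw [Subgroup.orderOf_coe]
  refine (MulEquiv.orderOf_eq α _).trans ?_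
  rw [Subgroup.orderOf_mk]
  refine orderOf_eq_prime ?_ fun e => ?_
  · rw [sq]
    exact (((rep_toP htv).mul (rep_toP htv)).eq_iff rep_one).mpr ht2
  · exact Bool.false_ne_true (ht1.symm.trans (((rep_toP htv).eq_iff rep_one).mp e))

end Cfsg.Lib.Golay
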