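import Cfsg.Agent.Golay.AutFast
import Cfsg.Agent.Golay.AutM24Data

/-!
A certificate for the automorphisms, by parts.
-/

set_option autoImplicit false
set_option maxRecDepth 100000

namespace Cfsg.Lib.Golay

open Cfsg Cfsg.Lib.PermCert

theorem autStable_autPartM24LLLL : (stNodes autPartM24LLLL).all (stabF [autSM24.1, autTM24] autTreeM24A) = true := by decide +kernel

theorem autStable_autPartM24LLLR : (stNodes autPartM24LLLR).all (stabF [autSM24.1, autTM24] autTreeM24A) = true := by decide +kernel

theorem autStable_autPartM24LLRL : (stNodes autPartM24LLRL).all (stabF [autSM24.1, autTM24] autTreeM24A) = true := by decide +kernel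

theorem autStable_autPartM24LLRR : (stNodes autPartM24LLRR).all (stabF [autSM24.1, autTM24] autTreeM24A) = true := by decide +kernel

theorem autStable_autPartM24LRLL : (stNodes autPartM24LRLL).all (stabF [autSM24.1, autTM24] autTreeM24A) = true := by decide +kernel

theorem autStable_autPartM24LRLR : (stNodes autPartM24LRLR).all (stabF [autSM24.1, autTM24] autTreeM24A) = true := by decide +kernel

theorem autStable_autPartM24LRRL : (stNodes autPartM24LRRL).all (stabF [autSM24.1, autTM24] autTreeM24A) = true := by decide +kernel

theorem autStable_autPartM24LRRR : (stNodes autPartM24LRRR).all (stabF [autSM24.1, autTM24] autTreeM24A) = true := by decide +kernel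

theorem autStable_autPartM24RLLL : (stNodes autPartM24RLLL).all (stabF [autSM24.1, autTM24] autTreeM24A) = true := by decide +kernel

theorem autStable_autPartM24RLLR : (stNodes autPartM24RLLR).all (stabF [autSM24.1, autTM24] autTreeM24A) = true := by decide +kernel

theorem autStable_autPartM24RLRL : (stNodes autPartM24RLRL).all (stabF [autSM24.1, autTM24] autTreeM24A) = true := by decide +kernel

theorem autStable_autPartM24RLRR : (stNodes autPartM24RLRR).all (stabF [autSM24.1, autTM24] autTreeM24A) = true := by decide +kernel

theorem autStable_autPartM24RRLL : (stNodes autPartM24RRLL).all (stabF [autSM24.1, autTM24] autTreeM24A) = true := by decide +kernel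

theorem autStable_autPartM24RRLR : (stNodes autPartM24RRLR).all (stabF [autSM24.1, autTM24] autTreeM24A) = true := by decide +kernel

theorem autStable_autPartM24RRRL : (stNodes autPartM24RRRL).all (stabF [autSM24.1, autTM24] autTreeM24A) = true := by decide +kernel

theorem autStable_autPartM24RRRR : (stNodes autPartM24RRRR).all (stabF [autSM24.1, autTM24] autTreeM24A) = true := by decide +kernel

theorem autStableM24 : (stNodes autTreeM24A).all (stableAt [autSM24.1, autTM24] autTreeM24A) = true := by
  rw [← stabF_eq]
  generalize hP : (stabF [autSM24.1, autTM24] autTreeM24A) = P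
  unfold autTreeM24A
  subst hP
  exact (all_node (by decide +kernel) (all_node (by decide +kernel) (all_node (by decide +kernel) (all_node (by decide +kernel) autStable_autPartM24LLLL autStable_autPartM24LLLR) (all_node (by decide +kernel) autStable_autPartM24LLRL autStable_autPartM24LLRR)) (all_node (by decide +kernel) (all_node (by decide +kernel) autStable_autPartM24LRLL autStable_autPartM24LRLR) (all_node (by decide +kernel) autStable_autPartM24LRRL autStable_autPartM24LRRR))) (all_node (by decide +kernel) (all_node (by decide +kernel) (all_node (by decide +kernel) autStable_autPartM24RLLL autStable_autPartM24RLLR) (all_node (by decide +kernel) autStable_autPartM24RLRL autStable_autPartM24RLRR)) (all_node (by decide +kernel) (all_node (by decide +kernel) autStable_autPartM24RRLL autStable_autPartM24RRLR) (all_node (by decide +kernel) autStable_autPartM24RRRL autStable_autPartM24RRRR))))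

end Cfsg.Lib.Golay
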