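import Cfsg.Agent.Golay.AutCert
import Cfsg.Agent.Golay.AutNormData
import Cfsg.Agent.Golay.AutM24Stable
import Cfsg.Agent.Golay.AutM24Img
import Cfsg.Agent.Golay.AutM24ImgInv

/-!
The outer automorphism group of the group of the code.
-/

set_option autoImplicit false
set_option maxRecDepth 100000

namespace Cfsg.Lib.Golay

open Cfsg Cfsg.Lib.PermCert MulAction

/-- The certificate data. -/
noncomputable def autDataM24 : AutData :=
  ⟨cgM24, 23, 2, autSM24.1, autNM24, autTM24, autRelsM24, autWordsM24, stVals autTreeM24A, autCandsM24,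
    autCandsInvM24⟩

theorem autDataM24_ok : autDataM24.ok = true :=
  AutData.ok_intro (by decide +kernel) (by simpa [autDataM24, stVals, List.all_map] using autImgM24)
    (by simpa [autDataM24, stVals, List.all_map] using autImgInvM24) (by decide +kernel) (by decide +kernel)

theorem autCoverM24 : (stFind autTreeM24A (tabCode invA.1)).isSome = true ∧
    valid 24 autTM24 = true ∧ size cgInvA.chain ≠ size cgInvB.chain := by
  decide +kernel

/-- The centralisers of two elements with a conjugating automorphism have the same order. -/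
theorem card_centralizer_map {G : Type*} [Group G] (α : MulAut G) (x : G) :
    Nat.card (Subgroup.centralizer {α x}) = Nat.card (Subgroup.centralizer {x}) := by
  refine (Nat.card_congr
    { toFun := fun c => ⟨α c.1, Subgroup.mem_centralizer_singleton_iff.mpr (by
        rw [← map_mul, Subgroup.mem_centralizer_singleton_iff.mp c.2, map_mul])⟩
      invFun := fun c => ⟨α.symm c.1, Subgroup.mem_centralizer_singleton_iff.mpr (α.injective (by
        rw [map_mul, map_mul, MulEquiv.apply_symm_apply]
        exact Subgroup.mem_centralizer_singleton_iff.mp c.2))⟩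
      left_inv := fun c => Subtype.ext (α.symm_apply_apply c.1)
      right_inv := fun c => Subtype.ext (α.apply_symm_apply c.1) }).symm

theorem card_centralizer_cg {K C : CG} (hK : K.grp = M24) (hC : C.ok = true) {x : Equiv.Perm GolayPt}
    (hx : x ∈ K.grp) (h : ∀ c, (c ∈ M24 ∧ c * x = x * c) ↔ c ∈ C.grp) :
    Nat.card (Subgroup.centralizer {(⟨x, hx⟩ : K.grp)}) = size C.chain := by
  rw [← CG.card_grp hC]
  exact Nat.card_congr
    { toFun := fun c => ⟨c.1.1, (h _).mp ⟨hK ▸ c.1.2,
        congrArg Subtype.val (Subgroup.mem_centralizer_singleton_iff.mp c.2)⟩⟩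
      invFun := fun c => ⟨⟨c.1, hK.symm ▸ ((h c.1).mpr c.2).1⟩,
        Subgroup.mem_centralizer_singleton_iff.mpr (Subtype.ext ((h c.1).mpr c.2).2)⟩
      left_inv := fun c => rfl
      right_inv := fun c => rfl }

theorem card_out_cgM24 : Nat.card (Cfsg.Out cgM24.grp) = 1 := by
  obtain ⟨hroot, htv, hne⟩ := autCoverM24
  have hst : stableOK [autSM24.1, autTM24] autTreeM24A = true := autStableM24
  have hm := autDataM24.mem cgM24_ok autDataM24_ok
  refine (autDataM24.card_out_le cgM24_ok autDataM24_ok (by decide +kernel : Nat.Prime 23) ?_ ?_ hm.2.2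
    fun α => ?_).2 (by decide +kernel)
  · decide +kernel
  · decide +kernel
  obtain ⟨hA, hB, -, -, hA', hB', -⟩ := reps_ok
  have hiA : toP invA.1 ∈ cgM24.grp := grp_cgM24.symm ▸ toP_mem_M24 hA'
  have hiB : toP invB.1 ∈ cgM24.grp := grp_cgM24.symm ▸ toP_mem_M24 hB'
  obtain ⟨dd, hd⟩ := Option.isSome_iff_exists.mp hroot
  obtain ⟨en, hen, hen1, -⟩ := stFind_mem hd
  have hinA : cjEnc ⟨toP invA.1⟩ ∈ stVals autTreeM24A :=
    List.mem_map.mpr ⟨en, hen, hen1.trans (cjEnc_toP (valid_of_fvalid hA)).symm⟩
  set T : cgM24.grp := ⟨toP autTM24, hm.2.2⟩ with hT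
  -- the word of a representative
  have hconjA : ∀ g ∈ M24, cjEnc ⟨g * toP invA.1 * g⁻¹⟩ ∈ stVals autTreeM24A := fun g hg =>
    autDataM24.conj_mem cgM24_ok autDataM24_ok hst (grp_cgM24.symm ▸ hg) hinA
  have hTord : orderOf T = 2 := by
    refine (Subgroup.orderOf_coe T).symm.trans ?_
    show orderOf (toP autTM24) = 2
    refine orderOf_eq_prime ?_ fun e => ?_
    · rw [sq]
      exact (((rep_toP htv).mul (rep_toP htv)).eq_iff rep_one).mpr (by decide +kernel)
    · exact Bool.false_ne_true ((show FusionCert.same [autTM24] [] = false by decide +kernel).symm.trans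
        (((rep_toP htv).eq_iff rep_one).mp e))
  have hclass : ∀ u : cgM24.grp, orderOf u = 2 →
      (Nat.card (Subgroup.centralizer {u}) = size cgInvA.chain ∧ cjEnc ⟨(u : Equiv.Perm GolayPt)⟩ ∈ stVals autTreeM24A) ∨
      (Nat.card (Subgroup.centralizer {u}) = size cgInvB.chain ∧ fixCard (u : Equiv.Perm GolayPt) = 0) := by
    intro u hu
    obtain ⟨g, hg, ⟨e, -⟩ | ⟨e, h0⟩⟩ := involution_classes (grp_cgM24 ▸ u.2) ((Subgroup.orderOf_coe u).trans hu)
    · left
      refine ⟨?_, e ▸ hconjA g hg⟩
      have eu : u = MulAut.conj (⟨g, grp_cgM24.symm ▸ hg⟩ : cgM24.grp) ⟨_, hiA⟩ := Subtype.ext e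
      rw [eu, card_centralizer_map]
      exact card_centralizer_cg grp_cgM24 cgInvA_ok hiA fun c => centralizer_invA
    · right
      refine ⟨?_, h0⟩
      have eu : u = MulAut.conj (⟨g, grp_cgM24.symm ▸ hg⟩ : cgM24.grp) ⟨_, hiB⟩ := Subtype.ext e
      rw [eu, card_centralizer_map]
      exact card_centralizer_cg grp_cgM24 cgInvB_ok hiB fun c => centralizer_invB
  have hTA : Nat.card (Subgroup.centralizer {T}) = size cgInvA.chain := by
    rcases hclass T hTord with ⟨h, -⟩ | ⟨-, h0⟩
    · exact h
    · exact absurd ((fixCard_toP htv).symm.trans h0) (by decide +kernel)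
  rcases hclass (α T) ((MulEquiv.orderOf_eq α T).trans hTord) with ⟨-, h⟩ | ⟨h, -⟩
  · exact h
  · exact absurd ((hTA.symm.trans (card_centralizer_map (G := cgM24.grp) α T).symm).trans h) hne

end Cfsg.Lib.Golay
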