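import Cfsg.Agent.Golay.SubOrbits
import Cfsg.Agent.Golay.StabData
import Cfsg.Agent.Golay.SubTriTri

/-!
Check of the orbits of the stabiliser of `Tri` on the orbit of `Tri`.
-/

namespace Cfsg.Lib.Golay

open Cfsg.Lib.PermCert
open scoped Pointwise

theorem subsTriTri_ok : subOK setCoding.act cgTri.gens orbTri subsTriTri = true := by decide +kernel

theorem subsTriTri_sizes : subsTriTri.map (fun e => (stVals e.2).length) = [1, 63, 630, 1120, 210] := by decide +kernel

end Cfsg.Lib.Golay
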