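import Cfsg.Agent.Golay.StdObjects
import Cfsg.Agent.Golay.SubCheckTriTri
import Cfsg.Agent.Golay.SubCheckTriSext

/-!
Suborbits told apart by an invariant; the classes of triples and of sextets relative to a triple.
-/

namespace Cfsg.Lib.Golay

open Cfsg Cfsg.Lib.PermCert MulAction
open scoped Pointwise

variable {X Y : Type*} [MulAction (Equiv.Perm GolayPt) X] [MulAction (Equiv.Perm GolayPt) Y]
  {C : Coding X} {G K : CG} {x₀ : X} {orb : STree} {C' : Coding Y} {orb' : STree} {subs : List (ℕ × STree)}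
  {G' K' : CG} {y₀ : Y}

/-- An invariant taking different values on the certified suborbits tells them apart, at every object. -/
theorem StdObj.classes (h : StdObj C G K x₀ orb) (h' : StdObj C' G' K' y₀ orb')
    (hsub : subOK C'.act K.gens orb' subs = true) (f : X → Y → ℕ) (v : ℕ → ℕ)
    (hf : ∀ g ∈ M24, ∀ x z, f (g • x) (g • z) = f x z) (hfv : ∀ y, f x₀ y = v (C'.enc y))
    (hnd : (subs.map fun e => v e.1).Nodup) {x : X} (hx : x ∈ orbit M24 x₀) :
    (∀ e ∈ subs, {z | z ∈ orbit M24 y₀ ∧ f x z = v e.1}.ncard = (stVals e.2).length) ∧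
      ∀ z ∈ orbit M24 y₀, ∀ z' ∈ orbit M24 y₀, f x z = f x z' →
        ∃ k ∈ M24, k • x = x ∧ k • z = z' := by
  obtain ⟨h1, h2⟩ := h.suborbits h' hsub
  obtain ⟨g, hg⟩ := hx
  have hg' : (g : Equiv.Perm GolayPt) • x₀ = x := hg
  -- the value of the invariant on each suborbit
  have hval : ∀ e ∈ subs, ∀ z, C'.enc z ∈ stVals e.2 → f x₀ z = v e.1 := by
    intro e he z hz
    obtain ⟨y, -, hye, hiff, -⟩ := h1 e he
    obtain ⟨k, hk⟩ := (hiff z).mpr hz
    have hkx : ((k : M24) : Equiv.Perm GolayPt) • x₀ = x₀ := k.2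
    rw [← hye, ← hfv y, ← hf _ (k : M24).2 x₀ y, hkx]
    exact congrArg (f x₀) hk.symm
  have hsame : ∀ e ∈ subs, ∀ z ∈ orbit M24 y₀, f x₀ z = v e.1 → C'.enc z ∈ stVals e.2 := by
    intro e he z hz hfz
    obtain ⟨e', he', hze'⟩ := h2 z hz
    rwa [List.inj_on_of_nodup_map hnd he' he ((hval e' he' z hze').symm.trans hfz)] at hze'
  have hmove : ∀ z, z ∈ orbit M24 y₀ ↔ (g : Equiv.Perm GolayPt) • z ∈ orbit M24 y₀ := fun z =>
    ⟨fun hz => mem_orbit_of_mem_orbit g hz, fun hz => by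
      have := mem_orbit_of_mem_orbit g⁻¹ hz
      rwa [show g⁻¹ • (g : Equiv.Perm GolayPt) • z = z from inv_smul_smul g z] at this⟩
  refine ⟨fun e he => ?_, fun z hz z' hz' hff => ?_⟩
  · rw [← ncard_smul_congr (g : Equiv.Perm GolayPt) (q := fun z => z ∈ orbit M24 y₀ ∧ f x₀ z = v e.1)
      (q' := fun z => z ∈ orbit M24 y₀ ∧ f x z = v e.1)
      (fun z => by rw [← hg', hf _ g.2, ← hmove z])]
    obtain ⟨y, hy, -, hiff, hn⟩ := h1 e he
    rw [← hn]
    congr 1
    ext z
    constructor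
    · rintro ⟨hz, hfz⟩
      exact (hiff z).mpr (hsame e he z hz hfz)
    · intro hz
      refine ⟨?_, hval e he z ((hiff z).mp hz)⟩
      obtain ⟨k, hk⟩ := hz
      exact hk ▸ mem_orbit_of_mem_orbit (k : M24) hy
  · obtain ⟨w, rfl⟩ : ∃ w, (g : Equiv.Perm GolayPt) • w = z := ⟨(g : Equiv.Perm GolayPt)⁻¹ • z, smul_inv_smul _ _⟩
    obtain ⟨w', rfl⟩ : ∃ w', (g : Equiv.Perm GolayPt) • w' = z' := ⟨(g : Equiv.Perm GolayPt)⁻¹ • z', smul_inv_smul _ _⟩
    rw [← hmove] at hz hz'
    rw [← hg', hf _ g.2, hf _ g.2] at hff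
    obtain ⟨e, he, hwe⟩ := h2 w hz
    obtain ⟨y, -, -, hiff, -⟩ := h1 e he
    have hwe' := hsame e he w' hz' (hff ▸ hval e he w hwe)
    have h3 := (hiff w').mpr hwe'
    rw [← orbit_eq_iff.mpr ((hiff w).mpr hwe)] at h3
    obtain ⟨k, hk⟩ := h3
    have hkx : ((k : M24) : Equiv.Perm GolayPt) • x₀ = x₀ := k.2
    refine ⟨((g * k * g⁻¹ : M24) : Equiv.Perm GolayPt), (g * k * g⁻¹ : M24).2, ?_, ?_⟩
    · show ((g : Equiv.Perm GolayPt) * ((k : M24) : Equiv.Perm GolayPt) * (g : Equiv.Perm GolayPt)⁻¹) • x = x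
      rw [mul_smul, mul_smul, inv_smul_eq_iff.mpr hg'.symm, hkx, hg']
    · show ((g : Equiv.Perm GolayPt) * ((k : M24) : Equiv.Perm GolayPt) * (g : Equiv.Perm GolayPt)⁻¹) • _ = _
      rw [mul_smul, mul_smul, inv_smul_smul]
      exact congrArg _ hk

/-- Number of tetrads meeting a set. -/
def meetTetrads (Y : Finset GolayPt) (S : Finset (Finset GolayPt)) : ℕ := (S.filter fun t => (t ∩ Y).Nonempty).card

theorem meetTetrads_smul (g : Equiv.Perm GolayPt) (Y : Finset GolayPt) (S : Finset (Finset GolayPt)) :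
    meetTetrads (g • Y) (g • S) = meetTetrads Y S := by
  rw [meetTetrads, meetTetrads, ← Finset.card_smul_finset g (S.filter fun t => (t ∩ Y).Nonempty)]
  congr 1
  ext t
  simp only [Finset.mem_filter, Finset.mem_smul_finset]
  constructor
  · rintro ⟨⟨u, hu, rfl⟩, hne⟩
    rw [← Finset.smul_finset_inter, ← Finset.card_pos, Finset.card_smul_finset, Finset.card_pos] at hne
    exact ⟨u, ⟨hu, hne⟩, rfl⟩
  · rintro ⟨u, ⟨hu, hne⟩, rfl⟩
    exact ⟨⟨u, hu, rfl⟩, by rw [← Finset.smul_finset_inter, ← Finset.card_pos, Finset.card_smul_finset, Finset.card_pos]; exact hne⟩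

theorem meetTetrads_enc (S : Finset (Finset GolayPt)) :
    meetTetrads (pts codeTri) S = (decList (encFam S)).countP fun m => m &&& 7 != 0 := by
  rw [decList_encFam, List.countP_eq_length_filter,
    ← List.toFinset_card_of_nodup ((Finset.sort_nodup _ _).filter _), meetTetrads,
    ← Finset.card_image_of_injective (S.filter fun t => (t ∩ pts codeTri).Nonempty) mk_injective]
  congr 1
  have key : ∀ t : Finset GolayPt, (t ∩ pts codeTri).Nonempty ↔ mk t &&& 7 ≠ 0 := by
    intro t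
    constructor
    · rintro ⟨p, hp⟩ h0
      rw [Finset.mem_inter] at hp
      have h1 : (mk t).testBit (pidx p) = true := by rw [← mem_pts, pts_mk]; exact hp.1
      have h2 : Nat.testBit 7 (pidx p) = true := mem_pts.mp hp.2
      have := congrArg (fun m => Nat.testBit m (pidx p)) h0
      simp [Nat.testBit_and, h1, h2] at this
    · intro h0
      obtain ⟨i, hi⟩ := Nat.exists_testBit_of_ne_zero h0
      rw [Nat.testBit_and, Bool.and_eq_true] at hi
      have hlt : i < 24 := by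
        by_contra hge
        rw [Nat.testBit_lt_two_pow (lt_of_lt_of_le (by norm_num : (7 : ℕ) < 2 ^ 24)
          (Nat.pow_le_pow_right (by norm_num) (not_lt.mp hge)))] at hi
        exact absurd hi.2 (by decide)
      refine ⟨ptAt i, Finset.mem_inter.mpr ⟨?_, ?_⟩⟩
      · rw [← pts_mk t, mem_pts, pidx_ptAt ⟨i, hlt⟩]; exact hi.1
      · rw [mem_pts, pidx_ptAt ⟨i, hlt⟩]; exact hi.2
  ext m
  simp only [Finset.mem_image, Finset.mem_filter, List.mem_toFinset, List.mem_filter, Finset.mem_sort, bne_iff_ne,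
    key]
  exact ⟨fun ⟨t, ⟨ht, hne⟩, e⟩ => e ▸ ⟨⟨t, ht, rfl⟩, hne⟩, fun ⟨⟨t, ht, e⟩, hne⟩ => ⟨t, ⟨ht, e ▸ hne⟩, e⟩⟩

theorem s5616 (Y : Finset GolayPt) (hY : Y.card = 3) :
    {S : Finset (Finset GolayPt) | S ∈ sextets ∧ (S.filter fun t => (t ∩ Y).Nonempty).card = 1}.ncard = 21 ∧
    {S : Finset (Finset GolayPt) | S ∈ sextets ∧ (S.filter fun t => (t ∩ Y).Nonempty).card = 2}.ncard = 630 ∧
    {S : Finset (Finset GolayPt) | S ∈ sextets ∧ (S.filter fun t => (t ∩ Y).Nonempty).card = 3}.ncard = 1120 ∧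
    ∀ S S' : Finset (Finset GolayPt), S ∈ sextets → S' ∈ sextets →
      (S.filter fun t => (t ∩ Y).Nonempty).card = (S'.filter fun t => (t ∩ Y).Nonempty).card →
        ∃ g ∈ M24, g • Y = Y ∧ g • S = S' := by
  obtain ⟨hc, ht⟩ := stdTri.classes stdSext subsTriSext_ok meetTetrads
    (fun E => (decList E).countP fun m => m &&& 7 != 0) (fun g _ Y S => meetTetrads_smul g Y S) meetTetrads_enc
    (by decide +kernel) (x := Y) (triples_eq_orbit ▸ (hY : Y ∈ {s : Finset GolayPt | s.card = 3}))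
  rw [← sextets_eq_orbit] at hc ht
  have hget : ∀ k n : ℕ, (∃ e ∈ subsTriSext, (decList e.1).countP (fun m => m &&& 7 != 0) = k ∧ (stVals e.2).length = n) →
      {S : Finset (Finset GolayPt) | S ∈ sextets ∧ (S.filter fun t => (t ∩ Y).Nonempty).card = k}.ncard = n := by
    rintro k n ⟨e, he, rfl, rfl⟩
    exact hc e he
  have hk : (subsTriSext.map fun e => ((decList e.1).countP (fun m => m &&& 7 != 0), (stVals e.2).length))
      = [(1, 21), (2, 630), (3, 1120)] := by decide +kernel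
  have hex : ∀ k n : ℕ, (k, n) ∈ [(1, 21), (2, 630), (3, 1120)] →
      ∃ e ∈ subsTriSext, (decList e.1).countP (fun m => m &&& 7 != 0) = k ∧ (stVals e.2).length = n := fun k n h => by
    rw [← hk, List.mem_map] at h
    obtain ⟨e, he, h'⟩ := h
    exact ⟨e, he, congrArg Prod.fst h', congrArg Prod.snd h'⟩
  exact ⟨hget 1 21 (hex _ _ (by simp)), hget 2 630 (hex _ _ (by simp)), hget 3 1120 (hex _ _ (by simp)),
    fun S S' hS hS' h => ht S hS S' hS' h⟩

open Classical in
/-- Overlap with a triple and membership in a common octad. -/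
noncomputable def tripleClass (T U : Finset GolayPt) : ℕ :=
  2 * (T ∩ U).card + if ∃ o ∈ octads, T ∪ U ⊆ o then 1 else 0

theorem exists_octad_iff (s : Finset GolayPt) :
    (∃ o ∈ octads, s ⊆ o) ↔ (octMasks.any fun m => mk s &&& m == mk s) = true := by
  simp only [List.any_eq_true, beq_iff_eq]
  have hsub : ∀ o : Finset GolayPt, s ⊆ o ↔ mk s &&& mk o = mk s := fun o => by
    rw [← Finset.inter_eq_left]
    constructor
    · intro h
      refine eq_of_pts_eq (lt_of_le_of_lt Nat.and_le_left (mk_lt s)) (mk_lt s) ?_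
      rw [pts_mk, pts_land, pts_mk, pts_mk, h]
    · intro h
      have := congrArg pts h
      rwa [pts_mk, pts_land, pts_mk, pts_mk] at this
  constructor
  · rintro ⟨o, ho, h⟩
    exact ⟨mk o, mk_mem_octMasks.mpr ho, (hsub o).mp h⟩
  · rintro ⟨m, hm, h⟩
    have hm' : mk (pts m) = m := mk_pts (lt_of_inCode (mem_octMasks.mp hm).1)
    exact ⟨pts m, mk_mem_octMasks.mp (by rwa [hm']), (hsub _).mpr (by rwa [hm'])⟩

theorem tripleClass_smul {g : Equiv.Perm GolayPt} (hg : g ∈ M24) (T U : Finset GolayPt) :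
    tripleClass (g • T) (g • U) = tripleClass T U := by
  have hiff : (∃ o ∈ octads, g • T ∪ g • U ⊆ o) ↔ ∃ o ∈ octads, T ∪ U ⊆ o := by
    constructor
    · rintro ⟨o, ho, h⟩
      refine ⟨g⁻¹ • o, smul_mem_octads (inv_mem hg) ho, ?_⟩
      rw [show T ∪ U = g⁻¹ • (g • T ∪ g • U) by rw [← Finset.smul_finset_union, inv_smul_smul]]
      exact Finset.smul_finset_subset_smul_finset_iff.mpr h
    · rintro ⟨o, ho, h⟩
      refine ⟨g • o, smul_mem_octads hg ho, ?_⟩
      rw [← Finset.smul_finset_union]; exact Finset.smul_finset_subset_smul_finset_iff.mpr h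
  classical
  simp only [tripleClass, ← Finset.smul_finset_inter, Finset.card_smul_finset, hiff]

/-- The class, on masks. -/
def tripleClassN (E : ℕ) : ℕ :=
  2 * pc (7 &&& E) + if octMasks.any (fun m => (7 ||| E) &&& m == (7 ||| E)) then 1 else 0

theorem tripleClass_enc (U : Finset GolayPt) : tripleClass (pts codeTri) U = tripleClassN (setCoding.enc U) := by
  have hu : mk (pts codeTri ∪ U) = 7 ||| mk U := by
    refine eq_of_pts_eq (mk_lt _) (Nat.or_lt_two_pow (by norm_num) (mk_lt U)) ?_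
    rw [pts_mk, pts_lor, pts_mk]; rfl
  have hi : pc (7 &&& mk U) = (pts codeTri ∩ U).card := by rw [pc_eq_card, pts_land, pts_mk]; rfl
  classical
  show tripleClass (pts codeTri) U = tripleClassN (mk U)
  simp only [tripleClass, tripleClassN, exists_octad_iff, hu, hi]

theorem s1562 (T : Finset GolayPt) (hT : T.card = 3) :
    {U : Finset GolayPt | U.card = 3 ∧ Disjoint T U ∧ (∃ o ∈ octads, T ∪ U ⊆ o)}.ncard = 210 ∧
    {U : Finset GolayPt | U.card = 3 ∧ Disjoint T U ∧ ¬ (∃ o ∈ octads, T ∪ U ⊆ o)}.ncard = 1120 ∧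
    ∀ U U' : Finset GolayPt, U.card = 3 → U'.card = 3 → Disjoint T U → Disjoint T U' →
      ((∃ o ∈ octads, T ∪ U ⊆ o) ↔ (∃ o ∈ octads, T ∪ U' ⊆ o)) →
        ∃ g : Equiv.Perm GolayPt, g ∈ M24 ∧ g • T = T ∧ g • U = U' := by
  obtain ⟨hc, ht⟩ := stdTri.classes stdTri subsTriTri_ok tripleClass tripleClassN
    (fun _ hg T U => tripleClass_smul hg T U) tripleClass_enc (by decide +kernel) (x := T)
    (triples_eq_orbit ▸ (hT : T ∈ {s : Finset GolayPt | s.card = 3}))
  rw [← triples_eq_orbit] at hc ht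
  classical
  have hd : ∀ U : Finset GolayPt, Disjoint T U ↔ (T ∩ U).card = 0 := fun U => by
    rw [Finset.card_eq_zero, Finset.disjoint_iff_inter_eq_empty]
  have h1 : ∀ U : Finset GolayPt, tripleClass T U = 1 ↔ Disjoint T U ∧ ∃ o ∈ octads, T ∪ U ⊆ o := fun U => by
    rw [hd, tripleClass]; split <;> simp_all
  have h0 : ∀ U : Finset GolayPt, tripleClass T U = 0 ↔ Disjoint T U ∧ ¬ ∃ o ∈ octads, T ∪ U ⊆ o := fun U => by
    rw [hd, tripleClass]; split <;> simp_all
  have hk : ∀ k n : ℕ, (k, n) ∈ (subsTriTri.map fun e => (tripleClassN e.1, (stVals e.2).length)) →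
      {U : Finset GolayPt | U.card = 3 ∧ tripleClass T U = k}.ncard = n := fun k n h => by
    obtain ⟨e, he, h'⟩ := List.mem_map.mp h
    obtain ⟨rfl, rfl⟩ := Prod.mk.inj h'
    exact hc e he
  refine ⟨?_, ?_, fun U U' hU hU' hdU hdU' hiff => ht U hU U' hU' ?_⟩
  · simp only [← h1]; exact hk 1 210 (by decide +kernel)
  · simp only [← h0]; exact hk 0 1120 (by decide +kernel)
  · simp only [tripleClass, (hd U).mp hdU, (hd U').mp hdU', hiff]

end Cfsg.Lib.Golay
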