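import Cfsg.Agent.PermCert.Basic

/-!
Certificate for the uniqueness of the length-24 code.
-/

namespace Cfsg.Lib.Golay

open Cfsg.Lib.PermCert

/-- Steps of the uniqueness search: five points, the representative octad, the cells of the known words,
and the known combinations used to exclude candidates (selector, value). -/
def uniqSteps : List (ℕ × ℕ × List ℕ × List (ℕ × ℕ)) := [
  (31, 255, [16777215, 16777215, 16777215, 16777215, 16777215, 16777215, 16777215, 16777215, 16777215, 16777215, 16777215, 16777215, 16777215, 16777215, 16777215, 16777215, 16777215, 16777215, 16777215, 16777215, 16777215, 16777215, 16777215, 16777215], []),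
  (271, 3855, [255, 255, 255, 255, 255, 255, 255, 255, 16776960, 16776960, 16776960, 16776960, 16776960, 16776960, 16776960, 16776960, 16776960, 16776960, 16776960, 16776960, 16776960, 16776960, 16776960, 16776960], [(1, 255)]),
  (787, 13107, [15, 15, 15, 15, 240, 240, 240, 240, 3840, 3840, 3840, 3840, 16773120, 16773120, 16773120, 16773120, 16773120, 16773120, 16773120, 16773120, 16773120, 16773120, 16773120, 16773120], [(1, 255), (2, 3855)]),
  (4944, 119632, [3, 3, 12, 12, 48, 48, 192, 192, 768, 768, 3072, 3072, 12288, 12288, 16760832, 16760832, 16760832, 16760832, 16760832, 16760832, 16760832, 16760832, 16760832, 16760832], [(3, 4080), (4, 13107), (5, 13260)]),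
  (4321, 152033, [3, 3, 12, 12, 16, 32, 64, 128, 768, 768, 3072, 3072, 4096, 8192, 114688, 114688, 114688, 16646144, 16646144, 16646144, 16646144, 16646144, 16646144, 16646144], [(1, 255), (4, 13107), (7, 15555), (8, 119632)]),
  (98572, 365836, [1, 2, 12, 12, 16, 32, 64, 128, 256, 512, 3072, 3072, 4096, 8192, 16384, 98304, 98304, 131072, 16515072, 16515072, 16515072, 16515072, 16515072, 16515072], [(2, 3855), (25, 229966), (5, 13260), (13, 123036), (9, 119727)]),
  (266561, 831809, [1, 2, 12, 12, 16, 32, 64, 128, 256, 512, 1024, 2048, 4096, 8192, 16384, 98304, 98304, 131072, 262144, 16252928, 16252928, 16252928, 16252928, 16252928], [(4, 13107), (42, 280915), (7, 15555), (33, 366067), (57, 399170), (1, 255)]),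
  (430144, 1544288, [1, 2, 12, 12, 16, 32, 64, 128, 256, 512, 1024, 2048, 4096, 8192, 16384, 32768, 65536, 131072, 262144, 524288, 15728640, 15728640, 15728640, 15728640], [(8, 119632), (57, 399170), (54, 522449), (19, 155153), (3, 4080), (65, 831934)]),
  (135458, 7475490, [1, 2, 12, 12, 16, 32, 64, 128, 256, 512, 1024, 2048, 4096, 8192, 16384, 32768, 65536, 131072, 262144, 524288, 1048576, 14680064, 14680064, 14680064], [(4, 13107), (76, 872738), (136, 1458992), (160, 1181036), (11, 122016), (28, 242050)]),
  (43168, 43686, [1, 2, 12, 12, 16, 32, 64, 128, 256, 512, 1024, 2048, 4096, 8192, 16384, 32768, 65536, 131072, 262144, 524288, 1048576, 6291456, 6291456, 8388608], [(3, 4080), (219, 1616992), (38, 370992), (1, 255), (68, 819826), (4, 13107)]),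
  (14680584, 14683672, [1, 2, 4, 8, 16, 32, 64, 128, 256, 512, 1024, 2048, 4096, 8192, 16384, 32768, 65536, 131072, 262144, 524288, 1048576, 6291456, 6291456, 8388608], [(260, 7479825), (313, 7603808), (418, 6298433), (528, 195399), (9, 119727), (64, 831809), (1, 255), (2, 3855)]),
  (50244, 3261508, [1, 2, 4, 8, 16, 32, 64, 128, 256, 512, 1024, 2048, 4096, 8192, 16384, 32768, 65536, 131072, 262144, 524288, 1048576, 6291456, 6291456, 8388608], [(8, 119632), (519, 38501), (245, 1889792), (515, 42326), (585, 903240), (273, 7356476)])]

/-- The permutation to the standard code. -/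
def uniqPerm : PP := (11423393691081860289889237009510816778041806214173419631346488440643426786446281384842741788188237339075543105536, 5411225592839974153472382630775713345121397061511819997076675515269635699125081152368810312345415360038777716736)

/-- Selectors giving each standard row from the mapped words. -/
def uniqRowComb : List ℕ := [2572, 1809, 2085, 4006, 1934, 2716, 3530, 3380, 3391, 3112, 37, 174]

end Cfsg.Lib.Golay
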