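import Cfsg.Agent.Golay.Action
import Cfsg.Agent.Golay.UniqueData

/-!
Uniqueness of the length-24 code among self-orthogonal families closed under symmetric difference with
minimum size 8 in which every five points lie in a member of size 8.
-/

namespace Cfsg.Lib.Golay

open Cfsg Cfsg.Lib.PermCert
open scoped Pointwise

theorem even_card_symmDiff {α : Type*} [DecidableEq α] {A B : Finset α} (hA : Even A.card) (hB : Even B.card) :
    Even (symmDiff A B).card := by
  rw [symmDiff_def, Finset.sup_eq_union, Finset.card_union_of_disjoint disjoint_sdiff_sdiff]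
  have h1 := Finset.card_sdiff_add_card_inter A B
  have h2 := Finset.card_sdiff_add_card_inter B A
  rw [Finset.inter_comm] at h2
  obtain ⟨a, ha⟩ := hA; obtain ⟨b, hb⟩ := hB
  rw [Nat.even_iff]; omega

/-- A self-orthogonal family of subsets closed under symmetric differences with minimum size 8. -/
structure IsEvenFamily {α : Type*} [DecidableEq α] (S : Set (Finset α)) : Prop where
  empty_mem : ∅ ∈ S
  symm : ∀ s ∈ S, ∀ t ∈ S, symmDiff s t ∈ S
  min : ∀ s ∈ S, s ≠ ∅ → 8 ≤ s.card
  even : ∀ s ∈ S, ∀ t ∈ S, Even (s ∩ t).card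

/-- An abstract length-24 code, as a family of subsets. -/
structure IsGolayFamily (S : Set (Finset GolayPt)) : Prop extends IsEvenFamily S where
  five : ∀ F : Finset GolayPt, F.card = 5 → ∃ o ∈ S, F ⊆ o ∧ o.card = 8

/-- Sums of `2 ^ x` over the `k`-element sublists. -/
def combs : List ℕ → ℕ → List ℕ
  | _, 0 => [0]
  | [], _ + 1 => []
  | x :: l, k + 1 => (combs l k).map (2 ^ x + ·) ++ combs l (k + 1)

theorem mem_combs : ∀ {l : List ℕ} {s : Finset ℕ}, l.Nodup → s ⊆ l.toFinset →
    (∑ i ∈ s, 2 ^ i) ∈ combs l s.card := by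
  intro l
  induction l with
  | nil => intro s _ h; simp [Finset.subset_empty.mp (by simpa using h), combs]
  | cons x l ih =>
    intro s hnd h
    obtain ⟨hx, hl⟩ := List.nodup_cons.mp hnd
    by_cases hs : x ∈ s
    · have hc : s.card = (s.erase x).card + 1 := by rw [Finset.card_erase_add_one hs]
      have := ih (s := s.erase x) hl (fun y hy => by
        obtain ⟨hyx, hys⟩ := Finset.mem_erase.mp hy
        simpa [hyx] using h hys)
      rw [hc, combs]
      exact List.mem_append_left _ (List.mem_map.mpr ⟨_, this, Finset.add_sum_erase s (2 ^ ·) hs⟩)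
    · have := ih (s := s) hl (fun y hy => by
        have hyx : y ≠ x := fun e => hs (e ▸ hy)
        simpa [hyx] using h hy)
      cases hk : s.card with
      | zero => simp [Finset.card_eq_zero.mp hk, combs]
      | succ k => rw [combs]; exact List.mem_append_right _ (hk ▸ this)

/-- Xor of the words selected by the bits of `i`. -/
def sel : List ℕ → ℕ → ℕ
  | [], _ => 0
  | g :: l, i => (if i % 2 = 1 then g else 0) ^^^ sel l (i / 2)

/-- The cell of a point with respect to some masks. -/
def cell (gs : List ℕ) (p : ℕ) : ℕ :=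
  gs.foldr (fun g a => (if g.testBit p then g else 16777215 ^^^ g) &&& a) 16777215

/-- The test that excludes a candidate. -/
def compat (tests : List (ℕ × ℕ)) (o : ℕ) : Bool :=
  tests.all fun t => (pc (t.2 &&& o) % 2 == 0) && ((t.2 ^^^ o == 0) || decide (8 ≤ pc (t.2 ^^^ o)))

/-- One step of the search is valid. -/
def stepOK (ex gs : List ℕ) (F o : ℕ) (cms : List ℕ) (tests : List (ℕ × ℕ)) : Bool :=
  decide (F < 2 ^ 24) && decide (o < 2 ^ 24) && (pc F == 5) && ((List.range 24).map (cell (ex ++ gs)) == cms) &&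
  (ex.all fun u => F &&& u == u) &&
  tests.all (fun t => sel gs t.1 == t.2) &&
  (combs ((List.range 24).filter fun p => !F.testBit p) 3).all fun X =>
    !compat tests (F + X) || cms.all fun c => pc ((F + X) &&& c) == pc (o &&& c)

/-- All steps are valid; returns the accumulated words. -/
def stepsOK (ex : List ℕ) : List ℕ → List (ℕ × ℕ × List ℕ × List (ℕ × ℕ)) → Option (List ℕ)
  | gs, [] => some gs
  | gs, e :: r => if stepOK ex gs e.1 e.2.1 e.2.2.1 e.2.2.2 then stepsOK ex (gs ++ [e.2.1]) r else none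

theorem IsEvenFamily.smul {S : Set (Finset GolayPt)} (h : IsEvenFamily S) (σ : Equiv.Perm GolayPt) :
    IsEvenFamily (σ • S) := by
  refine ⟨⟨∅, h.empty_mem, Finset.smul_finset_empty σ⟩, ?_, ?_, ?_⟩
  · rintro _ ⟨s, hs, rfl⟩ _ ⟨t, ht, rfl⟩
    exact ⟨_, h.symm s hs t ht, Finset.smul_finset_symmDiff⟩
  · rintro _ ⟨s, hs, rfl⟩ hne
    simp only at hne ⊢
    rw [Finset.card_smul_finset]
    exact h.min s hs fun e => hne (by rw [e, Finset.smul_finset_empty])
  · rintro _ ⟨s, hs, rfl⟩ _ ⟨t, ht, rfl⟩
    simp only [← Finset.smul_finset_inter, Finset.card_smul_finset]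
    exact h.even s hs t ht

/-- Every five points containing the fixed sets lie in a member of size 8. -/
def FiveOver (ex : List ℕ) (S : Set (Finset GolayPt)) : Prop :=
  ∀ F : Finset GolayPt, F.card = 5 → (∀ u ∈ ex, pts u ⊆ F) → ∃ o ∈ S, F ⊆ o ∧ o.card = 8

theorem FiveOver.smul {ex : List ℕ} {S : Set (Finset GolayPt)} (h : FiveOver ex S)
    {σ : Equiv.Perm GolayPt} (hσ : ∀ u ∈ ex, σ • pts u = pts u) : FiveOver ex (σ • S) := by
  intro F hF hex
  obtain ⟨o, ho, hsub, h8⟩ := h (σ⁻¹ • F) (by rw [Finset.card_smul_finset, hF]) fun u hu => by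
    rw [← inv_smul_smul σ (pts u), hσ u hu]
    exact Finset.smul_finset_subset_smul_finset (hex u hu)
  refine ⟨σ • o, Set.smul_mem_smul_set ho, ?_, by rw [Finset.card_smul_finset, h8]⟩
  exact Finset.subset_smul_finset_iff.mpr hsub

theorem IsGolayFamily.smul {S : Set (Finset GolayPt)} (h : IsGolayFamily S) (σ : Equiv.Perm GolayPt) :
    IsGolayFamily (σ • S) :=
  ⟨h.toIsEvenFamily.smul σ, fun F hF =>
    FiveOver.smul (ex := []) (fun F hF _ => h.five F hF) (by simp) F hF (by simp)⟩

theorem pts_xor_eq (a b : ℕ) : pts (a ^^^ b) = symmDiff (pts a) (pts b) := by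
  ext p
  simp only [mem_pts, Finset.mem_symmDiff, Nat.testBit_xor]
  cases a.testBit (pidx p) <;> cases b.testBit (pidx p) <;> simp

theorem pts_and (a b : ℕ) : pts (a &&& b) = pts a ∩ pts b := by
  ext p; simp [Nat.testBit_and]

@[simp] theorem pts_zero : pts 0 = ∅ := by ext p; simp

theorem pts_sel_mem {S : Set (Finset GolayPt)} (h : IsEvenFamily S) :
    ∀ (gs : List ℕ) (i : ℕ), (∀ g ∈ gs, pts g ∈ S) → pts (sel gs i) ∈ S := by
  intro gs
  induction gs with
  | nil => intro i _; simpa [sel] using h.empty_mem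
  | cons g l ih =>
    intro i hg
    simp only [sel]
    rw [pts_xor_eq]
    refine h.symm _ ?_ _ (ih _ fun x hx => hg x (by simp [hx]))
    split
    · exact hg g (by simp)
    · simpa using h.empty_mem

theorem compat_of_mem {S : Set (Finset GolayPt)} (h : IsEvenFamily S) {gs : List ℕ}
    (hg : ∀ g ∈ gs, pts g ∈ S) {tests : List (ℕ × ℕ)} (ht : ∀ t ∈ tests, sel gs t.1 = t.2)
    (hgs : ∀ g ∈ gs, g < 2 ^ 24) {o : ℕ} (ho : pts o ∈ S) (holt : o < 2 ^ 24) : compat tests o = true := by
  simp only [compat, List.all_eq_true, Bool.and_eq_true, Bool.or_eq_true, beq_iff_eq, decide_eq_true_eq,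
    pc_eq_card]
  intro t htm
  have hsel : pts t.2 ∈ S := ht t htm ▸ pts_sel_mem h gs t.1 hg
  have hlt : t.2 < 2 ^ 24 := by
    rw [← ht t htm]
    generalize t.1 = i
    clear ht hg htm hsel
    induction gs generalizing i with
    | nil => simp [sel]
    | cons g l ih =>
      simp only [sel]
      exact Nat.xor_lt_two_pow (by split; exacts [hgs g (by simp), by norm_num])
        (ih (fun x hx => hgs x (by simp [hx])) _)
  refine ⟨?_, ?_⟩
  · rw [pts_and]; exact Nat.even_iff.mp (h.even _ hsel _ ho)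
  · by_cases he : pts (t.2 ^^^ o) = ∅
    · left; exact eq_of_pts_eq (Nat.xor_lt_two_pow hlt holt) (by norm_num) (by rw [he, pts_zero])
    · right; exact h.min _ (pts_xor_eq t.2 o ▸ h.symm _ hsel _ ho) he

theorem testBit_cell (gs : List ℕ) (p q : GolayPt) :
    (cell gs (pidx p)).testBit (pidx q) = true ↔ ∀ g ∈ gs, g.testBit (pidx q) = g.testBit (pidx p) := by
  induction gs with
  | nil =>
    have := pidx_lt q
    simp only [cell, List.foldr_nil]
    rw [show (16777215 : ℕ) = 2 ^ 24 - 1 from rfl, Nat.testBit_two_pow_sub_one]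
    simp [this]
  | cons g l ih =>
    have hq := pidx_lt q
    have ht : (16777215 : ℕ).testBit (pidx q) = true := by
      rw [show (16777215 : ℕ) = 2 ^ 24 - 1 from rfl, Nat.testBit_two_pow_sub_one]; exact decide_eq_true hq
    simp only [cell, List.foldr_cons, Nat.testBit_and, Bool.and_eq_true, List.forall_mem_cons] at ih ⊢
    rw [ih]
    refine and_congr_left fun _ => ?_
    split <;> rename_i hp
    · simp [hp]
    · rw [Nat.testBit_xor, ht]; simp [hp]

theorem exists_perm_of_counts {gs : List ℕ} {c o : ℕ}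
    (h : ∀ p : GolayPt, (pts (c &&& cell gs (pidx p))).card = (pts (o &&& cell gs (pidx p))).card) :
    ∃ σ : Equiv.Perm GolayPt, (∀ g ∈ gs, σ • pts g = pts g) ∧ σ • pts c = pts o := by
  classical
  let key : ℕ → GolayPt → (Fin gs.length → Bool) × Bool := fun x p =>
    (fun i => (gs[i]).testBit (pidx p), x.testBit (pidx p))
  have hfib : ∀ v, Fintype.card {p // key c p = v} = Fintype.card {p // key o p = v} := by
    rintro ⟨v, b⟩
    simp only [Fintype.card_subtype]
    by_cases hex : ∃ p : GolayPt, (fun i : Fin gs.length => (gs[i]).testBit (pidx p)) = v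
    · obtain ⟨p, rfl⟩ := hex
      have hmem : ∀ x q, key x q = ((fun i : Fin gs.length => (gs[i]).testBit (pidx p)), b) ↔
          q ∈ pts (cell gs (pidx p)) ∧ x.testBit (pidx q) = b := by
        intro x q
        simp only [key, Prod.mk.injEq, mem_pts, testBit_cell, funext_iff]
        refine and_congr_left fun _ => ⟨fun h g hg => ?_, fun h i => h _ (List.getElem_mem i.2)⟩
        obtain ⟨i, hi, rfl⟩ := List.getElem_of_mem hg
        exact h ⟨i, hi⟩
      have key2 : ∀ x, (Finset.univ.filter fun q => key x q = ((fun i : Fin gs.length => (gs[i]).testBit (pidx p)), b))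
          = if b then pts (x &&& cell gs (pidx p)) else pts (cell gs (pidx p)) \ pts (x &&& cell gs (pidx p)) := by
        intro x
        ext q
        simp only [Finset.mem_filter, Finset.mem_univ, true_and, hmem]
        cases b <;> simp [Nat.testBit_and] <;> (cases x.testBit (pidx q) <;> simp_all)
      rw [key2, key2]
      cases b
      · simp only [Bool.false_eq_true, if_false]
        rw [Finset.card_sdiff_of_subset (by rw [pts_and]; exact Finset.inter_subset_right),
          Finset.card_sdiff_of_subset (by rw [pts_and]; exact Finset.inter_subset_right), h p]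
      · simp only [if_true]; exact h p
    · have e : ∀ x, (Finset.univ.filter fun q => key x q = (v, b)) = ∅ := fun x =>
        Finset.filter_eq_empty_iff.mpr fun q _ hq => hex ⟨q, congrArg Prod.fst hq⟩
      rw [e, e]
  let σ : Equiv.Perm GolayPt := Equiv.ofFiberEquiv (f := key c) (g := key o)
    (fun v => Fintype.equivOfCardEq (hfib v))
  have hσ : ∀ p, key o (σ p) = key c p := fun p => Equiv.ofFiberEquiv_map _ p
  refine ⟨σ, fun g hg => ?_, ?_⟩
  · obtain ⟨i, hi, rfl⟩ := List.getElem_of_mem hg
    ext q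
    obtain ⟨p, rfl⟩ := σ.surjective q
    rw [show σ p = σ • p from rfl, Finset.smul_mem_smul_finset_iff, mem_pts, mem_pts, Equiv.Perm.smul_def]
    have h1 : (gs[i]).testBit (pidx (σ p)) = (gs[i]).testBit (pidx p) :=
      congrFun (congrArg Prod.fst (hσ p)) ⟨i, hi⟩
    rw [h1]
  · ext q
    obtain ⟨p, rfl⟩ := σ.surjective q
    rw [show σ p = σ • p from rfl, Finset.smul_mem_smul_finset_iff, mem_pts, mem_pts, Equiv.Perm.smul_def]
    have h1 : o.testBit (pidx (σ p)) = c.testBit (pidx p) := congrArg Prod.snd (hσ p)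
    rw [h1]

theorem step_sound {S : Set (Finset GolayPt)} (h : IsEvenFamily S) {ex gs : List ℕ} (hfive : FiveOver ex S)
    (hg : ∀ g ∈ gs, g < 2 ^ 24 ∧ pts g ∈ S) {F o : ℕ} {cms : List ℕ} {tests : List (ℕ × ℕ)}
    (hs : stepOK ex gs F o cms tests = true) :
    ∃ σ : Equiv.Perm GolayPt, o < 2 ^ 24 ∧ (∀ u ∈ ex, σ • pts u = pts u) ∧ ∀ g ∈ gs ++ [o], g < 2 ^ 24 ∧ pts g ∈ σ • S := by
  simp only [stepOK, Bool.and_eq_true, decide_eq_true_eq, beq_iff_eq, List.all_eq_true, Bool.or_eq_true,
    Bool.not_eq_true'] at hs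
  obtain ⟨⟨⟨⟨⟨⟨hF, ho⟩, h5⟩, hcms⟩, hex⟩, htests⟩, hall⟩ := hs
  rw [pc_eq_card] at h5
  obtain ⟨c, hc, hsub, h8⟩ := hfive (pts F) h5 fun u hu => by
    rw [← hex u hu, pts_and]; exact Finset.inter_subset_left
  let X := ((c \ pts F).image pidx)
  have hX3 : X.card = 3 := by
    rw [Finset.card_image_of_injective _ pidx_injective, Finset.card_sdiff_of_subset hsub, h5, h8]
  have hXmem : (∑ i ∈ X, 2 ^ i) ∈ combs ((List.range 24).filter fun p => !F.testBit p) 3 := by
    rw [← hX3]
    refine mem_combs (List.nodup_range.filter _) fun i hi => ?_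
    obtain ⟨p, hp, rfl⟩ := Finset.mem_image.mp hi
    simp [pidx_lt p, (Finset.mem_sdiff.mp hp).2 |> fun hnp => by simpa using hnp]
  have hsum : F + ∑ i ∈ X, 2 ^ i = mk c := by
    have hFm : F = ∑ i ∈ (pts F).image pidx, 2 ^ i := (mk_pts hF).symm
    conv_lhs => rw [hFm]
    rw [mk, ← Finset.sum_union]
    · rw [← Finset.image_union, Finset.union_sdiff_of_subset hsub]
    · rw [Finset.disjoint_image pidx_injective]; exact Finset.disjoint_sdiff
  have hcompat : compat tests (mk c) = true :=
    compat_of_mem h (fun g hgm => (hg g hgm).2) htests (fun g hgm => (hg g hgm).1) (by rwa [pts_mk]) (mk_lt c)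
  have hcount := hall _ hXmem
  rw [hsum, hcompat] at hcount
  simp only [Bool.true_eq_false, false_or] at hcount
  obtain ⟨σ, hσ1, hσ2⟩ := exists_perm_of_counts (gs := ex ++ gs) (c := mk c) (o := o) fun p => by
    rw [← pc_eq_card, ← pc_eq_card]
    exact hcount _ (hcms ▸ List.mem_map.mpr ⟨pidx p, List.mem_range.mpr (pidx_lt p), rfl⟩)
  refine ⟨σ, ho, fun u hu => hσ1 u (List.mem_append_left _ hu), fun g hgm => ?_⟩
  rcases List.mem_append.mp hgm with hgm | hgm
  · exact ⟨(hg g hgm).1, hσ1 g (List.mem_append_right _ hgm) ▸ Set.smul_mem_smul_set (hg g hgm).2⟩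
  · rw [List.mem_singleton.mp hgm]
    rw [pts_mk] at hσ2
    exact ⟨ho, hσ2 ▸ Set.smul_mem_smul_set hc⟩

theorem steps_sound {ex : List ℕ} : ∀ (r : List (ℕ × ℕ × List ℕ × List (ℕ × ℕ))) (gs out : List ℕ),
    stepsOK ex gs r = some out → ∀ {S : Set (Finset GolayPt)}, IsEvenFamily S → FiveOver ex S →
    (∀ g ∈ gs, g < 2 ^ 24 ∧ pts g ∈ S) →
    ∃ σ : Equiv.Perm GolayPt, (∀ u ∈ ex, σ • pts u = pts u) ∧ ∀ g ∈ out, g < 2 ^ 24 ∧ pts g ∈ σ • S := by
  intro r
  induction r with
  | nil =>
    intro gs out h S _ _ hg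
    have h' : some gs = some out := h
    exact ⟨1, fun u _ => one_smul _ _, by rw [one_smul]; exact Option.some.inj h' ▸ hg⟩
  | cons e r ih =>
    intro gs out h S hS hfive hg
    simp only [stepsOK, Option.ite_none_right_eq_some] at h
    obtain ⟨σ, -, hσe, hσ⟩ := step_sound hS hfive hg h.1
    obtain ⟨τ, hτe, hτ⟩ := ih _ _ h.2 (hS.smul σ) (hfive.smul hσe) hσ
    exact ⟨τ * σ, fun u hu => by rw [mul_smul, hσe u hu, hτe u hu], by rw [mul_smul]; exact hτ⟩

theorem uniq_check : (match stepsOK [] [] uniqSteps with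
    | some out => valid 24 uniqPerm &&
        (uniqRowComb.map (fun i => sel (out.map (img uniqPerm)) i) == rows)
    | none => false) = true := by decide +kernel

theorem orth_systematic : ((List.range 4096).all fun h =>
    (h == 0) || !(rows.all fun r => pc (r &&& (h <<< 12)) % 2 == 0)) = true := by decide +kernel

/-- A set meeting all rows evenly is a codeword support. -/
theorem mem_supports_of_orth {s : Finset GolayPt} (h : ∀ r ∈ rows, Even (pts r ∩ s).card) :
    s ∈ supports (golayCode : Set (GolayPt → ZMod 2)) := by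
  rw [mem_supports_iff]
  set m := mk s with hm
  have hmod : (m ^^^ enc (m % 4096)) % 2 ^ 12 = 0 := by
    rw [Nat.xor_mod_two_pow, show (2 : ℕ) ^ 12 = 4096 from rfl, (enc_systematic _).1, Nat.mod_mod, Nat.xor_self]
  have hlt : m ^^^ enc (m % 4096) < 2 ^ 24 := Nat.xor_lt_two_pow (mk_lt s) (enc_systematic _).2
  have hh : (m ^^^ enc (m % 4096)) >>> 12 < 4096 := by
    rw [Nat.shiftRight_eq_div_pow]
    apply Nat.div_lt_of_lt_mul
    omega
  have := List.all_eq_true.mp orth_systematic _ (List.mem_range.mpr hh)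
  have heq : ((m ^^^ enc (m % 4096)) >>> 12) <<< 12 = m ^^^ enc (m % 4096) := by
    rw [Nat.shiftRight_eq_div_pow, Nat.shiftLeft_eq]
    exact Nat.div_mul_cancel (Nat.dvd_of_mod_eq_zero hmod)
  simp only [Bool.or_eq_true, beq_iff_eq, Bool.not_eq_true', heq] at this
  rcases this with h0 | h0
  · have : m ^^^ enc (m % 4096) = 0 := by rw [← heq, h0]; rfl
    simp only [inCode, beq_iff_eq]
    have h2 := congrArg (· ^^^ enc (m % 4096)) this
    simp only [Nat.xor_assoc, Nat.xor_self, Nat.xor_zero, Nat.zero_xor] at h2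
    exact h2.symm
  · exfalso
    rw [Bool.eq_false_iff] at h0
    apply h0
    rw [List.all_eq_true]
    intro r hr
    rw [beq_iff_eq, pc_eq_card, pts_and, pts_xor_eq,
      show pts r ∩ symmDiff (pts m) (pts (enc (m % 4096)))
        = symmDiff (pts r ∩ pts m) (pts r ∩ pts (enc (m % 4096))) from inf_symmDiff_distrib_left _ _ _]
    refine Nat.even_iff.mp (even_card_symmDiff (by rw [hm, pts_mk]; exact h r hr) ?_)
    have hc := enc_mem (m % 4096)
    have hr2 : wd r ∈ golayCode := by
      rw [golayCode_eq_span_rows]; exact Submodule.subset_span ⟨r, hr, rfl⟩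
    have := golayCode_orthogonal hr2 hc
    rw [sum_wd_mul, pc_eq_card, pts_and] at this
    exact (ZMod.natCast_eq_zero_iff_even).mp this

/-- Uniqueness of the code. -/
theorem golay_unique {S : Set (Finset GolayPt)} (h : IsGolayFamily S) :
    ∃ σ : Equiv.Perm GolayPt, σ • S = supports (golayCode : Set (GolayPt → ZMod 2)) := by
  have hc := uniq_check
  split at hc
  · next out hout =>
    simp only [Bool.and_eq_true, beq_iff_eq] at hc
    obtain ⟨hv, hrows⟩ := hc
    obtain ⟨σ, -, hσ⟩ := steps_sound _ _ _ hout h.toIsEvenFamily (fun F hF _ => h.five F hF) (by simp)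
    refine ⟨toP uniqPerm * σ, ?_⟩
    have hT : IsGolayFamily (toP uniqPerm • σ • S) := (h.smul σ).smul _
    have hrow : ∀ r ∈ rows, pts r ∈ toP uniqPerm • σ • S := by
      intro r hr
      rw [← hrows] at hr
      obtain ⟨i, -, rfl⟩ := List.mem_map.mp hr
      refine pts_sel_mem hT.toIsEvenFamily _ _ fun g hg => ?_
      obtain ⟨g', hg', rfl⟩ := List.mem_map.mp hg
      rw [pts_img hv]
      exact Set.smul_mem_smul_set (hσ g' hg').2
    rw [mul_smul]
    apply Set.Subset.antisymm
    · exact fun s hs => mem_supports_of_orth fun r hr => hT.even _ (hrow r hr) _ hs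
    · intro s hs
      rw [mem_supports_iff] at hs
      simp only [inCode, beq_iff_eq] at hs
      rw [← pts_mk s, ← hs]
      unfold enc
      induction List.range 12 with
      | nil => simpa using hT.empty_mem
      | cons k l ih =>
        simp only [List.foldr_cons]
        split
        · rw [pts_xor_eq]
          refine hT.symm _ ?_ _ ih
          by_cases hk : k < rows.length
          · rw [List.getD_eq_getElem _ _ hk]; exact hrow _ (List.getElem_mem hk)
          · rw [List.getD_eq_default _ _ (by omega)]; simpa using hT.empty_mem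
        · exact ih
  · simp at hc

end Cfsg.Lib.Golay
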