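import Cfsg.Agent.Golay.Modules
import Cfsg.Agent.Golay.Subgroups
import Cfsg.Agent.Golay.Unique
import Cfsg.Prelude.Def_Spor_Mathieu

/-!
A non-split extension of M23 by the dual of the code words vanishing at the extra point.

On those code words there is a cocycle, linear in the second variable, whose polar in the first variable is the triple
intersection number. Pairs of a permutation and a function with the prescribed polar form the extension.
-/

set_option autoImplicit false

namespace Cfsg.Lib.Golay.CocodeExt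

open Cfsg Cfsg.Lib.PermCert Cfsg.Lib.Golay.Modules

set_option maxHeartbeats 400000

/-- The basis masks. -/
def bList : List ℕ := [4845570, 1302533, 7221256, 6053905, 7417889, 2854977, 2019456, 4038912, 8077824, 7767041, 2422785]

/-- The triple intersections, as rows of bits. -/
def tTab : List (List ℕ) :=
  [[0, 1668, 538, 804, 580, 712, 1584, 546, 1544, 1534, 834], [1668, 0, 2041, 1076, 204, 524, 788, 21, 1092, 101, 269], [538, 2041, 0, 163, 1091, 330, 50, 1034, 1570, 259, 402], [804, 1076, 163, 0, 610, 2007, 432, 100, 1121, 49, 290], [580, 204, 1091, 610, 0, 1096, 1967, 322, 1728, 329, 356], [712, 524, 330, 2007, 1096, 0, 29, 265, 1164, 1035, 792], [1584, 788, 50, 432, 1967, 29, 0, 536, 1050, 147, 273], [546, 21, 1034, 100, 322, 265, 536, 0, 1072, 1089, 772], [1544, 1092, 1570, 1121, 1728, 1164, 1050, 1072, 0, 1045, 767], [1534, 101, 259, 49, 329, 1035, 147, 1089, 1045, 0, 417], [834, 269, 402, 290, 356, 792, 273, 772, 767, 417, 0]]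

/-- The pair intersections, as rows of bits. -/
def lTab : List ℕ := [512, 4, 0, 32, 64, 0, 0, 0, 1024, 0, 0]

/-- The first element of the witness. -/
def wA : PP := (13828310470256638895114687868096823771146927152839719986973229774062593195640656389323069030078600862366527717381, 13828255426289867949320623739209358766364535624532242787666865083860476603776399623964395553969346425296244506631)

/-- The second element of the witness. -/
def wB : PP := (13828365513243549284232981599215057340761185140329523072745222165395720338307987968707084679959428005323312529416, 13828365513243549284232981599215057340761185140329523072745222165395720338307987968707084679959428005323312529416)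

/-- Coordinates on the code words vanishing at the extra point. -/
abbrev V : Type := Fin 11 → ZMod 2

/-- A basis mask. -/
def bm (i : Fin 11) : ℕ := bList.getD i.val 0

/-- A basis vector. -/
def e (i : Fin 11) : V := Pi.single i 1

/-- The pivot of a coordinate. -/
def piv (r : Fin 11) : GolayPt := ptAt (r.val + 1)

/-- The word of a vector. -/
def emb : V →+ (GolayPt → ZMod 2) where
  toFun x p := ∑ i, x i * wd (bm i) p
  map_zero' := by funext p; simp
  map_add' x y := by funext p; simp [add_mul, Finset.sum_add_distrib]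

/-- The coordinates of a word. -/
def proj : (GolayPt → ZMod 2) →+ V where
  toFun w r := w (piv r)
  map_zero' := rfl
  map_add' _ _ := rfl

theorem piv_ok : ∀ i r : Fin 11, wd (bm i) (piv r) = if i = r then 1 else 0 := by decide +kernel

theorem bm_ok : (bList.all fun m => inCode m && !m.testBit 23) = true ∧ bList.length = 11 := by decide +kernel

theorem emb_e (i : Fin 11) : emb (e i) = wd (bm i) := by
  funext p
  show ∑ j, e i j * wd (bm j) p = _
  rw [Finset.sum_eq_single i (fun j _ h => by simp [e, Pi.single_eq_of_ne h]) (by simp)]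
  simp [e]

theorem proj_emb (x : V) : proj (emb x) = x := by
  funext r
  show ∑ i, x i * wd (bm i) (piv r) = _
  rw [Finset.sum_eq_single r (fun i _ h => by rw [piv_ok, if_neg h, mul_zero]) (by simp), piv_ok, if_pos rfl, mul_one]

theorem bm_mem (i : Fin 11) : wd (bm i) ∈ golayCode ∧ wd (bm i) none = 0 := by
  have hi : i.val < bList.length := by rw [bm_ok.2]; exact i.isLt
  have hm : bm i ∈ bList := by rw [bm, List.getD_eq_getElem _ _ hi]; exact List.getElem_mem hi
  have := List.all_eq_true.1 bm_ok.1 _ hm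
  rw [Bool.and_eq_true, Bool.not_eq_true'] at this
  exact ⟨(wd_mem_iff (lt_of_inCode this.1)).2 this.1, by simp [wd, pidx, this.2]⟩

theorem bool_eq (a : ZMod 2) : a = 0 ∨ a = 1 := by revert a; decide

theorem emb_mem (x : V) : emb x ∈ golayCode ∧ emb x none = 0 := by
  constructor
  · have : emb x = ∑ i, x i • wd (bm i) := by
      funext p
      simp only [Finset.sum_apply, Pi.smul_apply, smul_eq_mul]
      rfl
    rw [this]
    exact Submodule.sum_mem _ fun i _ => Submodule.smul_mem _ _ (bm_mem i).1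
  · show ∑ i, x i * wd (bm i) none = 0
    exact Finset.sum_eq_zero fun i _ => by rw [(bm_mem i).2, mul_zero]

theorem small_words : (enc 0).testBit 23 = false ∧ enc 0 = 0 ∧ (enc 1).testBit 23 = true := by decide +kernel

/-- A code word vanishing at the extra point is determined by its coordinates. -/
theorem emb_proj {w : GolayPt → ZMod 2} (hw : w ∈ golayCode) (h0 : w none = 0) : emb (proj w) = w := by
  rw [← sub_eq_zero]
  set u := emb (proj w) - w with hu
  have hmem : u ∈ golayCode := Submodule.sub_mem _ (emb_mem _).1 hw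
  have hn : u none = 0 := by rw [hu, Pi.sub_apply, (emb_mem _).2, h0, sub_zero]
  have hp : ∀ r, u (piv r) = 0 := fun r => by
    have := congrFun (proj_emb (proj w)) r
    rw [hu, Pi.sub_apply]
    exact sub_eq_zero.2 this
  set m := mk (support₂ u) with hm
  have hu' : u = wd m := (wd_mk_support₂ u).symm
  have hin := (mem_golayCode_iff u).1 hmem
  rw [← hm] at hin
  have hbits : ∀ k, 1 ≤ k → k < 12 → m.testBit k = false := fun k h1 h2 => by
    have hx := hp ⟨k - 1, by omega⟩
    rw [hu', piv, show k - 1 + 1 = k by omega] at hx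
    simp only [wd, show pidx (ptAt k) = k from pidx_ptAt ⟨k, by omega⟩] at hx
    cases hb : m.testBit k
    · rfl
    · simp [hb] at hx
  have hsmall : m % 4096 < 2 := by
    rw [show (2 : ℕ) = 2 ^ 1 from rfl]
    refine Nat.lt_pow_two_of_testBit _ fun k hk => ?_
    rw [show (4096 : ℕ) = 2 ^ 12 from rfl, Nat.testBit_mod_two_pow]
    by_cases h : k < 12
    · simp [hbits k hk h]
    · simp [h]
  simp only [inCode, beq_iff_eq] at hin
  rw [hu', ← hin]
  have hn' : m.testBit 23 = false := by
    rw [hu'] at hn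
    simp only [wd, pidx] at hn
    cases hb : m.testBit 23
    · rfl
    · simp [hb] at hn
  interval_cases h : m % 4096
  · rw [small_words.2.1, wd_zero]
  · rw [← hin, small_words.2.2] at hn'
    exact Bool.noConfusion hn'

theorem exists_e (x : V) : x = ∑ i, if x i = 1 then e i else 0 := by
  funext r
  rw [Finset.sum_apply, Finset.sum_eq_single r (fun i _ h => by split <;> simp [e, Pi.single_eq_of_ne (Ne.symm h)])
    (by simp)]
  rcases bool_eq (x r) with h | h <;> simp [h, e]

theorem add_expand (f : V →+ ZMod 2) (x : V) : f x = ∑ i, x i * f (e i) := by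
  conv_lhs => rw [exists_e x]
  rw [map_sum]
  refine Finset.sum_congr rfl fun i _ => ?_
  rcases bool_eq (x i) with h | h <;> simp [h]

/-- A map additive in both variables is given by its values on the basis. -/
theorem bil_expand (B : V → V → ZMod 2) (h1 : ∀ x x' y, B (x + x') y = B x y + B x' y)
    (h2 : ∀ x y y', B x (y + y') = B x y + B x y') (x y : V) :
    B x y = ∑ i, ∑ j, x i * y j * B (e i) (e j) := by
  refine (add_expand (AddMonoidHom.mk' (fun x => B x y) fun a b => h1 a b y) x).trans ?_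
  refine Finset.sum_congr rfl fun i _ => ?_
  show x i * B (e i) y = _
  rw [show B (e i) y = _ from add_expand (AddMonoidHom.mk' (B (e i)) (h2 (e i))) y, Finset.mul_sum]
  exact Finset.sum_congr rfl fun j _ => (mul_assoc _ _ _).symm

/-- The sum over the pairs in order. -/
def upper (D : Fin 11 → Fin 11 → ZMod 2) (x : V) : ZMod 2 := ∑ i, ∑ j, if i < j then x i * x j * D i j else 0

theorem upper_add (D : Fin 11 → Fin 11 → ZMod 2) (hd : ∀ i, D i i = 0) (hs : ∀ i j, D i j = D j i) (x y : V) :
    upper D (x + y) = upper D x + upper D y + ∑ i, ∑ j, x i * y j * D i j := by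
  have hswap : ∑ i, ∑ j, (if i < j then y i * x j * D i j else 0) =
      ∑ i, ∑ j, if j < i then x i * y j * D i j else 0 := by
    rw [Finset.sum_comm]
    refine Finset.sum_congr rfl fun i _ => Finset.sum_congr rfl fun j _ => ?_
    rw [hs j i, mul_comm (y j)]
  have hsplit : ∑ i, ∑ j, x i * y j * D i j =
      ∑ i, ∑ j, (if i < j then x i * y j * D i j else 0) + ∑ i, ∑ j, if j < i then x i * y j * D i j else 0 := by
    rw [← Finset.sum_add_distrib]
    refine Finset.sum_congr rfl fun i _ => ?_
    rw [← Finset.sum_add_distrib]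
    refine Finset.sum_congr rfl fun j _ => ?_
    rcases lt_trichotomy i j with h | rfl | h
    · simp [h, not_lt.2 h.le]
    · simp [hd]
    · simp [h, not_lt.2 h.le]
  rw [hsplit, ← hswap]
  simp only [upper, ← Finset.sum_add_distrib]
  refine Finset.sum_congr rfl fun i _ => Finset.sum_congr rfl fun j _ => ?_
  by_cases h : i < j
  · simp only [h, if_true, Pi.add_apply]
    ring
  · simp [h]

/-- The number of common points of three words. -/
def tri (x y z : V) : ZMod 2 := ∑ p, emb x p * emb y p * emb z p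

/-- The triple intersection of three basis words. -/
def tt (i j k : Fin 11) : ZMod 2 := if ((tTab.getD i.val []).getD j.val 0).testBit k.val then 1 else 0

/-- Half the intersection of two basis words, above the diagonal. -/
def ll (i k : Fin 11) : ZMod 2 := if (lTab.getD i.val 0).testBit k.val then 1 else 0

theorem tt_ok : ∀ i j k : Fin 11, (pc ((bm i &&& bm j) &&& bm k) : ZMod 2) = tt i j k := by decide +kernel

theorem tt_sym : (∀ i k : Fin 11, tt i i k = 0) ∧ ∀ i j k : Fin 11, tt i j k = tt j i k := by decide +kernel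

theorem tri_e (i j k : Fin 11) : tri (e i) (e j) (e k) = tt i j k := by
  rw [← tt_ok, ← sum_wd_mul, tri, emb_e, emb_e, emb_e]
  refine Finset.sum_congr rfl fun p _ => ?_
  simp only [wd, Nat.testBit_and]
  cases (bm i).testBit (pidx p) <;> cases (bm j).testBit (pidx p) <;> simp

/-- The quadratic function of a coordinate. -/
def quad (k : Fin 11) (x : V) : ZMod 2 := upper (fun i j => tt i j k) x + ∑ i, x i * ll i k

/-- The cocycle. -/
def phi (x z : V) : ZMod 2 := ∑ k, z k * quad k x

theorem phi_add_right (x z z' : V) : phi x (z + z') = phi x z + phi x z' := by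
  simp [phi, add_mul, Finset.sum_add_distrib]

theorem phi_zero_right (x : V) : phi x 0 = 0 := by simp [phi]

theorem tri_add (x x' y z : V) : tri (x + x') y z = tri x y z + tri x' y z := by
  simp [tri, map_add, add_mul, Finset.sum_add_distrib]

theorem tri_swap (x y z : V) : tri x y z = tri y x z := Finset.sum_congr rfl fun p _ => by ring

theorem tri_rot (x y z : V) : tri x y z = tri z y x := Finset.sum_congr rfl fun p _ => by ring

theorem phi_add_left (x y z : V) : phi (x + y) z = phi x z + phi y z + tri x y z := by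
  have hT : tri x y z = ∑ k, z k * ∑ i, ∑ j, x i * y j * tt i j k := by
    refine (add_expand (AddMonoidHom.mk' (tri x y) fun a b => by
      rw [tri_rot, tri_add, tri_rot a, tri_rot b]) z).trans ?_
    refine Finset.sum_congr rfl fun k _ => ?_
    show z k * tri x y (e k) = _
    rw [bil_expand (fun x y => tri x y (e k)) (fun a b c => tri_add a b c _)
      (fun a b c => by rw [tri_swap, tri_add, tri_swap b, tri_swap c]) x y]
    simp only [tri_e]
  rw [hT, phi, phi, phi, ← Finset.sum_add_distrib, ← Finset.sum_add_distrib]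
  refine Finset.sum_congr rfl fun k _ => ?_
  rw [quad, quad, quad, upper_add _ (fun i => tt_sym.1 i k) fun i j => tt_sym.2 i j k]
  simp only [Pi.add_apply, add_mul, Finset.sum_add_distrib]
  ring

/-- The action on coordinates. -/
def act (σ : Equiv.Perm GolayPt) : V →+ V where
  toFun x := proj (pw σ (emb x))
  map_zero' := by simp [map_zero]; rfl
  map_add' x y := by rw [map_add, pw_add, map_add]

theorem emb_act {σ : Equiv.Perm GolayPt} (hσ : σ ∈ Spor.M23) (x : V) : emb (act σ x) = pw σ (emb x) := by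
  rw [show act σ x = proj (pw σ (emb x)) from rfl]
  refine emb_proj (w := pw σ (emb x)) (pw_mem_code hσ.1 (emb_mem x).1) ?_
  show emb x (σ.symm none) = 0
  have h : σ none = none := MulAction.mem_stabilizer_iff.1 hσ.2
  rw [σ.symm_apply_eq.2 h.symm]
  exact (emb_mem x).2

theorem act_one (x : V) : act 1 x = x := by
  show proj (pw 1 (emb x)) = x
  exact proj_emb x

theorem act_mul {σ τ : Equiv.Perm GolayPt} (hτ : τ ∈ Spor.M23) (x : V) : act (σ * τ) x = act σ (act τ x) := by
  show proj (pw (σ * τ) (emb x)) = proj (pw σ (emb (act τ x)))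
  rw [emb_act hτ]
  rfl

/-- The variation of the cocycle. -/
def dlt (σ : Equiv.Perm GolayPt) (x y : V) : ZMod 2 := phi (act σ x) (act σ y) + phi x y

theorem dlt_add_left {σ : Equiv.Perm GolayPt} (hσ : σ ∈ Spor.M23) (x x' y : V) :
    dlt σ (x + x') y = dlt σ x y + dlt σ x' y := by
  have ht : tri (act σ x) (act σ x') (act σ y) = tri x x' y := by
    simp only [tri, emb_act hσ, pw]
    exact Equiv.sum_comp σ.symm fun p => emb x p * emb x' p * emb y p
  rw [dlt, dlt, dlt, map_add, phi_add_left, phi_add_left, ht]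
  have : ∀ a b c d t : ZMod 2, a + b + t + (c + d + t) = a + c + (b + d) := by decide
  exact this _ _ _ _ _

theorem dlt_add_right (σ : Equiv.Perm GolayPt) (x y y' : V) : dlt σ x (y + y') = dlt σ x y + dlt σ x y' := by
  rw [dlt, dlt, dlt, map_add, phi_add_right, phi_add_right]
  ring

theorem act_toP_apply (σ : Equiv.Perm GolayPt) (x : V) (r : Fin 11) : act σ x r = emb x (σ.symm (piv r)) := rfl

theorem proj_apply (w : GolayPt → ZMod 2) (r : Fin 11) : proj w r = w (piv r) := rfl

attribute [irreducible] emb proj act phi tri dlt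

/-- A function whose polar is the variation of the cocycle. -/
def IsPolar (σ : Equiv.Perm GolayPt) (q : V → ZMod 2) : Prop := ∀ x y, q (x + y) = q x + q y + dlt σ x y

/-- The extension. -/
def Ext : Type := {g : ↥Spor.M23 × (V → ZMod 2) // IsPolar g.1 g.2}

instance extFinite : Finite Ext := Subtype.finite

theorem dlt_cocycle {σ τ : Equiv.Perm GolayPt} (hτ : τ ∈ Spor.M23) (x y : V) :
    dlt (σ * τ) x y = dlt σ (act τ x) (act τ y) + dlt τ x y := by
  rw [dlt, dlt, dlt, act_mul hτ, act_mul hτ]
  have : ∀ a b c : ZMod 2, a + c = a + b + (b + c) := by decide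
  exact this _ _ _

theorem dlt_one (x y : V) : dlt 1 x y = 0 := by
  rw [dlt, act_one, act_one]
  exact (by decide : ∀ a : ZMod 2, a + a = 0) _

theorem act_inv_cancel (σ : ↥Spor.M23) (x : V) : act σ.1 (act σ.1⁻¹ x) = x := by
  rw [← act_mul (inv_mem σ.2), mul_inv_cancel, act_one]

theorem act_cancel_inv (σ : ↥Spor.M23) (x : V) : act σ.1⁻¹ (act σ.1 x) = x := by
  rw [← act_mul σ.2, inv_mul_cancel, act_one]

instance extGroup : Group Ext where
  mul g h := ⟨(g.1.1 * h.1.1, fun x => g.1.2 (act h.1.1 x) + h.1.2 x), fun x y => by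
    show g.1.2 (act h.1.1 (x + y)) + h.1.2 (x + y) = _
    rw [map_add, g.2, h.2]
    show _ = _ + _ + dlt (g.1.1.1 * h.1.1.1) x y
    rw [dlt_cocycle h.1.1.2]
    ring⟩
  one := ⟨(1, fun _ => 0), fun x y => by simp [dlt_one]⟩
  inv g := ⟨(g.1.1⁻¹, fun x => g.1.2 (act g.1.1.1⁻¹ x)), fun x y => by
    show g.1.2 (act _ (x + y)) = _
    rw [map_add, g.2]
    congr 1
    show _ = dlt (g.1.1.1⁻¹) x y
    rw [dlt, dlt, act_inv_cancel, act_inv_cancel, add_comm]⟩
  mul_assoc a b c := Subtype.ext (Prod.ext (mul_assoc _ _ _) (funext fun x => by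
    show a.1.2 (act b.1.1 (act c.1.1 x)) + b.1.2 (act c.1.1 x) + c.1.2 x =
      a.1.2 (act (b.1.1.1 * c.1.1.1) x) + (b.1.2 (act c.1.1 x) + c.1.2 x)
    rw [act_mul c.1.1.2, add_assoc]))
  one_mul a := Subtype.ext (Prod.ext (one_mul _) (funext fun x => zero_add _))
  mul_one a := Subtype.ext (Prod.ext (mul_one _) (funext fun x => by
    show a.1.2 (act 1 x) + 0 = _
    rw [act_one, add_zero]))
  inv_mul_cancel a := Subtype.ext (Prod.ext (inv_mul_cancel _) (funext fun x => by
    show a.1.2 (act a.1.1.1⁻¹ (act a.1.1.1 x)) + a.1.2 x = 0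
    rw [act_cancel_inv]
    exact (by decide : ∀ a : ZMod 2, a + a = 0) _))

/-- The projection. -/
def prj : Ext →* ↥Spor.M23 where
  toFun g := g.1.1
  map_one' := rfl
  map_mul' _ _ := rfl

/-- Both conditions under which a generator lifts. -/
def liftOK (s : PP) : Prop :=
  ∀ i j : Fin 11, dlt (toP s) (e i) (e i) = 0 ∧ dlt (toP s) (e i) (e j) = dlt (toP s) (e j) (e i)

theorem lift_of (σ : ↥Spor.M23) (h : ∀ i j : Fin 11,
    dlt σ.1 (e i) (e i) = 0 ∧ dlt σ.1 (e i) (e j) = dlt σ.1 (e j) (e i)) : σ ∈ prj.range := by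
  refine ⟨⟨(σ, upper fun i j => dlt σ.1 (e i) (e j)), fun x y => ?_⟩, rfl⟩
  dsimp only
  rw [upper_add _ (fun i => (h i i).1) (fun i j => (h i j).2),
    ← bil_expand (dlt σ.1) (dlt_add_left σ.2) (dlt_add_right σ.1) x y]

/-- The generators. -/
def gensPP : List PP := topGens (m24PointChain.drop 1)

/-- The image of a basis vector under a table, in coordinates. -/
def imgB (s : PP) (i : Fin 11) : V :=
  fun r => if (bm i).testBit (ap s.2 (r.val + 1)) then 1 else 0

theorem act_toP {s : PP} (hs : valid 24 s = true) (i : Fin 11) : act (toP s) (e i) = imgB s i := by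
  funext r
  rw [act_toP_apply]
  rw [emb_e]
  have hp : (toP s).symm (piv r) = toP (pinv s) (piv r) := by
    rw [Equiv.symm_apply_eq, toP, toP, perm_pinv hs, map_inv]
    simp
  have hb : pidx ((toP s).symm (piv r)) = ap s.2 (r.val + 1) := by
    rw [hp, piv, toP_ptAt (valid_pinv hs) (by omega)]
    exact pidx_ptAt ⟨_, valid_lt (valid_pinv hs) (by omega)⟩
  simp only [wd, hb, imgB]

/-- The variation on two basis vectors, from tables. -/
def dB (s : PP) (i j : Fin 11) : ZMod 2 := phi (imgB s i) (imgB s j) + phi (e i) (e j)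

theorem dlt_toP {s : PP} (hs : valid 24 s = true) (i j : Fin 11) : dlt (toP s) (e i) (e j) = dB s i j := by
  rw [dlt, act_toP hs, act_toP hs, dB]

theorem gens_len : gensPP.length = 7 ∧ gensPP.all (valid 24) = true := by decide +kernel

theorem gen_ok0 : ∀ i j : Fin 11, dB (gensPP.getD 0 (0, 0)) i i = 0 ∧
    dB (gensPP.getD 0 (0, 0)) i j = dB (gensPP.getD 0 (0, 0)) j i := by decide +kernel

theorem gen_ok1 : ∀ i j : Fin 11, dB (gensPP.getD 1 (0, 0)) i i = 0 ∧
    dB (gensPP.getD 1 (0, 0)) i j = dB (gensPP.getD 1 (0, 0)) j i := by decide +kernel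

theorem gen_ok2 : ∀ i j : Fin 11, dB (gensPP.getD 2 (0, 0)) i i = 0 ∧
    dB (gensPP.getD 2 (0, 0)) i j = dB (gensPP.getD 2 (0, 0)) j i := by decide +kernel

theorem gen_ok3 : ∀ i j : Fin 11, dB (gensPP.getD 3 (0, 0)) i i = 0 ∧
    dB (gensPP.getD 3 (0, 0)) i j = dB (gensPP.getD 3 (0, 0)) j i := by decide +kernel

theorem gen_ok4 : ∀ i j : Fin 11, dB (gensPP.getD 4 (0, 0)) i i = 0 ∧
    dB (gensPP.getD 4 (0, 0)) i j = dB (gensPP.getD 4 (0, 0)) j i := by decide +kernel

theorem gen_ok5 : ∀ i j : Fin 11, dB (gensPP.getD 5 (0, 0)) i i = 0 ∧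
    dB (gensPP.getD 5 (0, 0)) i j = dB (gensPP.getD 5 (0, 0)) j i := by decide +kernel

theorem gen_ok6 : ∀ i j : Fin 11, dB (gensPP.getD 6 (0, 0)) i i = 0 ∧
    dB (gensPP.getD 6 (0, 0)) i j = dB (gensPP.getD 6 (0, 0)) j i := by decide +kernel

theorem gen_ok (s : PP) (hs : s ∈ gensPP) : ∀ i j : Fin 11, dB s i i = 0 ∧ dB s i j = dB s j i := by
  obtain ⟨k, hk, rfl⟩ := List.getElem_of_mem hs
  rw [← List.getD_eq_getElem gensPP (0, 0) hk]
  have hk7 : k < 7 := gens_len.1 ▸ hk
  interval_cases k
  · exact gen_ok0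
  · exact gen_ok1
  · exact gen_ok2
  · exact gen_ok3
  · exact gen_ok4
  · exact gen_ok5
  · exact gen_ok6

theorem prj_surj : Function.Surjective prj := by
  rw [← MonoidHom.range_eq_top, eq_top_iff]
  have hle : Spor.M23 ≤ prj.range.map Spor.M23.subtype := by
    conv_lhs => rw [M23_eq, onPts, grp, MonoidHom.map_closure]
    rw [Subgroup.closure_le]
    rintro _ ⟨_, ⟨s, hs, rfl⟩, rfl⟩
    have hv : valid 24 s = true := List.all_eq_true.1 gens_len.2 _ hs
    have hm : toP s ∈ Spor.M23 := by
      rw [M23_eq]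
      exact ⟨_, Subgroup.subset_closure ⟨_, hs, rfl⟩, rfl⟩
    refine ⟨⟨toP s, hm⟩, lift_of _ fun i j => ?_, rfl⟩
    show dlt (toP s) (e i) (e i) = 0 ∧ dlt (toP s) (e i) (e j) = dlt (toP s) (e j) (e i)
    rw [dlt_toP hv, dlt_toP hv, dlt_toP hv]
    exact gen_ok s hs i j
  intro σ _
  obtain ⟨τ, hτ, he⟩ := hle σ.2
  exact Subtype.ext he ▸ hτ

/-- The pairing with a word. -/
def pair (w : GolayPt → ZMod 2) (x : V) : ZMod 2 := ∑ p, emb x p * w p

theorem pair_polar (w : GolayPt → ZMod 2) : IsPolar 1 (pair w) := fun x y => by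
  rw [dlt_one, add_zero]
  simp [pair, map_add, add_mul, Finset.sum_add_distrib]

/-- The element of a word. -/
def elt (w : GolayPt → ZMod 2) : Ext := ⟨(1, pair w), pair_polar w⟩

/-- The map from words. -/
def theta : (GolayPt → ZMod 2) →+ Additive ↥prj.ker :=
  AddMonoidHom.mk' (fun w => Additive.ofMul ⟨elt w, rfl⟩) fun v w => by
    refine congrArg Additive.ofMul (Subtype.ext (Subtype.ext (Prod.ext (one_mul 1).symm (funext fun x => ?_))))
    show pair (v + w) x = pair v (act 1 x) + pair w x
    rw [act_one]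
    simp [pair, mul_add, Finset.sum_add_distrib]

theorem piv_inj : Function.Injective piv := fun a b h => by
  have := congrArg pidx h
  rw [piv, piv, show pidx (ptAt (a.val + 1)) = a.val + 1 from pidx_ptAt ⟨_, by omega⟩,
    show pidx (ptAt (b.val + 1)) = b.val + 1 from pidx_ptAt ⟨_, by omega⟩] at this
  exact Fin.ext (by omega)

theorem theta_surjective : Function.Surjective theta := fun n => by
  have hσ : (Additive.toMul n).1.1.1 = 1 := MonoidHom.mem_ker.1 (Additive.toMul n).2
  let f : V →+ ZMod 2 := AddMonoidHom.mk' (Additive.toMul n).1.1.2 fun x y => by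
    rw [(Additive.toMul n).1.2 x y, hσ]
    show _ + _ + dlt 1 x y = _
    rw [dlt_one, add_zero]
  refine ⟨∑ r, Pi.single (piv r) (f (e r)), ?_⟩
  apply Additive.toMul.injective
  refine Subtype.ext (Subtype.ext (Prod.ext hσ.symm (funext fun x => ?_)))
  show pair _ x = f x
  rw [add_expand f x, pair]
  simp only [Finset.sum_apply, Finset.mul_sum]
  rw [Finset.sum_comm]
  refine Finset.sum_congr rfl fun r _ => ?_
  rw [Finset.sum_eq_single (piv r) (fun p _ h => by rw [Pi.single_eq_of_ne h, mul_zero]) (by simp), Pi.single_eq_same]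
  have := congrFun (proj_emb x) r
  rw [proj_apply] at this
  exact congrArg (· * f (e r)) this

theorem theta_eq_zero (w : GolayPt → ZMod 2) : theta w = 0 ↔ ∀ x, pair w x = 0 :=
  ⟨fun h x => congrFun (congrArg (fun n : Additive ↥prj.ker => (Additive.toMul n).1.1.2) h) x,
    fun h => congrArg Additive.ofMul (Subtype.ext (Subtype.ext (Prod.ext rfl (funext h))))⟩

theorem rows_none : wd (rows.getD 0 0) none = 1 := by decide +kernel

theorem row_mem {r : ℕ} (hr : r ∈ rows) : wd r ∈ golayCode := by
  rw [golayCode_eq_span_rows]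
  exact Submodule.subset_span ⟨r, hr, rfl⟩

theorem kernel_iff (w : GolayPt → ZMod 2) :
    theta w = 0 ↔ (w ∈ golayCode ∨ w + Pi.single none 1 ∈ golayCode) := by
  have hnone : ∀ c : GolayPt → ZMod 2, ∑ p, c p * (Pi.single none 1 : GolayPt → ZMod 2) p = c none := fun c => by
    rw [Finset.sum_eq_single none (fun p _ h => by rw [Pi.single_eq_of_ne h, mul_zero]) (by simp), Pi.single_eq_same,
      mul_one]
  have hsplit : ∀ c : GolayPt → ZMod 2,
      ∑ p, c p * (w + Pi.single none 1 : GolayPt → ZMod 2) p = ∑ p, c p * w p + c none := fun c => by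
    simp only [Pi.add_apply, mul_add, Finset.sum_add_distrib, hnone]
  rw [theta_eq_zero]
  constructor
  · intro h
    have h0 : ∀ c ∈ golayCode, c none = 0 → ∑ p, c p * w p = 0 := fun c hc hc0 => by
      have := h (proj c)
      rwa [pair, emb_proj hc hc0] at this
    set r0 := wd (rows.getD 0 0) with hr0
    have hr0m : r0 ∈ golayCode := row_mem ((by decide +kernel : rows.getD 0 0 ∈ rows))
    set s := ∑ p, r0 p * w p with hs
    have key : ∀ c ∈ golayCode, ∑ p, c p * w p = c none * s := fun c hc => by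
      rcases bool_eq (c none) with hc0 | hc0
      · rw [hc0, zero_mul, h0 c hc hc0]
      · have := h0 (c + r0) (golayCode.add_mem hc hr0m) (by rw [Pi.add_apply, hc0, hr0, rows_none]; decide)
        simp only [Pi.add_apply, add_mul, Finset.sum_add_distrib] at this
        rw [hc0, one_mul, hs]
        exact (by decide : ∀ a b : ZMod 2, a + b = 0 → a = b) _ _ this
    have fin : ∀ u : GolayPt → ZMod 2, (∀ c ∈ golayCode, ∑ p, c p * u p = 0) → u ∈ golayCode := fun u hu => by
      refine support₂_mem_supports.1 (mem_supports_of_orth fun r hr => ?_)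
      have := (orth_iff_even_inter _ _).1 (hu _ (row_mem hr))
      rwa [support₂_wd] at this
    rcases bool_eq s with hs0 | hs0
    · exact Or.inl (fin w fun c hc => by rw [key c hc, hs0, mul_zero])
    · refine Or.inr (fin _ fun c hc => ?_)
      rw [hsplit, key c hc, hs0, mul_one]
      exact (by decide : ∀ a : ZMod 2, a + a = 0) _
  · rintro (h | h) x
    · exact golayCode_orthogonal (emb_mem x).1 h
    · have := golayCode_orthogonal (emb_mem x).1 h
      rwa [hsplit, (emb_mem x).2, add_zero] at this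

theorem theta_conj (g : Ext) (w : GolayPt → ZMod 2) :
    ((theta (w ∘ ⇑((g.1.1 : Equiv.Perm GolayPt)⁻¹))).toMul : Ext) = g * ((theta w).toMul : Ext) * g⁻¹ := by
  refine Subtype.ext (Prod.ext (by show (1 : ↥Spor.M23) = g.1.1 * 1 * g.1.1⁻¹; simp) (funext fun x => ?_))
  show pair (w ∘ ⇑((g.1.1 : Equiv.Perm GolayPt)⁻¹)) x =
    g.1.2 (act 1 (act g.1.1.1⁻¹ x)) + pair w (act g.1.1.1⁻¹ x) + g.1.2 (act g.1.1.1⁻¹ x)
  rw [act_one, pair, pair, emb_act (inv_mem g.1.1.2)]
  rw [← (by decide : ∀ a b : ZMod 2, b = a + b + a) (g.1.2 (act g.1.1.1⁻¹ x)) _]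
  simp only [pw, Function.comp_apply]
  rw [← Equiv.sum_comp g.1.1.1]
  refine Finset.sum_congr rfl fun p _ => ?_
  simp only [Equiv.Perm.coe_inv, Equiv.symm_apply_apply, mul_eq_mul_right_iff]
  left
  exact congrArg (emb x) (by simp [Equiv.Perm.inv_def])

/-- The first element of the witness. -/
theorem wit_ok : preserves wA = true ∧ preserves wB = true ∧ ap wA.1 23 = 23 ∧ ap wB.1 23 = 23 ∧
    ((List.range 24).all fun p => ap wA.1 (ap wB.1 (ap wA.1 (ap wB.1 (ap wA.1 p)))) ==
      ap wB.1 (ap wA.1 (ap wB.1 p))) = true := by decide +kernel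

/-- The image of a vector under a table, in coordinates. -/
def imgV (s : PP) (x : V) : V := fun r => ∑ i, x i * imgB s i r

theorem act_imgV {s : PP} (hs : valid 24 s = true) (x : V) : act (toP s) x = imgV s x := by
  funext r
  show (act (toP s) x) r = _
  refine (add_expand (AddMonoidHom.mk' (fun x => act (toP s) x r) fun a b => by rw [map_add, Pi.add_apply]) x).trans ?_
  refine Finset.sum_congr rfl fun i _ => ?_
  show x i * act (toP s) (e i) r = _
  rw [act_toP hs]

/-- The variation from tables. -/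
def dV (s : PP) (x y : V) : ZMod 2 := phi (imgV s x) (imgV s y) + phi x y

/-- The points of the witness. -/
def w2 : V := imgV wA (e 0)
def w3 : V := imgV wB w2
def w4 : V := imgV wA w3
def w5 : V := imgV wB w4
def z2 : V := imgV wB (e 0)
def z3 : V := imgV wA z2

theorem wit_sums : e 0 + w3 + w5 + z2 = 0 ∧ w2 + w4 + e 0 + z3 = 0 ∧
    dV wA (e 0) w3 + dV wA (e 0 + w3) w5 + dV wA (e 0 + w3 + w5) z2 +
      (dV wB w2 w4 + dV wB (w2 + w4) (e 0) + dV wB (w2 + w4 + e 0) z3) = 1 := by decide +kernel

theorem polar_four {σ : Equiv.Perm GolayPt} {q : V → ZMod 2} (hq : IsPolar σ q) {a b c d : V}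
    (h : a + b + c + d = 0) : q a + q b + q c + q d = dlt σ a b + dlt σ (a + b) c + dlt σ (a + b + c) d := by
  have h0 : q 0 = 0 := by
    have := hq 0 0
    rw [add_zero, dlt, map_zero, phi_zero_right] at this
    exact (by decide : ∀ a : ZMod 2, a = a + a + (0 + 0) → a = 0) _ this
  have := hq (a + b + c) d
  rw [h, h0, hq (a + b) c, hq a b] at this
  exact (by decide : ∀ a b c d u v w : ZMod 2, 0 = a + b + u + c + v + d + w → a + b + c + d = u + v + w) _ _ _ _ _ _ _ this

theorem no_complement (H : Subgroup Ext) (hinf : H ⊓ prj.ker = ⊥) : H ⊔ prj.ker ≠ ⊤ := fun hsup => by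
  obtain ⟨hA, hB, hA23, hB23, hrel⟩ := wit_ok
  have hvA : valid 24 wA = true := by simp only [preserves, Bool.and_eq_true] at hA; exact hA.1
  have hvB : valid 24 wB = true := by simp only [preserves, Bool.and_eq_true] at hB; exact hB.1
  have hmem : ∀ {s : PP}, preserves s = true → valid 24 s = true → ap s.1 23 = 23 → toP s ∈ Spor.M23 :=
    fun {s} hp hv h => ⟨toP_mem_M24 hp, MulAction.mem_stabilizer_iff.2 (pidx_injective (by
      rw [Equiv.Perm.smul_def, pidx_toP hv]; exact h))⟩
  have hlift : ∀ σ : ↥Spor.M23, ∃ h ∈ H, prj h = σ := fun σ => by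
    obtain ⟨g, rfl⟩ := prj_surj σ
    obtain ⟨h, hh, n, hn, rfl⟩ := Subgroup.mem_sup_of_normal_right.1 (hsup ▸ Subgroup.mem_top g)
    exact ⟨h, hh, by rw [map_mul, MonoidHom.mem_ker.1 hn, mul_one]⟩
  obtain ⟨ha, haH, hae⟩ := hlift ⟨toP wA, hmem hA hvA hA23⟩
  obtain ⟨hb, hbH, hbe⟩ := hlift ⟨toP wB, hmem hB hvB hB23⟩
  have ea : ha.1.1.1 = toP wA := congrArg Subtype.val hae
  have eb : hb.1.1.1 = toP wB := congrArg Subtype.val hbe
  have hp : prj (ha * hb * ha * hb * ha) = prj (hb * ha * hb) := by
    simp only [map_mul, hae, hbe]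
    refine Subtype.ext (Equiv.ext fun p => pidx_injective ?_)
    simp only [Subgroup.coe_mul, Equiv.Perm.mul_apply, pidx_toP hvA, pidx_toP hvB]
    exact beq_iff_eq.1 (List.all_eq_true.1 hrel _ (List.mem_range.2 (pidx_lt p)))
  have heq : ha * hb * ha * hb * ha = hb * ha * hb := by
    have : ha * hb * ha * hb * ha * (hb * ha * hb)⁻¹ ∈ H ⊓ prj.ker :=
      Subgroup.mem_inf.2 ⟨H.mul_mem (H.mul_mem (H.mul_mem (H.mul_mem (H.mul_mem haH hbH) haH) hbH) haH)
        (H.inv_mem (H.mul_mem (H.mul_mem hbH haH) hbH)), by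
        rw [MonoidHom.mem_ker, map_mul, map_inv, hp, mul_inv_cancel]⟩
    rw [hinf, Subgroup.mem_bot] at this
    exact mul_inv_eq_one.1 this
  have hq := congrArg (fun g : Ext => g.1.2 (e 0)) heq
  have hq' : ha.1.2 w5 + hb.1.2 w4 + ha.1.2 w3 + hb.1.2 w2 + ha.1.2 (e 0) =
      hb.1.2 z3 + ha.1.2 z2 + hb.1.2 (e 0) := by
    rw [w5, w4, w3, w2, z3, z2]
    simp only [← act_imgV hvA, ← act_imgV hvB, ← ea, ← eb]
    refine Eq.trans ?_ (hq.trans ?_)
    · show _ = ha.1.2 (act hb.1.1.1 (act ha.1.1.1 (act hb.1.1.1 (act ha.1.1.1 (e 0))))) + _ + _ + _ + _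
      rfl
    · rfl
  have hda : ∀ x y, dlt ha.1.1.1 x y = dV wA x y := fun x y => by rw [ea, dlt, dV, act_imgV hvA, act_imgV hvA]
  have hdb : ∀ x y, dlt hb.1.1.1 x y = dV wB x y := fun x y => by rw [eb, dlt, dV, act_imgV hvB, act_imgV hvB]
  obtain ⟨s1, s2, s3⟩ := wit_sums
  have p1 := polar_four ha.2 s1
  have p2 := polar_four hb.2 s2
  simp only [hda] at p1
  simp only [hdb] at p2
  rw [← p1, ← p2] at s3
  exact (by decide : ∀ a b c d u v w z : ZMod 2, a + b + c + d + (u + v + w + z) = 1 →
    c + v + b + u + a = z + d + w → False) _ _ _ _ _ _ _ _ s3 hq'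

/-- The extension exists. -/
theorem main : ∃ (E : Type) (_ : Group E) (_ : Finite E) (N : Subgroup E) (_ : N.Normal)
      (φ : E ⧸ N ≃* ↥Spor.M23) (θ : (GolayPt → ZMod 2) →+ Additive ↥N),
      Function.Surjective θ ∧
      (∀ w : GolayPt → ZMod 2, θ w = 0 ↔ (w ∈ golayCode ∨ w + Pi.single none 1 ∈ golayCode)) ∧
      (∀ (g : E) (w : GolayPt → ZMod 2),
        ((θ (w ∘ ⇑(((φ (QuotientGroup.mk g) : ↥Spor.M23) : Equiv.Perm GolayPt)⁻¹))).toMul : E)
          = g * ((θ w).toMul : E) * g⁻¹) ∧
      ∀ H : Subgroup E, H ⊓ N = ⊥ → H ⊔ N ≠ ⊤ :=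
  ⟨Ext, inferInstance, inferInstance, prj.ker, inferInstance,
    QuotientGroup.quotientKerEquivOfSurjective prj prj_surj, theta, theta_surjective, kernel_iff, theta_conj,
    no_complement⟩

end Cfsg.Lib.Golay.CocodeExt
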