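import Mathlib
import Cfsg.Prelude.Def_Sporadic_a

/-!
The length-24 code of `Def_Sporadic_a` through bit masks: bit `i < 23` is the residue `i`,
bit 23 is the extra point.
-/

namespace Cfsg.Lib.Golay

open Cfsg

/-- The position of a point. -/
def pidx : GolayPt → ℕ
  | none => 23
  | some x => x.val

theorem pidx_lt (p : GolayPt) : pidx p < 24 := by
  cases p with
  | none => simp [pidx]
  | some x => simpa [pidx] using Nat.lt_succ_of_lt (ZMod.val_lt x)

/-- The point at a position. -/
def ptAt (i : ℕ) : GolayPt := if i % 24 = 23 then none else some ((i % 24 : ℕ) : ZMod 23)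

/-- The numbering of the 24 points. -/
def ptEquiv : GolayPt ≃ Fin 24 where
  toFun p := ⟨pidx p, pidx_lt p⟩
  invFun i := ptAt i
  left_inv := by decide +kernel
  right_inv := by decide +kernel

theorem pidx_injective : Function.Injective pidx := fun p q h =>
  ptEquiv.injective (Fin.ext h)

@[simp] theorem pidx_ptAt (i : Fin 24) : pidx (ptAt i) = i :=
  congrArg Fin.val (ptEquiv.apply_symm_apply i)

/-- The word of a mask. -/
def wd (m : ℕ) : GolayPt → ZMod 2 := fun p => if m.testBit (pidx p) then 1 else 0

/-- The set of a mask. -/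
def pts (m : ℕ) : Finset GolayPt := Finset.univ.filter fun p => m.testBit (pidx p) = true

@[simp] theorem mem_pts {m : ℕ} {p : GolayPt} : p ∈ pts m ↔ m.testBit (pidx p) = true := by
  simp [pts]

/-- The mask of a set. -/
def mk (s : Finset GolayPt) : ℕ := (s.image pidx).sum fun i => 2 ^ i

theorem testBit_mk_iff (s : Finset GolayPt) (i : ℕ) :
    (mk s).testBit i = true ↔ ∃ p ∈ s, pidx p = i := by
  have h : (mk s).bitIndices.toFinset = s.image pidx := Finset.toFinset_bitIndices_sum_two_pow _
  rw [← Nat.mem_bitIndices, ← List.mem_toFinset, h, Finset.mem_image]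

@[simp] theorem testBit_mk (s : Finset GolayPt) (p : GolayPt) :
    (mk s).testBit (pidx p) = true ↔ p ∈ s := by
  rw [testBit_mk_iff]
  exact ⟨fun ⟨q, hq, h⟩ => pidx_injective h ▸ hq, fun h => ⟨p, h, rfl⟩⟩

@[simp] theorem pts_mk (s : Finset GolayPt) : pts (mk s) = s := by
  ext p; simp

theorem mk_lt (s : Finset GolayPt) : mk s < 2 ^ 24 := by
  refine Nat.lt_pow_two_of_testBit _ fun i hi => ?_
  by_contra h
  obtain ⟨p, -, rfl⟩ := (testBit_mk_iff s i).mp (by simpa using h)
  have := pidx_lt p; omega

theorem eq_of_pts_eq {m n : ℕ} (hm : m < 2 ^ 24) (hn : n < 2 ^ 24) (h : pts m = pts n) : m = n := by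
  apply Nat.eq_of_testBit_eq
  intro i
  by_cases hi : i < 24
  · have hp := Finset.ext_iff.mp h (ptAt i)
    rw [mem_pts, mem_pts, show pidx (ptAt i) = i from pidx_ptAt ⟨i, hi⟩] at hp
    exact Bool.eq_iff_iff.mpr hp
  · have hpow : 2 ^ 24 ≤ 2 ^ i := Nat.pow_le_pow_right (by norm_num) (Nat.le_of_not_lt hi)
    rw [Nat.testBit_lt_two_pow (lt_of_lt_of_le hm hpow), Nat.testBit_lt_two_pow (lt_of_lt_of_le hn hpow)]

theorem mk_pts {m : ℕ} (hm : m < 2 ^ 24) : mk (pts m) = m :=
  eq_of_pts_eq (mk_lt _) hm (pts_mk _)

theorem mk_injective : Function.Injective mk := fun s t h => by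
  rw [← pts_mk s, h, pts_mk]

theorem pts_xor (a b : ℕ) (p : GolayPt) :
    wd (a ^^^ b) p = wd a p + wd b p := by
  simp only [wd, Nat.testBit_xor]
  cases a.testBit (pidx p) <;> cases b.testBit (pidx p) <;> decide

theorem wd_xor (a b : ℕ) : wd (a ^^^ b) = wd a + wd b := funext (pts_xor a b)

@[simp] theorem wd_zero : wd 0 = 0 := by funext p; simp [wd]

theorem wd_mk (s : Finset GolayPt) (p : GolayPt) : wd (mk s) p = if p ∈ s then 1 else 0 := by
  simp [wd]

@[simp] theorem support₂_wd (m : ℕ) : support₂ (wd m) = pts m := by
  ext p; by_cases h : m.testBit (pidx p) = true <;> simp [support₂, wd, h]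

theorem wd_mk_support₂ (w : GolayPt → ZMod 2) : wd (mk (support₂ w)) = w := by
  funext p
  rw [wd_mk]
  have : w p = 0 ∨ w p = 1 := by
    generalize w p = a; revert a; decide
  rcases this with h | h <;> simp [support₂, h]

/-- The generator masks (reduced echelon form, pivot bit `i` in row `i`). -/
def rows : List ℕ :=
  [13062145, 4845570, 13938692, 7221256, 10170384, 11952160, 15515712, 2019456, 4038912, 8077824,
   11654144, 14919680]

/-- Xor of the rows selected by the bits of `i`. -/
def enc (i : ℕ) : ℕ :=
  (List.range 12).foldr (fun k a => if i.testBit k then rows.getD k 0 ^^^ a else a) 0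

theorem enc_xor (i j : ℕ) : enc (i ^^^ j) = enc i ^^^ enc j := by
  unfold enc
  induction List.range 12 with
  | nil => simp
  | cons k l ih =>
    simp only [Nat.testBit_xor] at ih ⊢
    simp only [List.foldr_cons, ih]
    cases i.testBit k <;> cases j.testBit k <;>
      simp [Nat.xor_assoc, Nat.xor_comm, Nat.xor_left_comm]

/-- Membership of a mask in the code. -/
def inCode (m : ℕ) : Bool := enc (m % 4096) == m

theorem enc_mod (i : ℕ) : enc (i % 4096) = enc i := by
  unfold enc
  apply List.foldr_ext
  intro k hk a
  have : k < 12 := List.mem_range.mp hk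
  rw [show (4096 : ℕ) = 2 ^ 12 from rfl, Nat.testBit_mod_two_pow]
  simp [this]

theorem enc_systematic_all :
    ((List.range 4096).all fun i => (fun e => e % 4096 == i && decide (e < 2 ^ 24)) (enc i)) = true := by
  decide +kernel

theorem enc_systematic (i : ℕ) : enc i % 4096 = i % 4096 ∧ enc i < 2 ^ 24 := by
  have := List.all_eq_true.mp enc_systematic_all (i % 4096) (List.mem_range.mpr (Nat.mod_lt _ (by norm_num)))
  simpa [enc_mod] using this

theorem inCode_enc (i : ℕ) : inCode (enc i) = true ∧ enc i < 2 ^ 24 := by
  refine ⟨?_, (enc_systematic i).2⟩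
  simp only [inCode, beq_iff_eq]
  rw [(enc_systematic i).1, enc_mod]

theorem inCode_xor {a b : ℕ} (ha : inCode a = true) (hb : inCode b = true) :
    inCode (a ^^^ b) = true := by
  simp only [inCode, beq_iff_eq] at *
  rw [show (4096 : ℕ) = 2 ^ 12 from rfl, Nat.xor_mod_two_pow, enc_xor, show (2 : ℕ) ^ 12 = 4096 from rfl, ha, hb]

/-- The words given by masks of the code. -/
def codeSub : Submodule (ZMod 2) (GolayPt → ZMod 2) where
  carrier := {w | inCode (mk (support₂ w)) = true}
  zero_mem' := by
    show inCode (mk (support₂ (0 : GolayPt → ZMod 2))) = true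
    simp [support₂, mk, inCode, enc]
  add_mem' := by
    intro v w hv hw
    show inCode (mk (support₂ (v + w))) = true
    have hlt : mk (support₂ v) ^^^ mk (support₂ w) < 2 ^ 24 := Nat.xor_lt_two_pow (mk_lt _) (mk_lt _)
    have : mk (support₂ (v + w)) = mk (support₂ v) ^^^ mk (support₂ w) := by
      apply eq_of_pts_eq (mk_lt _) hlt
      rw [pts_mk, ← support₂_wd, wd_xor, wd_mk_support₂, wd_mk_support₂]
    rw [this]; exact inCode_xor hv hw
  smul_mem' := by
    intro c w hw
    have : c = 0 ∨ c = 1 := by revert c; decide
    rcases this with rfl | rfl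
    · show inCode (mk (support₂ ((0 : ZMod 2) • w))) = true
      simp [support₂, mk, inCode, enc]
    · simpa using hw

/-- The masks of the translates of the squares, and the all-ones mask. -/
def genMasks : List ℕ :=
  [340831, 681662, 1363324, 2726648, 5453296, 2517985, 5035970, 1683333, 3366666, 6733332, 5078057, 1767507, 3535014, 7070028, 5751449, 3114291, 6228582, 4068557, 8137114, 7885621, 7382635, 6376663, 4364719]

theorem qrWord_eq : ∀ t : ZMod 23, qrWord t = wd (genMasks.getD t.val 0) := by decide +kernel

theorem golayCode_le : golayCode ≤ codeSub := by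
  apply Submodule.span_le.mpr
  rintro w (⟨t, rfl⟩ | rfl)
  · show inCode (mk (support₂ (qrWord t))) = true
    revert t; decide +kernel
  · show inCode (mk (support₂ (1 : GolayPt → ZMod 2))) = true
    decide +kernel

theorem wd_all_ones : wd 16777215 = 1 := by decide +kernel

theorem gen_wd_mem {m : ℕ} (h : m ∈ genMasks) : wd m ∈ golayCode := by
  obtain ⟨i, hi, rfl⟩ := List.getElem_of_mem h
  have hi' : i < 23 := by simpa [genMasks] using hi
  have : qrWord (i : ZMod 23) = wd genMasks[i] := by
    rw [qrWord_eq, ZMod.val_natCast_of_lt hi', List.getD_eq_getElem _ _ hi]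
    rfl
  exact Submodule.subset_span (Or.inl ⟨(i : ZMod 23), this⟩)

/-- Each row as a sum of generators: bit `j` selects generator `j` (bit 23: all ones). -/
def rowComb : List ℕ := [8390313, 280, 8389785, 1400, 8390330, 8390551, 8390093, 2000, 1347, 101, 8390243, 8390181]

/-- Xor of the selected generators. -/
def combMask (c : ℕ) : ℕ :=
  (List.range 24).foldr (fun k a => if c.testBit k then (genMasks ++ [16777215]).getD k 0 ^^^ a else a) 0

theorem combMask_mem (c : ℕ) : wd (combMask c) ∈ golayCode := by
  unfold combMask
  induction List.range 24 with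
  | nil => simp
  | cons k l ih =>
    simp only [List.foldr_cons]
    split
    · rw [wd_xor]
      refine add_mem ?_ ih
      by_cases hk : k < (genMasks ++ [16777215]).length
      · rw [List.getD_eq_getElem _ _ hk]
        rcases List.mem_append.mp (List.getElem_mem hk) with h | h
        · exact gen_wd_mem h
        · rw [List.mem_singleton.mp h, wd_all_ones]
          exact Submodule.subset_span (Or.inr rfl)
      · rw [List.getD_eq_default _ _ (by omega)]; simp
    · exact ih

theorem rows_eq_comb : rowComb.map combMask = rows := by decide +kernel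

theorem enc_mem (i : ℕ) : wd (enc i) ∈ golayCode := by
  unfold enc
  induction List.range 12 with
  | nil => simp
  | cons k l ih =>
    simp only [List.foldr_cons]
    split
    · rw [wd_xor]
      refine add_mem ?_ ih
      by_cases hk : k < rows.length
      · rw [List.getD_eq_getElem _ _ hk]
        have : rows[k] ∈ rowComb.map combMask := by rw [rows_eq_comb]; exact List.getElem_mem hk
        obtain ⟨c, -, hc⟩ := List.mem_map.mp this
        rw [← hc]; exact combMask_mem c
      · rw [List.getD_eq_default _ _ (by omega)]; simp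
    · exact ih

/-- Membership in the code. -/
theorem mem_golayCode_iff (w : GolayPt → ZMod 2) :
    w ∈ golayCode ↔ inCode (mk (support₂ w)) = true := by
  refine ⟨fun h => golayCode_le h, fun h => ?_⟩
  have := enc_mem (mk (support₂ w) % 4096)
  simp only [inCode, beq_iff_eq] at h
  rwa [h, wd_mk_support₂] at this

theorem wd_mem_iff {m : ℕ} (hm : m < 2 ^ 24) : wd m ∈ golayCode ↔ inCode m = true := by
  rw [mem_golayCode_iff, support₂_wd, mk_pts hm]

/-- The supports of code words. -/
theorem mem_supports_iff (s : Finset GolayPt) :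
    s ∈ supports (golayCode : Set (GolayPt → ZMod 2)) ↔ inCode (mk s) = true := by
  constructor
  · rintro ⟨w, hw, rfl⟩
    exact (mem_golayCode_iff w).mp hw
  · intro h
    exact ⟨wd (mk s), (wd_mem_iff (mk_lt s)).mpr h, by simp⟩

/-- Number of set bits of a byte, from a packed table. -/
def pcByte (m : ℕ) : ℕ := (95125173855764218123276304889944061997689682402263585766959741291920687686033329201817409157123347502415384089435969498586180241031507595463600295898153685276653211633572815512294064538494957912327413386667662218713394765509704508661031522276467630197481635010039778342554499416459730172574551513689147646224 >>> (4 * (m % 256))) % 16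

/-- The number of set bits below 24. -/
def pc (m : ℕ) : ℕ := pcByte m + pcByte (m >>> 8) + pcByte (m >>> 16)

theorem pcByte_all : ((List.range 256).all fun m =>
    pcByte m == (List.range 8).countP fun i => m.testBit i) = true := by decide +kernel

theorem pcByte_eq (m : ℕ) : pcByte m = (List.range 8).countP fun i => m.testBit i := by
  have h := List.all_eq_true.mp pcByte_all (m % 256) (List.mem_range.mpr (Nat.mod_lt _ (by norm_num)))
  simp only [beq_iff_eq] at h
  have h' : pcByte (m % 256) = pcByte m := by simp [pcByte]
  rw [← h', h]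
  refine List.countP_congr fun i hi => ?_
  have : i < 8 := List.mem_range.mp hi
  rw [show (256 : ℕ) = 2 ^ 8 from rfl, Nat.testBit_mod_two_pow]
  simp [this]

theorem pc_eq_countP (m : ℕ) : pc m = (List.range 24).countP fun i => m.testBit i := by
  have : List.range 24 = List.range 8 ++ (List.range 8).map (8 + ·) ++ (List.range 8).map (16 + ·) := rfl
  rw [this, List.countP_append, List.countP_append, List.countP_map, List.countP_map, pc,
    pcByte_eq, pcByte_eq, pcByte_eq]
  congr 2 <;> (try ext i) <;> simp [Nat.testBit_shiftRight, Function.comp_def]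

theorem pc_eq_card (m : ℕ) : pc m = (pts m).card := by
  have h : (pts m).map ptEquiv.toEmbedding = Finset.univ.filter fun i : Fin 24 => m.testBit i = true := by
    ext i
    simp only [Finset.mem_map_equiv, mem_pts, Finset.mem_filter, Finset.mem_univ, true_and]
    rw [show pidx (ptEquiv.symm i) = i from pidx_ptAt i]
  rw [← Finset.card_map ptEquiv.toEmbedding, h, pc_eq_countP, ← Finset.card_map Fin.valEmbedding]
  have : (Finset.univ.filter fun i : Fin 24 => m.testBit i = true).map Fin.valEmbedding
      = ((List.range 24).filter fun i => m.testBit i).toFinset := by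
    ext i; simp [Fin.exists_iff, and_comm]
  rw [this, List.toFinset_card_of_nodup (List.nodup_range.filter _), List.countP_eq_length_filter]

/-- All code masks. -/
def codeMasks : List ℕ := (List.range 4096).map enc

theorem mem_codeMasks {m : ℕ} : m ∈ codeMasks ↔ inCode m = true := by
  constructor
  · intro h
    obtain ⟨i, -, rfl⟩ := List.mem_map.mp h
    exact (inCode_enc i).1
  · intro h
    simp only [inCode, beq_iff_eq] at h
    exact List.mem_map.mpr ⟨m % 4096, List.mem_range.mpr (Nat.mod_lt _ (by norm_num)), h⟩

theorem codeMasks_nodup : codeMasks.Nodup := by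
  refine List.nodup_range.map_on ?_
  intro i hi j hj h
  have h1 := (enc_systematic i).1
  have h2 := (enc_systematic j).1
  rw [Nat.mod_eq_of_lt (List.mem_range.mp hi)] at h1
  rw [Nat.mod_eq_of_lt (List.mem_range.mp hj)] at h2
  rw [← h1, ← h2, h]

theorem lt_of_inCode {m : ℕ} (h : inCode m = true) : m < 2 ^ 24 := by
  simp only [inCode, beq_iff_eq] at h
  rw [← h]; exact (inCode_enc _).2

/-- Counting supports: a predicate on supports is counted on the code masks. -/
theorem ncard_supports_filter (q : Finset GolayPt → Prop) (f : ℕ → Bool)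
    (hf : ∀ m, inCode m = true → (f m = true ↔ q (pts m))) :
    {s | s ∈ supports (golayCode : Set (GolayPt → ZMod 2)) ∧ q s}.ncard
      = (codeMasks.filter f).length := by
  have : {s | s ∈ supports (golayCode : Set (GolayPt → ZMod 2)) ∧ q s}
      = pts '' {m | m ∈ codeMasks.filter f} := by
    ext s
    simp only [Set.mem_setOf_eq, Set.mem_image, List.mem_filter, mem_codeMasks, mem_supports_iff]
    constructor
    · rintro ⟨h, hq⟩
      exact ⟨mk s, ⟨h, (hf _ h).mpr (by simpa using hq)⟩, pts_mk s⟩
    · rintro ⟨m, ⟨h, hm⟩, rfl⟩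
      exact ⟨by rwa [mk_pts (lt_of_inCode h)], (hf m h).mp hm⟩
  rw [this, Set.ncard_image_of_injOn]
  · rw [show {m | m ∈ codeMasks.filter f} = ((codeMasks.filter f).toFinset : Set ℕ) by ext; simp,
      Set.ncard_coe_finset, List.toFinset_card_of_nodup (codeMasks_nodup.filter _)]
  · intro a ha b hb h
    simp only [Set.mem_setOf_eq, List.mem_filter, mem_codeMasks] at ha hb
    exact eq_of_pts_eq (lt_of_inCode ha.1) (lt_of_inCode hb.1) h

theorem mem_octads_iff (s : Finset GolayPt) :
    s ∈ octads ↔ inCode (mk s) = true ∧ s.card = 8 := by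
  simp [octads, wordsOfWeight, mem_supports_iff]

theorem mem_dodecads_iff (s : Finset GolayPt) :
    s ∈ dodecads ↔ inCode (mk s) = true ∧ s.card = 12 := by
  simp [dodecads, wordsOfWeight, mem_supports_iff]

end Cfsg.Lib.Golay
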