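import Cfsg.Agent.Golay.DodecadCounts
import Cfsg.Agent.Golay.DodecadStab
import Cfsg.Prelude.Def_SporadicCombinatorics

/-!
A hexad split into two triples lies in exactly one quartet of the dodecad.
-/

namespace Cfsg.Lib.Golay.Quartets

open Cfsg Cfsg.Lib.Golay Finset

theorem symm_mem {s t : Finset GolayPt} (hs : s ∈ supports (golayCode : Set (GolayPt → ZMod 2)))
    (ht : t ∈ supports (golayCode : Set (GolayPt → ZMod 2))) :
    symmDiff s t ∈ supports (golayCode : Set (GolayPt → ZMod 2)) := by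
  obtain ⟨v, hv, rfl⟩ := hs
  obtain ⟨w, hw, rfl⟩ := ht
  exact ⟨v + w, Submodule.add_mem _ hv hw, support₂_add v w⟩

theorem card_symm (s t : Finset GolayPt) : (symmDiff s t).card + 2 * (s ∩ t).card = s.card + t.card := by
  have h1 : symmDiff s t = (s \ t) ∪ (t \ s) := symmDiff_def s t
  have h2 : Disjoint (s \ t) (t \ s) := disjoint_sdiff_sdiff
  have h3 := card_sdiff_add_card_inter s t
  have h4 := card_sdiff_add_card_inter t s
  rw [h1, card_union_of_disjoint h2]
  rw [inter_comm t s] at h4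
  omega

theorem octad_pair {o o' : Finset GolayPt} (ho : o ∈ octads) (ho' : o' ∈ octads) :
    ((o ∩ o').card = 0 ∨ (o ∩ o').card = 2 ∨ (o ∩ o').card = 4 ∨ (o ∩ o').card = 8) ∧
      ((o ∩ o').card = 4 → symmDiff o o' ∈ octads) ∧ ((o ∩ o').card = 8 → o = o') := by
  have hm := symm_mem ho.1 ho'.1
  have hc := card_support_mem hm
  have h := card_symm o o'
  rw [ho.2, ho'.2] at h
  refine ⟨by omega, fun h4 => ⟨hm, by omega⟩, fun h8 => ?_⟩
  exact (eq_of_subset_of_card_le inter_subset_left (by rw [h8, ho.2])).symm.trans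
    (eq_of_subset_of_card_le inter_subset_right (by rw [h8, ho'.2]))

variable {d : Finset GolayPt} (hd : d ∈ dodecads)

theorem mem_sd {s t : Finset GolayPt} {x : GolayPt} : x ∈ symmDiff s t ↔ x ∈ s ∧ x ∉ t ∨ x ∈ t ∧ x ∉ s :=
  Finset.mem_symmDiff

include hd in
theorem compl_octad {o : Finset GolayPt} (ho : o ∈ octads) (h6 : (o ∩ d).card = 6) :
    symmDiff o d ∈ octads ∧ symmDiff o d ∩ d = d \ o := by
  have h := card_symm o d
  rw [ho.2, hd.2, h6] at h
  refine ⟨⟨symm_mem ho.1 hd.1, by omega⟩, ?_⟩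
  ext x; simp only [mem_inter, mem_sd, mem_sdiff]; tauto

include hd in
theorem compl_hexad {c : Finset GolayPt} (hc : c ∈ hexadsOn d) : d \ c ∈ hexadsOn d := by
  obtain ⟨h6, o, ho, rfl⟩ := hc
  obtain ⟨h1, h2⟩ := compl_octad hd ho h6
  refine ⟨?_, _, h1, by rw [h2]; ext x; simp only [mem_sdiff, mem_inter]; tauto⟩
  rw [card_sdiff_of_subset inter_subset_right, hd.2, h6]

variable {t u : Finset GolayPt} (ht : t.card = 3) (hu : u.card = 3) (htu : Disjoint t u) (hh : t ∪ u ∈ hexadsOn d)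

include hd ht hu htu hh in
theorem flip {v : Finset GolayPt} (hv3 : v.card = 3) (hv : v ⊆ d \ (t ∪ u)) (hH : t ∪ v ∈ hexadsOn d) :
    u ∪ v ∈ hexadsOn d ∧ t ∪ ((d \ (t ∪ u)) \ v) ∈ hexadsOn d := by
  obtain ⟨-, o, ho, hod⟩ := hh
  obtain ⟨-, o1, ho1, ho1d⟩ := hH
  have hx : ∀ x, x ∈ v → x ∈ d ∧ x ∉ t ∧ x ∉ u := fun x h => by
    have := mem_sdiff.mp (hv h); simp only [mem_union, not_or] at this; exact this
  have htuv : ∀ x, x ∈ t → x ∉ u := fun x h => disjoint_left.mp htu h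
  have hne : o ≠ o1 := fun e => by
    subst e
    obtain ⟨x, hxv⟩ := card_pos.mp (by omega : 0 < v.card)
    have : x ∈ t ∪ u := by rw [← hod, ho1d]; exact mem_union_right _ hxv
    exact (mem_union.mp this).elim (hx x hxv).2.1 (hx x hxv).2.2
  have hsub : t ⊆ o ∩ o1 := fun x hxt => mem_inter.mpr
    ⟨(mem_inter.mp (hod ▸ mem_union_left u hxt : x ∈ o ∩ d)).1,
      (mem_inter.mp (ho1d ▸ mem_union_left v hxt : x ∈ o1 ∩ d)).1⟩
  have h4 : (o ∩ o1).card = 4 := by
    obtain ⟨hval, -, h8⟩ := octad_pair ho ho1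
    have := card_le_card hsub
    rcases hval with e | e | e | e <;> first | omega | exact absurd (h8 e) hne
  have hmem := (octad_pair ho ho1).2.1 h4
  have hset : symmDiff o o1 ∩ d = u ∪ v := by
    ext x
    have e1 : x ∈ o ∩ d ↔ x ∈ t ∪ u := by rw [hod]
    have e2 : x ∈ o1 ∩ d ↔ x ∈ t ∪ v := by rw [ho1d]
    simp only [mem_inter, mem_union] at e1 e2
    simp only [mem_inter, mem_sd, mem_union]
    have := hx x; have := htuv x
    tauto
  have huv : u ∪ v ∈ hexadsOn d := by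
    refine ⟨?_, _, hmem, hset⟩
    rw [card_union_of_disjoint (disjoint_right.mpr fun x h => (hx x h).2.2), hu, hv3]
  refine ⟨huv, ?_⟩
  have he : t ∪ ((d \ (t ∪ u)) \ v) = d \ (u ∪ v) := by
    ext x
    have e1 : x ∈ o ∩ d ↔ x ∈ t ∪ u := by rw [hod]
    simp only [mem_inter, mem_union] at e1
    simp only [mem_union, mem_sdiff]
    have := hx x; have := htuv x
    tauto
  rw [he]
  exact compl_hexad hd huv

include hd ht hu htu hh in
theorem unique_meet {v v' : Finset GolayPt} (hv3 : v.card = 3) (hv : v ⊆ d \ (t ∪ u)) (hH : t ∪ v ∈ hexadsOn d)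
    (hv3' : v'.card = 3) (hv' : v' ⊆ d \ (t ∪ u)) (hH' : t ∪ v' ∈ hexadsOn d) (hne : v ≠ v') :
    Disjoint v v' := by
  obtain ⟨hh6, o, ho, hod⟩ := hh
  obtain ⟨-, o1, ho1, ho1d⟩ := hH
  obtain ⟨-, o2, ho2, ho2d⟩ := hH'
  have hx : ∀ w : Finset GolayPt, w ⊆ d \ (t ∪ u) → ∀ x, x ∈ w → x ∈ d ∧ x ∉ t ∧ x ∉ u := fun w hw x h => by
    have := mem_sdiff.mp (hw h); simp only [mem_union, not_or] at this; exact this
  have hin : ∀ {O w : Finset GolayPt}, O ∩ d = t ∪ w → ∀ x, x ∈ t ∪ w → x ∈ O := fun e x h =>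
    (mem_inter.mp (e ▸ h : x ∈ _ ∩ d)).1
  rw [disjoint_left]
  intro a hav hav'
  -- the third point outside the dodecad
  have hout : ∀ {O w : Finset GolayPt}, O ∈ octads → O ∩ d = t ∪ w → w ⊆ d \ (t ∪ u) → w.Nonempty →
      ∃ x, x ∈ o ∧ x ∈ O ∧ x ∉ d := by
    intro O w hO hOd hw ⟨b, hb⟩
    obtain ⟨hval, -, h8⟩ := octad_pair ho hO
    have hsub : t ⊆ o ∩ O := fun x hxt => mem_inter.mpr
      ⟨hin hod x (mem_union_left _ hxt), hin hOd x (mem_union_left _ hxt)⟩
    have hlt : t.card < (o ∩ O).card := by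
      have := card_le_card hsub
      rcases hval with e | e | e | e <;> omega
    obtain ⟨x, hxo, hxt⟩ := exists_mem_notMem_of_card_lt_card hlt
    rw [mem_inter] at hxo
    refine ⟨x, hxo.1, hxo.2, fun hxd => ?_⟩
    have e1 : x ∈ t ∪ u := hod ▸ mem_inter.mpr ⟨hxo.1, hxd⟩
    have e2 : x ∈ t ∪ w := hOd ▸ mem_inter.mpr ⟨hxo.2, hxd⟩
    rcases mem_union.mp e1 with h | h
    · exact hxt h
    · rcases mem_union.mp e2 with h' | h'
      · exact hxt h'
      · exact (hx w hw x h').2.2 h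
  obtain ⟨x, hxo, hx1, hxd⟩ := hout ho1 ho1d hv ⟨a, hav⟩
  obtain ⟨y, hyo, hy2, hyd⟩ := hout ho2 ho2d hv' ⟨a, hav'⟩
  have hat : a ∉ t := (hx v hv a hav).2.1
  have hne12 : o1 ≠ o2 := fun e => by
    subst e
    refine hne (ext fun z => ⟨fun h => ?_, fun h => ?_⟩)
    · exact (mem_union.mp ((ho1d.symm.trans ho2d) ▸ mem_union_right t h)).resolve_left (hx v hv z h).2.1
    · exact (mem_union.mp ((ho2d.symm.trans ho1d) ▸ mem_union_right t h)).resolve_left (hx v' hv' z h).2.1
  have hsub : insert a t ⊆ o1 ∩ o2 := by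
    refine insert_subset (mem_inter.mpr ⟨hin ho1d a (mem_union_right _ hav), hin ho2d a (mem_union_right _ hav')⟩) ?_
    exact fun z hz => mem_inter.mpr ⟨hin ho1d z (mem_union_left _ hz), hin ho2d z (mem_union_left _ hz)⟩
  have h12 : (o1 ∩ o2).card = 4 := by
    obtain ⟨hval, -, h8⟩ := octad_pair ho1 ho2
    have := card_le_card hsub
    rw [card_insert_of_notMem hat, ht] at this
    rcases hval with e | e | e | e <;> first | omega | exact absurd (h8 e) hne12
  have heq : o1 ∩ o2 = insert a t :=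
    (eq_of_subset_of_card_le hsub (by rw [h12, card_insert_of_notMem hat, ht])).symm
  have hnot : ∀ z, z ∈ o1 → z ∈ o2 → z ∈ d := fun z h1 h2 => by
    have : z ∈ insert a t := heq ▸ mem_inter.mpr ⟨h1, h2⟩
    rcases mem_insert.mp this with rfl | h
    · exact (hx v hv z hav).1
    · exact (mem_inter.mp (hod ▸ mem_union_left u h : z ∈ o ∩ d)).2
  have h3 := (octad_pair ho1 ho2).2.1 h12
  obtain ⟨ho', ho'd⟩ := compl_octad hd ho (by rw [hod]; exact hh6)
  -- the two octads meet in too many points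
  have hxy : x ≠ y := fun e => hxd (hnot x hx1 (e ▸ hy2))
  have hvv : v ∩ v' = {a} := by
    refine eq_singleton_iff_unique_mem.mpr ⟨mem_inter.mpr ⟨hav, hav'⟩, fun z hz => ?_⟩
    rw [mem_inter] at hz
    have : z ∈ insert a t := heq ▸ mem_inter.mpr ⟨hin ho1d z (mem_union_right _ hz.1), hin ho2d z (mem_union_right _ hz.2)⟩
    exact (mem_insert.mp this).resolve_right (hx v hv z hz.1).2.1
  have hsd : (symmDiff v v').card = 4 := by
    have := card_symm v v'
    rw [hvv, card_singleton, hv3, hv3'] at this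
    omega
  have hsub2 : insert x (insert y (symmDiff v v')) ⊆ symmDiff o1 o2 ∩ symmDiff o d := by
    intro z hz
    simp only [mem_insert, mem_inter, mem_sd] at hz ⊢
    rcases hz with rfl | rfl | hz
    · exact ⟨Or.inl ⟨hx1, fun h => hxd (hnot z hx1 h)⟩, Or.inl ⟨hxo, hxd⟩⟩
    · exact ⟨Or.inr ⟨hy2, fun h => hyd (hnot z h hy2)⟩, Or.inl ⟨hyo, hyd⟩⟩
    · have ho_not : z ∈ d → z ∉ t → z ∉ u → z ∉ o := fun h h1 h2 hzo =>
        (mem_union.mp (hod ▸ mem_inter.mpr ⟨hzo, h⟩ : z ∈ t ∪ u)).elim h1 h2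
      rcases hz with ⟨h, h'⟩ | ⟨h, h'⟩
      · obtain ⟨zd, zt, zu⟩ := hx v hv z h
        refine ⟨Or.inl ⟨hin ho1d z (mem_union_right _ h), fun hz2 => ?_⟩, Or.inr ⟨zd, ho_not zd zt zu⟩⟩
        exact (mem_union.mp (ho2d ▸ mem_inter.mpr ⟨hz2, zd⟩ : z ∈ t ∪ v')).elim zt h'
      · obtain ⟨zd, zt, zu⟩ := hx v' hv' z h
        refine ⟨Or.inr ⟨hin ho2d z (mem_union_right _ h), fun hz2 => ?_⟩, Or.inr ⟨zd, ho_not zd zt zu⟩⟩
        exact (mem_union.mp (ho1d ▸ mem_inter.mpr ⟨hz2, zd⟩ : z ∈ t ∪ v)).elim zt h'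
  have hnd : ∀ z ∈ symmDiff v v', z ∈ d := fun z hz => by
    rcases mem_sd.mp hz with h | h
    · exact (hx v hv z h.1).1
    · exact (hx v' hv' z h.1).1
  have h6 := card_le_card hsub2
  rw [card_insert_of_notMem (by
      simp only [mem_insert, not_or]; exact ⟨hxy, fun h => hxd (hnd x h)⟩),
    card_insert_of_notMem (fun h => hyd (hnd y h)), hsd] at h6
  obtain ⟨hval, -, h8⟩ := octad_pair h3 ho'
  have e8 := h8 (by omega)
  have e1 : symmDiff o1 o2 ∩ d ⊆ symmDiff v v' := by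
    intro z hz
    rw [mem_inter, mem_sd] at hz
    rcases hz with ⟨⟨h1, h2⟩ | ⟨h1, h2⟩, hzd⟩
    · have : z ∈ t ∪ v := ho1d ▸ mem_inter.mpr ⟨h1, hzd⟩
      rcases mem_union.mp this with h | h
      · exact absurd (hin ho2d z (mem_union_left _ h)) h2
      · exact mem_sd.mpr (Or.inl ⟨h, fun h' => h2 (hin ho2d z (mem_union_right _ h'))⟩)
    · have : z ∈ t ∪ v' := ho2d ▸ mem_inter.mpr ⟨h1, hzd⟩
      rcases mem_union.mp this with h | h
      · exact absurd (hin ho1d z (mem_union_left _ h)) h2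
      · exact mem_sd.mpr (Or.inr ⟨h, fun h' => h2 (hin ho1d z (mem_union_right _ h'))⟩)
  have := card_le_card e1
  have hsplit := card_sdiff_add_card_inter d o
  rw [inter_comm d o, hod, hh6, hd.2] at hsplit
  rw [e8, ho'd, hsd] at this
  omega

include hd ht hu htu hh in
theorem exists_third : ∃ v, v.card = 3 ∧ v ⊆ d \ (t ∪ u) ∧ t ∪ v ∈ hexadsOn d := by
  obtain ⟨hh6, o, ho, hod⟩ := hh
  have hsubd : t ∪ u ⊆ d := hod ▸ inter_subset_right
  set h' := d \ (t ∪ u) with hh'
  have hc' : h'.card = 6 := by rw [hh', card_sdiff_of_subset hsubd, hd.2, hh6]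
  obtain ⟨p, hp⟩ := card_pos.mp (by omega : 0 < h'.card)
  obtain ⟨hpd, hptu⟩ := mem_sdiff.mp hp
  simp only [mem_union, not_or] at hptu
  have hsix : ∀ q ∈ h'.erase p, ∃ O ∈ octads, insert p (insert q t) ⊆ O ∧ (O ∩ d).card = 6 := by
    intro q hq
    obtain ⟨hqp, hqh⟩ := mem_erase.mp hq
    obtain ⟨hqd, hqtu⟩ := mem_sdiff.mp hqh
    simp only [mem_union, not_or] at hqtu
    have h5 : (insert p (insert q t)).card = 5 := by
      rw [card_insert_of_notMem (by simp [hptu.1, Ne.symm hqp]), card_insert_of_notMem hqtu.1, ht]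
    obtain ⟨O, ⟨hO, hsub⟩, -⟩ := octads_steiner.2 _ h5
    refine ⟨O, hO, hsub, ?_⟩
    have h1 : insert p (insert q t) ⊆ O ∩ d := fun z hz => mem_inter.mpr ⟨hsub hz, by
      simp only [mem_insert] at hz
      rcases hz with rfl | rfl | h
      exacts [hpd, hqd, hsubd (mem_union_left _ h)]⟩
    have := card_le_card h1
    rcases octad_meet_dodecad hd hO with e | e | e <;> omega
  choose! O hO hOsub hO6 using hsix
  by_contra hno
  push Not at hno
  have hmeet : ∀ q ∈ h'.erase p, ∃ r, r ∈ u ∧ r ∈ O q := by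
    intro q hq
    by_contra hne
    push Not at hne
    refine hno ((O q ∩ d) \ t) ?_ (fun z hz => ?_) ⟨?_, O q, hO q hq, ?_⟩
    · rw [card_sdiff_of_subset fun z hz => mem_inter.mpr
        ⟨hOsub q hq (by simp [hz]), hsubd (mem_union_left _ hz)⟩, hO6 q hq, ht]
    · rw [mem_sdiff, mem_inter] at hz
      exact mem_sdiff.mpr ⟨hz.1.2, fun h => (mem_union.mp h).elim hz.2 fun h => hne z h hz.1.1⟩
    all_goals
      have e : t ∪ ((O q ∩ d) \ t) = O q ∩ d := union_sdiff_of_subset fun z hz => mem_inter.mpr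
        ⟨hOsub q hq (by simp [hz]), hsubd (mem_union_left _ hz)⟩
    · rw [e, hO6 q hq]
    · exact e.symm
  choose! r hru hrO using hmeet
  obtain ⟨q, hq, q', hq', hqq, hr⟩ := exists_ne_map_eq_of_card_lt_of_maps_to (s := h'.erase p) (t := u)
    (by rw [card_erase_of_mem hp, hc', hu]; norm_num) (f := r) hru
  have hq'' := fun {z} (h : z ∈ h'.erase p) => mem_sdiff.mp (mem_erase.mp h).2
  have h5 : (insert (r q) (insert p t)).card = 5 := by
    rw [card_insert_of_notMem, card_insert_of_notMem hptu.1, ht]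
    simp only [mem_insert, not_or]
    exact ⟨fun e => hptu.2 (e ▸ hru q hq), fun h => disjoint_left.mp htu h (hru q hq)⟩
  have hsubO : ∀ z ∈ h'.erase p, r z = r q → insert (r q) (insert p t) ⊆ O z := fun z hz he w hw => by
    simp only [mem_insert] at hw
    rcases hw with rfl | rfl | h
    · exact he ▸ hrO z hz
    · exact hOsub z hz (by simp)
    · exact hOsub z hz (by simp [h])
  obtain ⟨O₀, -, huniq⟩ := octads_steiner.2 _ h5
  have he : O q = O q' := (huniq _ ⟨hO q hq, hsubO q hq rfl⟩).trans (huniq _ ⟨hO q' hq', hsubO q' hq' hr.symm⟩).symm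
  have hbig : insert q (insert q' (insert (r q) (insert p t))) ⊆ O q ∩ d := by
    intro w hw
    simp only [mem_insert] at hw
    rw [mem_inter]
    rcases hw with rfl | rfl | rfl | rfl | h
    · exact ⟨hOsub w hq (by simp), (hq'' hq).1⟩
    · exact ⟨he ▸ hOsub w hq' (by simp), (hq'' hq').1⟩
    · exact ⟨hrO q hq, hsubd (mem_union_right _ (hru q hq))⟩
    · exact ⟨hOsub q hq (by simp), hpd⟩
    · exact ⟨hOsub q hq (by simp [h]), hsubd (mem_union_left _ h)⟩
  have := card_le_card hbig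
  rw [hO6 q hq, card_insert_of_notMem, card_insert_of_notMem, h5] at this
  · omega
  · simp only [mem_insert, not_or]
    have h := (hq'' hq').2; simp only [mem_union, not_or] at h
    exact ⟨fun e => h.2 (e ▸ hru q hq), (mem_erase.mp hq').1, h.1⟩
  · simp only [mem_insert, not_or]
    have h := (hq'' hq).2; simp only [mem_union, not_or] at h
    exact ⟨hqq, fun e => h.2 (e ▸ hru q hq), (mem_erase.mp hq).1, h.1⟩

include hd ht hu htu hh in
theorem existsUnique_quartet :
    ∃! Q : Finset (Finset GolayPt), Q ∈ quartets d ∧ t ∈ Q ∧ u ∈ Q := by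
  obtain ⟨v, hv3, hv, hH⟩ := exists_third hd ht hu htu hh
  obtain ⟨huv, htw⟩ := flip hd ht hu htu hh hv3 hv hH
  set w := (d \ (t ∪ u)) \ v with hw
  have hsubd : t ∪ u ⊆ d := by
    obtain ⟨-, o, -, hod⟩ := hh; exact hod ▸ inter_subset_right
  have hw3 : w.card = 3 := by
    rw [hw, card_sdiff_of_subset hv, card_sdiff_of_subset hsubd, hd.2, hh.1, hv3]
  have hwsub : w ⊆ d \ (t ∪ u) := sdiff_subset
  have huw := (flip hd ht hu htu hh hw3 hwsub htw).1
  have hvw : v ∪ w = d \ (t ∪ u) := union_sdiff_of_subset hv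
  have hne : ∀ {a b : Finset GolayPt}, a.card = 3 → Disjoint a b → a ≠ b := fun ha hab e => by
    subst e; rw [disjoint_self] at hab; rw [hab] at ha; simp at ha
  have dtv : Disjoint t v := disjoint_right.mpr fun x h h' => (mem_sdiff.mp (hv h)).2 (mem_union_left _ h')
  have duv : Disjoint u v := disjoint_right.mpr fun x h h' => (mem_sdiff.mp (hv h)).2 (mem_union_right _ h')
  have dtw : Disjoint t w := disjoint_right.mpr fun x h h' => (mem_sdiff.mp (hwsub h)).2 (mem_union_left _ h')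
  have duw : Disjoint u w := disjoint_right.mpr fun x h h' => (mem_sdiff.mp (hwsub h)).2 (mem_union_right _ h')
  have dvw : Disjoint v w := disjoint_sdiff
  refine ⟨{t, u, v, w}, ⟨⟨?_, ?_, ?_⟩, by simp, by simp⟩, ?_⟩
  · rw [card_insert_of_notMem, card_insert_of_notMem, card_pair (hne hv3 dvw)]
    · simp [hne hu duv, hne hu duw]
    · simp [hne ht htu, hne ht dtv, hne ht dtw]
  · intro a ha
    simp only [mem_insert, mem_singleton] at ha
    rcases ha with rfl | rfl | rfl | rfl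
    · exact ⟨ht, (subset_union_left).trans hsubd⟩
    · exact ⟨hu, (subset_union_right).trans hsubd⟩
    · exact ⟨hv3, hv.trans sdiff_subset⟩
    · exact ⟨hw3, hwsub.trans sdiff_subset⟩
  · intro a ha b hb hab
    have hvwH : v ∪ w ∈ hexadsOn d := hvw ▸ compl_hexad hd hh
    simp only [mem_insert, mem_singleton] at ha hb
    rcases ha with rfl | rfl | rfl | rfl <;> rcases hb with rfl | rfl | rfl | rfl <;>
      first
        | exact absurd rfl hab
        | assumption
        | (rw [union_comm]; assumption)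
  · rintro Q ⟨⟨hQ4, hQ3, hQh⟩, htQ, huQ⟩
    have hdis : ∀ a ∈ Q, ∀ b ∈ Q, a ≠ b → Disjoint a b := fun a ha b hb hab =>
      card_union_eq_card_add_card.mp (by rw [(hQh a ha b hb hab).1, (hQ3 a ha).1, (hQ3 b hb).1])
    refine eq_of_subset_of_card_le (fun a ha => ?_) (by rw [hQ4]; exact card_le_four)
    simp only [mem_insert, mem_singleton]
    by_cases hat : a = t
    · exact Or.inl hat
    by_cases hau : a = u
    · exact Or.inr (Or.inl hau)
    have hsub : a ⊆ d \ (t ∪ u) := fun x hx => mem_sdiff.mpr ⟨(hQ3 a ha).2 hx, fun h => (mem_union.mp h).elim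
      (disjoint_left.mp (hdis a ha t htQ hat) hx) (disjoint_left.mp (hdis a ha u huQ hau) hx)⟩
    have hta : t ∪ a ∈ hexadsOn d := hQh t htQ a ha (Ne.symm hat)
    by_cases hav : a = v
    · exact Or.inr (Or.inr (Or.inl hav))
    right; right; right
    have hd' := unique_meet hd ht hu htu hh (hQ3 a ha).1 hsub hta hv3 hv hH hav
    exact eq_of_subset_of_card_le (fun x hx => mem_sdiff.mpr ⟨hsub hx, disjoint_left.mp hd' hx⟩)
      (by rw [hw3, (hQ3 a ha).1])

end Cfsg.Lib.Golay.Quartets
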