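import Cfsg.Agent.Golay.CodeFacts
import Cfsg.Agent.Golay.DodecadCounts
import Cfsg.Agent.Golay.Quartets

/-!
The invariant subspaces of the permutation module of the largest Mathieu group over `ZMod 2`.
-/

namespace Cfsg.Lib.Golay.Modules

open Cfsg Cfsg.Lib.Golay Finset
open scoped Pointwise

/-- A word carried by a permutation. -/
def pw (σ : Equiv.Perm GolayPt) (w : GolayPt → ZMod 2) : GolayPt → ZMod 2 := fun p => w (σ.symm p)

theorem pw_add (σ : Equiv.Perm GolayPt) (v w : GolayPt → ZMod 2) : pw σ (v + w) = pw σ v + pw σ w := rfl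

theorem pw_one (σ : Equiv.Perm GolayPt) : pw σ 1 = 1 := rfl

theorem support₂_pw (σ : Equiv.Perm GolayPt) (w : GolayPt → ZMod 2) : support₂ (pw σ w) = σ • support₂ w :=
  support₂_comp σ w

theorem pw_ind (σ : Equiv.Perm GolayPt) (s : Finset GolayPt) : pw σ (ind s) = ind (σ • s) := by
  rw [← ind_support₂ (pw σ (ind s)), support₂_pw, support₂_ind]

theorem add_ind (s t : Finset GolayPt) : ind s + ind t = (ind (symmDiff s t) : GolayPt → ZMod 2) := by
  rw [← ind_support₂ (ind s + ind t), support₂_add, support₂_ind, support₂_ind]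

theorem ind_univ : ind (univ : Finset GolayPt) = (1 : GolayPt → ZMod 2) := by
  rw [← ind_support₂ (1 : GolayPt → ZMod 2)]
  congr 1
  try (ext p; simp [support₂])

theorem ind_inj {s t : Finset GolayPt} (h : (ind s : GolayPt → ZMod 2) = ind t) : s = t := by
  rw [← support₂_ind s, h, support₂_ind]

theorem ind_mem_code {s : Finset GolayPt} :
    (ind s : GolayPt → ZMod 2) ∈ golayCode ↔ s ∈ supports (golayCode : Set (GolayPt → ZMod 2)) := by
  conv_rhs => rw [← support₂_ind s]
  rw [support₂_mem_supports]; rfl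

theorem pw_mem_code {σ : Equiv.Perm GolayPt} (hσ : σ ∈ M24) {c : GolayPt → ZMod 2} (hc : c ∈ golayCode) :
    pw σ c ∈ golayCode := by
  rw [← ind_support₂ c] at hc ⊢
  rw [pw_ind, ind_mem_code]
  exact (mem_M24_iff σ).mp hσ _ (ind_mem_code.mp hc)

/-- Any two lists of at most five distinct points correspond under the group. -/
theorem exists_map {k : ℕ} (hk : k ≤ 5) (x y : Fin k ↪ GolayPt) : ∃ g ∈ M24, ∀ i, g (x i) = y i := by
  haveI := M24_five_transitive
  haveI : MulAction.IsMultiplyPretransitive M24 GolayPt k :=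
    MulAction.isMultiplyPretransitive_of_le (n := 5) hk (by
      rw [Nat.card_eq_fintype_card, Fintype.card_option, ZMod.card]; norm_num)
  obtain ⟨g, hg⟩ := MulAction.exists_smul_eq M24 x y
  exact ⟨g, g.2, fun i => DFunLike.congr_fun hg i⟩

theorem exists_map_set {s t : Finset GolayPt} (hs : s.card ≤ 5) (h : s.card = t.card) : ∃ g ∈ M24, g • s = t := by
  let x : Fin s.card ↪ GolayPt := s.equivFin.symm.toEmbedding.trans (Function.Embedding.subtype _)
  let y : Fin s.card ↪ GolayPt := (t.equivFinOfCardEq h.symm).symm.toEmbedding.trans (Function.Embedding.subtype _)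
  obtain ⟨g, hg, he⟩ := exists_map hs x y
  refine ⟨g, hg, eq_of_subset_of_card_le (fun q hq => ?_) (by rw [card_smul_finset, h])⟩
  obtain ⟨p, hp, rfl⟩ := mem_smul_finset.mp hq
  have : x (s.equivFin ⟨p, hp⟩) = p := by simp [x]
  rw [Equiv.Perm.smul_def, ← this, he]
  exact Subtype.prop _

theorem exists_map_three {a b c a' b' c' : GolayPt} (h1 : a ≠ b) (h2 : a ≠ c) (h3 : b ≠ c) (h1' : a' ≠ b')
    (h2' : a' ≠ c') (h3' : b' ≠ c') : ∃ g ∈ M24, g a = a' ∧ g b = b' ∧ g c = c' := by
  have mk : ∀ {u v w : GolayPt}, u ≠ v → u ≠ w → v ≠ w → Function.Injective ![u, v, w] := by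
    intro u v w huv huw hvw i j h
    fin_cases i <;> fin_cases j <;> simp_all [eq_comm]
  obtain ⟨g, hg, he⟩ := exists_map (by norm_num) ⟨_, mk h1 h2 h3⟩ ⟨_, mk h1' h2' h3'⟩
  exact ⟨g, hg, he 0, he 1, he 2⟩

variable {U : Submodule (ZMod 2) (GolayPt → ZMod 2)} (hU : ∀ σ ∈ M24, ∀ w ∈ U, pw σ w ∈ U)

/-- All words of even weight lie in a subspace containing all pairs. -/
theorem even_le (hpair : ∀ a b, a ≠ b → (ind {a, b} : GolayPt → ZMod 2) ∈ U) (s : Finset GolayPt) :
    Even s.card → (ind s : GolayPt → ZMod 2) ∈ U := by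
  induction s using Finset.strongInduction with
  | _ s ih =>
    intro he
    rcases s.eq_empty_or_nonempty with rfl | ⟨a, ha⟩
    · have : (ind (∅ : Finset GolayPt) : GolayPt → ZMod 2) = 0 := by
        rw [← ind_support₂ (0 : GolayPt → ZMod 2)]; congr 1
      rw [this]; exact U.zero_mem
    have h2 : 1 < s.card := by
      obtain ⟨k, hk⟩ := he
      have := card_pos.mpr ⟨a, ha⟩
      omega
    obtain ⟨b, hb, hba⟩ := exists_mem_ne h2 a
    have hlt : s \ {a, b} ⊂ s := Finset.sdiff_ssubset (insert_subset ha (singleton_subset_iff.mpr hb)) (by simp)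
    have hsub : ({a, b} : Finset GolayPt) ⊆ s := insert_subset ha (singleton_subset_iff.mpr hb)
    have hev : Even (s \ {a, b}).card := by
      rw [card_sdiff_of_subset hsub, card_pair hba.symm]
      obtain ⟨k, hk⟩ := he; exact ⟨k - 1, by omega⟩
    have := U.add_mem (hpair a b hba.symm) (ih _ hlt hev)
    rwa [add_ind, symmDiff_eq_union disjoint_sdiff, union_sdiff_of_subset hsub] at this

include hU in
theorem pair_transfer {a b : GolayPt} (hab : a ≠ b) (h : (ind {a, b} : GolayPt → ZMod 2) ∈ U) :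
    ∀ c d, c ≠ d → (ind {c, d} : GolayPt → ZMod 2) ∈ U := by
  intro c d hcd
  obtain ⟨g, hg, he⟩ := exists_map_set (s := {a, b}) (t := {c, d}) (by rw [card_pair hab]; norm_num)
    (by rw [card_pair hab, card_pair hcd])
  have := hU g hg _ h
  rwa [pw_ind, he] at this

include hU in
/-- A word outside the code yields all pairs modulo the code. -/
theorem pairs_mod_code {w : GolayPt → ZMod 2} (hw : w ∈ U) (hwc : w ∉ golayCode) :
    ∀ a b, a ≠ b → ∃ x ∈ U, (ind {a, b} : GolayPt → ZMod 2) - x ∈ golayCode := by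
  intro a b hab
  have hV : ∀ σ ∈ M24, ∀ v ∈ U ⊔ golayCode, pw σ v ∈ U ⊔ golayCode := fun σ hσ v hv => by
    obtain ⟨x, hx, c, hc, rfl⟩ := Submodule.mem_sup.mp hv
    rw [pw_add]; exact Submodule.add_mem_sup (hU σ hσ x hx) (pw_mem_code hσ hc)
  obtain ⟨u, hu, hu4⟩ : ∃ u, u - w ∈ golayCode ∧ hammingNorm u ≤ 4 := by
    rcases coset_dichotomy golayCode_packing w with ⟨u, h1, h3⟩ | ⟨-, -, hcov⟩
    · exact ⟨u, (h1.ge (Set.mem_singleton u)).1, by omega⟩
    · obtain ⟨u, h1, h4, -⟩ := hcov none; exact ⟨u, h1, h4⟩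
  have huV : u ∈ U ⊔ golayCode := by
    rw [← add_sub_cancel w u]; exact Submodule.add_mem_sup hw hu
  have hne : u ≠ 0 := fun e => hwc (by rw [e, zero_sub] at hu; simpa using golayCode.neg_mem hu)
  set s := support₂ u with hs
  have hs1 : 1 ≤ s.card := by
    rw [hs, ← hammingNorm_eq]
    exact Nat.one_le_iff_ne_zero.mpr fun h => hne (hammingNorm_eq_zero.mp h)
  rw [hammingNorm_eq, ← hs] at hu4
  obtain ⟨p, hp⟩ := card_pos.mp hs1
  obtain ⟨q, -, hq⟩ := exists_mem_notMem_of_card_lt_card (s := s) (t := (univ : Finset GolayPt))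
    (by rw [card_univ, Fintype.card_option, ZMod.card]; omega)
  obtain ⟨g, hg, hge⟩ := exists_map_set (s := s) (t := insert q (s.erase p)) (by omega)
    (by rw [card_insert_of_notMem (fun h => hq (mem_of_mem_erase h)), card_erase_of_mem hp]; omega)
  have hsum := Submodule.add_mem _ huV (hV g hg u huV)
  rw [← ind_support₂ u, pw_ind, add_ind, ← hs, hge] at hsum
  have hpq : p ≠ q := fun e => hq (e ▸ hp)
  have hset : symmDiff s (insert q (s.erase p)) = {p, q} := by
    ext z
    simp only [Finset.mem_symmDiff, mem_insert, mem_erase, mem_singleton]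
    by_cases hzp : z = p
    · subst hzp; simp [hp, hpq]
    by_cases hzq : z = q
    · subst hzq; simp [hq]
    simp [hzp, hzq]
  rw [hset] at hsum
  obtain ⟨x, hx, c, hc, he⟩ := Submodule.mem_sup.mp (pair_transfer hV hpq hsum a b hab)
  exact ⟨x, hx, by rw [← he, add_sub_cancel_left]; exact hc⟩

include hU in
theorem pair_or_co {w : GolayPt → ZMod 2} (hw : w ∈ U) (hwc : w ∉ golayCode)
    (hsmall : ∀ c ∈ U, c ∈ golayCode → c = 0 ∨ c = 1) {a b : GolayPt} (hab : a ≠ b) :
    (ind {a, b} : GolayPt → ZMod 2) ∈ U ∨ (ind {a, b} : GolayPt → ZMod 2) + 1 ∈ U := by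
  obtain ⟨x, hx, hc⟩ := pairs_mod_code hU hw hwc a b hab
  set c := (ind {a, b} : GolayPt → ZMod 2) - x with hcdef
  have hfix : ∀ σ ∈ M24, σ a = a → σ b = b → σ • support₂ c = support₂ c := by
    intro σ hσ ha hb
    have hab' : σ • ({a, b} : Finset GolayPt) = {a, b} := by
      simp [smul_finset_insert, ha, hb]
    have h1 : pw σ x - x = c - pw σ c := by
      have : pw σ c = pw σ (ind {a, b}) - pw σ x := rfl
      rw [this, pw_ind, hab', hcdef]; abel
    rcases hsmall _ (U.sub_mem (hU σ hσ x hx) hx) (h1 ▸ golayCode.sub_mem hc (pw_mem_code hσ hc)) with h | h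
    · rw [h1, sub_eq_zero] at h
      rw [← support₂_pw, ← h]
    · exfalso
      rw [h1] at h
      have := congrFun h a
      rw [Pi.sub_apply, show pw σ c a = c a from congrArg c ((Equiv.symm_apply_eq σ).mpr ha.symm), sub_self] at this
      exact zero_ne_one this
  set s := support₂ c with hs
  have hsc := card_support_mem (support₂_mem_supports.mpr hc)
  rw [← hs] at hsc
  have hall : ∀ p, p ≠ a → p ≠ b → p ∈ s → ∀ q, q ≠ a → q ≠ b → q ∈ s := by
    intro p hpa hpb hp q hqa hqb
    obtain ⟨g, hg, ga, gb, gp⟩ := exists_map_three hab hpa.symm hpb.symm hab hqa.symm hqb.symm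
    rw [← hfix g hg ga gb, ← gp]
    exact smul_mem_smul_finset hp
  have hc01 : c = 0 ∨ c = 1 := by
    by_cases hex : ∃ p ∈ s, p ≠ a ∧ p ≠ b
    · obtain ⟨p, hp, hpa, hpb⟩ := hex
      have hsub : univ \ {a, b} ⊆ s := fun q hq => by
        simp only [mem_sdiff, mem_univ, mem_insert, mem_singleton, true_and, not_or] at hq
        exact hall p hpa hpb hp q hq.1 hq.2
      have := card_le_card hsub
      rw [card_sdiff_of_subset (subset_univ _), card_univ, Fintype.card_option, ZMod.card, card_pair hab] at this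
      have h24 : s = univ := eq_univ_of_card _ (by rw [Fintype.card_option, ZMod.card]; omega)
      exact Or.inr (by rw [← ind_support₂ c, ← hs, h24, ind_univ])
    · push Not at hex
      have : s ⊆ {a, b} := fun p hp => by
        simp only [mem_insert, mem_singleton]
        exact or_iff_not_imp_left.mpr (hex p hp)
      have := card_le_card this
      rw [card_pair hab] at this
      have h0 : hammingNorm c = 0 := by rw [hammingNorm_eq, ← hs]; omega
      exact Or.inl (hammingNorm_eq_zero.mp h0)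
  rcases hc01 with h | h
  · exact Or.inl (by rw [sub_eq_zero.mp h]; exact hx)
  · refine Or.inr ?_
    have : (ind {a, b} : GolayPt → ZMod 2) + 1 = x := by
      rw [sub_eq_iff_eq_add.mp h, add_comm (1 : GolayPt → ZMod 2) x, add_assoc]
      simp [funext_iff]; decide
    rw [this]; exact hx

include hU in
theorem code_le_of_octad {o : Finset GolayPt} (ho : o ∈ octads) (h : (ind o : GolayPt → ZMod 2) ∈ U) :
    golayCode ≤ U := by
  rw [golayCode_eq_span_rows, Submodule.span_le]
  rintro _ ⟨r, hr, rfl⟩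
  have hrow := List.all_eq_true.mp rows_octads r hr
  simp only [Bool.and_eq_true, decide_eq_true_eq, beq_iff_eq] at hrow
  obtain ⟨g, hg⟩ := M24_octads_transitive ho ((mem_octads_iff (pts r)).mpr
    ⟨by rw [mk_pts hrow.1.1]; exact hrow.1.2, by rw [← pc_eq_card]; exact hrow.2⟩)
  have := hU _ g.2 _ h
  rw [pw_ind] at this
  have e : (g : Equiv.Perm GolayPt) • o = pts r := hg
  rw [e, show (ind (pts r) : GolayPt → ZMod 2) = wd r by rw [← ind_support₂ (wd r), support₂_wd]] at this
  exact this

include hU in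
theorem code_le_or_small : golayCode ≤ U ∨ ∀ c ∈ U, c ∈ golayCode → c = 0 ∨ c = 1 := by
  by_cases h : ∀ c ∈ U, c ∈ golayCode → c = 0 ∨ c = 1
  · exact Or.inr h
  push Not at h
  obtain ⟨c, hcU, hc, h0, h1⟩ := h
  left
  set s := support₂ c with hs
  have hcs : c = ind s := (ind_support₂ c).symm
  have hsm : s ∈ supports (golayCode : Set (GolayPt → ZMod 2)) := support₂_mem_supports.mpr hc
  rcases card_support_mem hsm with e | e | e | e | e
  · exact absurd (hammingNorm_eq_zero.mp (by rw [hammingNorm_eq]; exact e)) h0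
  · exact code_le_of_octad hU ⟨hsm, e⟩ (hcs ▸ hcU)
  · have hd : s ∈ dodecads := ⟨hsm, e⟩
    obtain ⟨o, ho, h4⟩ : ∃ o, o ∈ octads ∧ (o ∩ s).card = 4 :=
      Set.nonempty_of_ncard_ne_zero (s := {o | o ∈ octads ∧ (o ∩ s).card = 4}) (by rw [(s0386 s hd).2.2]; norm_num)
    have hd2 : symmDiff s o ∈ dodecads := by
      refine ⟨Quartets.symm_mem hsm ho.1, ?_⟩
      have := Quartets.card_symm s o
      rw [inter_comm s o, h4, e, ho.2] at this
      omega
    obtain ⟨g, hg⟩ := M24_dodecads_transitive hd hd2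
    have hmem := U.add_mem hcU (hU _ g.2 _ hcU)
    rw [hcs, pw_ind, add_ind, show (g : Equiv.Perm GolayPt) • s = symmDiff s o from hg, symmDiff_symmDiff_cancel_left] at hmem
    exact code_le_of_octad hU ho hmem
  · have ho : sᶜ ∈ octads := ⟨compl_mem_supports hsm, by
      rw [card_compl, e, Fintype.card_option, ZMod.card]⟩
    obtain ⟨F, hF, hF4⟩ := exists_subset_card_eq (s := sᶜ) (n := 4) (by rw [ho.2]; norm_num)
    obtain ⟨q, hq⟩ := card_pos.mp (by rw [e]; norm_num : 0 < s.card)
    have hqF : q ∉ F := fun h => (mem_compl.mp (hF h)) hq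
    obtain ⟨o2, ⟨ho2, hsub⟩, -⟩ := octads_steiner.2 (insert q F) (by rw [card_insert_of_notMem hqF, hF4])
    have hne : sᶜ ≠ o2 := fun e' => (mem_compl.mp (e' ▸ hsub (mem_insert_self q F) : q ∈ sᶜ)) hq
    obtain ⟨hval, h4', h8⟩ := Quartets.octad_pair ho ho2
    have hle : F ⊆ sᶜ ∩ o2 := subset_inter hF ((subset_insert q F).trans hsub)
    have := card_le_card hle
    have h4 : (sᶜ ∩ o2).card = 4 := by
      rcases hval with e' | e' | e' | e' <;> first | omega | exact absurd (h8 e') hne
    obtain ⟨g, hg⟩ := M24_octads_transitive ho ho2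
    have hmem := U.add_mem hcU (hU _ g.2 _ hcU)
    have hcompl : (g : Equiv.Perm GolayPt) • s = o2ᶜ := by
      rw [← show (g : Equiv.Perm GolayPt) • sᶜ = o2 from hg]
      ext z
      obtain ⟨y, rfl⟩ := (g : Equiv.Perm GolayPt).surjective z
      simp [← Equiv.Perm.smul_def]
    rw [hcs, pw_ind, add_ind, hcompl, show symmDiff s o2ᶜ = symmDiff sᶜ o2 by
      ext z; simp [Finset.mem_symmDiff]; tauto] at hmem
    exact code_le_of_octad hU (h4' h4) hmem
  · exfalso
    apply h1
    rw [hcs, eq_univ_of_card s (by rw [e, Fintype.card_option, ZMod.card]), ind_univ]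

include hU in
theorem pairs_of_not_le {w : GolayPt → ZMod 2} (hw : w ∈ U) (hwc : w ∉ golayCode) :
    ∀ a b, a ≠ b → (ind {a, b} : GolayPt → ZMod 2) ∈ U := by
  rcases code_le_or_small hU with hle | hsmall
  · intro a b hab
    obtain ⟨x, hx, hc⟩ := pairs_mod_code hU hw hwc a b hab
    have := U.add_mem hx (hle hc)
    rwa [add_sub_cancel] at this
  by_contra hno
  push Not at hno
  obtain ⟨a, b, hab, hnot⟩ := hno
  have hco : ∀ p q, p ≠ q → (ind {p, q} : GolayPt → ZMod 2) + 1 ∈ U := fun p q hpq =>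
    (pair_or_co hU hw hwc hsmall hpq).resolve_left fun h => hnot (pair_transfer hU hpq h a b hab)
  obtain ⟨o, ho⟩ : octads.Nonempty := Set.nonempty_of_ncard_ne_zero (by rw [ncard_octads]; norm_num)
  let x : Fin 8 ↪ GolayPt := (o.equivFinOfCardEq ho.2).symm.toEmbedding.trans (Function.Embedding.subtype _)
  have hx : ∀ i j : Fin 8, i ≠ j → x i ≠ x j := fun i j h e => h (x.injective e)
  have h4 := U.add_mem (U.add_mem (hco _ _ (hx 0 1 (by decide))) (hco _ _ (hx 2 3 (by decide))))
    (U.add_mem (hco _ _ (hx 4 5 (by decide))) (hco _ _ (hx 6 7 (by decide))))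
  have hsum : (ind {x 0, x 1} + 1) + (ind {x 2, x 3} + 1) + ((ind {x 4, x 5} + 1) + (ind {x 6, x 7} + 1))
      = (ind o : GolayPt → ZMod 2) := by
    have h11 : (1 : GolayPt → ZMod 2) + 1 = 0 := by simp [funext_iff]; decide
    have ho' : o = univ.map x := by
      refine (eq_of_subset_of_card_le (fun p hp => ?_) (by rw [card_map, ho.2]; simp)).symm
      obtain ⟨i, -, rfl⟩ := mem_map.mp hp
      exact Subtype.prop _
    calc _ = (ind {x 0, x 1} + ind {x 2, x 3}) + (ind {x 4, x 5} + ind {x 6, x 7}) + ((1 + 1) + (1 + 1) : GolayPt → ZMod 2) := by abel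
      _ = ind (symmDiff (symmDiff {x 0, x 1} {x 2, x 3}) (symmDiff {x 4, x 5} {x 6, x 7})) := by
        rw [h11, add_zero, add_zero, add_ind, add_ind, add_ind]
      _ = ind o := by
        congr 1
        rw [ho']
        ext p
        simp only [Finset.mem_symmDiff, mem_insert, mem_singleton, mem_map, mem_univ, true_and]
        by_cases hp : ∃ i, x i = p
        · obtain ⟨i, rfl⟩ := hp
          simp only [x.injective.eq_iff]
          revert i; decide
        · push Not at hp
          simp [Ne.symm (hp _), hp]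
  rw [hsum] at h4
  rcases hsmall _ h4 (ind_mem_code.mpr ho.1) with e | e
  · have h := congrArg support₂ e
    rw [support₂_ind, show support₂ (0 : GolayPt → ZMod 2) = ∅ by ext; simp [support₂]] at h
    have := ho.2
    rw [h] at this
    simp at this
  · rw [← ind_univ] at e
    have := ho.2
    rw [ind_inj e, card_univ, Fintype.card_option, ZMod.card] at this
    omega

include hU in
theorem classify : U = ⊥ ∨ U = Submodule.span (ZMod 2) {fun _ => (1 : ZMod 2)} ∨ U = golayCode ∨
    (U : Set (GolayPt → ZMod 2)) = {w | ∑ p, w p = 0} ∨ U = ⊤ := by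
  have hsum : ∀ w : GolayPt → ZMod 2, ∑ p, w p = ((support₂ w).card : ZMod 2) := by
    intro w
    rw [support₂, card_filter, Nat.cast_sum]
    refine sum_congr rfl fun p _ => ?_
    rcases zmod2_cases (w p) with h | h <;> simp [h]
  by_cases hle : U ≤ golayCode
  · rcases code_le_or_small hU with h | h
    · exact Or.inr (Or.inr (Or.inl (le_antisymm hle h)))
    by_cases h1 : (fun _ => (1 : ZMod 2)) ∈ U
    · refine Or.inr (Or.inl (le_antisymm (fun c hc => ?_) ((Submodule.span_singleton_le_iff_mem _ _).mpr h1)))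
      rcases h c hc (hle hc) with rfl | rfl
      · exact zero_mem _
      · exact Submodule.mem_span_singleton_self _
    · refine Or.inl ((Submodule.eq_bot_iff _).mpr fun c hc => ?_)
      rcases h c hc (hle hc) with rfl | rfl
      · rfl
      · exact absurd hc h1
  obtain ⟨w, hw, hwc⟩ := SetLike.not_le_iff_exists.mp hle
  have hpairs := pairs_of_not_le hU hw hwc
  have heven : ∀ v : GolayPt → ZMod 2, ∑ p, v p = 0 → v ∈ U := fun v hv => by
    rw [hsum, ZMod.natCast_eq_zero_iff_even] at hv
    rw [← ind_support₂ v]; exact even_le hpairs _ hv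
  by_cases hodd : ∃ v ∈ U, ∑ p, v p ≠ 0
  · right; right; right; right
    obtain ⟨v, hv, hvs⟩ := hodd
    refine (Submodule.eq_top_iff').mpr fun z => ?_
    by_cases hz : ∑ p, z p = 0
    · exact heven z hz
    · have h1 : ∀ u : ZMod 2, u ≠ 0 → u = 1 := by decide
      have := U.add_mem hv (heven (z - v) (by
        simp only [Pi.sub_apply, sum_sub_distrib, h1 _ hz, h1 _ hvs, sub_self]))
      rwa [add_sub_cancel] at this
  · push Not at hodd
    exact Or.inr (Or.inr (Or.inr (Or.inl (Set.ext fun v => ⟨fun h => hodd v h, heven v⟩))))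

end Cfsg.Lib.Golay.Modules
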