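import Cfsg.Agent.Golay.StdObjects
import Cfsg.Agent.Golay.Modules

/-!
The stabiliser of a code word fixes no non-zero coset of the code.

For the standard octad and dodecad the generators of the stabiliser separate all 4095 systematic
coset representatives.
-/

namespace Cfsg.Lib.Golay.FixedCosets

open Cfsg Cfsg.Lib.Golay Cfsg.Lib.Golay.Modules Cfsg.Lib.PermCert MulAction
open scoped Pointwise

/-- The generators separate all non-zero cosets. -/
def sepOK (K : CG) (E : ℕ) : Bool :=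
  (K.gens.all fun g => preserves g.1 && img g.1 E == E) &&
    (List.range 4096).all fun r => r == 0 ||
      K.gens.any fun g => !inCode (img3 g (r * 4096) ^^^ (r * 4096))

theorem oct_ok : sepOK cgOct codeOct = true := by decide +kernel

theorem dod_ok : sepOK cgDod 340831 = true := by decide +kernel

theorem pw_wd {g : PP} (hg : valid 24 g = true) {m : ℕ} (hm : m < 2 ^ 24) :
    pw (toP g) (wd m) = wd (img g m) := by
  rw [← wd_mk_support₂ (pw (toP g) (wd m)), support₂_pw, support₂_wd, mk_smul hg, mk_pts hm]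

theorem exists_moving {K : CG} {E : ℕ} (hE : E < 2 ^ 24) (hK : K.ok = true) (h : sepOK K E = true)
    {w : GolayPt → ZMod 2} (hw : w ∉ golayCode) :
    ∃ σ ∈ M24, σ • pts E = pts E ∧ pw σ w - w ∉ golayCode := by
  simp only [sepOK, Bool.and_eq_true, List.all_eq_true, List.any_eq_true, Bool.or_eq_true,
    beq_iff_eq, Bool.not_eq_true', List.mem_range] at h
  obtain ⟨hfix, hsep⟩ := h
  set m := mk (support₂ w) with hm
  have hml : m < 2 ^ 24 := mk_lt _
  set e := enc (m % 4096) with he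
  obtain ⟨he1, he2⟩ := inCode_enc (m % 4096)
  set t := m ^^^ e with ht
  have htl : t < 2 ^ 24 := Nat.xor_lt_two_pow hml he2
  have ht0 : t % 4096 = 0 := by
    rw [ht, show (4096 : ℕ) = 2 ^ 12 from rfl, Nat.xor_mod_two_pow,
      show (2 : ℕ) ^ 12 = 4096 from rfl, he, (enc_systematic _).1, Nat.mod_mod, Nat.xor_self]
  have hsplit : w = wd e + wd t := by
    rw [← wd_xor, ht, Nat.xor_comm m e, ← Nat.xor_assoc, Nat.xor_self, Nat.zero_xor, hm, wd_mk_support₂]
  have hec : wd e ∈ golayCode := (wd_mem_iff he2).mpr he1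
  have htne : t ≠ 0 := by
    intro h0
    apply hw
    rw [hsplit, h0, show wd 0 = (0 : GolayPt → ZMod 2) by ext p; simp [wd], add_zero]
    exact hec
  have hr : t / 4096 < 4096 := by omega
  have hrt : t / 4096 * 4096 = t := by omega
  rcases hsep _ hr with h0 | ⟨g, hg, hmove⟩
  · omega
  rw [hrt] at hmove
  obtain ⟨hgp, hgE⟩ := hfix g hg
  have hgf : fvalid g = true := (CG.ok_spec hK).2.1 g hg
  have hv := valid_of_fvalid hgf
  refine ⟨toP g.1, toP_mem_M24 hgp, ?_, fun hmem => ?_⟩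
  · rw [← pts_img hv, hgE]
  · have hσ := toP_mem_M24 hgp
    rw [hsplit, pw_add, add_sub_add_comm] at hmem
    have h2 : pw (toP g.1) (wd t) - wd t ∈ golayCode :=
      (Submodule.add_mem_iff_right _ (sub_mem (pw_mem_code hσ hec) hec)).mp hmem
    rw [pw_wd hv htl, zmod2_sub_eq_add, ← wd_xor, wd_mem_iff (Nat.xor_lt_two_pow (img_lt hv t) htl),
      ← img3_eq hgf htl, hmove] at h2
    exact absurd h2 (by simp)
where
  zmod2_sub_eq_add {a b : GolayPt → ZMod 2} : a - b = a + b := by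
    rw [sub_eq_add_neg]; congr 1; ext p; exact ZMod.neg_eq_self_mod_two _

theorem moving_of_std {std : Finset GolayPt}
    (hstd : ∀ w ∉ golayCode, ∃ σ ∈ M24, σ • std = std ∧ pw σ w - w ∉ golayCode)
    {s : Finset GolayPt} {h : Equiv.Perm GolayPt} (hh : h ∈ M24) (hs : h • s = std)
    {w : GolayPt → ZMod 2} (hw : w ∉ golayCode) :
    ∃ σ ∈ M24, σ • s = s ∧ pw σ w - w ∉ golayCode := by
  have hback : ∀ v, pw h⁻¹ (pw h v) = v := fun v => funext fun p => congrArg v (h.symm_apply_apply p)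
  have hw' : pw h w ∉ golayCode := fun hc => hw (hback w ▸ pw_mem_code (inv_mem hh) hc)
  obtain ⟨σ, hσ, hfix, hmove⟩ := hstd _ hw'
  refine ⟨h⁻¹ * σ * h, mul_mem (mul_mem (inv_mem hh) hσ) hh, ?_, fun hc => hmove ?_⟩
  · rw [mul_smul, mul_smul, hs, hfix, inv_smul_eq_iff, hs]
  · have hcomp : pw h (pw (h⁻¹ * σ * h) w) = pw σ (pw h w) := funext fun p =>
      congrArg w (by simp [← Equiv.Perm.inv_def, mul_inv_rev])
    have := pw_mem_code hh hc
    rw [show pw h (pw (h⁻¹ * σ * h) w - w) = pw h (pw (h⁻¹ * σ * h) w) - pw h w from rfl, hcomp] at this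
    exact this

theorem moving_octad {o : Finset GolayPt} (ho : o ∈ octads) {w : GolayPt → ZMod 2} (hw : w ∉ golayCode) :
    ∃ σ ∈ M24, σ • o = o ∧ pw σ w - w ∉ golayCode := by
  rw [octads_eq_orbit] at ho
  obtain ⟨h, rfl⟩ := ho
  exact moving_of_std (fun _ hv => exists_moving (by decide +kernel) cgOct_ok oct_ok hv)
    (inv_mem h.2) (inv_smul_smul (h : Equiv.Perm GolayPt) _) hw

theorem moving_dodecad {d : Finset GolayPt} (hd : d ∈ dodecads) {w : GolayPt → ZMod 2} (hw : w ∉ golayCode) :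
    ∃ σ ∈ M24, σ • d = d ∧ pw σ w - w ∉ golayCode := by
  obtain ⟨h, hh⟩ := exists_std_dodecad hd
  exact moving_of_std (fun _ hv => exists_moving (by decide +kernel) cgDod_ok dod_ok hv) h.2 hh hw

theorem moving {u : GolayPt → ZMod 2} (hu : u ∈ golayCode) {w : GolayPt → ZMod 2} (hw : w ∉ golayCode) :
    ∃ σ ∈ M24, pw σ u = u ∧ pw σ w - w ∉ golayCode := by
  have hback : ∀ σ : Equiv.Perm GolayPt, σ • support₂ u = support₂ u → pw σ u = u := fun σ h => by
    rw [← wd_mk_support₂ (pw σ u), support₂_pw, h, wd_mk_support₂]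
  have hsupp : support₂ u ∈ supports (golayCode : Set (GolayPt → ZMod 2)) := ⟨u, hu, rfl⟩
  have hcard := card_support_mem hsupp
  rcases hcard with h | h | h | h | h
  · obtain ⟨o, ho⟩ : octads.Nonempty := Set.nonempty_of_ncard_ne_zero (by rw [ncard_octads]; norm_num)
    obtain ⟨σ, hσ, -, hm⟩ := moving_octad ho hw
    exact ⟨σ, hσ, hback σ (by rw [Finset.card_eq_zero.mp h, Finset.smul_finset_empty]), hm⟩
  · obtain ⟨σ, hσ, hf, hm⟩ := moving_octad ⟨hsupp, h⟩ hw
    exact ⟨σ, hσ, hback σ hf, hm⟩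
  · obtain ⟨σ, hσ, hf, hm⟩ := moving_dodecad ⟨hsupp, h⟩ hw
    exact ⟨σ, hσ, hback σ hf, hm⟩
  · have hc : (support₂ u)ᶜ ∈ octads := ⟨compl_mem_supports hsupp, by
      rw [Finset.card_compl, h]; simp [GolayPt]⟩
    obtain ⟨σ, hσ, hf, hm⟩ := moving_octad hc hw
    refine ⟨σ, hσ, hback σ ?_, hm⟩
    ext p
    have h1 := Finset.ext_iff.mp hf p
    simp only [Finset.mem_smul_finset, Finset.mem_compl, Equiv.Perm.smul_def,
      ← Equiv.eq_symm_apply, exists_eq_right] at h1 ⊢
    exact not_iff_not.mp h1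
  · have huniv : support₂ u = Finset.univ := Finset.eq_univ_of_card _ (by rw [h]; simp [GolayPt])
    obtain ⟨o, ho⟩ : octads.Nonempty := Set.nonempty_of_ncard_ne_zero (by rw [ncard_octads]; norm_num)
    obtain ⟨σ, hσ, -, hm⟩ := moving_octad ho hw
    exact ⟨σ, hσ, hback σ (by rw [huniv, Finset.smul_finset_univ]), hm⟩

end Cfsg.Lib.Golay.FixedCosets
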