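import Cfsg.Agent.Golay.CodeRigidData
import Cfsg.Agent.Golay.FixedCosets

/-!
A linear map of the code that preserves weights up to the all-ones word is induced by the Mathieu
group modulo the all-ones word.

Along a fixed chain of eleven octads, the octads with the same weight profile as the next member
form a single orbit of the group fixing the members before it.
-/

namespace Cfsg.Lib.Golay.CodeRigid

open Cfsg Cfsg.Lib.Golay Cfsg.Lib.Golay.Modules Cfsg.Lib.PermCert MulAction
open scoped Pointwise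

/-- Weight class modulo the all-ones word. -/
def cl (n : ℕ) : ℕ := if n == 12 then 2 else if n == 8 || n == 16 then 1 else 0

/-- Candidates for the image of `b`, the masks in `S` being fixed. -/
def cands (S : List ℕ) (b : ℕ) : List ℕ :=
  octMasks.filter fun o => S.all fun s => cl (pc (o ^^^ s)) == cl (pc (b ^^^ s))

/-- One step of the chain. -/
def stepOK (S : List ℕ) (e : ℕ × List (ℕ × PP)) : Bool :=
  (cands S e.1 == e.2.map Prod.fst) &&
    e.2.all fun p => preserves p.2 && img p.2 p.1 == e.1 && S.all fun s => img p.2 s == s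

/-- The span after one more member. -/
def grow (S : List ℕ) (b : ℕ) : List ℕ := S ++ S.map (· ^^^ b)

/-- All steps. -/
def chainOK : List ℕ → List (ℕ × List (ℕ × PP)) → Bool
  | S, [] => rows.all fun r => S.contains r || S.contains (r ^^^ 16777215)
  | S, e :: l => inCode e.1 && pc e.1 == 8 && stepOK S e && chainOK (grow S e.1) l

theorem chain_ok : chainOK (grow [0] firstOct) chainData = true := by decide +kernel

theorem cl_compl {n : ℕ} (h : n ≤ 24) : cl (24 - n) = cl n := by
  interval_cases n <;> rfl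

/-- A linear map of the code preserving weight classes modulo the all-ones word. -/
structure Good (f : (GolayPt → ZMod 2) → GolayPt → ZMod 2) : Prop where
  mem : ∀ v ∈ golayCode, f v ∈ golayCode
  add : ∀ v ∈ golayCode, ∀ w ∈ golayCode, f (v + w) = f v + f w
  one : f 1 = 1
  weight : ∀ v ∈ golayCode, cl (hammingNorm (f v)) = cl (hammingNorm v)

/-- The map fixes the word modulo the all-ones word. -/
def Fixes (f : (GolayPt → ZMod 2) → GolayPt → ZMod 2) (v : GolayPt → ZMod 2) : Prop :=
  f v = v ∨ f v = v + 1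

variable {f : (GolayPt → ZMod 2) → GolayPt → ZMod 2}

theorem one_mem' : (1 : GolayPt → ZMod 2) ∈ golayCode := by
  rw [← wd_all_ones, wd_mem_iff (by norm_num)]; decide +kernel

theorem add_self' (v : GolayPt → ZMod 2) : v + v = 0 := funext fun p => CharTwo.add_self_eq_zero (v p)

theorem hammingNorm_add_one (v : GolayPt → ZMod 2) : hammingNorm (v + 1) = 24 - hammingNorm v := by
  rw [hammingNorm_eq_card, hammingNorm_eq_card]
  have h : support₂ (v + 1) = (support₂ v)ᶜ := by
    ext p
    simp only [support₂, Finset.mem_filter, Finset.mem_univ, true_and, Finset.mem_compl, Pi.add_apply, Pi.one_apply]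
    generalize v p = a; revert a; decide
  rw [h, Finset.card_compl]; simp [GolayPt]

theorem hammingNorm_le (v : GolayPt → ZMod 2) : hammingNorm v ≤ 24 := by
  simpa [GolayPt] using hammingNorm_le_card_fintype (x := v)

theorem cl_add_one (v : GolayPt → ZMod 2) : cl (hammingNorm (v + 1)) = cl (hammingNorm v) := by
  rw [hammingNorm_add_one, cl_compl (hammingNorm_le v)]

theorem norm_wd {m : ℕ} : hammingNorm (wd m) = pc m := by
  rw [hammingNorm_eq_card, support₂_wd, pc_eq_card]

theorem Good.fix_add (hf : Good f) {v w : GolayPt → ZMod 2} (hv : v ∈ golayCode) (hw : w ∈ golayCode)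
    (h1 : Fixes f v) (h2 : Fixes f w) : Fixes f (v + w) := by
  unfold Fixes at *
  rw [hf.add v hv w hw]
  rcases h1 with h1 | h1 <;> rcases h2 with h2 | h2 <;> rw [h1, h2]
  · exact Or.inl rfl
  · exact Or.inr (by abel)
  · exact Or.inr (by abel)
  · refine Or.inl ?_
    rw [show v + 1 + (w + 1) = v + w + (1 + 1) by abel, add_self', add_zero]

theorem norm_pw (σ : Equiv.Perm GolayPt) (v : GolayPt → ZMod 2) : hammingNorm (pw σ v) = hammingNorm v := by
  rw [hammingNorm_eq_card, hammingNorm_eq_card, support₂_pw, Finset.card_smul_finset]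

theorem Good.comp (hf : Good f) {σ : Equiv.Perm GolayPt} (hσ : σ ∈ M24) : Good (fun v => pw σ (f v)) where
  mem v hv := pw_mem_code hσ (hf.mem v hv)
  add v hv w hw := by simp only [hf.add v hv w hw, pw_add]
  one := by simp only [hf.one, pw_one]
  weight v hv := by simp only [norm_pw]; exact hf.weight v hv

/-- The result for a map. -/
def Induced (f : (GolayPt → ZMod 2) → GolayPt → ZMod 2) : Prop :=
  ∃ σ ∈ M24, ∀ v ∈ golayCode, f v = pw σ v ∨ f v = pw σ v + 1

theorem induced_of_comp {σ : Equiv.Perm GolayPt} (hσ : σ ∈ M24) (h : Induced fun v => pw σ (f v)) : Induced f := by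
  obtain ⟨τ, hτ, hτf⟩ := h
  refine ⟨σ⁻¹ * τ, mul_mem (inv_mem hσ) hτ, fun v hv => ?_⟩
  have hb : ∀ u, pw σ⁻¹ (pw σ u) = u := fun u => funext fun p => congrArg u (σ.symm_apply_apply p)
  have hc : pw σ⁻¹ (pw τ v) = pw (σ⁻¹ * τ) v := funext fun p => congrArg v (by simp [← Equiv.Perm.inv_def, mul_inv_rev])
  rcases hτf v hv with h | h <;> simp only at h
  · left; rw [← hb (f v), h, hc]
  · right; rw [← hb (f v), h, pw_add, hc, pw_one]

theorem exists_octad_rep (hf : Good f) {b : ℕ} (hb : inCode b = true) (h8 : pc b = 8) :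
    ∃ y, y ∈ octMasks ∧ (f (wd b) = wd y ∨ f (wd b) = wd y + 1) := by
  have hbl := lt_of_inCode hb
  have hbc : wd b ∈ golayCode := (wd_mem_iff hbl).mpr hb
  have hw := hf.weight _ hbc
  rw [norm_wd, h8] at hw
  have hmem := hf.mem _ hbc
  have key : ∀ v ∈ golayCode, hammingNorm v = 8 → mk (support₂ v) ∈ octMasks := fun v hv h =>
    mem_octMasks.mpr ⟨(mem_golayCode_iff v).mp hv, by rw [pts_mk]; exact h⟩
  by_cases h : hammingNorm (f (wd b)) = 8
  · exact ⟨_, key _ hmem h, Or.inl (wd_mk_support₂ _).symm⟩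
  · have h16 : hammingNorm (f (wd b)) = 16 := by
      simp only [cl, beq_iff_eq, Bool.or_eq_true] at hw
      split_ifs at hw <;> simp_all
    refine ⟨_, key (f (wd b) + 1) (add_mem hmem one_mem') (by rw [hammingNorm_add_one, h16]), Or.inr ?_⟩
    rw [wd_mk_support₂, add_assoc, add_self', add_zero]

theorem inCode_grow {S : List ℕ} {b : ℕ} (hS : ∀ s ∈ S, inCode s = true) (hb : inCode b = true) :
    ∀ s ∈ grow S b, inCode s = true := by
  intro s hs
  rcases List.mem_append.mp hs with hs | hs
  · exact hS s hs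
  · obtain ⟨t, ht, rfl⟩ := List.mem_map.mp hs
    exact inCode_xor (hS t ht) hb

theorem fixes_grow (hf : Good f) {S : List ℕ} {b : ℕ} (hS : ∀ s ∈ S, inCode s = true) (hb : inCode b = true)
    (hfix : ∀ s ∈ S, Fixes f (wd s)) (hfb : Fixes f (wd b)) : ∀ s ∈ grow S b, Fixes f (wd s) := by
  intro s hs
  rcases List.mem_append.mp hs with hs | hs
  · exact hfix s hs
  · obtain ⟨t, ht, rfl⟩ := List.mem_map.mp hs
    rw [wd_xor]
    exact hf.fix_add ((wd_mem_iff (lt_of_inCode (hS t ht))).mpr (hS t ht))
      ((wd_mem_iff (lt_of_inCode hb)).mpr hb) (hfix t ht) hfb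

theorem step (hf : Good f) {S : List ℕ} {e : ℕ × List (ℕ × PP)} (hS : ∀ s ∈ S, inCode s = true)
    (hfix : ∀ s ∈ S, Fixes f (wd s)) (hb : inCode e.1 = true) (h8 : pc e.1 = 8) (h : stepOK S e = true) :
    ∃ σ ∈ M24, (∀ s ∈ S, Fixes (fun v => pw σ (f v)) (wd s)) ∧ Fixes (fun v => pw σ (f v)) (wd e.1) := by
  simp only [stepOK, Bool.and_eq_true, List.all_eq_true, beq_iff_eq] at h
  obtain ⟨hc, hl⟩ := h
  obtain ⟨y, hy, hfy⟩ := exists_octad_rep hf hb h8
  have hbc : wd e.1 ∈ golayCode := (wd_mem_iff (lt_of_inCode hb)).mpr hb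
  have hy' : y ∈ cands S e.1 := by
    refine List.mem_filter.mpr ⟨hy, List.all_eq_true.mpr fun s hs => beq_iff_eq.mpr ?_⟩
    have hsc : wd s ∈ golayCode := (wd_mem_iff (lt_of_inCode (hS s hs))).mpr (hS s hs)
    have h1 := hf.weight _ (add_mem hbc hsc)
    rw [hf.add _ hbc _ hsc, ← wd_xor, norm_wd] at h1
    rw [← h1, ← norm_wd, wd_xor]
    rcases hfy with h | h <;> rcases hfix s hs with h' | h' <;> rw [h, h']
    · rw [← add_assoc, cl_add_one]
    · rw [show wd y + 1 + wd s = wd y + wd s + 1 by abel, cl_add_one]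
    · rw [show wd y + 1 + (wd s + 1) = wd y + wd s + (1 + 1) by abel, add_self', add_zero]
  rw [hc] at hy'
  obtain ⟨p, hp, rfl⟩ := List.mem_map.mp hy'
  obtain ⟨⟨hpp, hpy⟩, hps⟩ := hl p hp
  have hv : valid 24 p.2 = true := by
    simp only [preserves, Bool.and_eq_true] at hpp; exact hpp.1
  refine ⟨toP p.2, toP_mem_M24 hpp, fun s hs => ?_, ?_⟩
  · have e1 : pw (toP p.2) (wd s) = wd s := by
      rw [FixedCosets.pw_wd hv (lt_of_inCode (hS s hs)), hps s hs]
    unfold Fixes at *
    rcases hfix s hs with h | h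
    · left; simp only [h, e1]
    · right; simp only [h, pw_add, pw_one, e1]
  · have e1 : pw (toP p.2) (wd p.1) = wd e.1 := by
      rw [FixedCosets.pw_wd hv (lt_of_inCode (mem_octMasks.mp hy).1), hpy]
    unfold Fixes
    rcases hfy with h | h
    · left; simp only [h, e1]
    · right; simp only [h, pw_add, pw_one, e1]

theorem rows_span_fixes (hf : Good f) (h : ∀ r ∈ rows, Fixes f (wd r)) : Induced f := by
  refine ⟨1, one_mem _, fun v hv => ?_⟩
  suffices h' : Fixes f v from h'
  have hz : f 0 = 0 := by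
    have := hf.add 0 (zero_mem _) 0 (zero_mem _)
    rwa [add_zero, eq_comm, add_eq_left] at this
  rw [golayCode_eq_span_rows] at hv
  suffices h' : Fixes f v ∧ v ∈ golayCode from h'.1
  induction hv using Submodule.span_induction with
  | mem x hx =>
    obtain ⟨r, hr, rfl⟩ := hx
    exact ⟨h r hr, by rw [golayCode_eq_span_rows]; exact Submodule.subset_span ⟨r, hr, rfl⟩⟩
  | zero => exact ⟨Or.inl hz, zero_mem _⟩
  | add x y _ _ hx hy => exact ⟨hf.fix_add hx.2 hy.2 hx.1 hy.1, add_mem hx.2 hy.2⟩
  | smul c x _ hx =>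
    rcases (show c = 0 ∨ c = 1 by revert c; decide) with rfl | rfl
    · rw [zero_smul]; exact ⟨Or.inl hz, zero_mem _⟩
    · rwa [one_smul]

theorem induced_of_chain : ∀ (l : List (ℕ × List (ℕ × PP))) (S : List ℕ), (∀ s ∈ S, inCode s = true) →
    chainOK S l = true → ∀ {f : (GolayPt → ZMod 2) → GolayPt → ZMod 2}, Good f →
    (∀ s ∈ S, Fixes f (wd s)) → Induced f
  | [], S, hS, h, f, hf, hfix => by
    simp only [chainOK, List.all_eq_true, Bool.or_eq_true, List.contains_eq_mem,
      decide_eq_true_eq] at h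
    refine rows_span_fixes hf fun r hr => ?_
    rcases h r hr with h' | h'
    · exact hfix r h'
    · have h1 : Fixes f (1 : GolayPt → ZMod 2) := Or.inl hf.one
      have := hf.fix_add ((wd_mem_iff (lt_of_inCode (hS _ h'))).mpr (hS _ h')) one_mem' (hfix _ h') h1
      rwa [wd_xor, wd_all_ones, add_assoc, add_self', add_zero] at this
  | e :: l, S, hS, h, f, hf, hfix => by
    simp only [chainOK, Bool.and_eq_true, beq_iff_eq] at h
    obtain ⟨⟨⟨hb, h8⟩, hstep⟩, hl⟩ := h
    obtain ⟨σ, hσ, h1, h2⟩ := step hf hS hfix hb h8 hstep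
    exact induced_of_comp hσ (induced_of_chain l _ (inCode_grow hS hb) hl (hf.comp hσ)
      (fixes_grow (hf.comp hσ) hS hb h1 h2))

theorem induced (hf : Good f) : Induced f := by
  have hb : inCode firstOct = true := by decide +kernel
  obtain ⟨y, hy, hfy⟩ := exists_octad_rep hf hb (by decide +kernel)
  have hyo : pts y ∈ octads := pts_mem_octads (mem_octMasks.mp hy).1 (by rw [pc_eq_card]; exact (mem_octMasks.mp hy).2)
  rw [octads_eq_orbit] at hyo
  obtain ⟨g, hg⟩ := hyo
  have hg' : (g : Equiv.Perm GolayPt) • pts codeOct = pts y := hg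
  have e1 : pw (g : Equiv.Perm GolayPt)⁻¹ (wd y) = wd firstOct := by
    rw [← wd_mk_support₂ (pw _ (wd y)), support₂_pw, support₂_wd, ← hg', inv_smul_smul,
      mk_pts (by decide +kernel)]
    rfl
  refine induced_of_comp (inv_mem g.2) (induced_of_chain chainData _ ?_ chain_ok (hf.comp (inv_mem g.2)) ?_)
  · exact inCode_grow (fun s hs => by rw [List.mem_singleton.mp hs]; rfl) hb
  · refine fixes_grow (hf.comp (inv_mem g.2)) (fun s hs => by rw [List.mem_singleton.mp hs]; rfl) hb ?_ ?_
    · intro s hs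
      rw [List.mem_singleton.mp hs, show wd 0 = (0 : GolayPt → ZMod 2) by ext p; simp [wd]]
      left
      have := hf.add 0 (zero_mem _) 0 (zero_mem _)
      rw [add_zero, eq_comm, add_eq_left] at this
      simp only [this]
      rfl
    · unfold Fixes
      rcases hfy with h | h
      · left; simp only [h, e1]
      · right; simp only [h, pw_add, pw_one, e1]

end Cfsg.Lib.Golay.CodeRigid
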