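import Cfsg.Agent.Golay.Subgroups
import Cfsg.Agent.PermCert.Closed
import Cfsg.Agent.PermCert.FastImg
import Cfsg.Agent.Golay.Generators

/-!
Coding of points, point sets and families of point sets; exact orbits and stabilisers from certificates.
-/

namespace Cfsg.Lib.Golay

open Cfsg Cfsg.Lib.PermCert MulAction
open scoped Pointwise

/-- A coding of a type acted on by permutations of the points. -/
structure Coding (X : Type*) [MulAction (Equiv.Perm GolayPt) X] where
  enc : X → ℕ
  act : FG → ℕ → ℕ
  inj : Function.Injective enc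
  spec : ∀ g, fvalid g = true → ∀ x, enc (toP g.1 • x) = act g (enc x)

theorem valid_of_fvalid {g : FG} (hg : fvalid g = true) : valid 24 g.1 = true := by
  simp only [fvalid, Bool.and_eq_true] at hg
  exact hg.1.1.1

theorem mk_smul_fast {g : FG} (hg : fvalid g = true) (s : Finset GolayPt) : mk (toP g.1 • s) = img3 g (mk s) := by
  rw [mk_smul (valid_of_fvalid hg), img3_eq hg (mk_lt s)]

/-- Subsets, by masks. -/
def setCoding : Coding (Finset GolayPt) where
  enc := mk
  act := img3
  inj := mk_injective
  spec _ hg s := mk_smul_fast hg s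

/-- Points, by positions. -/
def ptCoding : Coding GolayPt where
  enc := pidx
  act g i := ap g.1.1 i
  inj := pidx_injective
  spec _ hg p := pidx_toP (valid_of_fvalid hg) p

/-- Insertion into a sorted list. -/
def ins (x : ℕ) : List ℕ → List ℕ
  | [] => [x]
  | y :: l => bif Nat.ble x y then x :: y :: l else y :: ins x l

/-- Insertion sort. -/
def isort : List ℕ → List ℕ
  | [] => []
  | x :: l => ins x (isort l)

theorem ins_perm (x : ℕ) : ∀ l : List ℕ, (ins x l).Perm (x :: l)
  | [] => List.Perm.refl _
  | y :: l => by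
    simp only [ins]
    cases Nat.ble x y
    · exact ((ins_perm x l).cons y).trans (List.Perm.swap x y l)
    · exact List.Perm.refl _

theorem isort_perm : ∀ l : List ℕ, (isort l).Perm l
  | [] => List.Perm.refl _
  | x :: l => (ins_perm x _).trans ((isort_perm l).cons x)

theorem pairwise_ins (x : ℕ) : ∀ {l : List ℕ}, l.Pairwise (· ≤ ·) → (ins x l).Pairwise (· ≤ ·)
  | [], _ => List.pairwise_singleton _ _
  | y :: l, h => by
    simp only [ins]
    cases hc : Nat.ble x y
    · have hyx : y ≤ x := by
        by_contra hlt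
        rw [Nat.ble_eq_true_of_le (by omega)] at hc
        cases hc
      refine List.pairwise_cons.mpr ⟨fun z hz => ?_, pairwise_ins x (List.pairwise_cons.mp h).2⟩
      rcases List.mem_cons.mp ((ins_perm x l).subset hz) with rfl | hz
      · exact hyx
      · exact (List.pairwise_cons.mp h).1 z hz
    · have hxy := Nat.le_of_ble_eq_true hc
      refine List.pairwise_cons.mpr ⟨fun z hz => ?_, h⟩
      rcases List.mem_cons.mp hz with rfl | hz
      · exact hxy
      · exact hxy.trans ((List.pairwise_cons.mp h).1 z hz)

theorem pairwise_isort : ∀ l : List ℕ, (isort l).Pairwise (· ≤ ·)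
  | [] => List.Pairwise.nil
  | x :: l => pairwise_ins x (pairwise_isort l)

/-- Encode a list of masks. -/
def encList : List ℕ → ℕ
  | [] => 0
  | m :: l => (16777216 + m) + 33554432 * encList l

/-- Decode with fuel. -/
def decAux : ℕ → ℕ → List ℕ
  | 0, _ => []
  | f + 1, E => if E == 0 then [] else (E % 33554432 - 16777216) :: decAux f (E / 33554432)

/-- Decode. -/
def decList (E : ℕ) : List ℕ := decAux E E

theorem decAux_encList : ∀ (l : List ℕ) (f : ℕ), (∀ m ∈ l, m < 16777216) → encList l ≤ f →
    decAux f (encList l) = l := by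
  intro l
  induction l with
  | nil => intro f _ _; cases f <;> simp [decAux, encList]
  | cons m l ih =>
    intro f hlt hf
    have hm := hlt m (by simp)
    cases f with
    | zero => simp only [encList] at hf; omega
    | succ f =>
      simp only [encList] at hf
      rw [encList, decAux, if_neg (by simp only [beq_iff_eq]; omega),
        show ((16777216 + m) + 33554432 * encList l) % 33554432 = 16777216 + m by omega,
        show ((16777216 + m) + 33554432 * encList l) / 33554432 = encList l by omega,
        ih f (fun x hx => hlt x (by simp [hx])) (by omega), Nat.add_sub_cancel_left]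

/-- Code of a family of subsets. -/
def encFam (S : Finset (Finset GolayPt)) : ℕ := encList ((S.image mk).sort (· ≤ ·))

theorem decList_encFam (S : Finset (Finset GolayPt)) : decList (encFam S) = (S.image mk).sort (· ≤ ·) :=
  decAux_encList _ _ (fun m hm => by
    obtain ⟨s, -, rfl⟩ := Finset.mem_image.mp ((Finset.mem_sort _).mp hm)
    exact mk_lt s) le_rfl

theorem encFam_injective : Function.Injective encFam := fun S T h => by
  have h' : (S.image mk).sort (· ≤ ·) = (T.image mk).sort (· ≤ ·) := by
    rw [← decList_encFam, h, decList_encFam]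
  refine Finset.image_injective mk_injective ?_
  ext m
  rw [← Finset.mem_sort (· ≤ ·), h', Finset.mem_sort]

/-- The action on codes of families. -/
def actFam (g : FG) (E : ℕ) : ℕ := encList (isort ((decList E).map (img3 g)))

theorem encFam_smul {g : FG} (hg : fvalid g = true) (S : Finset (Finset GolayPt)) :
    encFam (toP g.1 • S) = actFam g (encFam S) := by
  rw [actFam, decList_encFam]
  show encList _ = encList _
  congr 1
  have himg : ((toP g.1 • S).image mk) = (S.image mk).image (img3 g) := by
    rw [show toP g.1 • S = S.image (toP g.1 • ·) from rfl, Finset.image_image, Finset.image_image]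
    exact Finset.image_congr fun s _ => mk_smul_fast hg s
  have hnd : (((S.image mk).sort (· ≤ ·)).map (img3 g)).Nodup := by
    refine (Finset.sort_nodup _ _).map_on fun a ha b hb h => ?_
    obtain ⟨s, -, rfl⟩ := Finset.mem_image.mp ((Finset.mem_sort _).mp ha)
    obtain ⟨t, -, rfl⟩ := Finset.mem_image.mp ((Finset.mem_sort _).mp hb)
    rw [← mk_smul_fast hg, ← mk_smul_fast hg] at h
    rw [smul_left_cancel _ (mk_injective h)]
  refine List.Perm.eq_of_pairwise (le := (· ≤ ·)) (fun a b _ _ => le_antisymm) (Finset.pairwise_sort _ _)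
    (pairwise_isort _) ?_
  refine List.Perm.trans ?_ (isort_perm _).symm
  refine (List.perm_ext_iff_of_nodup (Finset.sort_nodup _ _) hnd).mpr fun m => ?_
  rw [Finset.mem_sort, himg]
  simp only [Finset.mem_image, List.mem_map, Finset.mem_sort]

/-- Families of subsets. -/
def famCoding : Coding (Finset (Finset GolayPt)) where
  enc := encFam
  act := actFam
  inj := encFam_injective
  spec _ hg S := encFam_smul hg S

/-- The family with a given code. -/
def famOf (E : ℕ) : Finset (Finset GolayPt) := ((decList E).map pts).toFinset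

/-- A code is canonical. -/
def famOK (E : ℕ) : Bool := strictInc (decList E) && (decList E).all (fun m => decide (m < 16777216)) &&
  (encList (decList E) == E)

theorem encFam_famOf {E : ℕ} (h : famOK E = true) : encFam (famOf E) = E := by
  simp only [famOK, Bool.and_eq_true, List.all_eq_true, decide_eq_true_eq, beq_iff_eq] at h
  obtain ⟨⟨hinc, hlt⟩, henc⟩ := h
  have hp := pairwise_of_strictInc hinc
  conv_rhs => rw [← henc]
  show encList _ = encList _
  congr 1
  refine List.Perm.eq_of_pairwise (le := (· ≤ ·)) (fun a b _ _ => le_antisymm) (Finset.pairwise_sort _ _)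
    (hp.imp le_of_lt) ?_
  refine (List.perm_ext_iff_of_nodup (Finset.sort_nodup _ _) (hp.imp ne_of_lt)).mpr fun m => ?_
  simp only [Finset.mem_sort, famOf, Finset.mem_image, List.mem_toFinset, List.mem_map]
  constructor
  · rintro ⟨_, ⟨a, ha, rfl⟩, rfl⟩; rwa [mk_pts (hlt a ha)]
  · exact fun hm => ⟨_, ⟨m, hm, rfl⟩, mk_pts (hlt m hm)⟩

variable {X : Type*} [MulAction (Equiv.Perm GolayPt) X]

theorem onPts_eq_closure (c : List Level) :
    Subgroup.closure {g : Equiv.Perm GolayPt | ∃ s ∈ topGens c, toP s = g} = onPts c := by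
  rw [onPts, grp, MonoidHom.map_closure]
  congr 1
  ext g
  simp [Set.mem_image, toP]

/-- A chain together with a few fast generators of its group and a derivation of the strong ones. -/
structure CG where
  chain : List Level
  gens : List FG
  slp : List (PP × ℕ × ℕ × Bool)

/-- The group of a certified record. -/
def CG.grp (K : CG) : Subgroup (Equiv.Perm GolayPt) := onPts K.chain

/-- Validity of a record. -/
def CG.ok (K : CG) : Bool :=
  check 24 K.chain && K.gens.all (fun g => fvalid g && sift 24 K.chain [g.1]) &&
    (topGens K.chain).all (valid 24) &&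
    match slpRun (K.gens.map (·.1)) K.slp with
    | some out => (topGens K.chain).all fun s => decide (s ∈ out)
    | none => false

theorem CG.ok_spec {K : CG} (h : K.ok = true) :
    check 24 K.chain = true ∧ (∀ g ∈ K.gens, fvalid g = true) ∧
      Subgroup.closure {p | ∃ g ∈ K.gens, toP g.1 = p} = K.grp := by
  simp only [CG.ok, Bool.and_eq_true, List.all_eq_true] at h
  obtain ⟨⟨⟨hc, hg⟩, -⟩, hs⟩ := h
  have hclos : (Subgroup.closure {p | ∃ g ∈ K.gens, perm 24 g.1 = p}) = PermCert.grp 24 K.chain := by
    refine le_antisymm ((Subgroup.closure_le _).mpr ?_) ((Subgroup.closure_le _).mpr ?_)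
    · rintro _ ⟨g, hgm, rfl⟩
      have := mem_grp_of_sift hc (w := [g.1]) (by simpa using valid_of_fvalid (hg g hgm).1) (hg g hgm).2
      simpa using this
    · rintro _ ⟨s, hsm, rfl⟩
      split at hs
      · next out hout =>
        refine (slpRun_sound _ _ _ hout ?_ s ?_).2
        · intro x hx
          obtain ⟨g, hgm, rfl⟩ := List.mem_map.mp hx
          exact ⟨valid_of_fvalid (hg g hgm).1, Subgroup.subset_closure ⟨g, hgm, rfl⟩⟩
        · simpa using List.all_eq_true.mp hs s hsm
      · cases hs
  refine ⟨hc, fun g hgm => (hg g hgm).1, ?_⟩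
  rw [CG.grp, onPts, ← hclos, MonoidHom.map_closure]
  congr 1
  ext p
  simp [Set.mem_image, toP]

theorem CG.card_grp {K : CG} (h : K.ok = true) : Nat.card K.grp = size K.chain :=
  card_onPts (CG.ok_spec h).1

/-- The exact orbit under a certified group. -/
theorem orbit_cert (C : Coding X) {K : CG} (hK : K.ok = true) {t : STree} {x₀ : X} {root : ℕ}
    (hroot : C.enc x₀ = root) (h : closedOK C.act K.gens root t = true) :
    (∀ y, y ∈ orbit K.grp x₀ ↔ C.enc y ∈ stVals t) ∧ (orbit K.grp x₀).ncard = (stVals t).length :=
  closedOK_sound C.inj (fun g : FG => toP g.1) K.grp (CG.ok_spec hK).2.2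
    (fun s hs => C.spec s ((CG.ok_spec hK).2.1 s hs)) hroot (closedOK_spec h)

/-- The generators of a record fix an object. -/
def gensFix (C : Coding X) (K : CG) (E : ℕ) : Bool := K.gens.all fun g => C.act g E == E

theorem le_stabilizer_of_gensFix (C : Coding X) {K : CG} (hK : K.ok = true) {x : X} {E : ℕ} (hE : C.enc x = E)
    (h : gensFix C K E = true) : K.grp ≤ stabilizer (Equiv.Perm GolayPt) x := by
  rw [← (CG.ok_spec hK).2.2, Subgroup.closure_le]
  rintro _ ⟨s, hs, rfl⟩
  simp only [gensFix, List.all_eq_true, beq_iff_eq] at h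
  exact mem_stabilizer_iff.mpr (C.inj (by rw [C.spec s ((CG.ok_spec hK).2.1 s hs), hE, h s hs]))

/-- The generators of a record lie in the group of another one. -/
def gensIn (K' K : CG) : Bool := K'.gens.all fun g => sift 24 K.chain [g.1]

theorem grp_le_of_gensIn {K K' : CG} (hK : K.ok = true) (hK' : K'.ok = true) (h : gensIn K' K = true) :
    K'.grp ≤ K.grp := by
  rw [← (CG.ok_spec hK').2.2, Subgroup.closure_le]
  rintro _ ⟨s, hs, rfl⟩
  simp only [gensIn, List.all_eq_true] at h
  have := mem_grp_of_sift (CG.ok_spec hK).1 (w := [s.1])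
    (by simpa using valid_of_fvalid ((CG.ok_spec hK').2.1 s hs)) (h s hs)
  exact ⟨perm 24 s.1, by simpa using this, rfl⟩

/-- A stabiliser inside a certified group is another one, by comparing orders. -/
theorem stab_inf_eq (C : Coding X) {K K' : CG} (hK : K.ok = true) (hK' : K'.ok = true) {t : STree} {x : X}
    {E : ℕ} (hE : C.enc x = E) (horb : closedOK C.act K.gens E t = true) (hin : gensIn K' K = true)
    (hfix : gensFix C K' E = true) (hsize : size K'.chain * (stVals t).length = size K.chain) :
    K.grp ⊓ stabilizer (Equiv.Perm GolayPt) x = K'.grp := by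
  symm
  refine Subgroup.eq_of_le_of_card_ge
    (le_inf (grp_le_of_gensIn hK hK' hin) (le_stabilizer_of_gensFix C hK' hE hfix)) ?_
  rw [← map_stabilizer,
    Nat.card_congr ((Subgroup.equivMapOfInjective _ _ (Subgroup.subtype_injective _)).toEquiv.symm),
    CG.card_grp hK']
  have h := Subgroup.index_mul_card (stabilizer K.grp x)
  rw [index_stabilizer, (orbit_cert C hK hE horb).2, CG.card_grp hK, ← hsize, mul_comm] at h
  have hpos : 0 < (stVals t).length := by
    obtain ⟨d, hd⟩ := Option.isSome_iff_exists.mp (closedOK_spec horb).2.1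
    obtain ⟨e, he, -, -⟩ := stFind_mem hd
    exact List.length_pos_of_mem (List.mem_map.mpr ⟨e, he, rfl⟩)
  exact le_of_eq (Nat.eq_of_mul_eq_mul_right hpos h)

/-- A certified record for the whole group. -/
theorem grp_eq_M24 {K : CG} (hK : K.ok = true) (hp : K.gens.all (fun g => preserves g.1) = true)
    (hsize : size K.chain = 244823040) : K.grp = M24 := by
  refine Subgroup.eq_of_le_of_card_ge ?_ ?_
  · rw [← (CG.ok_spec hK).2.2, Subgroup.closure_le]
    rintro _ ⟨s, hs, rfl⟩
    exact toP_mem_M24 (List.all_eq_true.mp hp s hs)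
  · rw [CG.card_grp hK, hsize, card_M24]

theorem orbit_stabilizer_M24_eq {x : X} {K : Subgroup (Equiv.Perm GolayPt)}
    (hK : M24 ⊓ stabilizer (Equiv.Perm GolayPt) x = K) {Y : Type*} [MulAction (Equiv.Perm GolayPt) Y] (y : Y) :
    orbit (stabilizer M24 x) y = orbit K y := by
  ext z
  constructor
  · rintro ⟨k, rfl⟩
    refine ⟨⟨((k : M24) : Equiv.Perm GolayPt), hK ▸ ⟨(k : M24).2, ?_⟩⟩, rfl⟩
    exact mem_stabilizer_iff.mpr (mem_stabilizer_iff.mp k.2 :)
  · rintro ⟨⟨k, hk⟩, rfl⟩
    rw [← hK] at hk
    exact ⟨⟨⟨k, hk.1⟩, mem_stabilizer_iff.mpr (mem_stabilizer_iff.mp hk.2 :)⟩, rfl⟩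

end Cfsg.Lib.Golay
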