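import Cfsg.Agent.Golay.Elements

/-!
Objects fixed by the representatives of the classes; centralisers of the involutions.
-/

set_option autoImplicit false

namespace Cfsg.Lib.Golay

open Cfsg Cfsg.Lib.PermCert MulAction
open scoped Pointwise

variable {X : Type*} [MulAction (Equiv.Perm GolayPt) X] {C : Coding X} {K : CG} {x₀ : X} {orb : STree}

theorem StdObj.enc_surj (h : StdObj C cgM24 K x₀ orb) {v : ℕ} (hv : v ∈ stVals orb) :
    ∃ y ∈ orbit M24 x₀, C.enc y = v := by
  by_contra hne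
  push Not at hne
  have hfin : {w | w ∈ stVals orb}.Finite := (stVals orb).finite_toSet
  have hsub : C.enc '' orbit M24 x₀ ⊆ {w | w ∈ stVals orb} \ {v} := by
    rintro _ ⟨y, hy, rfl⟩
    exact ⟨(h.mem_orbit y).mp hy, hne y hy⟩
  have h1 := Set.ncard_le_ncard hsub (hfin.subset Set.sdiff_subset)
  rw [C.inj.injOn.ncard_image, h.ncard_orbit,
    Set.ncard_sdiff_singleton_of_mem (s := {w | w ∈ stVals orb}) hv] at h1
  have h2 : {w | w ∈ stVals orb}.ncard ≤ (stVals orb).length := by
    rw [show {w | w ∈ stVals orb} = ((stVals orb).toFinset : Set ℕ) by ext; simp, Set.ncard_coe_finset]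
    exact List.toFinset_card_le _
  have := List.length_pos_of_mem hv
  omega

/-- Counting the members of a certified orbit fixed by a table. -/
theorem StdObj.ncard_fixed (h : StdObj C cgM24 K x₀ orb) {g : FG} (hg : fvalid g = true) :
    {y | y ∈ orbit M24 x₀ ∧ toP g.1 • y = y}.ncard = (stVals orb).countP fun E => C.act g E == E := by
  have hnd : (stVals orb).Nodup :=
    (pairwise_of_strictInc (closedOK_spec h.horb).1).imp fun h => ne_of_lt h
  rw [List.countP_eq_length_filter, ← List.toFinset_card_of_nodup (hnd.filter _), ← Set.ncard_coe_finset]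
  refine Set.ncard_congr (fun y _ => C.enc y) (fun y hy => ?_) (fun a b _ _ e => C.inj e) fun v hv => ?_
  · simp only [List.coe_toFinset, Set.mem_setOf_eq, List.mem_filter, beq_iff_eq]
    exact ⟨(h.mem_orbit y).mp hy.1, by rw [← C.spec g hg, hy.2]⟩
  · simp only [List.coe_toFinset, Set.mem_setOf_eq, List.mem_filter, beq_iff_eq] at hv
    obtain ⟨y, hy, rfl⟩ := h.enc_surj hv.1
    exact ⟨y, ⟨hy, C.inj (by rw [C.spec g hg, hv.2])⟩, rfl⟩

theorem fvalid_reps : fvalid invA = true ∧ fvalid invB = true ∧ fvalid triA = true ∧ fvalid triB = true :=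
  ⟨reps_ok.1, reps_ok.2.1, reps_ok.2.2.1, reps_ok.2.2.2.1⟩

theorem fixed_conj_ncard {Y : Type*} [MulAction (Equiv.Perm GolayPt) Y] (S : Set Y)
    (hS : ∀ g ∈ M24, ∀ y, g • y ∈ S ↔ y ∈ S) {g r : Equiv.Perm GolayPt} (hg : g ∈ M24) :
    {y | y ∈ S ∧ (g * r * g⁻¹) • y = y}.ncard = {y | y ∈ S ∧ r • y = y}.ncard :=
  (ncard_smul_congr g fun y => by simp [hS g hg, mul_smul]).symm

theorem octads_inv {g : Equiv.Perm GolayPt} (hg : g ∈ M24) (o : Finset GolayPt) : g • o ∈ octads ↔ o ∈ octads :=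
  smul_mem_octads_iff hg

theorem trios_inv {g : Equiv.Perm GolayPt} (hg : g ∈ M24) (T : Finset (Finset GolayPt)) :
    g • T ∈ trios ↔ T ∈ trios :=
  ⟨fun h => by simpa using smul_mem_trios (inv_mem hg) h, smul_mem_trios hg⟩

theorem sextets_inv {g : Equiv.Perm GolayPt} (hg : g ∈ M24) (S : Finset (Finset GolayPt)) :
    g • S ∈ sextets ↔ S ∈ sextets :=
  ⟨fun h => by simpa using smul_mem_sextets (inv_mem hg) h, smul_mem_sextets hg⟩

theorem counts_octads : [invA, invB, triA].map (fun g => (stVals orbOct).countP fun E => setCoding.act g E == E) =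
    [71, 15, 21] := by decide +kernel

theorem counts_trios : [invA, invB, triA, triB].map (fun g => (stVals orbTrio).countP fun E => famCoding.act g E == E) =
    [99, 75, 15, 15] := by decide +kernel

theorem counts_sextets :
    [invA, invB, triA, triB].map (fun g => (stVals orbSext).countP fun E => famCoding.act g E == E) =
      [91, 51, 16, 7] := by decide +kernel

theorem fixed_octads {g : FG} (hg : fvalid g = true) {r t : Equiv.Perm GolayPt} (hr : r ∈ M24)
    (ht : t = r * toP g.1 * r⁻¹) {n : ℕ} (hn : (stVals orbOct).countP (fun E => setCoding.act g E == E) = n) :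
    {o : Finset GolayPt | o ∈ octads ∧ t • o = o}.ncard = n := by
  rw [ht, fixed_conj_ncard octads (fun g hg y => octads_inv hg y) hr, octads_eq_orbit, stdOct.ncard_fixed hg, hn]

theorem fixed_trios {g : FG} (hg : fvalid g = true) {r t : Equiv.Perm GolayPt} (hr : r ∈ M24)
    (ht : t = r * toP g.1 * r⁻¹) {n : ℕ} (hn : (stVals orbTrio).countP (fun E => famCoding.act g E == E) = n) :
    {T : Finset (Finset GolayPt) | T ∈ trios ∧ t • T = T}.ncard = n := by
  rw [ht, fixed_conj_ncard trios (fun g hg y => trios_inv hg y) hr, trios_eq_orbit, stdTrio.ncard_fixed hg, hn]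

theorem fixed_sextets {g : FG} (hg : fvalid g = true) {r t : Equiv.Perm GolayPt} (hr : r ∈ M24)
    (ht : t = r * toP g.1 * r⁻¹) {n : ℕ} (hn : (stVals orbSext).countP (fun E => famCoding.act g E == E) = n) :
    {S : Finset (Finset GolayPt) | S ∈ sextets ∧ t • S = S}.ncard = n := by
  rw [ht, fixed_conj_ncard sextets (fun g hg y => sextets_inv hg y) hr, sextets_eq_orbit, stdSext.ncard_fixed hg, hn]

theorem pts_mod (m : ℕ) : pts (m % 2 ^ 24) = pts m := by
  ext p
  rw [mem_pts, mem_pts, Nat.testBit_mod_two_pow, decide_eq_true (pidx_lt p), Bool.true_and]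

theorem count_dodecads : dodMasks.countP (fun m => img3 triA (m % 2 ^ 24) == m % 2 ^ 24) = 20 := by decide +kernel

theorem fixed_dodecads {r t : Equiv.Perm GolayPt} (hr : r ∈ M24) (ht : t = r * toP triA.1 * r⁻¹) :
    {d : Finset GolayPt | d ∈ dodecads ∧ t • d = d}.ncard = 20 := by
  rw [ht, fixed_conj_ncard dodecads (fun g hg y => smul_mem_dodecads_iff hg) hr, ← count_dodecads]
  refine ncard_dodecads_countP _ _ fun m => ?_
  have hlt : m % 2 ^ 24 < 2 ^ 24 := Nat.mod_lt _ (Nat.two_pow_pos 24)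
  have hval := valid_of_fvalid fvalid_reps.2.2.1
  rw [beq_iff_eq, img3_eq fvalid_reps.2.2.1 hlt, ← pts_mod m, ← pts_img hval]
  exact ⟨fun h => congrArg pts h, fun h => eq_of_pts_eq (img_lt hval _) hlt h⟩

theorem cjEnc_toP {g : PP} (hg : valid 24 g = true) :
    cjEnc ⟨toP g⟩ = pack ((List.range 24).map (ap g.1)) := by
  refine congrArg pack (List.map_congr_left fun i hi => ?_)
  have hi : i < 24 := List.mem_range.mp hi
  show pidx (toP g (ptAt i)) = _
  rw [toP_ptAt hg hi]
  exact pidx_ptAt ⟨_, valid_lt hg hi⟩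

theorem commute_iff_fix (c t : Equiv.Perm GolayPt) : c * t = t * c ↔ c • (⟨t⟩ : CJ) = ⟨t⟩ := by
  show _ ↔ CJ.mk (c * t * c⁻¹) = ⟨t⟩
  simp [mul_inv_eq_iff_eq_mul]

theorem orbInvA_ok : closedOK cjCoding.act cgOct.gens (pack ((List.range 24).map (ap invA.1.1))) orbInvA = true := by
  decide +kernel

theorem orbInvB_ok : closedOK cjCoding.act cgSext.gens (pack ((List.range 24).map (ap invB.1.1))) orbInvB = true := by
  decide +kernel

theorem fixA_eq : (List.range 24).all (fun i => (ap invA.1.1 i == i) == codeOct.testBit i) = true := by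
  decide +kernel

theorem uniqueSext : (stVals orbSext).all (fun E =>
    !((decList E).all fun m => img3 invB m == m) || E == codeSext) = true := by decide +kernel

/-- The centraliser of the involution with eight fixed points. -/
theorem centralizer_invA {c : Equiv.Perm GolayPt} :
    (c ∈ M24 ∧ c * toP invA.1 = toP invA.1 * c) ↔ c ∈ cgInvA.grp := by
  have hv := valid_of_fvalid fvalid_reps.1
  have heq := stab_inf_eq cjCoding cgOct_ok cgInvA_ok (x := ⟨toP invA.1⟩) (cjEnc_toP hv) orbInvA_ok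
    (by decide +kernel) (by decide +kernel) (by decide +kernel)
  have hle : cgOct.grp ≤ M24 ∧ cgOct.grp = M24 ⊓ stabilizer (Equiv.Perm GolayPt) (pts codeOct) := by
    rw [stdOct.stab_eq]
    exact ⟨stdOct.stab_eq ▸ inf_le_left, rfl⟩
  rw [← heq, Subgroup.mem_inf]
  constructor
  · rintro ⟨hc, hcomm⟩
    refine ⟨?_, mem_stabilizer_iff.mpr ((commute_iff_fix _ _).mp hcomm)⟩
    rw [hle.2, Subgroup.mem_inf]
    refine ⟨hc, mem_stabilizer_iff.mpr ?_⟩
    have hfix : ∀ p, toP invA.1 p = p ↔ p ∈ pts codeOct := fun p => by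
      have h := fixA_eq
      simp only [List.all_eq_true, List.mem_range, beq_iff_eq] at h
      have h1 := h _ (pidx_lt p)
      rw [mem_pts, ← pidx_injective.eq_iff, pidx_toP hv, ← h1, beq_iff_eq]
    refine Finset.eq_of_subset_of_card_le (fun q hq => ?_) (by rw [Finset.card_smul_finset])
    obtain ⟨p, hp, rfl⟩ := Finset.mem_smul_finset.mp hq
    rw [← hfix, Equiv.Perm.smul_def, ← Equiv.Perm.mul_apply, ← hcomm, Equiv.Perm.mul_apply, (hfix p).mpr hp]
  · rintro ⟨hc, hcomm⟩
    exact ⟨hle.1 hc, (commute_iff_fix _ _).mpr (mem_stabilizer_iff.mp hcomm)⟩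

/-- The centraliser of the fixed-point-free involution. -/
theorem centralizer_invB {c : Equiv.Perm GolayPt} :
    (c ∈ M24 ∧ c * toP invB.1 = toP invB.1 * c) ↔ c ∈ cgInvB.grp := by
  have hv := valid_of_fvalid fvalid_reps.2.1
  have heq := stab_inf_eq cjCoding cgSext_ok cgInvB_ok (x := ⟨toP invB.1⟩) (cjEnc_toP hv) orbInvB_ok
    (by decide +kernel) (by decide +kernel) (by decide +kernel)
  have hle : cgSext.grp ≤ M24 ∧ cgSext.grp = M24 ⊓ stabilizer (Equiv.Perm GolayPt) (famOf codeSext) := by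
    rw [stdSext.stab_eq]
    exact ⟨stdSext.stab_eq ▸ inf_le_left, rfl⟩
  rw [← heq, Subgroup.mem_inf]
  constructor
  · rintro ⟨hc, hcomm⟩
    refine ⟨?_, mem_stabilizer_iff.mpr ((commute_iff_fix _ _).mp hcomm)⟩
    rw [hle.2, Subgroup.mem_inf]
    refine ⟨hc, mem_stabilizer_iff.mpr ?_⟩
    have hS : famOf codeSext ∈ orbit M24 (famOf codeSext) := mem_orbit_self _
    have hcS : c • famOf codeSext ∈ orbit M24 (famOf codeSext) := ⟨⟨c, hc⟩, rfl⟩
    have hfix : ∀ u ∈ famOf codeSext, toP invB.1 • u = u := by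
      intro u hu
      simp only [famOf, List.mem_toFinset, List.mem_map] at hu
      obtain ⟨m, hm, rfl⟩ := hu
      have hm' : (decList codeSext).all (fun m => decide (m < 2 ^ 24) && (img invB.1 m == m)) = true := by
        decide +kernel
      simp only [List.all_eq_true, Bool.and_eq_true, decide_eq_true_eq, beq_iff_eq] at hm'
      rw [← pts_img hv, (hm' m hm).2]
    have hall : (decList (famCoding.enc (c • famOf codeSext))).all (fun m => img3 invB m == m) = true := by
      simp only [List.all_eq_true, beq_iff_eq]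
      intro m hm
      rw [show famCoding.enc = encFam from rfl, decList_encFam, Finset.mem_sort, Finset.mem_image] at hm
      obtain ⟨u, hu, rfl⟩ := hm
      obtain ⟨w, hw, rfl⟩ := Finset.mem_smul_finset.mp hu
      rw [← mk_smul_fast fvalid_reps.2.1, ← mul_smul, ← hcomm, mul_smul, hfix w hw]
    have h := uniqueSext
    simp only [List.all_eq_true, Bool.or_eq_true, beq_iff_eq, Bool.not_eq_true'] at h
    rcases h _ ((stdSext.mem_orbit _).mp hcS) with e | e
    · rw [e] at hall; simp at hall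
    · exact famCoding.inj (e.trans (encFam_famOf (by decide +kernel)).symm)
  · rintro ⟨hc, hcomm⟩
    exact ⟨hle.1 hc, (commute_iff_fix _ _).mpr (mem_stabilizer_iff.mp hcomm)⟩

theorem factorization_three_eq_one {n : ℕ} (hn : n ≠ 0) (h1 : 3 ∣ n) (h2 : ¬ 9 ∣ n) : n.factorization 3 = 1 := by
  have a := Nat.prime_three.pow_dvd_iff_le_factorization (k := 1) hn
  have b := Nat.prime_three.pow_dvd_iff_le_factorization (k := 2) hn
  have := a.mp (by simpa using h1)
  have : ¬ 2 ≤ n.factorization 3 := fun h => h2 (by simpa using b.mpr h)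
  omega

/-- In a centraliser of order `m` divisible by 3 exactly once all elements of order 3 fix equally many points. -/
theorem fixCard_three {H : Subgroup (Equiv.Perm GolayPt)} {y : Equiv.Perm GolayPt} (hy : y ∈ H) (hy3 : orderOf y = 3)
    (h9 : ¬ 9 ∣ Nat.card H) {x : Equiv.Perm GolayPt} (hx : x ∈ H) (hx3 : orderOf x = 3) : fixCard x = fixCard y := by
  haveI : Fact (Nat.Prime 3) := ⟨Nat.prime_three⟩
  have hy' : orderOf (⟨y, hy⟩ : H) = 3 := by rw [Subgroup.orderOf_mk]; exact hy3
  have hx' : orderOf (⟨x, hx⟩ : H) = 3 := by rw [Subgroup.orderOf_mk]; exact hx3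
  have hd : 3 ∣ Nat.card H := hy' ▸ orderOf_dvd_natCard _
  have hf : (Nat.card H).factorization 3 = 1 := factorization_three_eq_one Nat.card_pos.ne' hd h9
  set P : Sylow 3 H := Sylow.ofCard (Subgroup.zpowers (⟨y, hy⟩ : H)) (by rw [Nat.card_zpowers, hy', hf, pow_one])
  obtain ⟨Q, hQ⟩ := (IsPGroup.of_card (p := 3) (n := 1) ((Nat.card_zpowers _).trans (hx'.trans (pow_one 3).symm))).exists_le_sylow
  obtain ⟨g, hg⟩ := MulAction.exists_smul_eq H P Q
  have hmem : (⟨x, hx⟩ : H) ∈ (g • P : Sylow 3 H) := hg ▸ hQ (Subgroup.mem_zpowers _)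
  obtain ⟨u, hu, hgu⟩ := hmem
  obtain ⟨i, rfl⟩ := Subgroup.mem_zpowers_iff.mp hu
  have hgu : (g : Equiv.Perm GolayPt) * y ^ i * (g : Equiv.Perm GolayPt)⁻¹ = x := by
    have := congrArg Subtype.val hgu
    simpa using this
  rw [← hgu, fixCard_conj]
  have hi : ¬ (3 : ℤ) ∣ i := by
    rintro ⟨j, rfl⟩
    rw [zpow_mul, show y ^ (3 : ℤ) = 1 by rw [show (3 : ℤ) = ((3 : ℕ) : ℤ) from rfl, zpow_natCast, ← hy3,
      pow_orderOf_eq_one], one_zpow, mul_one, mul_inv_cancel] at hgu
    rw [← hgu, orderOf_one] at hx3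
    norm_num at hx3
  obtain ⟨a, b, hab⟩ : ∃ a b : ℤ, a * i + b * 3 = 1 := by
    have h3 : IsCoprime (3 : ℤ) i := (Int.prime_three.coprime_iff_not_dvd).mpr hi
    obtain ⟨b, a, h⟩ := h3
    exact ⟨a, b, by linarith⟩
  have hyy : y = (y ^ i) ^ a := by
    rw [← zpow_mul]
    conv_lhs => rw [← zpow_one y, ← hab]
    rw [zpow_add, mul_comm b, zpow_mul y (3 : ℤ), show y ^ (3 : ℤ) = 1 by
      rw [show (3 : ℤ) = ((3 : ℕ) : ℤ) from rfl, zpow_natCast, ← hy3, pow_orderOf_eq_one], one_zpow, mul_one,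
      mul_comm i]
  refine congrArg Finset.card (Finset.filter_congr fun p _ => ⟨fun h => ?_, fun h => ?_⟩)
  · rw [hyy]
    exact Equiv.Perm.zpow_apply_eq_self_of_apply_eq_self h a
  · exact Equiv.Perm.zpow_apply_eq_self_of_apply_eq_self h i

end Cfsg.Lib.Golay
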