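import Cfsg.Agent.Golay.Supports

/-!
Sphere packing for families of 4096 subsets of 24 points with minimum distance 8.
-/

namespace Cfsg.Lib.Golay

open Finset

variable {α : Type*} [Fintype α] [DecidableEq α]

/-- A distance-8 family of 4096 subsets, closed under symmetric differences. -/
structure IsPacking (S : Set (Finset α)) : Prop where
  card_univ : Fintype.card α = 24
  ncard_eq : S.ncard = 4096
  symm : ∀ s ∈ S, ∀ t ∈ S, symmDiff s t ∈ S
  min : ∀ s ∈ S, s ≠ ∅ → 8 ≤ s.card

/-- The sets of at most four points in the coset of `w`. -/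
noncomputable def near (S : Set (Finset α)) (w : Finset α) : Finset (Finset α) :=
  open Classical in univ.filter fun u => symmDiff u w ∈ S ∧ u.card ≤ 4

theorem mem_near {S : Set (Finset α)} {w u : Finset α} :
    u ∈ near S w ↔ symmDiff u w ∈ S ∧ u.card ≤ 4 := by classical simp [near]

theorem card_symmDiff_le (u v : Finset α) : (symmDiff u v).card ≤ u.card + v.card := by
  refine (card_le_card ?_).trans (card_union_le u v)
  intro a ha
  rw [mem_symmDiff] at ha
  rw [mem_union]
  tauto

theorem card_symmDiff_add (u v : Finset α) : (symmDiff u v).card + 2 * (u ∩ v).card = u.card + v.card := by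
  rw [symmDiff_def, Finset.sup_eq_union, card_union_of_disjoint disjoint_sdiff_sdiff]
  have h1 := card_sdiff_add_card_inter u v
  have h2 := card_sdiff_add_card_inter v u
  rw [inter_comm] at h2
  omega

theorem IsPacking.symm_mem {S : Set (Finset α)} (h : IsPacking S) {w u v : Finset α}
    (hu : u ∈ near S w) (hv : v ∈ near S w) : symmDiff u v ∈ S := by
  have := h.symm _ (mem_near.mp hu).1 _ (mem_near.mp hv).1
  rwa [symmDiff_comm v w, symmDiff_assoc, symmDiff_symmDiff_cancel_left] at this

theorem IsPacking.eq_of_card_lt {S : Set (Finset α)} (h : IsPacking S) {w u v : Finset α}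
    (hu : u ∈ near S w) (hv : v ∈ near S w) (hlt : u.card + v.card < 8) : u = v := by
  by_contra hne
  have := h.min _ (h.symm_mem hu hv) fun e => hne (symmDiff_eq_bot.mp e)
  have := card_symmDiff_le u v
  omega

theorem IsPacking.disjoint_of_ne {S : Set (Finset α)} (h : IsPacking S) {w u v : Finset α}
    (hu : u ∈ near S w) (hv : v ∈ near S w) (hne : u ≠ v) : Disjoint u v := by
  have := h.min _ (h.symm_mem hu hv) fun e => hne (symmDiff_eq_bot.mp e)
  have := card_symmDiff_add u v
  have := (mem_near.mp hu).2
  have := (mem_near.mp hv).2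
  rw [disjoint_iff_inter_eq_empty, ← card_eq_zero]
  omega

theorem card_small (hα : Fintype.card α = 24) :
    ((univ : Finset (Finset α)).filter fun u => u.card ≤ 3).card = 2325 := by
  have he : (univ : Finset (Finset α)).filter (fun u => u.card ≤ 3)
      = (range 4).biUnion fun k => powersetCard k univ := by
    ext u; simp; omega
  rw [he, card_biUnion]
  · simp [sum_range_succ, hα]; decide
  · intro a _ b _ hab
    rw [Function.onFun, disjoint_left]
    intro u hu hu'
    rw [mem_powersetCard] at hu hu'
    exact hab (hu.2.symm.trans hu'.2)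

/-- The weighted count that is 6 in every coset. -/
theorem IsPacking.weight_eq {S : Set (Finset α)} (h : IsPacking S) (w : Finset α) :
    6 * ((near S w).filter fun u => u.card ≤ 3).card + ((near S w).filter fun u => u.card = 4).card = 6 := by
  classical
  let f : Finset α → ℕ := fun w =>
    6 * ((near S w).filter fun u => u.card ≤ 3).card + ((near S w).filter fun u => u.card = 4).card
  have hle : ∀ w, f w ≤ 6 := by
    intro w
    rcases ((near S w).filter fun u => u.card ≤ 3).eq_empty_or_nonempty with he | ⟨u, hu⟩
    · simp only [f, he, card_empty, mul_zero, zero_add]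
      have hdis : ((near S w).filter fun u => u.card = 4 : Set (Finset α)).PairwiseDisjoint id := by
        intro u hu v hv huv
        simp only [coe_filter, Set.mem_setOf_eq] at hu hv
        exact h.disjoint_of_ne hu.1 hv.1 huv
      have := card_le_univ (((near S w).filter fun u => u.card = 4).biUnion id)
      rw [card_biUnion hdis, sum_congr rfl fun u hu => show (id u).card = 4 from (mem_filter.mp hu).2,
        sum_const, smul_eq_mul, h.card_univ] at this
      omega
    · obtain ⟨hu, hu3⟩ := mem_filter.mp hu
      have hall : ∀ v ∈ near S w, v = u := fun v hv =>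
        (h.eq_of_card_lt hu hv (by have := (mem_near.mp hv).2; omega)).symm
      have h1 : ((near S w).filter fun u => u.card ≤ 3).card ≤ 1 :=
        card_le_one.mpr fun a ha b hb => by rw [hall a (mem_filter.mp ha).1, hall b (mem_filter.mp hb).1]
      have h4 : ((near S w).filter fun u => u.card = 4).card = 0 :=
        card_eq_zero.mpr (filter_eq_empty_iff.mpr fun v hv => by rw [hall v hv]; omega)
      simp only [f, h4]
      omega
  have hcount : ∀ p : Finset α → Prop, ∀ _ : DecidablePred p, (∀ u, p u → u.card ≤ 4) →
      ∑ w, ((near S w).filter p).card = ((univ : Finset (Finset α)).filter p).card * 4096 := by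
    intro p _ hp
    have e : ∀ w, (near S w).filter p = (univ.filter p).filter fun u => symmDiff u w ∈ S := by
      intro w; ext u
      simp only [mem_filter, mem_near, mem_univ, true_and]
      exact ⟨fun ⟨⟨a, _⟩, b⟩ => ⟨b, a⟩, fun ⟨b, a⟩ => ⟨⟨a, hp u b⟩, b⟩⟩
    simp only [e, card_filter (fun u => symmDiff u _ ∈ S)]
    rw [sum_comm]
    rw [sum_congr rfl fun u _ => ?_, sum_const, smul_eq_mul]
    rw [← card_filter]
    rw [← h.ncard_eq, Set.ncard_eq_toFinset_card' S]
    refine card_bij' (fun w _ => symmDiff u w) (fun s _ => symmDiff u s) ?_ ?_ ?_ ?_ <;> simp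
  have htot : ∑ w, f w = ∑ _w : Finset α, 6 := by
    simp only [f, sum_add_distrib, ← mul_sum]
    rw [hcount _ inferInstance (fun u hu => by omega), hcount _ inferInstance (fun u hu => by omega),
      card_small h.card_univ]
    have h4 : ((univ : Finset (Finset α)).filter fun u => u.card = 4) = powersetCard 4 univ := by
      ext u; simp
    simp only [h4, card_powersetCard, sum_const, Finset.card_univ, Fintype.card_finset, h.card_univ, smul_eq_mul]
    norm_num [Nat.choose]
  exact ((sum_eq_sum_iff_of_le fun w _ => hle w).mp htot) w (mem_univ w)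

/-- Either a unique set of at most three points, or six disjoint sets of four points. -/
theorem IsPacking.dichotomy {S : Set (Finset α)} (h : IsPacking S) (w : Finset α) :
    (∃ u, u.card ≤ 3 ∧ near S w = {u}) ∨
      ((near S w).card = 6 ∧ (∀ u ∈ near S w, u.card = 4) ∧
        (∀ u ∈ near S w, ∀ v ∈ near S w, u ≠ v → Disjoint u v) ∧ ∀ a : α, ∃ u ∈ near S w, a ∈ u) := by
  classical
  have hw := h.weight_eq w
  rcases ((near S w).filter fun u => u.card ≤ 3).eq_empty_or_nonempty with he | ⟨u, hu⟩
  · right
    have h4 : ∀ u ∈ near S w, u.card = 4 := fun u hu => by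
      have := filter_eq_empty_iff.mp he hu
      have := (mem_near.mp hu).2
      omega
    rw [he, card_empty, filter_eq_self.mpr h4] at hw
    refine ⟨by omega, h4, fun u hu v hv => h.disjoint_of_ne hu hv, fun a => ?_⟩
    have hdis : ((near S w : Finset (Finset α)) : Set (Finset α)).PairwiseDisjoint id :=
      fun u hu v hv huv => h.disjoint_of_ne hu hv huv
    have hall : (near S w).biUnion id = univ := by
      rw [← card_eq_iff_eq_univ, card_biUnion hdis,
        sum_congr rfl fun u hu => show (id u).card = 4 from h4 u hu, sum_const, smul_eq_mul, h.card_univ]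
      omega
    simpa using hall.ge (mem_univ a)
  · left
    obtain ⟨hu, hu3⟩ := mem_filter.mp hu
    refine ⟨u, hu3, eq_singleton_iff_unique_mem.mpr ⟨hu, fun v hv => ?_⟩⟩
    exact (h.eq_of_card_lt hu hv (by have := (mem_near.mp hv).2; omega)).symm

/-- Every five points lie in a member of size 8. -/
theorem IsPacking.five {S : Set (Finset α)} (h : IsPacking S) (heven : ∀ s ∈ S, Even s.card)
    {F : Finset α} (hF : F.card = 5) : ∃ o ∈ S, F ⊆ o ∧ o.card = 8 := by
  obtain ⟨u, hu⟩ : (near S F).Nonempty := by
    rcases h.dichotomy F with ⟨u, -, e⟩ | ⟨e, -⟩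
    · exact ⟨u, e ▸ mem_singleton_self u⟩
    · exact card_pos.mp (by omega)
  obtain ⟨hS, hu4⟩ := mem_near.mp hu
  have hne : symmDiff u F ≠ ∅ := fun e => by
    have := congrArg Finset.card (symmDiff_eq_bot.mp e)
    omega
  have h8 := h.min _ hS hne
  have hsum := card_symmDiff_add u F
  obtain ⟨r, hr⟩ := heven _ hS
  refine ⟨_, hS, fun a ha => mem_symmDiff.mpr (Or.inr ⟨ha, fun hau => ?_⟩), by omega⟩
  have : 0 < (u ∩ F).card := card_pos.mpr ⟨a, mem_inter.mpr ⟨hau, ha⟩⟩
  omega

end Cfsg.Lib.Golay
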