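import Cfsg.Agent.Golay.Unique
import Cfsg.Agent.Golay.Packing

/-!
Uniqueness of the length-24 code on an arbitrary coordinate set.
-/

namespace Cfsg.Lib.Golay

open Cfsg
open scoped Pointwise

variable {α β : Type*} [DecidableEq α] [DecidableEq β]

/-- Every five points lie in a member of size 8. -/
def HasFive (S : Set (Finset α)) : Prop :=
  ∀ F : Finset α, F.card = 5 → ∃ o ∈ S, F ⊆ o ∧ o.card = 8

theorem image_image_symm (e : α ≃ β) (s : Finset β) : (s.image e.symm).image e = s := by
  simp [Finset.image_image]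

theorem image_symm_image (e : α ≃ β) (s : Finset α) : (s.image e).image e.symm = s := by
  simp [Finset.image_image]

theorem IsEvenFamily.image {S : Set (Finset α)} (h : IsEvenFamily S) (e : α ≃ β) :
    IsEvenFamily ((fun s => s.image e) '' S) := by
  refine ⟨⟨∅, h.empty_mem, Finset.image_empty _⟩, ?_, ?_, ?_⟩
  · rintro _ ⟨s, hs, rfl⟩ _ ⟨t, ht, rfl⟩
    exact ⟨_, h.symm s hs t ht, Finset.image_symmDiff s t e.injective⟩
  · rintro _ ⟨s, hs, rfl⟩ hne
    simp only at hne ⊢
    rw [Finset.card_image_of_injective _ e.injective]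
    exact h.min s hs fun he => hne (by rw [he, Finset.image_empty])
  · rintro _ ⟨s, hs, rfl⟩ _ ⟨t, ht, rfl⟩
    simp only [← Finset.image_inter _ _ e.injective, Finset.card_image_of_injective _ e.injective]
    exact h.even s hs t ht

/-- A family with the defining properties is a relabelling of the supports of the code. -/
theorem exists_equiv_supports [Fintype α] (hα : Fintype.card α = 24) {S : Set (Finset α)}
    (h : IsEvenFamily S) (h5 : HasFive S) :
    ∃ e : α ≃ GolayPt, ∀ s : Finset α, s.image e ∈ supports (golayCode : Set (GolayPt → ZMod 2)) ↔ s ∈ S := by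
  obtain ⟨e0⟩ : Nonempty (α ≃ GolayPt) :=
    ⟨Fintype.equivOfCardEq (by rw [hα, Fintype.card_option, ZMod.card])⟩
  have hT : IsGolayFamily ((fun s => s.image e0) '' S) := by
    refine ⟨h.image e0, fun F hF => ?_⟩
    obtain ⟨o, ho, hsub, h8⟩ := h5 (F.image e0.symm) (by
      rw [Finset.card_image_of_injective _ e0.symm.injective, hF])
    refine ⟨o.image e0, ⟨o, ho, rfl⟩, ?_, by rw [Finset.card_image_of_injective _ e0.injective, h8]⟩
    rw [← image_image_symm e0 F]
    exact Finset.image_subset_image hsub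
  obtain ⟨σ, hσ⟩ := golay_unique hT
  refine ⟨e0.trans σ, fun s => ?_⟩
  rw [← hσ, Equiv.coe_trans, ← Finset.image_image,
    show (s.image e0).image σ = σ • s.image e0 from rfl, Set.smul_mem_smul_set_iff]
  exact (Finset.image_injective e0.injective).mem_set_image

theorem image_support₂_comp [Fintype α] [Fintype β] (e : α ≃ β) (w : β → ZMod 2) :
    (support₂ (w ∘ e)).image e = support₂ w := by
  ext b
  obtain ⟨a, rfl⟩ := e.surjective b
  simp [mem_support₂]

theorem hammingNorm_comp [Fintype α] [Fintype β] (e : α ≃ β) (w : β → ZMod 2) :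
    hammingNorm (w ∘ e) = hammingNorm w := by
  rw [hammingNorm_eq, hammingNorm_eq, ← image_support₂_comp e w, Finset.card_image_of_injective _ e.injective]

section Code

variable [Fintype α] {C : Submodule (ZMod 2) (α → ZMod 2)}

theorem isEvenFamily_supports (horth : ∀ v ∈ C, ∀ w ∈ C, ∑ i, v i * w i = 0)
    (hmin : ∀ w ∈ C, w ≠ 0 → 8 ≤ hammingNorm w) : IsEvenFamily (supports (C : Set (α → ZMod 2))) := by
  refine ⟨⟨0, C.zero_mem, by ext; simp [mem_support₂]⟩, ?_, ?_, ?_⟩
  · rintro _ ⟨v, hv, rfl⟩ _ ⟨w, hw, rfl⟩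
    exact ⟨v + w, C.add_mem hv hw, support₂_add v w⟩
  · rintro _ ⟨v, hv, rfl⟩ hne
    rw [← hammingNorm_eq]
    exact hmin v hv fun h0 => hne (by subst h0; ext; simp [mem_support₂])
  · rintro _ ⟨v, hv, rfl⟩ _ ⟨w, hw, rfl⟩
    exact (orth_iff_even_inter v w).mp (horth v hv w hw)

theorem isPacking_supports (hα : Fintype.card α = 24) (hdim : Module.finrank (ZMod 2) C = 12)
    (hmin : ∀ w ∈ C, w ≠ 0 → 8 ≤ hammingNorm w) : IsPacking (supports (C : Set (α → ZMod 2))) := by
  refine ⟨hα, ?_, ?_, ?_⟩
  · rw [ncard_supports, ← Nat.card_coe_set_eq]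
    change Nat.card C = 4096
    rw [Module.natCard_eq_pow_finrank (K := ZMod 2), hdim, Nat.card_zmod]
    norm_num
  · rintro _ ⟨v, hv, rfl⟩ _ ⟨w, hw, rfl⟩
    exact ⟨v + w, C.add_mem hv hw, support₂_add v w⟩
  · rintro _ ⟨v, hv, rfl⟩ hne
    rw [← hammingNorm_eq]
    exact hmin v hv fun h0 => hne (by subst h0; ext; simp [mem_support₂])

/-- A self-orthogonal code of dimension 12 and minimum weight 8 is the code, relabelled. -/
theorem exists_equiv_code (hα : Fintype.card α = 24) (hdim : Module.finrank (ZMod 2) C = 12)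
    (horth : ∀ v ∈ C, ∀ w ∈ C, ∑ i, v i * w i = 0) (hmin : ∀ w ∈ C, w ≠ 0 → 8 ≤ hammingNorm w) :
    ∃ e : α ≃ GolayPt, ∀ w : GolayPt → ZMod 2, w ∈ golayCode ↔ w ∘ e ∈ C := by
  have h := isEvenFamily_supports horth hmin
  obtain ⟨e, he⟩ := exists_equiv_supports hα h fun F hF =>
    (isPacking_supports hα hdim hmin).five
      (fun s hs => by simpa using h.even s hs s hs) hF
  refine ⟨e, fun w => ?_⟩
  have := he (support₂ (w ∘ e))
  rw [image_support₂_comp, support₂_mem_supports, support₂_mem_supports] at this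
  exact this

theorem weight_of_code_equiv {e : α ≃ GolayPt} (he : ∀ w : GolayPt → ZMod 2, w ∈ golayCode ↔ w ∘ e ∈ C)
    {w : α → ZMod 2} (hw : w ∈ C) :
    hammingNorm w = 0 ∨ hammingNorm w = 8 ∨ hammingNorm w = 12 ∨ hammingNorm w = 16 ∨ hammingNorm w = 24 := by
  have hw' : w ∘ e.symm ∈ golayCode := (he _).mpr (by rwa [Function.comp_assoc, Equiv.symm_comp_self])
  rw [← hammingNorm_comp e.symm w, hammingNorm_eq]
  exact card_support_mem (support₂_mem_supports.mpr hw')

end Code

theorem rows_weight : (rows.all fun r => pc r == 8) = true := by decide +kernel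

theorem span_weight_eight [Fintype α] {C : Submodule (ZMod 2) (α → ZMod 2)} {e : α ≃ GolayPt}
    (he : ∀ w : GolayPt → ZMod 2, w ∈ golayCode ↔ w ∘ e ∈ C) :
    Submodule.span (ZMod 2) {w | w ∈ C ∧ hammingNorm w = 8} = C := by
  refine le_antisymm (Submodule.span_le.mpr fun w hw => hw.1) fun w hw => ?_
  have hw' : w ∘ e.symm ∈ golayCode := (he _).mpr (by rwa [Function.comp_assoc, Equiv.symm_comp_self])
  rw [golayCode_eq_span_rows] at hw'
  have key : ∀ x ∈ Submodule.span (ZMod 2) (wd '' {m | m ∈ rows}),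
      x ∘ e ∈ Submodule.span (ZMod 2) {w | w ∈ C ∧ hammingNorm w = 8} := by
    intro x hx
    induction hx using Submodule.span_induction with
    | mem x hx =>
      obtain ⟨m, hm, rfl⟩ := hx
      refine Submodule.subset_span ⟨(he _).mp ?_, ?_⟩
      · rw [golayCode_eq_span_rows]; exact Submodule.subset_span ⟨m, hm, rfl⟩
      · rw [hammingNorm_comp, hammingNorm_eq]
        have := List.all_eq_true.mp rows_weight m hm
        rw [beq_iff_eq, pc_eq_card] at this
        rw [← this]
        congr 1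
        ext p; simp [mem_support₂, wd, mem_pts]
    | zero => exact Submodule.zero_mem _
    | add x y _ _ hx hy => exact Submodule.add_mem _ hx hy
    | smul c x _ hx => exact Submodule.smul_mem _ c hx
  have := key _ hw'
  rwa [Function.comp_assoc, Equiv.symm_comp_self] at this

theorem isSteinerSystem_image {t k : ℕ} {B : Set (Finset β)} (hB : IsSteinerSystem t k B) (e : α ≃ β) :
    IsSteinerSystem t k {s : Finset α | s.image e ∈ B} := by
  refine ⟨fun b hb => by rw [← hB.1 _ hb, Finset.card_image_of_injective _ e.injective], fun s hs => ?_⟩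
  obtain ⟨b, ⟨hb, hsub⟩, huniq⟩ := hB.2 (s.image e) (by rw [Finset.card_image_of_injective _ e.injective, hs])
  refine ⟨b.image e.symm, ⟨by simpa [image_image_symm] using hb, ?_⟩, fun c hc => ?_⟩
  · rw [← image_symm_image e s]; exact Finset.image_subset_image hsub
  · rw [← huniq (c.image e) ⟨hc.1, Finset.image_subset_image hc.2⟩, image_symm_image]

end Cfsg.Lib.Golay
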