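import Cfsg.Agent.Golay.Coding

/-!
Isomorphisms of certified groups from a relation respected by their generators.
-/

set_option autoImplicit false

namespace Cfsg.Lib.Golay

open Cfsg Cfsg.Lib.PermCert MulAction

/-- A multiplicative relation between a certified group and a finite group. -/
structure GraphData {H : Type*} [Group H] (K : CG) (R : Equiv.Perm GolayPt → H → Prop) : Prop where
  ok : K.ok = true
  one : R 1 1
  mul : ∀ {x y a b}, R x a → R y b → R (x * y) (a * b)
  gens : ∀ g ∈ K.gens, ∃ h, R (toP g.1) h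

variable {H : Type*} [Group H] [Finite H] {K : CG} {R : Equiv.Perm GolayPt → H → Prop}

/-- The subgroup of related pairs. -/
def GraphData.pairs (d : GraphData K R) : Subgroup (Equiv.Perm GolayPt × H) where
  carrier := {q | q.1 ∈ K.grp ∧ R q.1 q.2}
  one_mem' := ⟨one_mem _, d.one⟩
  mul_mem' := fun {a b} ha hb => ⟨mul_mem ha.1 hb.1, d.mul ha.2 hb.2⟩
  inv_mem' := by
    intro a ha
    have key : ∀ n : ℕ, (a ^ n).1 ∈ K.grp ∧ R (a ^ n).1 (a ^ n).2 := by
      intro n
      induction n with
      | zero => rw [pow_zero]; exact ⟨one_mem _, d.one⟩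
      | succ n ih => rw [pow_succ]; exact ⟨mul_mem ih.1 ha.1, d.mul ih.2 ha.2⟩
    have e : a⁻¹ = a ^ (orderOf a - 1) := inv_eq_of_mul_eq_one_right (by
      rw [← pow_succ', Nat.sub_add_cancel (orderOf_pos a), pow_orderOf_eq_one])
    rw [e]
    exact key _

/-- The homomorphism back onto the certified group. -/
theorem GraphData.exists_hom (d : GraphData K R) (G : Set H) (hG : Subgroup.closure G = ⊤)
    (hmem : ∀ h ∈ G, ∃ x ∈ K.grp, R x h)
    (hcard : size K.chain * Nat.card {h : H // R 1 h} ≤ Nat.card H) :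
    ∃ f : H →* K.grp, Function.Surjective f ∧ ∀ h, f h = 1 ↔ R 1 h := by
  let π₁ : d.pairs →* K.grp := ((MonoidHom.fst _ _).comp d.pairs.subtype).codRestrict _ fun q => q.2.1
  let π₂ : d.pairs →* H := (MonoidHom.snd _ _).comp d.pairs.subtype
  have h1 : Function.Surjective π₁ := by
    have hle : K.grp ≤ d.pairs.map (MonoidHom.fst _ _) := by
      rw [← (CG.ok_spec d.ok).2.2, Subgroup.closure_le]
      rintro _ ⟨g, hg, rfl⟩
      obtain ⟨h, hh⟩ := d.gens g hg
      exact ⟨(toP g.1, h), ⟨by rw [← (CG.ok_spec d.ok).2.2]; exact Subgroup.subset_closure ⟨g, hg, rfl⟩, hh⟩, rfl⟩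
    rintro ⟨x, hx⟩
    obtain ⟨⟨y, h⟩, hq, rfl⟩ := hle hx
    exact ⟨⟨_, hq⟩, rfl⟩
  have h2 : Function.Surjective π₂ := by
    have hle : (⊤ : Subgroup H) ≤ π₂.range := by
      rw [← hG, Subgroup.closure_le]
      intro h hh
      obtain ⟨x, hx, hR⟩ := hmem h hh
      exact ⟨⟨(x, h), hx, hR⟩, rfl⟩
    exact fun h => hle (Subgroup.mem_top h)
  have hker : Nat.card π₁.ker = Nat.card {h : H // R 1 h} := by
    refine Nat.card_congr
      { toFun := fun q => ⟨(q : d.pairs).1.2, by
          have e : (q : d.pairs).1.1 = 1 := congrArg Subtype.val q.2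
          exact e ▸ (q : d.pairs).2.2⟩
        invFun := fun h => ⟨⟨(1, h.1), one_mem _, h.2⟩, rfl⟩
        left_inv := fun q => Subtype.ext (Subtype.ext (Prod.ext (congrArg Subtype.val q.2).symm rfl))
        right_inv := fun h => rfl }
  have hR : Nat.card d.pairs = size K.chain * Nat.card {h : H // R 1 h} := by
    have h := Subgroup.card_mul_index π₁.ker
    rw [Subgroup.index_ker, MonoidHom.range_eq_top.mpr h1, Subgroup.card_top, CG.card_grp d.ok, hker] at h
    rw [← h, mul_comm]
  have hb : Function.Bijective π₂ := (Nat.bijective_iff_surjective_and_card π₂).mpr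
    ⟨h2, le_antisymm (hR ▸ hcard) (Nat.card_le_card_of_surjective π₂ h2)⟩
  refine ⟨π₁.comp (MulEquiv.ofBijective π₂ hb).symm.toMonoidHom,
    h1.comp (MulEquiv.ofBijective π₂ hb).symm.surjective, fun h => ?_⟩
  constructor
  · intro hf
    have e : (((MulEquiv.ofBijective π₂ hb).symm h : d.pairs) : Equiv.Perm GolayPt × H).1 = 1 := congrArg Subtype.val hf
    have e2 : π₂ ((MulEquiv.ofBijective π₂ hb).symm h) = h := (MulEquiv.ofBijective π₂ hb).apply_symm_apply h
    have := ((MulEquiv.ofBijective π₂ hb).symm h).2.2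
    rw [e] at this
    exact (show _ = h from e2) ▸ this
  · intro hr
    have e : (MulEquiv.ofBijective π₂ hb).symm h = ⟨(1, h), one_mem _, hr⟩ := by
      rw [MulEquiv.symm_apply_eq]; rfl
    show π₁ ((MulEquiv.ofBijective π₂ hb).symm h) = 1
    rw [e]
    rfl

end Cfsg.Lib.Golay
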