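import Cfsg.Agent.PermCert.Basic

/-!
Certificate for the uniqueness of the Steiner systems on 22 points.
-/

namespace Cfsg.Lib.Golay

open Cfsg.Lib.PermCert

/-- Steps of the search with two fixed points. -/
def hexSteps : List (ℕ × ℕ × List ℕ × List (ℕ × ℕ)) := [
  (8388623, 8388735, [8388609, 8388606, 8388606, 8388606, 8388606, 8388606, 8388606, 8388606, 8388606, 8388606, 8388606, 8388606, 8388606, 8388606, 8388606, 8388606, 8388606, 8388606, 8388606, 8388606, 8388606, 8388606, 8388606, 8388609], []),
  (8388995, 8390535, [8388609, 126, 126, 126, 126, 126, 126, 8388480, 8388480, 8388480, 8388480, 8388480, 8388480, 8388480, 8388480, 8388480, 8388480, 8388480, 8388480, 8388480, 8388480, 8388480, 8388480, 8388609], [(1, 8388735)]),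
  (8390787, 8403083, [8388609, 6, 6, 120, 120, 120, 120, 1920, 1920, 1920, 1920, 8386560, 8386560, 8386560, 8386560, 8386560, 8386560, 8386560, 8386560, 8386560, 8386560, 8386560, 8386560, 8388609], [(1, 8388735), (2, 8390535)]),
  (8404999, 8505351, [8388609, 2, 4, 8, 112, 112, 112, 128, 1792, 1792, 1792, 14336, 14336, 14336, 8372224, 8372224, 8372224, 8372224, 8372224, 8372224, 8372224, 8372224, 8372224, 8388609], [(1, 8388735), (2, 8390535), (4, 8403083)]),
  (8392717, 8540429, [8388609, 2, 4, 8, 112, 112, 112, 128, 1792, 1792, 1792, 2048, 12288, 12288, 114688, 114688, 114688, 8257536, 8257536, 8257536, 8257536, 8257536, 8257536, 8388609], [(1, 8388735), (2, 8390535), (12, 127116), (4, 8403083)]),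
  (8390669, 9177613, [8388609, 2, 4, 8, 112, 112, 112, 128, 256, 1536, 1536, 2048, 4096, 8192, 16384, 98304, 98304, 131072, 8126464, 8126464, 8126464, 8126464, 8126464, 8388609], [(1, 8388735), (16, 8540429), (26, 8625805), (6, 16140), (4, 8403083)]),
  (8486921, 8753177, [8388609, 2, 4, 8, 112, 112, 112, 128, 256, 512, 1024, 2048, 4096, 8192, 16384, 98304, 98304, 131072, 786432, 786432, 7340032, 7340032, 7340032, 8388609], [(1, 8388735), (8, 8505351), (4, 8403083), (28, 8626561), (32, 9177613), (2, 8390535)]),
  (8394769, 9444373, [8388609, 2, 4, 8, 16, 96, 96, 128, 256, 512, 1024, 2048, 4096, 8192, 16384, 98304, 98304, 131072, 262144, 524288, 7340032, 7340032, 7340032, 8388609], [(1, 8388735), (4, 8403083), (73, 8673377), (25, 8624501), (32, 9177613), (2, 8390535)]),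
  (8397317, 8434213, [8388609, 2, 4, 8, 16, 96, 96, 128, 256, 512, 1024, 2048, 4096, 8192, 16384, 98304, 98304, 131072, 262144, 524288, 1048576, 6291456, 6291456, 8388609], [(1, 8388735), (134, 9446169), (6, 16140), (22, 8547841), (36, 799366), (8, 8505351)]),
  (8391201, 11536931, [8388609, 2, 4, 8, 16, 32, 64, 128, 256, 512, 1024, 2048, 4096, 8192, 16384, 32768, 65536, 131072, 262144, 524288, 1048576, 6291456, 6291456, 8388609], [(32, 9177613), (261, 8424145), (7, 8404851), (268, 8471209), (1, 8388735), (16, 8540429), (128, 9444373)]),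
  (9569281, 15860993, [8388609, 2, 4, 8, 16, 32, 64, 128, 256, 512, 1024, 2048, 4096, 8192, 16384, 32768, 65536, 131072, 262144, 524288, 1048576, 2097152, 4194304, 8388609], [(45, 916222), (2, 8390535), (38, 9188609), (144, 1199384), (153, 1279328)])]

/-- The permutation to the standard code. -/
def hexPerm : PP := (13828356338549162956061931973376314491014409478353531366794670021138952211081147053516236634171784167666598608896, 13828301295422292016382330022788331736277850656957190625016121866176439361639696208190579670857151461156936810496)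

/-- A row separating the two fixed points. -/
def hexExtraRow : ℕ := 13938692

/-- Selectors giving each standard row from the mapped words. -/
def hexRowComb : List ℕ := [242, 3072, 1, 766, 3319, 3599, 557, 3790, 4092, 1806, 589, 755]

end Cfsg.Lib.Golay
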