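import Cfsg.Agent.Golay.Unique
import Cfsg.Agent.Golay.HexData

/-!
Rigidity of a self-orthogonal family in which five points containing two fixed points lie in a member
of size 8: the members through the two points are octads after a relabelling.
-/

namespace Cfsg.Lib.Golay

open Cfsg Cfsg.Lib.PermCert
open scoped Pointwise

/-- The two fixed points. -/
def hexU : Finset GolayPt := {none, some 0}

theorem pts_hexMask : pts 8388609 = hexU := by decide +kernel

theorem card_hexU : hexU.card = 2 := by decide

/-- The eleven octads through the two points found by the search. -/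
def hexWords : List ℕ := ((stepsOK [8388609] [] hexSteps).getD []).map (img hexPerm)

theorem hex_check : (match stepsOK [8388609] [] hexSteps with
    | some _ => valid 24 hexPerm && (img hexPerm 8388609 == 8388609) && decide (hexExtraRow ∈ rows) &&
        (pc (hexExtraRow &&& 8388609) == 1) &&
        (hexWords.all fun g => (g &&& 8388609 == 8388609) && inCode g && (pc g == 8)) &&
        (hexRowComb.map (fun i => sel (hexExtraRow :: hexWords) i) == rows)
    | none => false) = true := by decide +kernel

theorem even_inter_sel {T : Finset GolayPt} : ∀ (gs : List ℕ) (i : ℕ),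
    (∀ g ∈ gs, Even (pts g ∩ T).card) → Even (pts (sel gs i) ∩ T).card := by
  intro gs
  induction gs with
  | nil => intro i _; simp [sel]
  | cons g l ih =>
    intro i hg
    simp only [sel]
    rw [pts_xor_eq, show symmDiff (pts (if i % 2 = 1 then g else 0)) (pts (sel l (i / 2))) ∩ T
      = symmDiff (pts (if i % 2 = 1 then g else 0) ∩ T) (pts (sel l (i / 2)) ∩ T) from inf_symmDiff_distrib_right _ _ _]
    refine even_card_symmDiff ?_ (ih _ fun x hx => hg x (by simp [hx]))
    split
    · exact hg g (by simp)
    · simp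

theorem hex_facts : valid 24 hexPerm = true ∧ img hexPerm 8388609 = 8388609 ∧ hexExtraRow ∈ rows ∧
    (pts hexExtraRow ∩ hexU).card = 1 ∧
    (∀ g ∈ hexWords, hexU ⊆ pts g ∧ pts g ∈ octads) ∧
    hexRowComb.map (fun i => sel (hexExtraRow :: hexWords) i) = rows ∧
    ∃ out, stepsOK [8388609] [] hexSteps = some out := by
  have hc := hex_check
  split at hc
  · next out hout =>
    simp only [Bool.and_eq_true, decide_eq_true_eq, beq_iff_eq, List.all_eq_true] at hc
    obtain ⟨⟨⟨⟨⟨hv, hU⟩, hr0⟩, hodd⟩, hW⟩, hrows⟩ := hc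
    refine ⟨hv, hU, hr0, ?_, fun g hg => ⟨?_, ?_⟩, hrows, out, hout⟩
    · rw [← pts_hexMask, ← pts_and, ← pc_eq_card, hodd]
    · rw [← pts_hexMask, ← (hW g hg).1.1, pts_and]; exact Finset.inter_subset_left
    · have hg' := (hW g hg).1.2
      refine ⟨?_, by rw [← pc_eq_card]; exact (hW g hg).2⟩
      rw [mem_supports_iff, mk_pts (lt_of_inCode hg')]
      exact hg'
  · simp at hc

/-- A set meeting the extra row and the eleven octads evenly is in the code. -/
theorem mem_supports_of_hex {X : Finset GolayPt} (h0 : Even (pts hexExtraRow ∩ X).card)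
    (hW : ∀ g ∈ hexWords, Even (pts g ∩ X).card) : X ∈ supports (golayCode : Set (GolayPt → ZMod 2)) := by
  obtain ⟨-, -, -, -, -, hrows, -⟩ := hex_facts
  refine mem_supports_of_orth fun r hr => ?_
  rw [← hrows] at hr
  obtain ⟨i, -, rfl⟩ := List.mem_map.mp hr
  exact even_inter_sel _ i (List.forall_mem_cons.mpr ⟨h0, hW⟩)

/-- A set meeting the eleven octads evenly is in the code, or becomes so on adding the two points. -/
theorem hex_dichotomy {X : Finset GolayPt} (hW : ∀ g ∈ hexWords, Even (pts g ∩ X).card) :
    X ∈ supports (golayCode : Set (GolayPt → ZMod 2)) ∨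
      symmDiff X hexU ∈ supports (golayCode : Set (GolayPt → ZMod 2)) := by
  obtain ⟨-, -, -, hodd, hU, -, -⟩ := hex_facts
  by_cases he : Even (pts hexExtraRow ∩ X).card
  · exact Or.inl (mem_supports_of_hex he hW)
  · refine Or.inr (mem_supports_of_hex ?_ fun g hg => ?_)
    · rw [show pts hexExtraRow ∩ symmDiff X hexU = symmDiff (pts hexExtraRow ∩ X) (pts hexExtraRow ∩ hexU) from
        inf_symmDiff_distrib_left _ _ _, symmDiff_def, Finset.sup_eq_union,
        Finset.card_union_of_disjoint disjoint_sdiff_sdiff]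
      have h1 := Finset.card_sdiff_add_card_inter (pts hexExtraRow ∩ X) (pts hexExtraRow ∩ hexU)
      have h2 := Finset.card_sdiff_add_card_inter (pts hexExtraRow ∩ hexU) (pts hexExtraRow ∩ X)
      rw [Finset.inter_comm (pts hexExtraRow ∩ hexU) (pts hexExtraRow ∩ X)] at h2
      rw [Nat.even_iff] at he ⊢
      omega
    · rw [show pts g ∩ symmDiff X hexU = symmDiff (pts g ∩ X) (pts g ∩ hexU) from inf_symmDiff_distrib_left _ _ _]
      refine even_card_symmDiff (hW g hg) ?_
      rw [Finset.inter_eq_right.mpr (hU g hg).1, card_hexU]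
      exact even_two

theorem hex_unique {S : Set (Finset GolayPt)} (h : IsEvenFamily S) (hfive : FiveOver [8388609] S) :
    ∃ σ : Equiv.Perm GolayPt, σ • hexU = hexU ∧
      ∀ T ∈ S, T.card = 8 → hexU ⊆ T → σ • T ∈ supports (golayCode : Set (GolayPt → ZMod 2)) := by
  obtain ⟨hv, hU, -, -, -, -, out, hout⟩ := hex_facts
  obtain ⟨σ, hσU, hσ⟩ := steps_sound _ _ _ hout h hfive (by simp)
  have hfixU : (toP hexPerm * σ) • hexU = hexU := by
    rw [← pts_hexMask, mul_smul, hσU _ (by simp), ← pts_img hv, hU]
  refine ⟨toP hexPerm * σ, hfixU, fun T hT hT8 hUT => ?_⟩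
  have hUT' : hexU ⊆ (toP hexPerm * σ) • T := by
    rw [← hfixU]; exact Finset.smul_finset_subset_smul_finset hUT
  have hW : ∀ g ∈ hexWords, Even (pts g ∩ (toP hexPerm * σ) • T).card := by
    intro g hg
    rw [hexWords, hout] at hg
    obtain ⟨g', hg', rfl⟩ := List.mem_map.mp hg
    rw [pts_img hv, mul_smul]
    exact ((h.smul σ).smul _).even _ (Set.smul_mem_smul_set (hσ g' hg').2) _
      (Set.smul_mem_smul_set (Set.smul_mem_smul_set hT))
  refine (hex_dichotomy hW).resolve_right fun hX => ?_
  have h8 := card_support_mem hX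
  rw [symmDiff_def, Finset.sdiff_eq_empty_iff_subset.mpr hUT', Finset.sup_eq_union, Finset.union_empty,
    Finset.card_sdiff_of_subset hUT', Finset.card_smul_finset, hT8, card_hexU] at h8
  omega

end Cfsg.Lib.Golay
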