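import Cfsg.Agent.Golay.M22CoverData
import Cfsg.Agent.Golay.M22PcData
import Cfsg.Agent.Golay.MultCert

/-! Checks on the tables for the fourfold cover of `M22`. -/

set_option autoImplicit false
set_option maxRecDepth 100000
set_option maxHeartbeats 2000000
set_option Elab.async false

namespace Cfsg.Lib.Golay.M22Mult

open Cfsg.Lib.PermCert

/-- A field of bits. -/
def bitsAt (T w i : ℕ) : ℕ := (T >>> (w * i)) % 2 ^ w

/-- A field of bits in a chunked table. -/
def cget (L : List ℕ) (w i : ℕ) : ℕ := bitsAt (L.getD (i / 500) 0) w (i % 500)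

/-- Table lookup, five bits to a point. -/
def ap5 (p x : ℕ) : ℕ := bitsAt p 5 x

/-- An element of the Sylow subgroup. -/
def upr (u : Fin 128) : ℕ := bitsAt uTab 120 u.val

/-- The product in the Sylow subgroup. -/
def um (a b : Fin 128) : Fin 128 := Fin.ofNat 128 (bitsAt umTab 7 (128 * a.val + b.val))

/-- A generator. -/
def gp (k : ℕ) : ℕ := bitsAt genTab 120 k

/-- A representative. -/
def rp (i : ℕ) : ℕ := cget repTab 120 i

/-- The parent. -/
def parOf (i : ℕ) : ℕ := cget parTab 16 i / 8

/-- The generator used. -/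
def genOf (i : ℕ) : ℕ := cget parTab 16 i % 8

/-- The weight of a list of points under a map. -/
def maskF (f : ℕ → ℕ) (l : List ℕ) : ℕ := (l.map fun x => 2 ^ f x).sum

/-- The key of a coset. -/
def keyF (f : ℕ → ℕ) : ℕ :=
  maskF f [2, 13] + 2 ^ 24 * maskF f [10, 12, 17, 21] + 2 ^ 48 * min (maskF f [10, 17]) (maskF f [12, 21])

/-- The word of an element of the Sylow subgroup. -/
def uword (u : Fin 128) : List ℕ := (List.range 7).filter u.val.testBit

/-- The value of the cocycle on a point. -/
def hv (u : Fin 128) (i : Fin 4) : ℕ := bitsAt hTab 2 (4 * u.val + i.val)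

/-- The action on four points. -/
def pv (u : Fin 128) (i : Fin 4) : Fin 4 := Fin.ofNat 4 (bitsAt piTab 2 (4 * u.val + i.val))

/-- The cocycle. -/
def fc (u v : Fin 128) : ℕ := (hv u (pv v 0) + hv v 0 + 4 - hv (um u v) 0) % 4

/-- The two commuting elements. -/
def elt (b : Bool) : Fin 128 := bif b then 21 else 12

/-- The moved coset. -/
def jv (b : Bool) (i : ℕ) : ℕ := cget (jTab b) 12 i

/-- The part in the Sylow subgroup. -/
def bv (b : Bool) (i : ℕ) : Fin 128 := Fin.ofNat 128 (cget (bTab b) 7 i)

/-- Agreement of a product with a table. -/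
def compOK (a b c : ℕ) : Bool := (List.range 24).all fun x => Nat.beq (ap5 a (ap5 b x)) (ap5 c x)

/-- Agreement of two products. -/
def sqOK (a b c d : ℕ) : Bool := (List.range 24).all fun x => Nat.beq (ap5 a (ap5 b x)) (ap5 c (ap5 d x))

theorem upr_zero : ∀ x : Fin 24, ap5 (upr 0) x.val = x.val := by decide +kernel

theorem upr_word : ∀ u : Fin 128, ∀ x : Fin 24,
    (uword u).foldr (fun k y => ap5 (upr (Fin.ofNat 128 (2 ^ k))) y) x.val = ap5 (upr u) x.val := by
  decide +kernel

theorem upr_gen : ∀ k : Fin 7, ∀ x : Fin 24,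
    ap (xPP.getD k.val (0, 0)).1 x.val = ap5 (upr (Fin.ofNat 128 (2 ^ k.val))) x.val := by decide +kernel

theorem upr_sep : ∀ a b : Fin 128, (∀ x : Fin 24, ap5 (upr a) x.val = ap5 (upr b) x.val) → a = b := by
  decide +kernel

theorem um_table_low : ∀ a : Fin 64, ∀ b : Fin 128,
    compOK (upr ⟨a.val, by omega⟩) (upr b) (upr (um ⟨a.val, by omega⟩ b)) = true := by decide +kernel

theorem um_table_high : ∀ a : Fin 64, ∀ b : Fin 128,
    compOK (upr ⟨64 + a.val, by omega⟩) (upr b) (upr (um ⟨64 + a.val, by omega⟩ b)) = true := by decide +kernel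

theorem mono_low : ∀ a : Fin 64, ∀ b : Fin 128, ∀ i : Fin 4,
    pv (um ⟨a.val, by omega⟩ b) i = pv ⟨a.val, by omega⟩ (pv b i) ∧
      (fc ⟨a.val, by omega⟩ b + hv (um ⟨a.val, by omega⟩ b) i) % 4 =
        (hv ⟨a.val, by omega⟩ (pv b i) + hv b i) % 4 := by decide +kernel

theorem mono_high : ∀ a : Fin 64, ∀ b : Fin 128, ∀ i : Fin 4,
    pv (um ⟨64 + a.val, by omega⟩ b) i = pv ⟨64 + a.val, by omega⟩ (pv b i) ∧
      (fc ⟨64 + a.val, by omega⟩ b + hv (um ⟨64 + a.val, by omega⟩ b) i) % 4 =
        (hv ⟨64 + a.val, by omega⟩ (pv b i) + hv b i) % 4 := by decide +kernel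

theorem fc_zero : ∀ u, fc 0 u = 0 ∧ fc u 0 = 0 := by decide +kernel

theorem gp_gens : ∀ k : Fin 6, ∀ x : Fin 24,
    ap ((cgAutM22.gens.getD k.val autGenM22G0).1).1 x.val = ap5 (gp k.val) x.val := by decide +kernel

theorem rep_zero : ∀ x : Fin 24, ap5 (rp 0) x.val = x.val := by decide +kernel

theorem rep_tree : ((List.range 3465).all fun i => Nat.beq i 0 ||
    (Nat.blt (parOf i) i && Nat.blt (genOf i) 6 && compOK (gp (genOf i)) (rp (parOf i)) (rp i))) = true := by
  decide +kernel

theorem key_order : ((List.range 3464).all fun t =>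
    Nat.blt (keyF (ap5 (rp (cget ordTab 12 t)))) (keyF (ap5 (rp (cget ordTab 12 (t + 1)))))) = true := by
  decide +kernel

theorem key_rank : ((List.range 3465).all fun i =>
    Nat.blt (cget rankTab 12 i) 3465 && Nat.beq (cget ordTab 12 (cget rankTab 12 i)) i) = true := by
  decide +kernel

theorem key_fix : ∀ u : Fin 128,
    ([2, 13].map (ap5 (upr u))).isPerm [2, 13] = true ∧
    ([10, 12, 17, 21].map (ap5 (upr u))).isPerm [10, 12, 17, 21] = true ∧
    ((([10, 17].map (ap5 (upr u))).isPerm [10, 17] = true ∧ ([12, 21].map (ap5 (upr u))).isPerm [12, 21] = true) ∨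
      (([10, 17].map (ap5 (upr u))).isPerm [12, 21] = true ∧ ([12, 21].map (ap5 (upr u))).isPerm [10, 17] = true)) := by
  decide +kernel

theorem act_false : ((List.range 3465).all fun i =>
    Nat.blt (jv false i) 3465 &&
      sqOK (upr (elt false)) (rp i) (rp (jv false i)) (upr (bv false i))) = true := by decide +kernel

theorem act_true : ((List.range 3465).all fun i =>
    Nat.blt (jv true i) 3465 &&
      sqOK (upr (elt true)) (rp i) (rp (jv true i)) (upr (bv true i))) = true := by decide +kernel

theorem elt_comm : um (elt false) (elt true) = um (elt true) (elt false) := by decide +kernel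

theorem sum_value : ((List.range 3465).map fun i =>
    fc (bv false (jv true i)) (bv true i) + 4 - fc (bv true (jv false i)) (bv false i)).sum % 4 = 1 := by
  decide +kernel

/-- An element of the list of the elementary subgroup. -/
def inE (u : Fin 128) : Bool := eList.contains u.val

/-- The two generators of the complement. -/
def dd : Fin 128 := Fin.ofNat 128 dGens.1

/-- The second generator of the complement. -/
def de : Fin 128 := Fin.ofNat 128 dGens.2

/-- The values of short words in the two generators. -/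
def dWords : List (List (Fin 128)) :=
  [[], [dd], [de], [dd, de], [de, dd], [dd, de, dd], [de, dd, de], [dd, de, dd, de]]

theorem elem_facts : inE 0 = true ∧
    (∀ a b : Fin 128, inE a = true → inE b = true → inE (um a b) = true ∧ um a b = um b a ∧ um a a = 0) ∧
    (∀ a : Fin 128, inE a = true → inE (um (um dd a) dd) = true ∧ inE (um (um de a) de) = true) := by
  decide +kernel

theorem dihedral_facts : um dd dd = 0 ∧ um de de = 0 ∧ inE (um (um dd de) (um dd de)) = false ∧
    um (um (um dd de) (um dd de)) (um (um dd de) (um dd de)) = 0 := by decide +kernel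

theorem gen_cases : ∀ k : Fin 7, ∃ w : Fin 8, ∃ s : Fin 128, inE s = true ∧
    um s ((dWords.getD w.val []).foldr um 0) = Fin.ofNat 128 (2 ^ k.val) := by decide +kernel

theorem cert_ok : cert.okWith des = true := by decide +kernel

theorem pc_facts : pcFacts cgAutM22 cgAutSylM22 cert xPP hPP rPP (xPP.getD 0 (0, 0)) = true := by decide +kernel

end Cfsg.Lib.Golay.M22Mult
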