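import Cfsg.Agent.Golay.M22Elem
import Cfsg.Agent.Schur.Corestriction

/-!
A stem extension of `M22` with kernel of order four, by corestriction from the Sylow 2-subgroup.
-/

set_option autoImplicit false
set_option linter.style.haveILetI false
set_option maxRecDepth 100000
set_option Elab.async false

open scoped commutatorElement

namespace Cfsg.Lib.Golay.M22Mult

open Cfsg Cfsg.Lib.PermCert
open Cfsg.Lib.Schur.Corestriction (Datum cor Ext)

theorem hv_cast (a b : Fin 128) (i : Fin 4) :
    (fc a b : ZMod 4) = (hv a (pv b i) : ZMod 4) + (hv b i : ZMod 4) - (hv (um a b) i : ZMod 4) := by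
  have h := (ZMod.natCast_eq_natCast_iff' _ _ 4).mpr (mono a b i).2
  push_cast at h
  exact eq_sub_of_add_eq h

theorem sum_range_eq {M : Type*} [AddCommMonoid M] (n : ℕ) (f : ℕ → M) :
    ∑ i : Fin n, f i.val = ((List.range n).map f).sum := by
  rw [Fin.sum_univ_eq_sum_range f n]
  rfl

theorem exists_four_cover :
    ∃ (Γ : Type) (_ : Group Γ) (_ : Finite Γ) (σ : Γ →* QM),
      Cfsg.IsStemExtension σ ∧ Nat.card σ.ker = 4 := by
  classical
  haveI : Fintype (QM ⧸ syl) := Fintype.ofFinite _
  let e : Fin 3465 ≃ QM ⧸ syl := Equiv.ofBijective _ repQ_bijective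
  let num : syl → Fin 128 := fun y => y.2.choose
  have hnum : ∀ y : syl, phi (num y) = y := fun y => y.2.choose_spec
  have hnum_mul : ∀ y z, num (y * z) = um (num y) (num z) := fun y z => phi_injective (by
    rw [hnum, ← phi_mul, hnum, hnum, Subgroup.coe_mul])
  have hnum_one : num 1 = 0 := phi_injective (by rw [hnum, phi_zero, Subgroup.coe_one])
  let D : Datum syl (ZMod 4) :=
    { f := fun y z => (fc (num y) (num z) : ZMod 4)
      cocycle := fun x y z => by
        have key : ∀ a b c, um a (um b c) = um (um a b) c →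
            (fc b c : ZMod 4) + (fc a (um b c) : ZMod 4) = (fc (um a b) c : ZMod 4) + (fc a b : ZMod 4) := by
          intro a b c hass
          rw [hv_cast b c 0, hv_cast a (um b c) 0, hv_cast (um a b) c 0, hv_cast a b (pv c 0),
            (mono b c 0).1, hass]
          abel
        have hass : um (num x) (um (num y) (num z)) = um (um (num x) (num y)) (num z) := by
          rw [← hnum_mul, ← hnum_mul, ← hnum_mul, ← hnum_mul, mul_assoc]
        simp only [hnum_mul]
        exact key _ _ _ hass
      left := fun x => by simp [hnum_one, (fc_zero _).1]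
      right := fun x => by simp [hnum_one, (fc_zero _).2]
      s := fun q => repQ (e.symm q)
      hs := fun q => e.apply_symm_apply q }
  have hbeta : ∀ b i, ∃ j : Fin 3465, j.val = jv b i.val ∧ phi (elt b) • e i = e j ∧
      num (Cfsg.Lib.Schur.Corestriction.beta D (phi (elt b)) (e i)) = bv b i.val := by
    intro b i
    obtain ⟨j, hj, hq⟩ := act b i
    have hact : phi (elt b) • e i = e j := by
      show ((phi (elt b) * repQ i : QM) : QM ⧸ syl) = (repQ j : QM ⧸ syl)
      rw [hq]
      exact QuotientGroup.eq.mpr (by rw [_root_.mul_inv_rev, inv_mul_cancel_right]; exact inv_mem ⟨_, rfl⟩)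
    refine ⟨j, hj, hact, phi_injective ?_⟩
    rw [hnum]
    show (D.s (phi (elt b) • e i))⁻¹ * (phi (elt b) * D.s (e i)) = _
    rw [hact]
    show (repQ (e.symm (e j)))⁻¹ * (phi (elt b) * repQ (e.symm (e i))) = _
    rw [e.symm_apply_apply, e.symm_apply_apply, hq, inv_mul_cancel_left]
  have hcomm : phi (elt false) * phi (elt true) = phi (elt true) * phi (elt false) := by
    rw [phi_mul, phi_mul, elt_comm]
  have hval : cor D (phi (elt false)) (phi (elt true)) - cor D (phi (elt true)) (phi (elt false)) = 1 := by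
    rw [cor, cor, ← Finset.sum_sub_distrib, ← Equiv.sum_comp e]
    have hterm : ∀ i, D.f (Cfsg.Lib.Schur.Corestriction.beta D (phi (elt false)) (phi (elt true) • e i)) (Cfsg.Lib.Schur.Corestriction.beta D (phi (elt true)) (e i)) -
        D.f (Cfsg.Lib.Schur.Corestriction.beta D (phi (elt true)) (phi (elt false) • e i)) (Cfsg.Lib.Schur.Corestriction.beta D (phi (elt false)) (e i)) =
        ((fun k : ℕ => (((fc (bv false (jv true k)) (bv true k) + 4 - fc (bv true (jv false k)) (bv false k) : ℕ)) :
          ZMod 4)) i.val) := by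
      intro i
      obtain ⟨jt, hjt, at1, at2⟩ := hbeta true i
      obtain ⟨jf, hjf, af1, af2⟩ := hbeta false i
      rw [at1, af1]
      show (fc (num _) (num _) : ZMod 4) - (fc (num _) (num _) : ZMod 4) = _
      obtain ⟨-, -, -, bt⟩ := hbeta false jt
      obtain ⟨-, -, -, bf⟩ := hbeta true jf
      rw [bt, at2, bf, af2, hjt, hjf]
      have hlt : fc (bv true (jv false i.val)) (bv false i.val) ≤
          fc (bv false (jv true i.val)) (bv true i.val) + 4 := by
        have : fc (bv true (jv false i.val)) (bv false i.val) < 4 := Nat.mod_lt _ (by norm_num)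
        omega
      show _ = ((_ : ℕ) : ZMod 4)
      rw [Nat.cast_sub hlt, Nat.cast_add, show ((4 : ℕ) : ZMod 4) = 0 from ZMod.natCast_self 4, add_zero]
    rw [Finset.sum_congr rfl fun i _ => hterm i]
    rw [sum_range_eq 3465 fun k : ℕ =>
      ((fc (bv false (jv true k)) (bv true k) + 4 - fc (bv true (jv false k)) (bv false k) : ℕ) : ZMod 4)]
    have hv := sum_value
    generalize hl : List.range 3465 = l at hv ⊢
    rw [show (l.map fun k => ((fc (bv false (jv true k)) (bv true k) + 4 -
        fc (bv true (jv false k)) (bv false k) : ℕ) : ZMod 4)) =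
      (l.map fun k => fc (bv false (jv true k)) (bv true k) + 4 - fc (bv true (jv false k)) (bv false k)).map
        (fun n : ℕ => (n : ZMod 4)) from List.map_map.symm,
      ← Nat.cast_list_sum, ← ZMod.natCast_mod, hv, Nat.cast_one]
  let π := Cfsg.Lib.Schur.Corestriction.proj D
  refine ⟨Ext D, inferInstance, inferInstance, π, ⟨fun g => ⟨⟨0, g⟩, rfl⟩,
    Cfsg.Lib.Schur.Corestriction.ker_le_center D, fun w hw => ?_⟩, ?_⟩
  · have hA : (Ext.mk (D := D) (1 : ZMod 4) 1) ∈ commutator (Ext D) := by
      rw [← hval, ← Cfsg.Lib.Schur.Corestriction.commutator_lifts D hcomm]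
      exact Subgroup.commutator_mem_commutator (Subgroup.mem_top _) (Subgroup.mem_top _)
    let J : Subgroup (Multiplicative (ZMod 4)) :=
      (commutator (Ext D)).comap ((π.ker.subtype).comp (Cfsg.Lib.Schur.Corestriction.kerEquiv D).toMonoidHom)
    have hJ : ∀ n : ℕ, Multiplicative.ofAdd (n : ZMod 4) ∈ J := by
      intro n
      rw [← nsmul_one n, ofAdd_nsmul]
      exact pow_mem (show Multiplicative.ofAdd (1 : ZMod 4) ∈ J from hA) n
    have h := hJ w.z.val
    rw [ZMod.natCast_zmod_val] at h
    have hw' : w.g = 1 := hw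
    rwa [show w = Ext.mk (D := D) w.z 1 from Cfsg.Lib.Schur.Corestriction.Ext.ext rfl hw']
  · rw [← Nat.card_congr (Cfsg.Lib.Schur.Corestriction.kerEquiv D).toEquiv,
      Nat.card_congr Multiplicative.toAdd, Nat.card_zmod]

end Cfsg.Lib.Golay.M22Mult
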