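import Cfsg.Agent.Golay.M22ThreeCheck
import Cfsg.Agent.Golay.M22Elem

/-!
A Sylow 3-subgroup of `M22` and the elements normalising it.
-/

set_option autoImplicit false
set_option linter.style.haveILetI false
set_option maxRecDepth 100000
set_option Elab.async false

namespace Cfsg.Lib.Golay.M22Mult

open Cfsg Cfsg.Lib.PermCert

/-- The coordinates in the Sylow 3-subgroup. -/
abbrev V3 : Type := ZMod 3 × ZMod 3

/-- The nine moved points. -/
def nineSet : Finset GolayPt := pts nineMask

theorem exists_psi : ∀ v : V3, ∃ g : QM, ∀ x < 24, ev g x = ap5 (npr v) x := by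
  have step : ∀ v w : V3, (∃ g : QM, ∀ x < 24, ev g x = ap5 (npr v) x) →
      (∃ g : QM, ∀ x < 24, ev g x = ap5 (npr w) x) → ∃ g : QM, ∀ x < 24, ev g x = ap5 (npr (v + w)) x := by
    rintro v w ⟨g, hg⟩ ⟨h, hh⟩
    refine ⟨g * h, fun x hx => ?_⟩
    rw [ev_mul, hh x hx, hg _ (hh x hx ▸ ev_lt h x)]
    exact compOK_spec (npr_add v w) hx
  have h0 : ∃ g : QM, ∀ x < 24, ev g x = ap5 (npr (0 : V3)) x :=
    ⟨1, fun x hx => by rw [ev_one hx]; exact (npr_zero ⟨x, hx⟩).symm⟩
  have h1 : ∃ g : QM, ∀ x < 24, ev g x = ap5 (npr ((1, 0) : V3)) x := by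
    obtain ⟨hv, hs, -, -⟩ := three_valid
    obtain ⟨g, hg⟩ := exists_of_sift hv hs
    exact ⟨g, fun x hx => by rw [hg x hx]; exact (npr_gens ⟨x, hx⟩).1⟩
  have h2 : ∃ g : QM, ∀ x < 24, ev g x = ap5 (npr ((0, 1) : V3)) x := by
    obtain ⟨-, -, hv, hs⟩ := three_valid
    obtain ⟨g, hg⟩ := exists_of_sift hv hs
    exact ⟨g, fun x hx => by rw [hg x hx]; exact (npr_gens ⟨x, hx⟩).2⟩
  intro v
  have dec : ∀ v : V3, v.1.val • ((1, 0) : V3) + v.2.val • ((0, 1) : V3) = v := by decide +kernel
  have hn : ∀ (u : V3), (∃ g : QM, ∀ x < 24, ev g x = ap5 (npr u) x) → ∀ n : ℕ,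
      ∃ g : QM, ∀ x < 24, ev g x = ap5 (npr (n • u)) x := by
    intro u hu n
    induction n with
    | zero => rw [zero_nsmul]; exact h0
    | succ n ih => rw [succ_nsmul]; exact step _ _ ih hu
  rw [← dec v]
  exact step _ _ (hn _ h1 _) (hn _ h2 _)

/-- An element of the Sylow 3-subgroup. -/
noncomputable def psiFun (v : V3) : QM := (exists_psi v).choose

theorem ev_psi (v : V3) : ∀ x < 24, ev (psiFun v) x = ap5 (npr v) x := (exists_psi v).choose_spec

/-- The Sylow 3-subgroup as a homomorphism. -/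
noncomputable def psi : Multiplicative V3 →* QM :=
  MonoidHom.mk' (fun v => psiFun v.toAdd) fun a b => ev_ext fun x hx => by
    rw [toAdd_mul, ev_mul, ev_psi b.toAdd x hx, ev_psi a.toAdd _ (ev_psi b.toAdd x hx ▸ ev_lt _ _),
      ev_psi _ x hx]
    exact (compOK_spec (npr_add a.toAdd b.toAdd) hx).symm

theorem psi_injective : Function.Injective psi := fun a b h =>
  Multiplicative.toAdd.injective (npr_sep a.toAdd b.toAdd fun x => by
    rw [← ev_psi a.toAdd x x.2, ← ev_psi b.toAdd x x.2]
    exact congrArg (fun g => ev g x) h)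

theorem mk_image (S : Finset GolayPt) (g : QM) :
    Cfsg.Lib.Golay.mk (S.image fun p => (g : Equiv.Perm GolayPt) p) =
      ((bitsOf (Cfsg.Lib.Golay.mk S)).map fun x => 2 ^ ev g x).sum := by
  have hset : (bitsOf (Cfsg.Lib.Golay.mk S)).toFinset = S.image pidx := by
    ext x
    rw [List.mem_toFinset, bitsOf, List.mem_filter, Finset.mem_image, ← testBit_mk_iff, List.mem_range]
    refine ⟨fun h => h.2, fun h => ⟨?_, h⟩⟩
    obtain ⟨p, -, rfl⟩ := (testBit_mk_iff S x).mp h
    exact pidx_lt p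
  have hnd : (bitsOf (Cfsg.Lib.Golay.mk S)).Nodup := List.Nodup.filter _ List.nodup_range
  rw [← List.sum_toFinset _ hnd, hset,
    Finset.sum_image fun a _ b _ h => pidx_injective h]
  rw [Cfsg.Lib.Golay.mk, Finset.image_image, Finset.sum_image fun a _ b _ h => by
    exact (g : Equiv.Perm GolayPt).injective (pidx_injective h)]
  refine Finset.sum_congr rfl fun p _ => ?_
  simp only [Function.comp_apply, ev, ptAt_pidx]

theorem exists_moved : ∀ i < 6160, ∃ t : QM,
    Cfsg.Lib.Golay.mk (nineSet.image fun p => (t : Equiv.Perm GolayPt) p) = mk i := by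
  intro i
  induction i using Nat.strong_induction_on with
  | _ i ih =>
    intro hi
    rcases Nat.eq_zero_or_pos i with rfl | hpos
    · refine ⟨1, ?_⟩
      rw [mask_zero.1]
      simp only [Subgroup.coe_one, Equiv.Perm.one_apply, Finset.image_id']
      exact eq_of_pts_eq (mk_lt _) mask_zero.2 (pts_mk _)
    · have h := List.all_eq_true.mp mask_tree i (List.mem_range.mpr hi)
      simp only [Bool.or_eq_true, Bool.and_eq_true, Nat.blt, Nat.ble_eq] at h
      rcases h with h | ⟨⟨h1, h2⟩, h3⟩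
      · exact absurd (Nat.eq_of_beq_eq_true h) hpos.ne'
      · obtain ⟨t, ht⟩ := ih _ h1 (lt_trans h1 hi)
        obtain ⟨a, ha⟩ := exists_gen ⟨_, h2⟩
        refine ⟨a * t, ?_⟩
        have e : (nineSet.image fun p => ((a * t : QM) : Equiv.Perm GolayPt) p) =
            (nineSet.image fun p => (t : Equiv.Perm GolayPt) p).image fun p => (a : Equiv.Perm GolayPt) p := by
          rw [Finset.image_image]
          rfl
        rw [e, mk_image, ht, ← Nat.eq_of_beq_eq_true h3]
        refine congrArg List.sum (List.map_congr_left fun x hx => ?_)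
        rw [ha x (List.mem_range.mp (List.mem_filter.mp hx).1)]

theorem mask_injective {i j : ℕ} (hi : i < 6160) (hj : j < 6160) (h : mk i = mk j) : i = j := by
  let K : ℕ → ℕ := fun t => mk (cget maskOrdTab 13 t)
  have hstep : ∀ t < 6159, K t < K (t + 1) := fun t ht => by
    have := List.all_eq_true.mp mask_order t (List.mem_range.mpr ht)
    rwa [Nat.blt, Nat.ble_eq] at this
  have hmono : ∀ b a, a < b → b < 6160 → K a < K b := by
    intro b
    induction b with
    | zero => intro a ha; omega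
    | succ b ih =>
      intro a ha hb
      rcases Nat.lt_succ_iff_lt_or_eq.mp ha with h' | h'
      · exact lt_trans (ih a h' (by omega)) (hstep b (by omega))
      · subst h'; exact hstep a (by omega)
  have hr : ∀ k < 6160, cget maskRankTab 13 k < 6160 ∧ cget maskOrdTab 13 (cget maskRankTab 13 k) = k :=
    fun k hk => by
      have := List.all_eq_true.mp mask_rank k (List.mem_range.mpr hk)
      simp only [Bool.and_eq_true, Nat.blt, Nat.ble_eq] at this
      exact ⟨this.1, Nat.eq_of_beq_eq_true this.2⟩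
  obtain ⟨a1, a2⟩ := hr i hi
  obtain ⟨b1, b2⟩ := hr j hj
  have e : K (cget maskRankTab 13 i) = K (cget maskRankTab 13 j) := by
    show mk (cget maskOrdTab 13 _) = mk (cget maskOrdTab 13 _)
    rw [a2, b2, h]
  rcases lt_trichotomy (cget maskRankTab 13 i) (cget maskRankTab 13 j) with h' | h' | h'
  · exact absurd e (hmono _ _ h' b1).ne
  · rw [← a2, ← b2, h']
  · exact absurd e (hmono _ _ h' a1).ne'

theorem exists_stp (k : Fin 72) : ∃ g : QM, ∀ x < 24, ev g x = ap (stp k).1 x :=
  exists_of_sift (stab_valid k).1 (stab_valid k).2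

/-- An element preserving the nine points. -/
noncomputable def stQ (k : Fin 72) : QM := (exists_stp k).choose

theorem ev_stQ (k : Fin 72) : ∀ x < 24, ev (stQ k) x = ap (stp k).1 x := (exists_stp k).choose_spec

/-- The nine points are preserved. -/
def Keeps (g : QM) : Prop := ∀ p ∈ nineSet, (g : Equiv.Perm GolayPt) p ∈ nineSet

theorem stQ_keeps (k : Fin 72) : Keeps (stQ k) := by
  intro p hp
  rw [nineSet, mem_pts] at hp ⊢
  have h := ev_stQ k _ (pidx_lt p)
  rw [ev, ptAt_pidx] at h
  rw [h]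
  exact stab_fix k ⟨_, pidx_lt p⟩ hp

theorem exists_eq_stQ {g : QM} (hg : Keeps g) : ∃ k, g = stQ k := by
  classical
  haveI : Fintype QM := Fintype.ofFinite _
  choose t ht using exists_moved
  have himg : ∀ h : QM, Keeps h → (nineSet.image fun p => (h : Equiv.Perm GolayPt) p) = nineSet := fun h hh =>
    Finset.eq_of_subset_of_card_le (fun q hq => by
      obtain ⟨p, hp, rfl⟩ := Finset.mem_image.mp hq
      exact hh p hp) (by rw [Finset.card_image_of_injective _ (Equiv.injective _)])
  let S : Finset QM := Finset.univ.filter Keeps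
  have hcard : 6160 * S.card ≤ 443520 := by
    rw [← card_QM, Nat.card_eq_fintype_card, ← Fintype.card_fin 6160, ← Fintype.card_coe S, ← Fintype.card_prod]
    refine Fintype.card_le_of_injective (fun x : Fin 6160 × S => t x.1 x.1.2 * (x.2 : QM)) ?_
    rintro ⟨i, h⟩ ⟨j, h'⟩ e
    have key : ∀ (i : Fin 6160) (h : S),
        Cfsg.Lib.Golay.mk (nineSet.image fun p => ((t i i.2 * (h : QM) : QM) : Equiv.Perm GolayPt) p) = mk i := by
      intro i h
      rw [← ht i i.2]
      conv_rhs => rw [← himg (h : QM) (Finset.mem_filter.mp h.2).2, Finset.image_image]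
      rfl
    have hij : i = j := by
      refine Fin.ext (mask_injective i.2 j.2 ?_)
      rw [← key i h, ← key j h']
      exact congrArg (fun z : QM => Cfsg.Lib.Golay.mk (nineSet.image fun p => (z : Equiv.Perm GolayPt) p)) e
    subst hij
    exact Prod.ext rfl (Subtype.ext (mul_left_cancel e))
  have hinj : Function.Injective stQ := fun j k e => stab_sep j k fun x => by
    rw [← ev_stQ j x x.2, ← ev_stQ k x x.2, e]
  have hsub : Finset.univ.image stQ ⊆ S := fun q hq => by
    obtain ⟨k, -, rfl⟩ := Finset.mem_image.mp hq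
    exact Finset.mem_filter.mpr ⟨Finset.mem_univ _, stQ_keeps k⟩
  have heq : Finset.univ.image stQ = S := Finset.eq_of_subset_of_card_le hsub (by
    rw [Finset.card_image_of_injective _ hinj, Finset.card_univ, Fintype.card_fin]
    omega)
  have : g ∈ Finset.univ.image stQ := heq ▸ Finset.mem_filter.mpr ⟨Finset.mem_univ _, hg⟩
  obtain ⟨k, -, e⟩ := Finset.mem_image.mp this
  exact ⟨k, e.symm⟩

/-- The coordinates with a number below nine. -/
def vecOf (i : ℕ) : V3 := (Fin.ofNat 3 (i / 3), Fin.ofNat 3 i)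

theorem vecOf_bij : (∀ v : V3, ∃ i : Fin 9, vecOf i.val = v) ∧
    ∀ i j : Fin 9, vecOf i.val = vecOf j.val → i = j := by decide +kernel

theorem keeps_of_normalizes {g : QM}
    (hg : ∀ v, ∃ u, psi v * g = g * psi u) : Keeps g := by
  classical
  choose u hu using hg
  have huinj : Function.Injective u := fun a b e => psi_injective (by
    have h := hu a
    rw [e, ← hu b] at h
    exact mul_right_cancel h)
  obtain ⟨q, hqB, hqn, hqall⟩ := nine_base
  have hqn' : ((List.range 9).map fun i => ap5 (npr (vecOf i)) q).Nodup := hqn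
  have hfree : ∀ a b : Multiplicative V3, ev (psi a) q = ev (psi b) q → a = b := by
    intro a b h
    obtain ⟨i, hi⟩ := vecOf_bij.1 a.toAdd
    obtain ⟨j, hj⟩ := vecOf_bij.1 b.toAdd
    have h' : ap5 (npr (vecOf i.val)) q = ap5 (npr (vecOf j.val)) q := by
      rw [hi, hj, ← ev_psi a.toAdd q q.2, ← ev_psi b.toAdd q q.2]
      exact h
    have hij : i.val = j.val := List.inj_on_of_nodup_map hqn' (List.mem_range.mpr i.2) (List.mem_range.mpr j.2) h'
    refine Multiplicative.toAdd.injective ?_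
    rw [← hi, ← hj, hij]
  have hevinj : ∀ x y, x < 24 → y < 24 → ev g x = ev g y → x = y := fun x y hx hy h => by
    have h1 := congrArg (ev g⁻¹) h
    rwa [← ev_mul, ← ev_mul, inv_mul_cancel, ev_one hx, ev_one hy] at h1
  intro p hp
  rw [nineSet, mem_pts] at hp ⊢
  have hvex : ∃ v : V3, ap5 (npr v) q = pidx p := hqall ⟨_, pidx_lt p⟩ hp
  obtain ⟨v, hv⟩ := hvex
  have hgp : ev g (pidx p) = pidx ((g : Equiv.Perm GolayPt) p) := by rw [ev, ptAt_pidx]
  rw [← hgp]
  refine nine_orbit ⟨_, ev_lt g _⟩ ?_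
  show ((List.range 9).map fun i => ap5 (npr (vecOf i)) (ev g (pidx p))).Nodup
  refine List.Nodup.map_on (fun a ha b hb e => ?_) List.nodup_range
  have hcalc : ∀ w : V3, ap5 (npr w) (ev g (pidx p)) =
      ev g (ev (psi (u (Multiplicative.ofAdd w) * Multiplicative.ofAdd v)) q) := by
    intro w
    have e2 : psi (Multiplicative.ofAdd w) * g = g * psi (u (Multiplicative.ofAdd w)) := hu _
    have e3 : ev (psi (Multiplicative.ofAdd v)) q = pidx p := by
      rw [← hv]; exact ev_psi v q q.2
    calc ap5 (npr w) (ev g (pidx p)) = ev (psi (Multiplicative.ofAdd w)) (ev g (pidx p)) :=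
          (ev_psi w _ (ev_lt _ _)).symm
      _ = ev (g * psi (u (Multiplicative.ofAdd w))) (pidx p) := by rw [← e2, ev_mul]
      _ = _ := by rw [map_mul, ev_mul, ev_mul, e3]
  have e' := e
  rw [hcalc, hcalc] at e'
  have h9 := huinj (mul_right_cancel (hfree _ _ (hevinj _ _ (ev_lt _ _) (ev_lt _ _) e')))
  exact congrArg Fin.val (vecOf_bij.2 ⟨a, List.mem_range.mp ha⟩ ⟨b, List.mem_range.mp hb⟩
    (Multiplicative.ofAdd.injective h9))

/-- The coordinates of a conjugate: the first generator. -/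
def cxv (k : Fin 72) : V3 := cx k

/-- The coordinates of a conjugate: the second generator. -/
def cyv (k : Fin 72) : V3 := cy k

theorem conj_det (k : Fin 72) : (cxv k).1 * (cyv k).2 - (cxv k).2 * (cyv k).1 = 1 := by
  revert k
  decide +kernel

theorem exists_conj {g : QM} (hg : ∀ v, ∃ u, psi v * g = g * psi u) :
    ∃ k, psi (Multiplicative.ofAdd ((1, 0) : V3)) * g = g * psi (Multiplicative.ofAdd (cxv k)) ∧
      psi (Multiplicative.ofAdd ((0, 1) : V3)) * g = g * psi (Multiplicative.ofAdd (cyv k)) := by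
  obtain ⟨k, rfl⟩ := exists_eq_stQ (keeps_of_normalizes hg)
  refine ⟨k, ev_ext fun x hx => ?_, ev_ext fun x hx => ?_⟩
  · show ev (psiFun _ * _) x = ev (_ * psiFun _) x
    rw [ev_mul, ev_mul, ev_psi _ x hx, ev_stQ k x hx, ev_psi _ _ (ev_stQ k x hx ▸ ev_lt _ _),
      ev_stQ k _ (ev_psi (cxv k) x hx ▸ ev_lt _ _)]
    exact (stab_conj k ⟨x, hx⟩).1.symm
  · show ev (psiFun _ * _) x = ev (_ * psiFun _) x
    rw [ev_mul, ev_mul, ev_psi _ x hx, ev_stQ k x hx, ev_psi _ _ (ev_stQ k x hx ▸ ev_lt _ _),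
      ev_stQ k _ (ev_psi (cyv k) x hx ▸ ev_lt _ _)]
    exact (stab_conj k ⟨x, hx⟩).2.symm

end Cfsg.Lib.Golay.M22Mult
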