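import Cfsg.Agent.Golay.M22ThreeData
import Cfsg.Agent.Golay.M22CoverCheck

/-! Checks on the tables for the triple cover of `M22`. -/

set_option autoImplicit false
set_option maxRecDepth 100000
set_option maxHeartbeats 2000000
set_option Elab.async false

namespace Cfsg.Lib.Golay.M22Mult

open Cfsg.Lib.PermCert

/-- An element of the Sylow 3-subgroup. -/
def npr (v : Fin 3 × Fin 3) : ℕ := bitsAt nineTab 120 (3 * v.1.val + v.2.val)

/-- A conjugated generator: the first. -/
def cx (k : Fin 72) : Fin 3 × Fin 3 :=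
  let n := bitsAt conjTab 8 k.val / 16
  (Fin.ofNat 3 (n / 3), Fin.ofNat 3 n)

/-- A conjugated generator: the second. -/
def cy (k : Fin 72) : Fin 3 × Fin 3 :=
  let n := bitsAt conjTab 8 k.val % 16
  (Fin.ofNat 3 (n / 3), Fin.ofNat 3 n)

/-- An element of the stabiliser. -/
def stp (k : Fin 72) : PP := stabPP.getD k.val (0, 0)

/-- The points of a set given by a number. -/
def bitsOf (m : ℕ) : List ℕ := (List.range 24).filter m.testBit

/-- A set of the orbit. -/
def mk (i : ℕ) : ℕ := cget maskTab 24 i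

theorem npr_zero : ∀ x : Fin 24, ap5 (npr (0, 0)) x.val = x.val := by decide +kernel

theorem npr_gens : ∀ x : Fin 24, ap threePP.1.1 x.val = ap5 (npr (1, 0)) x.val ∧
    ap threePP.2.1 x.val = ap5 (npr (0, 1)) x.val := by decide +kernel

theorem npr_add : ∀ v w : Fin 3 × Fin 3,
    compOK (npr v) (npr w) (npr (v.1 + w.1, v.2 + w.2)) = true := by decide +kernel

theorem npr_sep : ∀ v w : Fin 3 × Fin 3, (∀ x : Fin 24, ap5 (npr v) x.val = ap5 (npr w) x.val) → v = w := by
  decide +kernel

theorem three_valid : valid 24 threePP.1 = true ∧ sift 24 cgAutM22.chain [threePP.1] = true ∧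
    valid 24 threePP.2 = true ∧ sift 24 cgAutM22.chain [threePP.2] = true := by decide +kernel

theorem stab_valid : ∀ k : Fin 72, valid 24 (stp k) = true ∧ sift 24 cgAutM22.chain [stp k] = true := by
  decide +kernel

theorem stab_conj : ∀ k : Fin 72, ∀ x : Fin 24,
    ap (stp k).1 (ap5 (npr (cx k)) x.val) = ap5 (npr (1, 0)) (ap (stp k).1 x.val) ∧
    ap (stp k).1 (ap5 (npr (cy k)) x.val) = ap5 (npr (0, 1)) (ap (stp k).1 x.val) := by decide +kernel

theorem stab_det : ∀ k : Fin 72, (cx k).1 * (cy k).2 - (cx k).2 * (cy k).1 = 1 := by decide +kernel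

theorem stab_fix : ∀ k : Fin 72, ∀ x : Fin 24,
    nineMask.testBit x.val = true → nineMask.testBit (ap (stp k).1 x.val) = true := by decide +kernel

theorem stab_sep : ∀ j k : Fin 72, (∀ x : Fin 24, ap (stp j).1 x.val = ap (stp k).1 x.val) → j = k := by
  decide +kernel

theorem nine_orbit : ∀ q : Fin 24,
    ((List.range 9).map fun i => ap5 (npr (Fin.ofNat 3 (i / 3), Fin.ofNat 3 i)) q.val).Nodup →
      nineMask.testBit q.val = true := by decide +kernel

theorem nine_base : ∃ q : Fin 24, nineMask.testBit q.val = true ∧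
    ((List.range 9).map fun i => ap5 (npr (Fin.ofNat 3 (i / 3), Fin.ofNat 3 i)) q.val).Nodup ∧
    ∀ x : Fin 24, nineMask.testBit x.val = true → ∃ v : Fin 3 × Fin 3, ap5 (npr v) q.val = x.val := by
  decide +kernel

theorem mask_zero : mk 0 = nineMask ∧ nineMask < 2 ^ 24 := by decide +kernel

theorem mask_tree : ((List.range 6160).all fun i => Nat.beq i 0 ||
    (let a := cget maskParTab 16 i
     Nat.blt (a / 8) i && Nat.blt (a % 8) 6 &&
      Nat.beq (((bitsOf (mk (a / 8))).map fun x => 2 ^ ap5 (gp (a % 8)) x).sum) (mk i))) = true := by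
  decide +kernel

theorem mask_order : ((List.range 6159).all fun t =>
    Nat.blt (mk (cget maskOrdTab 13 t)) (mk (cget maskOrdTab 13 (t + 1)))) = true := by decide +kernel

theorem mask_rank : ((List.range 6160).all fun i =>
    Nat.blt (cget maskRankTab 13 i) 6160 && Nat.beq (cget maskOrdTab 13 (cget maskRankTab 13 i)) i) = true := by
  decide +kernel

end Cfsg.Lib.Golay.M22Mult
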