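import Cfsg.Agent.Golay.Seven
import Cfsg.Agent.Golay.M24BlockData

/-!
# Centralisers in M24 for the block theory at the prime two

Every involution has a self-centralising normal 2-subgroup in its centraliser; the centralisers and
fusion of powers of elements of order 23, 15, 21, 11, 7 and 5.
-/

set_option autoImplicit false
set_option Elab.async false

namespace Cfsg.Lib.Golay.M24Block

open Cfsg Cfsg.Lib.PermCert MulAction
open Cfsg.Lib.Golay.FusionCert (same same_sound)

/-- The seven base positions. -/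
def base7 : List ℕ := [0, 1, 2, 3, 4, 7, 5]

/-- An element of the group given by a table. -/
def mkM (s : PP) (h : preserves s = true) : M24 := ⟨toP s, toP_mem_M24 h⟩

theorem valid_of_preserves {s : PP} (h : preserves s = true) : valid 24 s = true := by
  simp only [preserves, Bool.and_eq_true] at h; exact h.1

theorem toP_pow_apply {s : PP} (hv : valid 24 s = true) (m : ℕ) (t : GolayPt) :
    pidx ((toP s ^ m) t) = evalWord (List.replicate m s) (pidx t) := by
  induction m generalizing t with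
  | zero => rfl
  | succ m ih =>
    rw [pow_succ', Equiv.Perm.mul_apply, pidx_toP hv, ih, List.replicate_succ]
    rfl

/-- The image of a position under a power. -/
def ev (s : PP) (m i : ℕ) : ℕ := evalWord (List.replicate m s) i

theorem pow_apply_eq_iff {s : PP} (hv : valid 24 s = true) (m : ℕ) (t u : GolayPt) :
    (toP s ^ m) t = u ↔ ev s m (pidx t) = pidx u := by
  rw [ev, ← toP_pow_apply hv, pidx_injective.eq_iff]

/-- The order of a table. -/
def orderOK (s : PP) (N : ℕ) : Bool :=
  preserves s && decide (0 < N) && (List.range 24).all (fun i => ev s N i == i) &&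
    (List.range N).all fun m => m == 0 || !((List.range 24).all fun i => ev s m i == i)

theorem pow_eq_one_iff_ev {s : PP} (hv : valid 24 s = true) (m : ℕ) :
    toP s ^ m = 1 ↔ (List.range 24).all (fun i => ev s m i == i) = true := by
  simp only [List.all_eq_true, List.mem_range, beq_iff_eq]
  constructor
  · intro h i hi
    have := (pow_apply_eq_iff hv m (ptAt i) (ptAt i)).mp (by rw [h]; rfl)
    rwa [pidx_ptAt ⟨i, hi⟩] at this
  · intro h
    exact Equiv.ext fun t => (pow_apply_eq_iff hv m t t).mpr (h _ (pidx_lt t))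

theorem orderOf_of_orderOK {s : PP} {N : ℕ} (h : orderOK s N = true) : orderOf (toP s) = N := by
  simp only [orderOK, Bool.and_eq_true, decide_eq_true_eq] at h
  obtain ⟨⟨⟨hp, hN⟩, h1⟩, h2⟩ := h
  have hv := valid_of_preserves hp
  refine (orderOf_eq_iff hN).mpr ⟨(pow_eq_one_iff_ev hv N).mpr h1, fun m hm hm0 he => ?_⟩
  have := List.all_eq_true.mp h2 m (List.mem_range.mpr hm)
  simp only [Bool.or_eq_true, beq_iff_eq, Bool.not_eq_true'] at this
  rcases this with h' | h'
  · omega
  · rw [(pow_eq_one_iff_ev hv m).mp he] at h'; exact Bool.false_ne_true h'.symm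

/-- A table conjugates a power of one element to a power of another. -/
def conjOK (h s t : PP) (j k : ℕ) : Bool :=
  preserves h && same (h :: List.replicate j s) (List.replicate k t ++ [h])

theorem isConj_of_conjOK {h s t : PP} {j k : ℕ} (hs : preserves s = true) (ht : preserves t = true)
    (hh : conjOK h s t j k = true) : IsConj (mkM s hs ^ j) (mkM t ht ^ k) := by
  simp only [conjOK, Bool.and_eq_true] at hh
  obtain ⟨hp, hsame⟩ := hh
  refine isConj_iff.mpr ⟨mkM h hp, mul_inv_eq_iff_eq_mul.mpr (Subtype.ext ?_)⟩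
  have h1 := congrArg permHom (same_sound (w := h :: List.replicate j s) (v := List.replicate k t ++ [h])
    (by
      intro g hg
      rcases List.mem_cons.mp hg with rfl | hg
      · exact valid_of_preserves hp
      · rw [List.eq_of_mem_replicate hg]; exact valid_of_preserves hs)
    (by
      intro g hg
      rcases List.mem_append.mp hg with hg | hg
      · rw [List.eq_of_mem_replicate hg]; exact valid_of_preserves ht
      · rw [List.mem_singleton.mp hg]; exact valid_of_preserves hp) hsame)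
  simpa [wperm, mkM, toP] using h1

/-! ### Involutions -/

/-- Commuting involutions generating a normal subgroup of a certified group, with orbits determined by
the sets of products fixing a point. -/
def qOK (K : CG) (L : List PP) : Bool :=
  L.all (fun a => valid 24 a && sift 24 K.chain [a] && isId 24 [a, a] && L.all fun b => same [a, b] [b, a]) &&
    K.gens.all (fun g => L.all fun a => L.sublists.any fun w => same [g.1, a] (w ++ [g.1])) &&
    preserves mv && base7.all (fun b => L.any fun a => !(ap a.1 (ap mv.1 b) == ap mv.1 b)) &&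
    (List.range 24).all fun p => L.all (fun a => ap a.1 p == p) ||
      (List.range 24).all fun q =>
        !(L.sublists.all fun w => (evalWord w q == q) == (evalWord w p == p)) ||
          L.sublists.any fun w => evalWord w p == q

theorem qA_ok : qOK cgInvA qA = true := by decide +kernel

theorem qB_ok : qOK cgInvB qB = true := by decide +kernel

theorem toP_mul_same {a b c d : PP} (ha : valid 24 a = true) (hb : valid 24 b = true)
    (hc : valid 24 c = true) (hd : valid 24 d = true) (h : same [a, b] [c, d] = true) :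
    toP a * toP b = toP c * toP d := by
  have := congrArg permHom (same_sound (w := [a, b]) (v := [c, d]) (by simp [ha, hb]) (by simp [hc, hd]) h)
  simpa [toP] using this

/-- The group generated by the tables of a list. -/
def tabGrp (L : List PP) : Subgroup (Equiv.Perm GolayPt) := Subgroup.closure {x | ∃ a ∈ L, toP a = x}

theorem wperm_mem_tabGrp {L w : List PP} (hw : ∀ a ∈ w, a ∈ L) : permHom (wperm 24 w) ∈ tabGrp L := by
  induction w with
  | nil => simp [wperm, one_mem]
  | cons a w ih =>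
    have e : permHom (wperm 24 (a :: w)) = toP a * permHom (wperm 24 w) := by simp [wperm, toP]
    rw [e]
    exact mul_mem (Subgroup.subset_closure ⟨a, hw a List.mem_cons_self, rfl⟩)
      (ih fun b hb => hw b (List.mem_cons_of_mem a hb))

theorem qOK_spec {K : CG} (hK : K.ok = true) {L : List PP} (h : qOK K L = true) :
    tabGrp L ≤ K.grp ⊓ Subgroup.centralizer (tabGrp L : Set (Equiv.Perm GolayPt)) ∧
    K.grp ≤ Subgroup.normalizer (tabGrp L : Set (Equiv.Perm GolayPt)) ∧
    ∀ c ∈ M24, c ∈ Subgroup.centralizer (tabGrp L : Set (Equiv.Perm GolayPt)) → c ^ 2 = 1 := by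
  simp only [qOK, Bool.and_eq_true, List.all_eq_true, List.any_eq_true, Bool.or_eq_true,
    Bool.not_eq_true', beq_eq_false_iff_ne, List.mem_range, beq_iff_eq] at h
  obtain ⟨⟨⟨⟨hL, hg⟩, hmv⟩, hbase⟩, hall⟩ := h
  have hval : ∀ w ∈ L.sublists, ∀ g ∈ w, g ∈ L ∧ valid 24 g = true := fun w hw g hgw =>
    ⟨(List.mem_sublists.mp hw).subset hgw, (hL g ((List.mem_sublists.mp hw).subset hgw)).1.1.1⟩
  have hcent : tabGrp L ≤ Subgroup.centralizer (tabGrp L : Set (Equiv.Perm GolayPt)) := by
    rw [tabGrp, Subgroup.centralizer_closure, Subgroup.closure_le]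
    rintro _ ⟨a, ha, rfl⟩
    refine Subgroup.mem_centralizer_iff.mpr ?_
    rintro _ ⟨b, hb, rfl⟩
    obtain ⟨⟨⟨hav, -⟩, -⟩, hcomm⟩ := hL a ha
    exact (toP_mul_same hav (hL b hb).1.1.1 (hL b hb).1.1.1 hav (hcomm b hb)).symm
  have hinvol : ∀ x ∈ tabGrp L, x * x = 1 := by
    intro x hx
    induction hx using Subgroup.closure_induction with
    | mem x hx =>
      obtain ⟨a, ha, rfl⟩ := hx
      have hv2 : ∀ g ∈ [a, a], valid 24 g = true := by simp [(hL a ha).1.1.1]
      simpa [toP] using congrArg permHom (isId_sound hv2 (hL a ha).1.2)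
    | one => rw [one_mul]
    | mul a b ha hb iha ihb =>
      have hab : a * b = b * a := Subgroup.mem_centralizer_iff.mp (hcent hb) a ha
      calc a * b * (a * b) = a * (b * a) * b := by group
        _ = a * (a * b) * b := by rw [hab]
        _ = (a * a) * (b * b) := by group
        _ = 1 := by rw [iha, ihb, one_mul]
    | inv a _ iha => rw [← mul_inv_rev, iha, inv_one]
  refine ⟨le_inf ?_ hcent, ?_, ?_⟩
  · rw [tabGrp, Subgroup.closure_le]
    rintro _ ⟨a, ha, rfl⟩
    refine ⟨perm 24 a, ?_, rfl⟩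
    simpa using mem_grp_of_sift (CG.ok_spec hK).1 (w := [a])
      (by simpa using (hL a ha).1.1.1) (hL a ha).1.1.2
  · rw [← (CG.ok_spec hK).2.2, Subgroup.closure_le]
    rintro _ ⟨g, hgm, rfl⟩
    have hgv := valid_of_fvalid ((CG.ok_spec hK).2.1 g hgm)
    have hle : (tabGrp L).map (MulAut.conj (toP g.1)).toMonoidHom ≤ tabGrp L := by
      rw [tabGrp, MonoidHom.map_closure, Subgroup.closure_le]
      rintro _ ⟨_, ⟨a, ha, rfl⟩, rfl⟩
      obtain ⟨w, hw, hgw⟩ := hg g hgm a ha
      have hwv := fun x hx => (hval w hw x hx).2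
      have h1 := congrArg permHom (same_sound (w := [g.1, a]) (v := w ++ [g.1])
        (by simp [hgv, (hL a ha).1.1.1])
        (fun x hx => (List.mem_append.mp hx).elim (hwv x) fun e => List.mem_singleton.mp e ▸ hgv) hgw)
      have h2 : toP g.1 * toP a = permHom (wperm 24 w) * toP g.1 := by simpa [wperm, toP] using h1
      show toP g.1 * toP a * (toP g.1)⁻¹ ∈ tabGrp L
      rw [h2, mul_inv_cancel_right]
      exact wperm_mem_tabGrp fun x hx => (hval w hw x hx).1
    have heq : (tabGrp L).map (MulAut.conj (toP g.1)).toMonoidHom = tabGrp L :=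
      Subgroup.eq_of_le_of_card_ge hle
        (le_of_eq (Nat.card_congr (Subgroup.equivMapOfInjective _ _ (MulAut.conj (toP g.1)).injective).toEquiv))
    refine Subgroup.mem_normalizer_iff.mpr fun y => ?_
    conv_rhs => rw [← heq]
    exact (Subgroup.mem_map_iff_mem (f := (MulAut.conj (toP g.1)).toMonoidHom)
      (MulAut.conj (toP g.1)).injective).symm
  · intro c hc hcc
    have hcomm : ∀ u ∈ tabGrp L, ∀ t, u (c t) = c (u t) := fun u hu t => by
      rw [← Equiv.Perm.mul_apply, ← Equiv.Perm.mul_apply, Subgroup.mem_centralizer_iff.mp hcc u hu]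
    have hword : ∀ w ∈ L.sublists, ∀ t, evalWord w (pidx t) = pidx (permHom (wperm 24 w) t) := by
      intro w hw t
      rw [← show (ptEquiv t : ℕ) = pidx t from rfl, ← wperm_apply fun x hx => (hval w hw x hx).2]
      exact (congrArg Fin.val (ptEquiv.apply_symm_apply _)).symm
    have hmoved : ∀ t, (∃ a ∈ L, ap a.1 (pidx t) ≠ pidx t) → c (c t) = t := by
      rintro t ⟨a₀, ha₀, hne⟩
      rcases hall (pidx t) (pidx_lt t) with h | h
      · exact absurd (h a₀ ha₀) hne
      rcases h (pidx (c t)) (pidx_lt _) with h' | ⟨w, hw, hwt⟩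
      · exfalso
        refine absurd h' ?_
        simp only [Bool.not_eq_false, List.all_eq_true, beq_iff_eq]
        intro w hw
        refine Bool.eq_iff_iff.mpr ?_
        simp only [beq_iff_eq, hword w hw, pidx_injective.eq_iff]
        rw [hcomm _ (wperm_mem_tabGrp fun x hx => (hval w hw x hx).1), c.injective.eq_iff]
      · set u := permHom (wperm 24 w) with hu
        have huL : u ∈ tabGrp L := wperm_mem_tabGrp fun x hx => (hval w hw x hx).1
        have he : u t = c t := pidx_injective (by rw [← hword w hw]; exact hwt)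
        rw [← he, ← hcomm u huL, ← he, ← Equiv.Perm.mul_apply, hinvol u huL]
        rfl
    set m : Equiv.Perm GolayPt := toP mv with hm
    have hmM : m ∈ M24 := toP_mem_M24 hmv
    have h1 : m⁻¹ * c ^ 2 * m = 1 := by
      refine eq_one_of_fix (mul_mem (mul_mem (inv_mem hmM) (pow_mem hc 2)) hmM) fun i hi => ?_
      have hi24 : i < 24 := by simp only [List.mem_cons, List.not_mem_nil, or_false] at hi; omega
      obtain ⟨a, ha, hne⟩ := hbase i hi
      have hp : pidx (m (ptAt i)) = ap mv.1 i := by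
        rw [hm, pidx_toP (valid_of_preserves hmv), pidx_ptAt ⟨i, hi24⟩]
      rw [Equiv.Perm.mul_apply, Equiv.Perm.mul_apply, sq, Equiv.Perm.mul_apply,
        hmoved (m (ptAt i)) ⟨a, ha, by rw [hp]; exact hne⟩, Equiv.Perm.inv_def, Equiv.symm_apply_apply]
    calc c ^ 2 = m * (m⁻¹ * c ^ 2 * m) * m⁻¹ := by group
      _ = 1 := by rw [h1]; group

/-- The constrained centraliser of an involution. -/
theorem exists_constrained (z : M24) (hz : orderOf z = 2) :
    ∃ Q : Subgroup M24, Q ≤ Subgroup.centralizer ({z} : Set M24) ∧ IsPGroup 2 Q ∧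
      Subgroup.centralizer ({z} : Set M24) ≤ Subgroup.normalizer (Q : Set M24) ∧
      ∀ x ∈ Subgroup.centralizer ({z} : Set M24), x ∈ Subgroup.centralizer (Q : Set M24) → x ∈ Q := by
  obtain ⟨r, hr, hrz⟩ := involution_classes z.2 ((Subgroup.orderOf_coe z).trans hz)
  obtain ⟨K, L, t, hK, hL, ht, hzt⟩ : ∃ (K : CG) (L : List PP) (t : Equiv.Perm GolayPt),
      K.ok = true ∧ qOK K L = true ∧ (∀ c, (c ∈ M24 ∧ c * t = t * c) ↔ c ∈ K.grp) ∧
        (z : Equiv.Perm GolayPt) = r * t * r⁻¹ := by
    rcases hrz with ⟨e, -⟩ | ⟨e, -⟩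
    · exact ⟨_, _, _, cgInvA_ok, qA_ok, fun c => centralizer_invA, e⟩
    · exact ⟨_, _, _, cgInvB_ok, qB_ok, fun c => centralizer_invB, e⟩
  obtain ⟨hsub, hnorm, hsq⟩ := qOK_spec hK hL
  set r' : M24 := ⟨r, hr⟩ with hr'
  -- the subgroup, transported
  let Q : Subgroup M24 :=
    ((K.grp ⊓ Subgroup.centralizer (tabGrp L : Set (Equiv.Perm GolayPt))).comap M24.subtype).comap (MulAut.conj r'⁻¹).toMonoidHom
  have hmem : ∀ x : M24, x ∈ Q ↔ r⁻¹ * (x : Equiv.Perm GolayPt) * r ∈ K.grp ∧
      r⁻¹ * (x : Equiv.Perm GolayPt) * r ∈ Subgroup.centralizer (tabGrp L : Set (Equiv.Perm GolayPt)) := fun x => by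
    show r⁻¹ * (x : Equiv.Perm GolayPt) * r⁻¹⁻¹ ∈ K.grp ⊓ Subgroup.centralizer (tabGrp L : Set (Equiv.Perm GolayPt)) ↔ _
    rw [inv_inv, Subgroup.mem_inf]
  have hC : ∀ x : M24, x ∈ Subgroup.centralizer ({z} : Set M24) ↔
      r⁻¹ * (x : Equiv.Perm GolayPt) * r ∈ K.grp := fun x => by
    rw [Subgroup.mem_centralizer_singleton_iff, ← ht]
    constructor
    · intro h
      refine ⟨mul_mem (mul_mem (inv_mem hr) x.2) hr, ?_⟩
      have h' : (x : Equiv.Perm GolayPt) * z = z * x := congrArg Subtype.val h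
      rw [hzt] at h'
      calc r⁻¹ * x * r * t = r⁻¹ * ((x : Equiv.Perm GolayPt) * (r * t * r⁻¹)) * r := by group
        _ = r⁻¹ * ((r * t * r⁻¹) * x) * r := by rw [h']
        _ = t * (r⁻¹ * x * r) := by group
    · rintro ⟨-, h⟩
      refine Subtype.ext ?_
      show (x : Equiv.Perm GolayPt) * z = z * x
      rw [hzt]
      calc (x : Equiv.Perm GolayPt) * (r * t * r⁻¹) = r * ((r⁻¹ * x * r) * t) * r⁻¹ := by group
        _ = r * (t * (r⁻¹ * x * r)) * r⁻¹ := by rw [h]
        _ = (r * t * r⁻¹) * x := by group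
  refine ⟨Q, fun x hx => (hC x).mpr ((hmem x).mp hx).1, fun x => ⟨1, ?_⟩, fun x hx => ?_, fun x hx hxQ => ?_⟩
  · refine Subtype.ext (Subtype.ext ?_)
    obtain ⟨h1, h2⟩ := (hmem x).mp x.2
    have h := hsq _ ((ht _).mpr h1).1 h2
    simp only [pow_one, SubmonoidClass.coe_pow, Subgroup.coe_one]
    calc ((x : M24) : Equiv.Perm GolayPt) ^ 2 = r * (r⁻¹ * (x : M24) * r) ^ 2 * r⁻¹ := by
          simp only [pow_two]; group
      _ = 1 := by rw [h]; group
  · set c := r⁻¹ * (x : Equiv.Perm GolayPt) * r with hc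
    have hcK : c ∈ K.grp := (hC x).mp hx
    have hcent : c ∈ Subgroup.normalizer
        ((K.grp ⊓ Subgroup.centralizer (tabGrp L : Set (Equiv.Perm GolayPt)) : Subgroup (Equiv.Perm GolayPt)) : Set _) := by
      refine Subgroup.mem_normalizer_iff.mpr fun y => ?_
      simp only [Subgroup.mem_inf, Subgroup.mem_centralizer_iff]
      have hn := Subgroup.mem_normalizer_iff.mp (hnorm hcK)
      refine and_congr ?_ ⟨fun h s hs => ?_, fun h s hs => ?_⟩
      · rw [K.grp.mul_mem_cancel_right (inv_mem hcK), K.grp.mul_mem_cancel_left hcK]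
      · have hs' : c⁻¹ * s * c ∈ tabGrp L := (hn _).mpr (by simpa [mul_assoc] using hs)
        calc s * (c * y * c⁻¹) = c * ((c⁻¹ * s * c) * y) * c⁻¹ := by group
          _ = c * (y * (c⁻¹ * s * c)) * c⁻¹ := by rw [h _ hs']
          _ = c * y * c⁻¹ * s := by group
      · have h' := h _ ((hn s).mp hs)
        calc s * y = c⁻¹ * ((c * s * c⁻¹) * (c * y * c⁻¹)) * c := by group
          _ = c⁻¹ * ((c * y * c⁻¹) * (c * s * c⁻¹)) * c := by rw [h']
          _ = y * s := by group
    refine Subgroup.mem_normalizer_iff.mpr fun y => ?_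
    rw [hmem, hmem, ← Subgroup.mem_inf, ← Subgroup.mem_inf]
    convert Subgroup.mem_normalizer_iff.mp hcent (r⁻¹ * (y : Equiv.Perm GolayPt) * r) using 2
    simp only [hc, Subgroup.coe_mul, InvMemClass.coe_inv]
    group
  · refine (hmem x).mpr ⟨(hC x).mp hx, Subgroup.mem_centralizer_iff.mpr fun s hs => ?_⟩
    obtain ⟨h1, h2⟩ := hsub hs
    have hsM : r * s * r⁻¹ ∈ M24 := mul_mem (mul_mem hr ((ht s).mpr h1).1) (inv_mem hr)
    have hsQ : (⟨r * s * r⁻¹, hsM⟩ : M24) ∈ Q := by
      rw [hmem]
      simp only [show r⁻¹ * (r * s * r⁻¹) * r = s by group]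
      exact ⟨h1, h2⟩
    have h := congrArg Subtype.val (Subgroup.mem_centralizer_iff.mp hxQ _ hsQ)
    change (r * s * r⁻¹) * (x : Equiv.Perm GolayPt) = x * (r * s * r⁻¹) at h
    calc s * (r⁻¹ * x * r) = r⁻¹ * ((r * s * r⁻¹) * x) * r := by group
      _ = r⁻¹ * ((x : Equiv.Perm GolayPt) * (r * s * r⁻¹)) * r := by rw [h]
      _ = r⁻¹ * x * r * s := by group

/-! ### Elements without an involution in the centraliser -/

/-- The elements of the group commuting with a permutation. -/
def cent (x : Equiv.Perm GolayPt) : Subgroup (Equiv.Perm GolayPt) := M24 ⊓ Subgroup.centralizer {x}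

theorem mem_cent {x g : Equiv.Perm GolayPt} : g ∈ cent x ↔ g ∈ M24 ∧ g * x = x * g := by
  simp [cent, Subgroup.mem_centralizer_singleton_iff]

theorem card_centralizer_eq (x : M24) :
    Nat.card (Subgroup.centralizer ({x} : Set M24)) = Nat.card (cent (x : Equiv.Perm GolayPt)) := by
  refine Nat.card_congr
    { toFun := fun g => ⟨g, mem_cent.mpr ⟨(g : M24).2,
        congrArg Subtype.val (Subgroup.mem_centralizer_singleton_iff.mp g.2)⟩⟩
      invFun := fun g => ⟨⟨g, (mem_cent.mp g.2).1⟩,
        Subgroup.mem_centralizer_singleton_iff.mpr (Subtype.ext (mem_cent.mp g.2).2)⟩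
      left_inv := fun g => rfl
      right_inv := fun g => rfl }

/-- An involution commuting with `x`: the order of `x` divides the order of a centraliser. -/
theorem orderOf_dvd_of_commute {x d : Equiv.Perm GolayPt} (hx : x ∈ M24) (hd : d ∈ M24)
    (hd2 : orderOf d = 2) (hc : d * x = x * d) :
    (fixCard d = 8 ∧ orderOf x ∣ 21504) ∨ (fixCard d = 0 ∧ orderOf x ∣ 7680) := by
  obtain ⟨r, hr, hrd⟩ := involution_classes hd hd2
  have key : ∀ (K : CG) (t : Equiv.Perm GolayPt), K.ok = true →
      (∀ c, (c ∈ M24 ∧ c * t = t * c) ↔ c ∈ K.grp) → d = r * t * r⁻¹ → orderOf x ∣ size K.chain := by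
    intro K t hK ht e
    have hmem : r⁻¹ * x * r ∈ K.grp := by
      refine (ht _).mp ⟨mul_mem (mul_mem (inv_mem hr) hx) hr, ?_⟩
      rw [e] at hc
      calc r⁻¹ * x * r * t = r⁻¹ * (x * (r * t * r⁻¹)) * r := by group
        _ = r⁻¹ * ((r * t * r⁻¹) * x) * r := by rw [hc]
        _ = t * (r⁻¹ * x * r) := by group
    rw [← CG.card_grp hK, show orderOf x = orderOf (r⁻¹ * x * r) by
      rw [show r⁻¹ * x * r = MulAut.conj r⁻¹ x by simp, MulEquiv.orderOf_eq]]
    exact Subgroup.orderOf_dvd_natCard K.grp hmem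
  have hsA : size cgInvA.chain = 21504 := by decide +kernel
  have hsB : size cgInvB.chain = 7680 := by decide +kernel
  rcases hrd with ⟨e, h8⟩ | ⟨e, h0⟩
  · exact Or.inl ⟨h8, hsA ▸ key _ _ cgInvA_ok (fun c => centralizer_invA) e⟩
  · exact Or.inr ⟨h0, hsB ▸ key _ _ cgInvB_ok (fun c => centralizer_invB) e⟩

/-- Positions that behave like `r` under all powers. -/
def alike (s : PP) (N r : ℕ) : List ℕ :=
  (List.range 24).filter fun q => (List.range N).all fun m => (ev s m q == q) == (ev s m r == r)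

/-- The base lies in the cycle of `r` and the fixed points. -/
def cycleOK (s : PP) (N r M : ℕ) : Bool :=
  decide (r < 24) && base7.all (fun b => (ev s 1 b == b) || (List.range N).any fun m => ev s m r == b) &&
    (alike s N r).length == M

theorem mem_alike {s : PP} (hv : valid 24 s = true) {N r : ℕ} (hr : r < 24) {g : Equiv.Perm GolayPt}
    (hg : ∀ m : ℕ, g * toP s ^ m = toP s ^ m * g) : pidx (g (ptAt r)) ∈ alike s N r := by
  simp only [alike, List.mem_filter, List.mem_range, List.all_eq_true, beq_iff_eq]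
  refine ⟨pidx_lt _, fun m _ => Bool.eq_iff_iff.mpr ?_⟩
  simp only [beq_iff_eq]
  have h1 := pow_apply_eq_iff hv m (g (ptAt r)) (g (ptAt r))
  have h2 := pow_apply_eq_iff hv m (ptAt r) (ptAt r)
  rw [pidx_ptAt ⟨r, hr⟩] at h2
  rw [← h1, ← h2, ← Equiv.Perm.mul_apply, ← hg, Equiv.Perm.mul_apply, g.injective.eq_iff]

/-- A subgroup of a centraliser that fixes the fixed base points is small. -/
theorem card_le_of_cycleOK {s : PP} (hv : valid 24 s = true) {N r M : ℕ} (h : cycleOK s N r M = true)
    {H : Subgroup (Equiv.Perm GolayPt)} (hH : H ≤ cent (toP s))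
    (hfix : ∀ g ∈ H, ∀ b ∈ base7, toP s (ptAt b) = ptAt b → g (ptAt b) = ptAt b) : Nat.card H ≤ M := by
  classical
  simp only [cycleOK, Bool.and_eq_true, decide_eq_true_eq, List.all_eq_true, Bool.or_eq_true,
    beq_iff_eq, List.any_eq_true, List.mem_range] at h
  obtain ⟨⟨hr, hbase⟩, hM⟩ := h
  have hcomm : ∀ g ∈ H, ∀ m : ℕ, g * toP s ^ m = toP s ^ m * g := fun g hg m =>
    (Commute.pow_right (show Commute g (toP s) from (mem_cent.mp (hH hg)).2) m).eq
  let f : H → {q // q ∈ (alike s N r).toFinset} := fun g =>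
    ⟨pidx ((g : Equiv.Perm GolayPt) (ptAt r)), List.mem_toFinset.mpr (mem_alike hv hr (hcomm g g.2))⟩
  have hinj : Function.Injective f := by
    intro a b hab
    have he : (a : Equiv.Perm GolayPt) (ptAt r) = (b : Equiv.Perm GolayPt) (ptAt r) :=
      pidx_injective (congrArg Subtype.val hab)
    set c : Equiv.Perm GolayPt := (b : Equiv.Perm GolayPt)⁻¹ * a with hc
    have hcH : c ∈ H := mul_mem (inv_mem b.2) a.2
    have hcr : c (ptAt r) = ptAt r := by
      rw [hc, Equiv.Perm.mul_apply, he, Equiv.Perm.inv_def, Equiv.symm_apply_apply]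
    suffices c = 1 from Subtype.ext (inv_mul_eq_one.mp this).symm
    refine eq_one_of_fix (mem_cent.mp (hH hcH)).1 fun i hi => ?_
    have hi24 : i < 24 := by simp only [base7, List.mem_cons, List.not_mem_nil, or_false] at hi; omega
    rcases hbase i hi with hb | ⟨m, -, hb⟩
    · refine hfix c hcH i hi ?_
      have := (pow_apply_eq_iff hv 1 (ptAt i) (ptAt i)).mpr (by rw [pidx_ptAt ⟨i, hi24⟩]; exact hb)
      rwa [pow_one] at this
    · have hpi : (toP s ^ m) (ptAt r) = ptAt i :=
        (pow_apply_eq_iff hv m _ _).mpr (by rw [pidx_ptAt ⟨r, hr⟩, pidx_ptAt ⟨i, hi24⟩]; exact hb)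
      rw [← hpi, ← Equiv.Perm.mul_apply, hcomm c hcH m, Equiv.Perm.mul_apply, hcr]
  have h1 := Nat.card_le_card_of_injective f hinj
  rw [Nat.card_eq_fintype_card (α := {q // q ∈ (alike s N r).toFinset}), Fintype.card_coe] at h1
  exact h1.trans ((List.toFinset_card_le _).trans hM.le)

theorem card_cent_of_free {s : PP} {N r M : ℕ} (hp : preserves s = true) (h : cycleOK s N r M = true)
    (hfree : base7.all (fun b => !(ev s 1 b == b)) = true) : Nat.card (cent (toP s)) ≤ M := by
  have hv := valid_of_preserves hp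
  refine card_le_of_cycleOK hv h le_rfl fun g _ b hb hfx => ?_
  exfalso
  have hb24 : b < 24 := by simp only [base7, List.mem_cons, List.not_mem_nil, or_false] at hb; omega
  have := List.all_eq_true.mp hfree b hb
  simp only [Bool.not_eq_true', beq_eq_false_iff_ne] at this
  apply this
  have h1 := (pow_apply_eq_iff hv 1 (ptAt b) (ptAt b)).mp (by rw [pow_one]; exact hfx)
  rwa [pidx_ptAt ⟨b, hb24⟩] at h1

theorem self_mem_cent {s : PP} (hp : preserves s = true) : toP s ∈ cent (toP s) :=
  mem_cent.mpr ⟨toP_mem_M24 hp, rfl⟩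

theorem dvd_card_cent {s : PP} {N : ℕ} (h : orderOK s N = true) : N ∣ Nat.card (cent (toP s)) := by
  have hp : preserves s = true := by
    simp only [orderOK, Bool.and_eq_true] at h; exact h.1.1.1
  conv_lhs => rw [← orderOf_of_orderOK h]
  exact Subgroup.orderOf_dvd_natCard _ (self_mem_cent hp)

/-- The orbit of a position. -/
def orbList (s : PP) (N i : ℕ) : List ℕ :=
  (List.range 24).filter fun j => (List.range N).any fun m => ev s m i == j

/-- The certificate against inversion. -/
def invFreeOK (s : PP) (N r : ℕ) : Bool :=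
  (alike s N r).all (fun q => (List.range N).any fun a => ev s a r == q) &&
    decide (((List.range 24).map (orbList s N)).dedup.length < 8)

/-- An element of odd order whose centraliser is cyclic is not conjugate to its inverse. -/
theorem not_isConj_inv {s : PP} {N r : ℕ} (hp : preserves s = true) (ho : orderOK s N = true)
    (hr : r < 24) (hN : Odd N) (hN1 : 1 < N) (hcard : Nat.card (cent (toP s)) = N)
    (hc : invFreeOK s N r = true) : ¬ IsConj (mkM s hp) (mkM s hp)⁻¹ := by
  classical
  intro hconj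
  obtain ⟨hh, hhc⟩ := isConj_iff.mp hconj
  have hv := valid_of_preserves hp
  set x := toP s with hx
  set h : Equiv.Perm GolayPt := (hh : Equiv.Perm GolayPt) with hhdef
  have hhx : h * x * h⁻¹ = x⁻¹ := congrArg Subtype.val hhc
  have hinv : SemiconjBy h x x⁻¹ := mul_inv_eq_iff_eq_mul.mp hhx
  have hinv' : SemiconjBy h x⁻¹ x := by simpa using hinv.inv_right
  have hsq : h * h ∈ cent x := mem_cent.mpr ⟨mul_mem hh.2 hh.2, (hinv'.mul_left hinv).eq⟩
  have hpow : (h * h) ^ N = 1 := by
    have h1 : (⟨h * h, hsq⟩ : cent x) ^ Nat.card (cent x) = 1 := pow_card_eq_one'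
    rw [hcard] at h1
    exact congrArg Subtype.val h1
  obtain ⟨k, hk⟩ := hN
  set d := h ^ N with hd
  have hdd : d * d = 1 := by
    rw [hd, ← (Commute.refl h).mul_pow, hpow]
  have hdx : SemiconjBy d x x⁻¹ := by
    rw [hd, hk, pow_succ, pow_mul, sq]
    exact (((show Commute (h * h) x⁻¹ from hinv.mul_left hinv').pow_left k)).semiconjBy.mul_left hinv
  have hxo : orderOf x = N := orderOf_of_orderOK ho
  have hxN : x ^ N = 1 := by rw [← hxo, pow_orderOf_eq_one]
  have hd1 : d ≠ 1 := fun e => by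
    rw [e, SemiconjBy, one_mul, mul_one] at hdx
    have h2 : x ^ 2 = 1 := by
      rw [sq]; nth_rewrite 1 [hdx]; exact inv_mul_cancel x
    have h3 := orderOf_dvd_of_pow_eq_one h2
    rw [hxo] at h3
    have := Nat.le_of_dvd (by norm_num) h3
    omega
  have hdM : d ∈ M24 := pow_mem hh.2 N
  have hd2 : orderOf d = 2 := orderOf_eq_prime (by rw [sq, hdd]) hd1
  have hdpow : ∀ (i : ℕ) (t : GolayPt), d ((x ^ i) t) = ((x ^ i)⁻¹) (d t) := fun i t => by
    have := congrArg (fun g : Equiv.Perm GolayPt => g t) (hdx.pow_right i).eq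
    simpa [Equiv.Perm.mul_apply, inv_pow] using this
  have hperiod : ∀ (m : ℕ) (t : GolayPt), (x ^ m) (d t) = d t ↔ (x ^ m) t = t := by
    intro m t
    constructor
    · intro e
      apply d.injective
      rw [hdpow, Equiv.Perm.inv_def, Equiv.symm_apply_eq]
      exact e.symm
    · intro e
      have h1 := hdpow m t
      rw [e, Equiv.Perm.inv_def, eq_comm, Equiv.symm_apply_eq] at h1
      exact h1.symm
  simp only [invFreeOK, Bool.and_eq_true, List.all_eq_true, List.any_eq_true, List.mem_range,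
    beq_iff_eq, decide_eq_true_eq] at hc
  obtain ⟨hcyc, horb⟩ := hc
  -- a fixed point
  have hq : pidx (d (ptAt r)) ∈ alike s N r := by
    simp only [alike, List.mem_filter, List.mem_range, List.all_eq_true, beq_iff_eq]
    refine ⟨pidx_lt _, fun m _ => Bool.eq_iff_iff.mpr ?_⟩
    simp only [beq_iff_eq]
    have h1 := pow_apply_eq_iff hv m (d (ptAt r)) (d (ptAt r))
    have h2 := pow_apply_eq_iff hv m (ptAt r) (ptAt r)
    rw [pidx_ptAt ⟨r, hr⟩] at h2
    rw [← h1, ← h2]
    exact hperiod m (ptAt r)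
  obtain ⟨a, -, ha⟩ := hcyc _ hq
  have hdr : d (ptAt r) = (x ^ a) (ptAt r) :=
    ((pow_apply_eq_iff hv a _ _).mpr (by rw [pidx_ptAt ⟨r, hr⟩]; exact ha)).symm
  set i := a * (k + 1) with hi
  have hii : x ^ (i + i) = x ^ a := by
    rw [show i + i = N * a + a by rw [hi, hk]; ring, pow_add, pow_mul, hxN, one_pow, one_mul]
  have hfixd : d ((x ^ i) (ptAt r)) = (x ^ i) (ptAt r) := by
    rw [hdpow, hdr, Equiv.Perm.inv_def, Equiv.symm_apply_eq, ← Equiv.Perm.mul_apply, ← pow_add, hii]
  have h8 : fixCard d = 8 := by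
    obtain ⟨-, -, ⟨-, h⟩ | ⟨-, h⟩⟩ := involution_classes hdM hd2
    · exact h
    · exact absurd hfixd (fixCard_eq_zero.mp h _)
  -- at most one fixed point in each orbit
  have hbound : fixCard d ≤ ((List.range 24).map (orbList s N)).dedup.toFinset.card := by
    refine Finset.card_le_card_of_injOn (fun u => orbList s N (pidx u)) (fun u _ => ?_) ?_
    · simp only [Finset.mem_coe, List.mem_toFinset, List.mem_dedup, List.mem_map, List.mem_range]
      exact ⟨pidx u, pidx_lt u, rfl⟩
    intro u hu u' hu' huu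
    simp only [Finset.coe_filter, Finset.mem_univ, true_and, Set.mem_setOf_eq] at hu hu'
    have hmem : pidx u' ∈ orbList s N (pidx u) := by
      rw [show orbList s N (pidx u) = orbList s N (pidx u') from huu]
      simp only [orbList, List.mem_filter, List.mem_range, List.any_eq_true, beq_iff_eq]
      exact ⟨pidx_lt _, 0, by omega, rfl⟩
    simp only [orbList, List.mem_filter, List.mem_range, List.any_eq_true, beq_iff_eq] at hmem
    obtain ⟨-, e, -, he⟩ := hmem
    have he' : (x ^ e) u = u' := (pow_apply_eq_iff hv e _ _).mpr he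
    have h0 := hdpow e u
    rw [he', hu', hu, Equiv.Perm.inv_def, eq_comm, Equiv.symm_apply_eq] at h0
    have h1 : (x ^ (2 * e)) u = u := by
      rw [two_mul, pow_add, Equiv.Perm.mul_apply, he', ← h0]
    have h2 := Equiv.Perm.pow_apply_eq_self_of_apply_eq_self h1 (k + 1)
    rw [← pow_mul, show 2 * e * (k + 1) = N * e + e by rw [hk]; ring, pow_add, pow_mul, hxN, one_pow,
      one_mul, he'] at h2
    exact h2.symm
  have := List.toFinset_card_le ((List.range 24).map (orbList s N)).dedup
  omega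

theorem orders_ok : orderOK el23 23 = true ∧ orderOK el15 15 = true ∧ orderOK el21 21 = true ∧
    orderOK el11 11 = true ∧ orderOK el5 5 = true := by decide +kernel

theorem el_mem : preserves el23 = true ∧ preserves el15 = true ∧ preserves el21 = true ∧
    preserves el11 = true ∧ preserves el5 = true ∧ preserves elSeven.1 = true := by decide +kernel

theorem cycles_ok : cycleOK el23 23 0 23 = true ∧ cycleOK el15 15 0 15 = true ∧
    cycleOK el21 21 0 21 = true ∧ cycleOK el11 11 0 22 = true ∧ cycleOK el5 5 0 20 = true := by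
  decide +kernel

theorem free_ok : base7.all (fun b => !(ev el23 1 b == b)) = true ∧
    base7.all (fun b => !(ev el15 1 b == b)) = true ∧ base7.all (fun b => !(ev el21 1 b == b)) = true ∧
    base7.all (fun b => !(ev el11 1 b == b)) = true := by decide +kernel

theorem invFree_ok : invFreeOK el23 23 0 = true ∧ invFreeOK el15 15 0 = true ∧
    invFreeOK el21 21 0 = true := by decide +kernel

theorem card_cent_23 : Nat.card (cent (toP el23)) = 23 :=
  le_antisymm (card_cent_of_free el_mem.1 cycles_ok.1 free_ok.1)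
    (Nat.le_of_dvd Nat.card_pos (dvd_card_cent orders_ok.1))

theorem card_cent_15 : Nat.card (cent (toP el15)) = 15 :=
  le_antisymm (card_cent_of_free el_mem.2.1 cycles_ok.2.1 free_ok.2.1)
    (Nat.le_of_dvd Nat.card_pos (dvd_card_cent orders_ok.2.1))

theorem card_cent_21 : Nat.card (cent (toP el21)) = 21 :=
  le_antisymm (card_cent_of_free el_mem.2.2.1 cycles_ok.2.2.1 free_ok.2.2.1)
    (Nat.le_of_dvd Nat.card_pos (dvd_card_cent orders_ok.2.2.1))

theorem card_cent_11 : Nat.card (cent (toP el11)) = 11 := by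
  have hle := card_cent_of_free el_mem.2.2.2.1 cycles_ok.2.2.2.1 free_ok.2.2.2
  obtain ⟨c, hc⟩ := dvd_card_cent orders_ok.2.2.2.1
  have hc0 : 0 < c := Nat.pos_of_ne_zero fun h => by
    rw [h, mul_zero] at hc; exact Nat.card_pos.ne' hc
  have hodd : ¬ 2 ∣ Nat.card (cent (toP el11)) := fun h2 => by
    haveI : Fact (Nat.Prime 2) := ⟨Nat.prime_two⟩
    obtain ⟨d, hd⟩ := exists_prime_orderOf_dvd_card' 2 h2
    have h := orderOf_dvd_of_commute (toP_mem_M24 el_mem.2.2.2.1) (mem_cent.mp d.2).1
      ((Subgroup.orderOf_coe d).trans hd) (mem_cent.mp d.2).2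
    rw [orderOf_of_orderOK orders_ok.2.2.2.1] at h
    rcases h with ⟨-, h⟩ | ⟨-, h⟩ <;> norm_num at h
  have : c ≤ 2 := by omega
  interval_cases c
  · exact hc
  · exact absurd ⟨11, by omega⟩ hodd

theorem card_cent_7 : Nat.card (cent xSeven) = 42 := by
  have e : cent xSeven = cgSeven.grp := Subgroup.ext fun d => by rw [mem_cent, centralizer_seven]
  rw [e]; exact card_seven_grps.1

theorem not_isConj_inv_seven : ¬ IsConj (mkM elSeven.1 el_mem.2.2.2.2.2) (mkM elSeven.1 el_mem.2.2.2.2.2)⁻¹ := by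
  intro hconj
  obtain ⟨hh, hhc⟩ := isConj_iff.mp hconj
  have hx := valid_of_fvalid seven_tabs.1
  have he : (hh : Equiv.Perm GolayPt) * xSeven * (hh : Equiv.Perm GolayPt)⁻¹ = xSeven⁻¹ :=
    congrArg Subtype.val hhc
  have hT : (hh : Equiv.Perm GolayPt) ∈ cgTrio.grp :=
    mem_cgTrio_of_norm hh.2 (he ▸ Subgroup.inv_mem _ (Subgroup.mem_zpowers _))
  have horb := ((orbit_cert cjCoding cgTrio_ok (x₀ := (⟨xSeven⟩ : CJ)) (cjEnc_toP hx) orbSeven_ok).1 _).mp
    ⟨⟨_, hT⟩, congrArg CJ.mk he⟩
  have := List.all_eq_true.mp inv_not_in_orbit _ horb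
  rw [show cjCoding.enc = cjEnc from rfl, xSeven_inv, cjEnc_toP (valid_pinv hx)] at this
  simp at this

/-! ### The element of order five -/

theorem card_le_mul_stab (H : Subgroup (Equiv.Perm GolayPt)) (p : GolayPt) (T : Finset GolayPt)
    (hT : ∀ g ∈ H, g p ∈ T) :
    Nat.card H ≤ T.card * Nat.card (H ⊓ stabilizer (Equiv.Perm GolayPt) p : Subgroup (Equiv.Perm GolayPt)) := by
  have h := Subgroup.index_mul_card (stabilizer H p)
  rw [index_stabilizer] at h
  have h1 : (orbit H p).ncard ≤ T.card := by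
    rw [← Set.ncard_coe_finset]
    refine Set.ncard_le_ncard ?_ T.finite_toSet
    rintro _ ⟨g, rfl⟩
    exact hT g g.2
  have h2 : Nat.card (stabilizer H p) =
      Nat.card (H ⊓ stabilizer (Equiv.Perm GolayPt) p : Subgroup (Equiv.Perm GolayPt)) := by
    rw [← map_stabilizer]
    exact Nat.card_congr (Subgroup.equivMapOfInjective _ _ (Subgroup.subtype_injective _)).toEquiv
  rw [← h, h2]
  exact Nat.mul_le_mul_right _ h1

/-- The fixed positions of the element of order five. -/
def fix5 : List ℕ := [1, 2, 5, 12]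

theorem fix5_ok : (List.range 24).all (fun i => (ev el5 1 i == i) == fix5.contains i) = true := by
  decide +kernel

theorem mem_fix5 {t : GolayPt} : toP el5 t = t ↔
    t ∈ ({ptAt 1, ptAt 2, ptAt 5, ptAt 12} : Finset GolayPt) := by
  have h := List.all_eq_true.mp fix5_ok (pidx t) (List.mem_range.mpr (pidx_lt t))
  simp only [beq_iff_eq] at h
  have h' := pow_apply_eq_iff (valid_of_preserves el_mem.2.2.2.2.1) 1 t t
  rw [pow_one] at h'
  rw [h', ← beq_iff_eq (a := ev el5 1 (pidx t)), h]
  simp only [fix5, List.contains_iff_mem, List.mem_cons, List.not_mem_nil, or_false, Finset.mem_insert,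
    Finset.mem_singleton]
  have e : ∀ i < 24, (pidx t = i ↔ t = ptAt i) := fun i hi => by
    rw [← pidx_injective.eq_iff, show pidx (ptAt i) = i from pidx_ptAt ⟨i, hi⟩]
  rw [e 1 (by norm_num), e 2 (by norm_num), e 5 (by norm_num), e 12 (by norm_num)]

theorem card_cent_5 : Nat.card (cent (toP el5)) ≤ 60 := by
  classical
  set x := toP el5 with hx
  have hxo : orderOf x = 5 := orderOf_of_orderOK orders_ok.2.2.2.2
  have hxM : x ∈ M24 := toP_mem_M24 el_mem.2.2.2.2.1
  set C := cent x with hC
  have hS : ∀ g ∈ C, ∀ t, x t = t → x (g t) = g t := fun g hg t ht => by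
    rw [← Equiv.Perm.mul_apply, ← (mem_cent.mp hg).2, Equiv.Perm.mul_apply, ht]
  -- involutions in the centraliser have no fixed points
  have hfree : ∀ g ∈ C, ∀ p, g p = p → Odd (orderOf g) := by
    intro g hg p hp
    by_contra hev
    rw [Nat.not_odd_iff_even, even_iff_two_dvd] at hev
    have hg0 := orderOf_pos g
    set d := g ^ (orderOf g / 2) with hd
    have hd2 : orderOf d = 2 := orderOf_pow_orderOf_div hg0.ne' hev
    have hdC : d ∈ C := pow_mem hg _
    have h := orderOf_dvd_of_commute hxM (mem_cent.mp hdC).1 hd2 (mem_cent.mp hdC).2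
    rw [hxo] at h
    rcases h with ⟨-, h⟩ | ⟨h, -⟩
    · norm_num at h
    · exact fixCard_eq_zero.mp h p (Equiv.Perm.pow_apply_eq_self_of_apply_eq_self hp _)
  have hhalf : ∀ g ∈ C, ∀ p q, g q = q → g (g p) = p → g p = p := by
    intro g hg p q hq h2
    obtain ⟨k, hk⟩ := hfree g hg q hq
    have h3 : (g ^ (2 * k)) p = p := by
      rw [pow_mul]; exact Equiv.Perm.pow_apply_eq_self_of_apply_eq_self (by simpa [sq] using h2) k
    have h4 : (g ^ (2 * k + 1)) p = p := by rw [← hk, pow_orderOf_eq_one]; rfl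
    rw [pow_succ', Equiv.Perm.mul_apply, h3] at h4
    exact h4
  set C1 := C ⊓ stabilizer (Equiv.Perm GolayPt) (ptAt 1) with hC1
  set C2 := C1 ⊓ stabilizer (Equiv.Perm GolayPt) (ptAt 2) with hC2
  have m1 : ∀ g ∈ C1, g ∈ C ∧ g (ptAt 1) = ptAt 1 := fun g hg => ⟨hg.1, hg.2⟩
  have m2 : ∀ g ∈ C2, g ∈ C ∧ g (ptAt 1) = ptAt 1 ∧ g (ptAt 2) = ptAt 2 := fun g hg =>
    ⟨hg.1.1, hg.1.2, hg.2⟩
  have hne : ptAt 1 ≠ ptAt 2 ∧ ptAt 1 ≠ ptAt 5 ∧ ptAt 1 ≠ ptAt 12 ∧ ptAt 2 ≠ ptAt 5 ∧
      ptAt 2 ≠ ptAt 12 ∧ ptAt 5 ≠ ptAt 12 := by decide +kernel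
  have h41 : Nat.card C ≤ 4 * Nat.card C1 := by
    refine (card_le_mul_stab C (ptAt 1) {ptAt 1, ptAt 2, ptAt 5, ptAt 12} fun g hg => ?_).trans ?_
    · exact mem_fix5.mp (hS g hg _ (mem_fix5.mpr (by simp)))
    · exact Nat.mul_le_mul_right _ Finset.card_le_four
  have h32 : Nat.card C1 ≤ 3 * Nat.card C2 := by
    refine (card_le_mul_stab C1 (ptAt 2) {ptAt 2, ptAt 5, ptAt 12} fun g hg => ?_).trans ?_
    · have h := mem_fix5.mp (hS g (m1 g hg).1 (ptAt 2) (mem_fix5.mpr (by simp)))
      rw [Finset.mem_insert] at h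
      exact h.resolve_left fun e => hne.1 (g.injective ((m1 g hg).2.trans e.symm))
    · exact Nat.mul_le_mul_right _ Finset.card_le_three
  -- the kernel on the four fixed points
  have hall : ∀ g ∈ C2, ∀ t, x t = t → g t = t := by
    intro g hg t ht
    obtain ⟨hgC, h1, h2⟩ := m2 g hg
    have hcase : ∀ a b, ({ptAt 1, ptAt 2, ptAt 5, ptAt 12} : Finset GolayPt) =
        {ptAt 1, ptAt 2, a, b} → a ≠ ptAt 1 → a ≠ ptAt 2 → b ≠ ptAt 1 → b ≠ ptAt 2 →
        x a = a → x b = b → g a = a := by
      intro a b hset a1 a2 b1 b2 hxa hxb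
      have ha := mem_fix5.mp (hS g hgC a hxa)
      have hb := mem_fix5.mp (hS g hgC b hxb)
      rw [hset] at ha hb
      simp only [Finset.mem_insert, Finset.mem_singleton] at ha hb
      rcases ha with e | e | e | e
      · exact absurd (g.injective (e.trans h1.symm)) a1
      · exact absurd (g.injective (e.trans h2.symm)) a2
      · exact e
      · rcases hb with f | f | f | f
        · exact absurd (g.injective (f.trans h1.symm)) b1
        · exact absurd (g.injective (f.trans h2.symm)) b2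
        · exact hhalf g hgC a (ptAt 1) h1 (by rw [e, f])
        · rw [g.injective (e.trans f.symm)]; exact f
    have hx5 : x (ptAt 5) = ptAt 5 := mem_fix5.mpr (by simp)
    have hx12 : x (ptAt 12) = ptAt 12 := mem_fix5.mpr (by simp)
    have := mem_fix5.mp ht
    simp only [Finset.mem_insert, Finset.mem_singleton] at this
    rcases this with rfl | rfl | rfl | rfl
    · exact h1
    · exact h2
    · exact hcase _ (ptAt 12) rfl hne.2.1.symm hne.2.2.2.1.symm hne.2.2.1.symm hne.2.2.2.2.1.symm hx5 hx12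
    · refine hcase _ (ptAt 5) ?_ hne.2.2.1.symm hne.2.2.2.2.1.symm hne.2.1.symm hne.2.2.2.1.symm hx12 hx5
      decide +kernel
  have hle : Nat.card C2 ≤ 20 :=
    card_le_of_cycleOK (valid_of_preserves el_mem.2.2.2.2.1) cycles_ok.2.2.2.2
      (fun g hg => (m2 g hg).1) fun g hg b _ hb => hall g hg _ hb
  have h5 : 5 ∣ Nat.card C2 := by
    rw [← hxo]
    refine Subgroup.orderOf_dvd_natCard _ ⟨⟨self_mem_cent el_mem.2.2.2.2.1, ?_⟩, ?_⟩
    · exact mem_fix5.mpr (by simp)
    · exact mem_fix5.mpr (by simp)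
  have h2 : ¬ 2 ∣ Nat.card C2 := fun h => by
    haveI : Fact (Nat.Prime 2) := ⟨Nat.prime_two⟩
    obtain ⟨d, hd⟩ := exists_prime_orderOf_dvd_card' 2 h
    have := hfree d (m2 d d.2).1 (ptAt 1) (m2 d d.2).2.1
    rw [Subgroup.orderOf_coe, hd] at this
    norm_num at this
  have h3 : ¬ 3 ∣ Nat.card C2 := fun h => by
    haveI : Fact (Nat.Prime 3) := ⟨Nat.prime_three⟩
    obtain ⟨y, hy⟩ := exists_prime_orderOf_dvd_card' 3 h
    have hyo : orderOf (y : Equiv.Perm GolayPt) = 3 := (Subgroup.orderOf_coe y).trans hy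
    have hyC := (m2 y y.2).1
    set F := Finset.univ.filter fun t => (y : Equiv.Perm GolayPt) t = t with hF
    have hSF : ({ptAt 1, ptAt 2, ptAt 5, ptAt 12} : Finset GolayPt) ⊆ F := fun t ht =>
      Finset.mem_filter.mpr ⟨Finset.mem_univ _, hall y y.2 t (mem_fix5.mpr ht)⟩
    have h4 : ({ptAt 1, ptAt 2, ptAt 5, ptAt 12} : Finset GolayPt).card = 4 := by decide +kernel
    have h6 : F.card = 6 := by
      obtain ⟨-, -, ⟨-, h⟩ | ⟨-, h⟩⟩ := three_classes (mem_cent.mp hyC).1 hyo
      · exact h
      · exact absurd ((Finset.card_le_card hSF).trans_eq h) (by rw [h4]; norm_num)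
    set R := F \ {ptAt 1, ptAt 2, ptAt 5, ptAt 12} with hR
    have hRc : R.card = 2 := by rw [hR, Finset.card_sdiff_of_subset hSF, h6, h4]
    obtain ⟨q, hq⟩ := Finset.card_pos.mp (hRc ▸ Nat.zero_lt_two : 0 < R.card)
    have hmap : ∀ t ∈ R, x t ∈ R := by
      intro t ht
      simp only [hR, Finset.mem_sdiff, hF, Finset.mem_filter, Finset.mem_univ, true_and] at ht ⊢
      refine ⟨by rw [← Equiv.Perm.mul_apply, (mem_cent.mp hyC).2, Equiv.Perm.mul_apply, ht.1], ?_⟩
      rw [← mem_fix5, x.injective.eq_iff]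
      exact fun e => ht.2 (mem_fix5.mp e)
    have hxq : x q ≠ q := fun e => (Finset.mem_sdiff.mp hq).2 (mem_fix5.mp e)
    have hxxq : x (x q) ≠ q := fun e => hxq (by
      have h4' : (x ^ 4) q = q := by
        rw [show (4 : ℕ) = 2 * 2 from rfl, pow_mul]
        exact Equiv.Perm.pow_apply_eq_self_of_apply_eq_self (by rw [sq, Equiv.Perm.mul_apply, e]) 2
      have h5' : (x ^ 5) q = q := by rw [← hxo, pow_orderOf_eq_one]; rfl
      rwa [pow_succ', Equiv.Perm.mul_apply, h4'] at h5')
    have hsub : ({q, x q, x (x q)} : Finset GolayPt) ⊆ R := by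
      intro t ht
      simp only [Finset.mem_insert, Finset.mem_singleton] at ht
      rcases ht with rfl | rfl | rfl
      exacts [hq, hmap _ hq, hmap _ (hmap _ hq)]
    have h3c : ({q, x q, x (x q)} : Finset GolayPt).card = 3 := Finset.card_eq_three.mpr
      ⟨_, _, _, hxq.symm, hxxq.symm, fun e => hxq (x.injective e).symm, rfl⟩
    have := Finset.card_le_card hsub
    omega
  have : Nat.card C2 = 5 := by omega
  omega

end Cfsg.Lib.Golay.M24Block
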