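import Cfsg.Agent.PermCert.Orbit

/-!
Orbit certificates for stabilisers of octads, dodecads and points.
-/

namespace Cfsg.Lib.Golay

open Cfsg.Lib.PermCert

/-- Generators fixing configuration A. -/
def gensA : List PP := [(11423393689262054871240884267617495300950210479259035438507177670421002972672482550180113059371613931285726232576, 3006207899866022631973589065413004837185864241301827614879852802133992054255711247008373660652616534051906584576), (9018522782579281134824961038294475821292160723548401420228358377971282066105278075961882596906588077259913691136, 12024657287689879116134975525180639526845543509189958539645054883843310446266952775446980382363731548281225281536)]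


/-- The spanning tree `treeA0`. -/
def treeA0 : OTree := .nil

/-- Part of `treeA1`. -/
def treeA1_0 : OTree := .node 3152963 0 (.node 201013 0 (.node 12599513 0 (.node 2754059 0 (.node 45159 0 (.node 9830549 0 .nil .nil) .nil) .nil) (.node 133817 1 (.node 8398155 0 .nil .nil) .nil)) (.node 9506893 1 (.node 737427 0 (.node 2147405 0 (.node 3736597 1 .nil .nil) (.node 2494627 1 .nil .nil)) (.node 8619033 1 (.node 806987 0 .nil (.node 689317 1 .nil .nil)) .nil)) .nil)) (.node 6292775 1 (.node 12587685 0 (.node 8922769 0 (.node 1618953 0 (.node 13370381 1 (.node 563843 0 .nil (.node 304405 1 .nil .nil)) .nil) (.node 4505735 1 (.node 2634003 1 (.node 5511305 1 .nil .nil) .nil) .nil)) .nil) (.node 1063445 1 (.node 1122713 0 (.node 12717187 1 (.node 530245 0 .nil .nil) .nil) .nil) .nil)) .nil)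

/-- Part of `treeA1`. -/
def treeA1_1 : OTree := .node 4752467 1 (.node 430605 0 (.node 272595 0 (.node 1182989 0 (.node 8391797 1 (.node 9048457 0 .nil (.node 99029 1 .nil .nil)) .nil) (.node 4264387 1 (.node 4343317 0 .nil (.node 210955 1 (.node 4330601 1 .nil .nil) .nil)) .nil)) (.node 542009 1 (.node 14716939 0 (.node 786999 0 .nil .nil) (.node 2363013 1 (.node 1065303 1 (.node 10557585 1 .nil .nil) .nil) .nil)) .nil)) (.node 864389 1 (.node 1100945 0 (.node 2430217 0 .nil (.node 11010247 1 (.node 1413139 1 (.node 346141 0 .nil .nil) .nil) .nil)) (.node 4587803 1 .nil .nil)) .nil)) .nil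

/-- Part of `treeA1`. -/
def treeA1_2 : OTree := .node 140167 0 (.node 5252293 0 (.node 1250945 0 (.node 8536111 1 .nil .nil) (.node 12656663 1 (.node 1589901 0 (.node 2204803 0 (.node 1332261 0 .nil (.node 5902343 1 .nil .nil)) (.node 10765331 1 (.node 2627629 0 (.node 8421811 0 .nil .nil) (.node 3182981 1 .nil .nil)) .nil)) (.node 4370577 1 (.node 1312345 0 .nil .nil) .nil)) .nil)) (.node 4216883 1 (.node 10486557 0 (.node 4726955 0 (.node 4470275 1 (.node 4223245 1 .nil .nil) .nil) .nil) (.node 2110153 1 (.node 5325835 1 .nil .nil) .nil)) .nil)) (.node 95313 1 (.node 3297305 0 (.node 2162811 0 .nil (.node 11535529 1 (.node 8983587 0 (.node 8966165 0 (.node 2916505 0 (.node 298027 0 .nil .nil) .nil) .nil) (.node 9471495 1 .nil .nil)) .nil)) (.node 6488205 1 (.node 18147 0 (.node 10630149 0 (.node 1577201 0 (.node 8716939 1 .nil .nil) (.node 5275709 1 .nil .nil)) (.node 2183687 1 (.node 2121909 0 (.node 7340691 1 (.node 75309 0 .nil (.node 9465987 1 .nil .nil)) .nil) .nil) .nil)) (.node 1188915 1 .nil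 .nil)) .nil)) .nil)

/-- Part of `treeA1`. -/
def treeA1_3 : OTree := .node 4788761 0 (.node 57883 0 (.node 3416079 0 (.node 1116327 0 (.node 8471941 0 (.node 2263063 1 (.node 262637 0 (.node 69395 1 .nil .nil) .nil) .nil) (.node 8524371 1 (.node 118953 1 .nil .nil) .nil)) .nil) (.node 6837377 1 (.node 2135601 0 (.node 8663097 0 (.node 9963547 0 (.node 622863 0 (.node 924689 1 .nil .nil) (.node 8688833 1 .nil .nil)) .nil) .nil) .nil) .nil)) (.node 418953 1 treeA1_0 .nil)) (.node 8431757 1 (.node 1836419 0 (.node 4299781 0 (.node 283537 0 (.node 6302745 0 (.node 1053483 0 .nil .nil) (.node 2115979 1 .nil .nil)) (.node 663645 1 (.node 1212619 0 (.node 459847 0 (.node 153797 0 (.node 2229713 0 .nil .nil) .nil) .nil) (.node 4523185 1 (.node 8412681 0 .nil .nil) .nil)) .nil)) (.node 8657159 1 (.node 4721045 0 (.node 4229001 0 (.node 551943 1 (.node 6557781 1 .nil .nil) .nil) .nil) (.node 39257 1 (.node 593097 1 (.node 185603 0 .nil .nil) .nil) .nil)) .nil)) treeA1_1) .nil)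

/-- The spanning tree `treeA1`. -/
def treeA1 : OTree := .node 13636881 0 treeA1_3 (.node 4196943 1 treeA1_2 .nil)

/-- Part of `treeA2`. -/
def treeA2_0 : OTree := .node 5571333 0 (.node 4287105 0 (.node 3172097 0 (.node 7417889 0 (.node 13771273 1 .nil .nil) (.node 15747077 1 (.node 11575377 1 .nil .nil) .nil)) (.node 6447171 1 .nil .nil)) (.node 8546577 1 (.node 7864649 0 (.node 4424227 0 (.node 684577 1 .nil .nil) (.node 9776129 1 (.node 12747077 1 (.node 5112513 0 (.node 175681 0 .nil .nil) (.node 632881 1 .nil .nil)) .nil) .nil)) (.node 6326497 1 (.node 8783649 0 .nil (.node 1647171 1 (.node 1302533 0 .nil .nil) .nil)) .nil)) .nil)) (.node 13121601 1 (.node 1737489 0 (.node 9193633 1 (.node 11046145 0 (.node 5017889 0 (.node 797449 1 .nil .nil) (.node 1869893 1 .nil .nil)) .nil) .nil) (.node 4563017 1 (.node 1460739 0 (.node 2173253 0 (.node 5441617 1 (.node 213833 0 .nil .nil) .nil) .nil) (.node 4924673 1 (.node 5296705 0 .nil .nil) .nil)) .nil)) .nil)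

/-- Part of `treeA2`. -/
def treeA2_1 : OTree := .node 8499969 0 (.node 6053905 0 (.node 3246601 0 (.node 352547 0 (.node 6429441 1 .nil .nil) (.node 10110017 1 (.node 2854977 0 (.node 2031657 1 .nil .nil) (.node 10846245 1 .nil .nil)) .nil)) .nil) (.node 4900873 1 (.node 2392899 0 (.node 4597797 0 (.node 9440193 0 (.node 8505411 1 .nil .nil) (.node 4203377 1 .nil .nil)) (.node 1661185 1 .nil .nil)) (.node 2892897 1 .nil .nil)) .nil)) (.node 8675909 1 (.node 3811457 0 (.node 1148257 0 (.node 13062145 0 .nil .nil) .nil) (.node 6406417 1 (.node 6570537 0 (.node 10496547 0 (.node 9969957 0 (.node 14254209 0 .nil (.node 12880401 1 .nil .nil)) .nil) .nil) .nil) .nil)) .nil)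

/-- Part of `treeA2`. -/
def treeA2_2 : OTree := .node 2313249 0 (.node 10506593 0 (.node 15335473 0 (.node 1352353 1 (.node 13124355 1 .nil .nil) .nil) .nil) (.node 3277413 1 (.node 8593633 0 .nil (.node 9519665 1 (.node 11100169 0 .nil .nil) .nil)) .nil)) (.node 11731203 1 (.node 4800613 0 (.node 10666625 0 (.node 3719203 1 (.node 12325377 1 (.node 9748745 1 .nil .nil) .nil) .nil) (.node 2564625 1 (.node 1075305 0 (.node 14747201 1 .nil .nil) (.node 5390753 1 .nil .nil)) .nil)) (.node 9607201 1 (.node 9240913 0 (.node 493953 1 (.node 4476225 0 .nil .nil) .nil) (.node 8946281 1 (.node 9347075 0 .nil (.node 902657 1 (.node 2422785 0 (.node 3410225 0 .nil .nil) (.node 3031301 1 .nil .nil)) .nil)) .nil)) .nil)) .nil)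

/-- The spanning tree `treeA2`. -/
def treeA2 : OTree := .node 14950785 0 (.node 5770785 0 treeA2_1 (.node 5286147 1 treeA2_0 .nil)) (.node 2640465 1 (.node 2269481 0 (.node 13893731 0 (.node 9112069 0 (.node 582081 0 (.node 7767041 0 (.node 334433 0 .nil .nil) (.node 7145475 1 (.node 1454401 1 (.node 12650793 1 .nil .nil) .nil) .nil)) (.node 442481 1 (.node 10881097 0 (.node 657763 0 .nil .nil) (.node 2687905 1 (.node 12641313 0 (.node 6857221 1 .nil .nil) .nil) .nil)) .nil)) .nil) .nil) (.node 3489985 1 treeA2_2 .nil)) .nil)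

/-- The orbit certificates of configuration A. -/
def certsA : List (ℕ × OTree) := [(5279, treeA0), (15777, treeA1), (52005, treeA2)]

/-- Generators fixing configuration B. -/
def gensB : List PP := [(8417259183731506886889946169301677575189257144981636913347450101746123442509012802170021345852824095355750580236, 7816124022905973826646460582954034883158636899018822481860009784912319798014597811079833385452377804223021711361), (4810007864244496343557588441826751582753839870289179803300046453854459383290924698580373416829722102150434258956, 11423393691641777251811105378960602708174789845309860304931547829162042694229569203535059055262279225690128842756)]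


/-- The spanning tree `treeB0`. -/
def treeB0 : OTree := .nil

/-- Part of `treeB1`. -/
def treeB1_0 : OTree := .node 4626498 0 (.node 2564625 0 (.node 5296705 1 (.node 832080 0 .nil (.node 7221256 1 (.node 12780432 0 (.node 6406417 1 .nil .nil) .nil) .nil)) .nil) (.node 2255372 1 (.node 10584520 0 (.node 1337732 0 .nil (.node 237906 1 (.node 9776129 0 (.node 1351424 1 .nil .nil) .nil) .nil)) .nil) .nil)) (.node 13276672 1 (.node 4538962 0 (.node 175681 0 (.node 10825794 0 .nil (.node 5405696 1 (.node 11108882 0 (.node 12747077 1 .nil .nil) .nil) .nil)) .nil) (.node 14828808 1 (.node 1164162 0 (.node 1869893 0 .nil .nil) (.node 2704706 1 (.node 5286147 0 .nil (.node 9020484 1 (.node 12871690 0 .nil .nil) .nil)) .nil)) .nil)) .nil)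

/-- Part of `treeB1`. -/
def treeB1_1 : OTree := .node 5785794 0 (.node 6857221 0 (.node 12849992 0 (.node 1204944 0 .nil (.node 6365962 1 (.node 7438406 1 .nil .nil) .nil)) (.node 15864000 1 (.node 615188 0 (.node 13667400 0 (.node 2908802 0 .nil .nil) (.node 14254209 1 .nil .nil)) .nil) .nil)) (.node 11282452 1 (.node 9440193 1 (.node 3698756 0 .nil (.node 4536592 1 (.node 11669008 0 (.node 4476225 1 .nil .nil) (.node 3246601 1 .nil .nil)) .nil)) .nil) .nil)) (.node 12944642 1 (.node 1460739 0 (.node 2854977 0 (.node 8581192 1 (.node 8773776 0 (.node 8834052 0 (.node 675712 1 .nil .nil) .nil) (.node 1728778 1 .nil .nil)) .nil) (.node 5003780 1 (.node 6455896 0 (.node 337856 0 (.node 9578566 0 .nil (.node 5350928 1 .nil .nil)) (.node 6447171 1 .nil .nil)) .nil) .nil)) (.node 2328324 1 (.node 1378634 0 (.node 371206 1 (.node 5409412 1 .nil .nil) .nil) (.node 4441280 1 (.node 2810896 1 .nil .nil) .nil)) .nil)) .nil)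

/-- Part of `treeB1`. -/
def treeB1_2 : OTree := .node 9078992 0 (.node 6644740 0 (.node 8555274 0 (.node 3489985 0 (.node 702724 0 (.node 16056344 0 .nil .nil) .nil) (.node 4409606 1 (.node 2738308 1 (.node 6588684 0 .nil .nil) .nil) .nil)) (.node 3704512 1 (.node 4989254 0 (.node 13771273 0 .nil .nil) (.node 12985424 1 (.node 8611330 0 (.node 8505411 0 .nil .nil) .nil) .nil)) .nil)) (.node 8546577 1 (.node 11654144 0 (.node 837906 0 (.node 7767041 0 .nil .nil) (.node 951624 1 .nil .nil)) (.node 1661185 1 (.node 9279496 1 (.node 6703248 0 (.node 2640465 1 .nil .nil) .nil) .nil) .nil)) .nil)) (.node 6062602 1 (.node 5112513 0 (.node 4403780 0 (.node 8464984 0 .nil (.node 7397512 1 (.node 9208708 0 (.node 5652556 0 .nil .nil) (.node 4063314 1 .nil .nil)) .nil)) (.node 14709264 1 (.node 8439632 0 (.node 4924673 1 (.node 13703682 0 .nil .nil) .nil) (.node 7864649 1 (.node 5780352 0 (.node 14156372 0 .nil .nil) .nil) .nil)) .nil)) (.node 15073798 1 (.node 213833 0 (.node 4845570 1 (.node 12222476 1 .nil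 .nil) .nil) .nil) .nil)) .nil)

/-- Part of `treeB1`. -/
def treeB1_3 : OTree := .node 13192208 0 (.node 6344194 0 (.node 2392899 0 .nil (.node 6949956 1 (.node 10513600 1 (.node 10543366 0 (.node 1769924 1 .nil .nil) (.node 1584464 1 (.node 16262146 0 .nil .nil) .nil)) .nil) .nil)) (.node 11046145 1 (.node 7622914 0 (.node 1737489 0 .nil (.node 2949708 1 (.node 12624578 1 (.node 8675909 0 .nil .nil) .nil) .nil)) (.node 8592704 1 (.node 3237906 0 .nil (.node 126216 1 (.node 1805314 1 (.node 7145475 0 .nil .nil) .nil) .nil)) .nil)) .nil)) (.node 9748745 1 (.node 2019456 0 (.node 5210132 0 (.node 4656648 0 (.node 2296514 0 .nil .nil) (.node 10666625 1 (.node 4870480 1 (.node 11100169 1 .nil .nil) .nil) .nil)) (.node 9323032 1 (.node 13124355 1 .nil .nil) .nil)) (.node 987906 1 (.node 5441617 0 (.node 2702848 0 .nil (.node 2422785 1 (.node 10916112 0 .nil (.node 1710664 1 .nil .nil)) .nil)) (.node 12698124 1 (.node 314056 0 (.node 2531524 0 .nil .nil) (.node 6979970 1 (.node 10698836 1 .nil .nil) .nil))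 .nil)) .nil)) .nil)

/-- Part of `treeB1`. -/
def treeB1_4 : OTree := .node 1090380 0 (.node 10232008 0 (.node 13262980 0 .nil (.node 9708306 1 (.node 10110017 0 .nil (.node 5571333 1 (.node 6656640 1 .nil .nil) .nil)) .nil)) (.node 5709954 1 (.node 9112069 0 (.node 6379592 0 (.node 2141072 0 (.node 11797828 0 .nil .nil) (.node 2664522 1 (.node 14950785 0 .nil .nil) .nil)) (.node 12638592 1 (.node 2820376 1 .nil .nil) .nil)) (.node 3457556 1 .nil .nil)) .nil)) (.node 6889680 1 (.node 12594948 0 (.node 11551306 0 (.node 582081 0 (.node 13938692 0 (.node 3539848 1 .nil .nil) .nil) .nil) (.node 7409024 1 (.node 3672838 0 (.node 12912836 1 .nil .nil) (.node 2460752 1 (.node 2501890 0 (.node 1134148 1 .nil .nil) .nil) .nil)) .nil)) .nil) .nil)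

/-- Part of `treeB1`. -/
def treeB1_5 : OTree := .node 14682450 1 (.node 3172097 0 (.node 9998658 0 (.node 6053905 0 (.node 12325377 1 .nil .nil) (.node 8855820 1 (.node 9652360 0 .nil .nil) .nil)) (.node 6100032 1 (.node 4860434 0 (.node 14747201 0 (.node 6337856 1 .nil .nil) .nil) (.node 10790408 1 (.node 8798658 0 (.node 1302533 0 .nil .nil) (.node 5375810 1 .nil .nil)) .nil)) .nil)) (.node 2173253 1 (.node 11548936 0 (.node 12075408 0 (.node 5817604 0 .nil (.node 9240913 1 (.node 8499969 1 .nil .nil) .nil)) .nil) (.node 1161408 1 (.node 1484824 1 (.node 11469952 0 .nil .nil) .nil) .nil)) .nil)) .nil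

/-- Part of `treeB1`. -/
def treeB1_6 : OTree := .node 3351624 0 (.node 8989058 0 (.node 15747077 0 (.node 2675464 0 (.node 5538256 0 .nil .nil) (.node 2890176 1 (.node 7479572 0 .nil .nil) .nil)) (.node 9537812 1 (.node 3951624 0 (.node 9178690 1 .nil .nil) .nil) .nil)) (.node 1369154 1 (.node 9347075 0 (.node 13062145 0 .nil (.node 9589508 1 (.node 1687640 0 (.node 5024896 0 .nil .nil) (.node 5063048 1 .nil .nil)) .nil)) (.node 1975812 1 (.node 13303882 0 .nil .nil) .nil)) .nil)) (.node 4287105 1 (.node 10525252 0 (.node 2384216 0 (.node 9610624 0 (.node 10305542 0 .nil (.node 1525008 1 .nil .nil)) (.node 1647171 1 (.node 13121601 0 .nil .nil) .nil)) (.node 4336072 1 (.node 11608708 0 (.node 8931660 0 .nil .nil) .nil) .nil)) (.node 7903248 1 (.node 7079696 0 .nil (.node 10881097 1 (.node 2322816 0 .nil .nil) .nil)) .nil)) .nil)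

/-- Part of `treeB1`. -/
def treeB1_7 : OTree := .node 5476616 0 (.node 1903248 0 (.node 12880401 1 (.node 2512448 0 (.node 4744776 1 .nil .nil) (.node 6429441 1 (.node 3216208 0 .nil .nil) .nil)) .nil) (.node 2605066 1 (.node 493953 0 (.node 3610628 0 .nil (.node 252432 1 (.node 4900873 1 (.node 11163650 1 .nil .nil) .nil) .nil)) (.node 705094 1 (.node 4563017 0 (.node 8796800 0 .nil (.node 3322370 1 .nil .nil)) .nil) .nil)) .nil)) (.node 8999616 1 (.node 4253780 0 (.node 3811457 1 (.node 15274244 0 (.node 5262104 0 .nil .nil) (.node 9721936 1 (.node 797449 1 .nil .nil) .nil)) .nil) (.node 13148440 1 (.node 13911680 0 .nil (.node 11731203 1 (.node 381252 1 (.node 762504 1 .nil .nil) .nil) .nil)) .nil)) .nil)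

/-- The spanning tree `treeB1`. -/
def treeB1 : OTree := .node 11575377 0 (.node 9204992 0 (.node 13811730 0 (.node 902657 0 treeB1_0 .nil) (.node 10028808 1 treeB1_1 .nil)) (.node 1454401 1 (.node 10170384 0 treeB1_3 (.node 1405448 1 treeB1_2 .nil)) .nil)) (.node 5842956 1 (.node 15207048 0 (.node 6308804 0 treeB1_4 treeB1_5) (.node 11831426 1 (.node 3031301 0 treeB1_7 (.node 396116 1 treeB1_6 .nil)) .nil)) .nil)

/-- Part of `treeB2`. -/
def treeB2_0 : OTree := .node 4593028 0 (.node 1245726 0 (.node 4505735 1 (.node 430605 0 .nil .nil) .nil) (.node 2180760 1 (.node 4752467 1 (.node 4470275 0 .nil (.node 10630149 1 (.node 1070536 1 (.node 861210 1 .nil .nil) .nil) .nil)) .nil) .nil)) (.node 8524371 1 (.node 95313 0 (.node 8436754 0 (.node 1182989 1 (.node 351362 1 (.node 2263063 0 .nil .nil) .nil) .nil) (.node 1618953 1 (.node 13373586 0 .nil .nil) .nil)) (.node 4223245 1 (.node 9474712 0 (.node 804052 0 (.node 4367374 0 (.node 3294342 1 .nil .nil) .nil) .nil) (.node 3739786 1 (.node 8683614 1 (.node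 418953 0 .nil .nil) .nil) .nil)) .nil)) .nil)

/-- Part of `treeB2`. -/
def treeB2_1 : OTree := .node 5511305 0 (.node 2757268 0 (.node 4261212 0 (.node 1060490 0 (.node 11010247 0 .nil (.node 5508118 1 (.node 2363013 1 .nil .nil) .nil)) (.node 2204803 1 (.node 8657159 0 .nil (.node 1217620 1 .nil .nil)) .nil)) (.node 12599513 1 .nil .nil)) (.node 2365978 1 (.node 2229713 0 .nil (.node 4196943 1 .nil .nil)) .nil)) (.node 8622214 1 (.node 346141 0 (.node 2268296 0 (.node 2425238 0 (.node 99029 1 .nil .nil) (.node 150618 1 .nil .nil)) (.node 563843 1 (.node 12720156 1 .nil .nil) .nil)) (.node 180636 1 (.node 1410188 0 (.node 919694 0 .nil .nil) (.node 737427 1 .nil .nil)) .nil)) .nil)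

/-- Part of `treeB2`. -/
def treeB2_2 : OTree := .node 8966165 0 (.node 4510744 0 (.node 427666 0 (.node 4343317 1 (.node 104010 0 .nil (.node 6837377 1 (.node 11015256 1 .nil .nil) .nil)) .nil) (.node 2754059 1 (.node 4264387 0 (.node 1063445 0 .nil .nil) (.node 12604486 1 (.node 2631052 1 .nil .nil) .nil)) .nil)) .nil) (.node 1839388 1 (.node 5899416 0 (.node 4785798 0 (.node 14714004 1 .nil .nil) (.node 10765331 1 (.node 185603 0 (.node 1413139 0 .nil .nil) .nil) .nil)) (.node 8716939 1 (.node 153797 0 (.node 2207772 0 (.node 8654232 0 .nil (.node 1212619 1 .nil .nil)) .nil) (.node 4231958 1 (.node 1312345 0 .nil (.node 6488205 1 (.node 72588 0 .nil .nil) .nil)) .nil)) .nil)) .nil)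

/-- Part of `treeB2`. -/
def treeB2_3 : OTree := .node 8521420 0 (.node 90318 0 (.node 1613974 1 (.node 13370381 0 (.node 4346506 0 (.node 6832158 1 .nil .nil) .nil) (.node 9830549 1 (.node 742412 0 (.node 4294810 0 .nil .nil) (.node 283537 1 .nil .nil)) .nil)) .nil) (.node 4220306 1 (.node 9471495 0 (.node 806987 0 (.node 4370577 0 (.node 3297305 1 .nil .nil) .nil) .nil) (.node 3736597 1 (.node 8688833 1 (.node 421910 0 (.node 8619033 0 .nil (.node 1589901 1 .nil .nil)) .nil) .nil) .nil)) .nil)) (.node 7340691 1 (.node 530245 0 (.node 5255258 0 (.node 8922769 0 (.node 13636881 1 (.node 1594898 0 .nil (.node 2430217 1 .nil .nil)) .nil) .nil) .nil) (.node 6557781 1 (.node 145176 0 (.node 9503954 0 (.node 551943 0 (.node 9968772 1 .nil .nil) .nil) (.node 5325835 1 .nil .nil)) (.node 2110153 1 (.node 8401364 0 (.node 1122713 1 .nil .nil) .nil) .nil)) .nil)) .nil)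

/-- Part of `treeB2`. -/
def treeB2_4 : OTree := .node 5329044 0 (.node 560668 0 (.node 6554826 0 (.node 140167 0 (.node 9506893 0 (.node 555160 0 (.node 9963547 1 .nil .nil) .nil) .nil) (.node 2106966 1 (.node 8398155 0 (.node 1127686 1 .nil .nil) (.node 5252293 1 (.node 8925710 0 (.node 13631886 1 .nil .nil) .nil) .nil)) .nil)) (.node 12717187 1 (.node 2120980 1 (.node 593097 1 (.node 6305926 0 (.node 10486557 0 .nil (.node 3147996 1 (.node 272595 1 .nil .nil) .nil)) .nil) .nil) .nil) .nil)) (.node 2916505 1 treeB2_0 .nil)) (.node 8474906 1 (.node 622863 1 treeB2_1 .nil) .nil)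

/-- Part of `treeB2`. -/
def treeB2_5 : OTree := .node 1315526 1 (.node 663645 0 (.node 12661896 0 (.node 8407702 0 (.node 4721045 1 (.node 7345676 0 .nil (.node 10557585 1 .nil .nil)) .nil) (.node 3179802 1 (.node 1836419 0 (.node 5902343 0 (.node 4788761 0 (.node 4202192 0 .nil (.node 14716939 1 (.node 2232654 1 .nil .nil) .nil)) .nil) (.node 8721940 1 (.node 4229001 1 .nil .nil) .nil)) (.node 459847 1 (.node 210955 0 (.node 1103886 1 .nil .nil) (.node 63108 1 .nil .nil)) .nil)) .nil)) (.node 9465987 1 treeB2_2 .nil)) (.node 4465308 1 treeB2_3 .nil)) .nil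

/-- Part of `treeB2`. -/
def treeB2_6 : OTree := .node 2921478 0 (.node 4587803 0 (.node 1250945 0 .nil (.node 2183687 1 (.node 39257 0 (.node 3421328 0 (.node 9045270 0 .nil .nil) .nil) (.node 4755660 1 (.node 10625178 1 (.node 8471941 0 (.node 628112 1 .nil .nil) .nil) .nil) .nil)) .nil)) .nil) (.node 924689 1 (.node 6493202 0 (.node 69395 0 (.node 4299781 1 .nil .nil) (.node 2147405 1 (.node 307594 0 .nil (.node 668866 1 (.node 12656663 0 .nil (.node 9462812 1 (.node 8963210 0 .nil .nil) .nil)) .nil)) .nil)) (.node 8412681 1 (.node 2150610 0 (.node 304405 0 (.node 9835530 0 (.node 280334 1 .nil .nil) .nil) .nil) (.node 4726026 1 .nil .nil)) .nil)) .nil)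

/-- The spanning tree `treeB2`. -/
def treeB2 : OTree := .node 3416079 0 (.node 9048457 0 treeB2_4 treeB2_5) (.node 208020 1 (.node 10554382 0 (.node 2115979 0 (.node 3182981 0 (.node 463064 1 (.node 57883 1 .nil .nil) .nil) (.node 596054 1 (.node 6302745 0 (.node 10491778 0 (.node 1065303 0 (.node 864389 1 .nil .nil) .nil) (.node 3152963 1 (.node 2634003 0 .nil (.node 277580 1 .nil .nil)) .nil)) (.node 8431757 1 (.node 10768524 0 (.node 525274 1 .nil .nil) (.node 1186194 1 .nil .nil)) .nil)) .nil)) .nil) (.node 1100945 1 treeB2_6 .nil)) .nil)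


/-- The spanning tree `treeB3`. -/
def treeB3 : OTree := .node 14919680 0 (.node 10832640 0 (.node 4819776 1 (.node 7612992 0 .nil .nil) .nil) (.node 3328320 1 (.node 4038912 0 (.node 9929280 1 .nil .nil) .nil) .nil)) (.node 10021376 1 (.node 15515712 0 (.node 4645632 0 .nil (.node 11150144 1 (.node 13721920 0 .nil .nil) .nil)) (.node 14551296 1 (.node 8077824 0 .nil .nil) .nil)) .nil)

/-- The orbit certificates of configuration B. -/
def certsB : List (ℕ × OTree) := [(5279, treeB0), (31554, treeB1), (36294, treeB2), (1009728, treeB3)]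

/-- Generators fixing configuration O. -/
def gensO : List PP := [(11423476255352225240006227306356755988749048261480496617241748413518637189449165194885764503468509684699092156426, 3006217074700397278537423331739589937532804011291644018136042639464551486644624373276030571785847872302434484226), (5411253114963335128579233756172433948532300090109638025161918961185298212899922668506518536363917616460769394691, 13227074394512145986957817644902744046287140776127448745808417685115944918608113373852367880791248301209088557066)]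


/-- The spanning tree `treeO0`. -/
def treeO0 : OTree := .nil

/-- Part of `treeO1`. -/
def treeO1_0 : OTree := .node 2425238 0 (.node 1212619 0 (.node 2180760 0 (.node 4370577 1 (.node 280334 0 .nil .nil) .nil) (.node 3147996 1 (.node 2162811 0 (.node 1192108 1 (.node 2624690 1 .nil .nil) .nil) (.node 1186194 1 .nil .nil)) .nil)) (.node 421910 1 (.node 140167 0 (.node 4229001 0 (.node 4510744 0 .nil (.node 12599513 1 (.node 861210 0 .nil .nil) .nil)) (.node 6832158 1 .nil .nil)) (.node 2921478 1 (.node 153797 0 .nil .nil) .nil)) .nil)) (.node 9968772 1 (.node 2627629 0 (.node 198058 1 (.node 9474712 0 (.node 4202192 1 .nil .nil) .nil) .nil) (.node 69395 1 (.node 4223245 1 (.node 304405 0 .nil .nil) .nil) .nil)) .nil)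

/-- Part of `treeO1`. -/
def treeO1_1 : OTree := .node 5325835 0 (.node 3421328 0 (.node 2232654 0 (.node 3294342 1 (.node 2110153 0 (.node 5899416 1 (.node 2365978 0 .nil .nil) .nil) (.node 2263063 1 .nil .nil)) .nil) (.node 924689 1 (.node 138790 0 (.node 12587685 0 (.node 13370381 0 (.node 8716939 1 .nil .nil) .nil) (.node 6292775 1 (.node 8688833 0 (.node 1312345 1 .nil .nil) .nil) .nil)) (.node 2430217 1 (.node 1217620 0 (.node 2183687 0 .nil (.node 3152963 1 (.node 1182989 1 .nil .nil) .nil)) (.node 418953 1 (.node 2916505 1 (.node 463064 1 .nil .nil) .nil) .nil)) .nil)) .nil)) .nil) (.node 5255258 1 treeO1_0 .nil)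

/-- Part of `treeO1`. -/
def treeO1_2 : OTree := .node 4721045 0 (.node 298027 0 (.node 8541360 0 (.node 2135601 1 (.node 4330601 1 .nil .nil) .nil) (.node 262637 1 (.node 8619033 0 .nil .nil) .nil)) (.node 8474906 1 (.node 1613974 0 (.node 2115979 0 .nil (.node 596054 1 .nil .nil)) (.node 63108 1 (.node 4752467 1 (.node 351362 0 .nil .nil) .nil) .nil)) .nil)) (.node 4785798 1 (.node 5511305 0 (.node 2491452 0 (.node 2494627 1 (.node 8521420 0 (.node 7340691 1 (.node 6554826 0 .nil .nil) .nil) .nil) .nil) (.node 8654232 1 (.node 283537 1 (.node 4367374 0 .nil .nil) .nil) .nil)) .nil) .nil)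

/-- Part of `treeO1`. -/
def treeO1_3 : OTree := .node 10768524 0 (.node 663645 0 (.node 3739786 1 (.node 208020 1 .nil .nil) .nil) (.node 427666 1 (.node 4346506 0 (.node 4465308 0 (.node 4587803 0 .nil (.node 13373586 1 (.node 8721940 1 .nil .nil) .nil)) .nil) (.node 6557781 1 (.node 459847 0 (.node 1250945 0 .nil .nil) (.node 9835530 1 (.node 2363013 1 .nil .nil) .nil)) .nil)) .nil)) (.node 8391797 1 (.node 8983587 0 (.node 75309 1 (.node 13636881 0 (.node 8412681 1 (.node 4731956 0 (.node 8657159 0 .nil .nil) .nil) .nil) (.node 4726955 1 (.node 8978620 1 .nil .nil) .nil)) .nil) (.node 1053483 1 (.node 14714004 0 (.node 806987 0 .nil (.node 8524371 1 (.node 7345676 1 .nil .nil) .nil)) (.node 4213932 1 (.node 8663097 0 (.node 9045270 0 .nil (.node 792232 1 (.node 12720156 0 .nil (.node 4523185 1 .nil .nil)) .nil)) .nil) .nil)) .nil)) .nil)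

/-- Part of `treeO1`. -/
def treeO1_4 : OTree := .node 1836419 0 (.node 2268296 0 (.node 2229713 1 (.node 104010 0 (.node 5252293 1 (.node 9963547 1 .nil .nil) .nil) (.node 3297305 1 (.node 2106966 0 (.node 5902343 1 .nil .nil) .nil) .nil)) .nil) (.node 346141 1 (.node 1188915 0 (.node 10491778 0 (.node 4343317 1 (.node 4470275 0 (.node 4593028 0 .nil .nil) (.node 14716939 1 .nil .nil)) .nil) .nil) (.node 307594 1 (.node 180636 0 (.node 2150610 1 .nil .nil) (.node 804052 1 (.node 210955 0 (.node 1050548 0 .nil .nil) (.node 1413139 1 .nil .nil)) .nil)) .nil)) .nil)) (.node 8925710 1 treeO1_2 .nil)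

/-- Part of `treeO1`. -/
def treeO1_5 : OTree := .node 555160 0 (.node 628112 1 (.node 1103886 0 (.node 2121909 0 (.node 8398155 0 (.node 1589901 1 (.node 6302745 0 .nil .nil) .nil) (.node 692282 1 (.node 8407702 0 .nil (.node 2168036 1 (.node 9506893 0 .nil .nil) .nil)) .nil)) (.node 36294 1 (.node 1065303 1 (.node 2204803 0 .nil .nil) .nil) .nil)) (.node 95313 1 (.node 1127686 0 (.node 3182981 0 (.node 2147405 0 .nil (.node 150618 1 (.node 78514 0 .nil .nil) .nil)) (.node 551943 1 (.node 15777 0 .nil .nil) .nil)) .nil) .nil)) .nil) (.node 99029 1 treeO1_1 .nil)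

/-- Part of `treeO1`. -/
def treeO1_6 : OTree := .node 1327290 0 (.node 10625178 0 (.node 2757268 1 (.node 4196943 0 (.node 13631886 1 .nil .nil) (.node 6493202 1 (.node 1315526 0 (.node 5508118 1 .nil .nil) .nil) .nil)) .nil) (.node 301236 1 (.node 8536111 0 (.node 8922769 0 (.node 4788761 1 .nil .nil) (.node 2130606 1 (.node 4325622 1 .nil .nil) .nil)) (.node 267634 1 (.node 8622214 0 .nil .nil) .nil)) .nil)) (.node 8401364 1 (.node 622863 0 (.node 1100945 0 (.node 2126890 0 (.node 689317 1 .nil .nil) .nil) (.node 90318 1 .nil .nil)) (.node 1594898 1 (.node 6305926 0 .nil .nil) .nil)) .nil)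

/-- Part of `treeO1`. -/
def treeO1_7 : OTree := .node 8471941 0 (.node 1618953 0 (.node 2120980 0 (.node 185603 1 .nil .nil) (.node 593097 1 (.node 1122713 1 (.node 3179802 0 .nil .nil) .nil) .nil)) (.node 57883 1 (.node 4220306 0 .nil (.node 4755660 1 (.node 9503954 1 .nil .nil) .nil)) .nil)) (.node 1573998 1 (.node 10557585 0 (.node 145176 1 (.node 4231958 0 (.node 4505735 0 .nil (.node 12604486 1 (.node 864389 0 .nil (.node 9471495 1 .nil .nil)) .nil)) (.node 6837377 1 (.node 277580 0 (.node 201013 0 .nil .nil) .nil) .nil)) .nil) (.node 1116327 1 (.node 11535529 0 (.node 11015256 0 .nil .nil) .nil) .nil)) .nil)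

/-- Part of `treeO1`. -/
def treeO1_8 : OTree := .node 2631052 0 (.node 39257 0 (.node 1070536 1 .nil .nil) (.node 737427 1 (.node 1060490 0 (.node 6295992 0 (.node 8683614 0 .nil .nil) .nil) (.node 2207772 1 (.node 668866 1 (.node 72588 0 .nil (.node 3736597 1 .nil .nil)) .nil) .nil)) .nil)) (.node 560668 1 (.node 4216883 0 (.node 8660134 0 (.node 9048457 0 .nil (.node 786999 1 (.node 12717187 0 (.node 10486557 1 .nil .nil) (.node 4526126 1 (.node 9830549 0 .nil .nil) .nil)) .nil)) (.node 8426796 1 (.node 8966165 0 .nil (.node 18147 1 (.node 12661896 0 .nil (.node 5275709 1 (.node 10765331 0 (.node 430605 1 .nil .nil) (.node 8394986 1 .nil .nil)) .nil)) .nil)) .nil)) (.node 4264387 1 (.node 1410188 0 (.node 272595 1 (.node 1839388 1 .nil .nil) .nil) .nil) .nil)) .nil)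

/-- Part of `treeO1`. -/
def treeO1_9 : OTree := .node 542009 0 (.node 8436754 0 (.node 530245 1 (.node 4299781 0 (.node 1332261 0 (.node 10630149 0 (.node 2754059 1 (.node 6488205 1 .nil .nil) .nil) .nil) .nil) .nil) .nil) (.node 118953 1 (.node 9462812 0 (.node 2634003 0 (.node 742412 1 (.node 1063445 0 (.node 4726026 1 .nil .nil) .nil) .nil) (.node 563843 1 (.node 4261212 1 .nil .nil) .nil)) (.node 42232 1 (.node 1577201 1 (.node 10554382 0 .nil (.node 1121336 1 (.node 11538486 0 (.node 11010247 0 (.node 1245726 1 .nil .nil) .nil) .nil) .nil)) .nil) .nil)) .nil)) (.node 525274 1 (.node 4294810 0 treeO1_6 (.node 5329044 1 (.node 3416079 0 (.node 919694 1 (.node 133817 0 (.node 12584506 0 .nil .nil) .nil) .nil) .nil) .nil)) .nil)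

/-- The spanning tree `treeO1`. -/
def treeO1 : OTree := .node 8421811 0 (.node 8963210 0 treeO1_5 (.node 21116 1 (.node 12656663 0 treeO1_4 (.node 5280930 1 treeO1_3 .nil)) .nil)) (.node 545190 1 (.node 8431757 0 treeO1_9 (.node 115766 1 (.node 9465987 0 treeO1_8 (.node 45159 1 treeO1_7 .nil)) .nil)) .nil)

/-- Part of `treeO2`. -/
def treeO2_0 : OTree := .node 3216208 0 (.node 7438406 0 (.node 9578566 1 (.node 3672838 1 (.node 6326497 0 .nil (.node 4409606 1 .nil .nil)) .nil) .nil) (.node 5405696 1 (.node 2372388 0 (.node 5129250 1 (.node 8796800 0 (.node 7079696 1 .nil .nil) .nil) .nil) .nil) .nil)) (.node 3811457 1 (.node 2101096 0 (.node 5390753 1 (.node 10790408 0 (.node 4870480 0 .nil (.node 5112513 1 (.node 4656648 0 (.node 5640752 0 (.node 15073798 0 .nil .nil) .nil) .nil) .nil)) .nil) .nil) (.node 2820376 1 (.node 1084018 0 (.node 14762146 0 (.node 8561204 1 .nil .nil) .nil) .nil) .nil)) .nil)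

/-- Part of `treeO2`. -/
def treeO2_1 : OTree := .node 6979970 0 (.node 10698836 1 (.node 3322370 1 (.node 6949956 1 (.node 334433 0 .nil .nil) .nil) .nil) .nil) (.node 5003780 1 (.node 4597797 0 (.node 8783649 0 (.node 13276672 0 (.node 14747201 1 .nil .nil) (.node 6570537 1 (.node 13009064 1 (.node 10748656 1 .nil .nil) .nil) .nil)) (.node 11272490 1 (.node 9078992 0 .nil (.node 475812 1 (.node 13771273 0 .nil .nil) .nil)) .nil)) (.node 12944642 1 (.node 2019456 0 (.node 2255372 0 (.node 4203377 0 .nil .nil) (.node 2460752 1 (.node 1454401 1 .nil .nil) .nil)) (.node 8675909 1 (.node 6062602 1 (.node 6703248 0 (.node 10916112 1 .nil .nil) .nil) .nil) .nil)) .nil)) .nil)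

/-- Part of `treeO2`. -/
def treeO2_2 : OTree := .node 2605066 0 (.node 1204944 0 (.node 6365962 0 (.node 13262980 1 (.node 797449 0 .nil .nil) .nil) (.node 7903248 1 (.node 2377830 0 (.node 8593633 0 (.node 10028808 0 .nil (.node 3678776 1 (.node 14682450 0 .nil (.node 4921504 1 .nil .nil)) .nil)) .nil) .nil) .nil)) (.node 2531524 1 (.node 213833 0 (.node 5350928 0 (.node 7622914 0 .nil (.node 13121601 1 (.node 855332 0 .nil .nil) .nil)) .nil) (.node 4063314 1 (.node 3610628 1 (.node 3277413 0 (.node 7473194 1 .nil .nil) (.node 2501890 1 (.node 3031301 1 .nil .nil) .nil)) .nil) .nil)) .nil)) (.node 9721936 1 (.node 2826278 0 (.node 9440193 0 (.node 6915112 0 .nil (.node 5262104 1 (.node 6594610 0 (.node 9310308 1 .nil .nil) (.node 12638592 1 .nil .nil)) .nil)) .nil) (.node 1351424 1 (.node 6475812 0 (.node 10650722 1 (.node 8999616 0 .nil .nil) .nil) (.node 4476225 1 (.node 504864 0 (.node 9589508 0 .nil .nil) .nil) .nil)) .nil)) .nil)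

/-- Part of `treeO2`. -/
def treeO2_3 : OTree := .node 4415544 0 (.node 9708306 0 treeO2_1 (.node 11055264 1 (.node 8931660 0 (.node 1164162 1 (.node 7397512 0 (.node 2384216 0 (.node 237906 0 .nil .nil) .nil) (.node 4253780 1 (.node 352547 0 (.node 843820 1 (.node 884962 1 .nil .nil) .nil) (.node 9998658 1 (.node 2738308 0 .nil .nil) .nil)) .nil)) .nil) (.node 722544 1 (.node 13703682 0 (.node 8126628 0 (.node 10881097 0 (.node 3539848 1 .nil .nil) (.node 8849458 1 .nil .nil)) (.node 12594948 1 (.node 13124355 1 (.node 5024896 0 .nil .nil) .nil) .nil)) .nil) .nil)) .nil)) (.node 5538256 1 treeO2_2 .nil)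

/-- Part of `treeO2`. -/
def treeO2_4 : OTree := .node 9543722 0 (.node 12075408 0 (.node 2664522 0 .nil .nil) (.node 535268 1 (.node 12650793 0 (.node 10257456 0 .nil (.node 8414120 1 (.node 13148440 0 .nil .nil) .nil)) (.node 5833010 1 (.node 11831426 0 (.node 396116 1 .nil .nil) .nil) .nil)) .nil)) (.node 1110320 1 (.node 10543366 0 (.node 582081 0 .nil (.node 705094 1 (.node 4287105 0 (.node 5514536 0 .nil .nil) .nil) .nil)) (.node 580704 1 (.node 8484900 0 (.node 567074 1 .nil .nil) (.node 1148257 1 (.node 11654144 0 (.node 3698756 0 (.node 2173253 0 .nil .nil) (.node 175681 1 .nil .nil)) (.node 1075305 1 (.node 10560816 0 .nil .nil) .nil)) .nil)) .nil)) .nil)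

/-- Part of `treeO2`. -/
def treeO2_5 : OTree := .node 5286147 0 (.node 2409888 0 (.node 442481 1 (.node 8611330 0 (.node 6857221 1 (.node 13303882 1 .nil .nil) .nil) (.node 3444840 1 (.node 1445088 1 (.node 10687016 0 .nil .nil) .nil) .nil)) .nil) .nil) (.node 4845570 1 (.node 1337732 0 (.node 2269481 0 (.node 8439632 0 (.node 5296705 1 (.node 6644740 0 .nil .nil) .nil) (.node 2769128 1 .nil .nil)) (.node 837906 1 (.node 190626 0 .nil .nil) .nil)) (.node 9020484 1 (.node 1661185 0 (.node 126216 1 .nil .nil) (.node 1647171 1 (.node 7409024 0 (.node 8546577 1 .nil .nil) (.node 5842956 1 (.node 3410225 0 (.node 416040 1 .nil .nil) .nil) .nil)) .nil)) .nil)) .nil)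

/-- Part of `treeO2`. -/
def treeO2_6 : OTree := .node 4768432 0 (.node 12871690 0 (.node 9208708 1 (.node 4538962 1 (.node 5709954 0 (.node 11282452 1 .nil .nil) .nil) .nil) .nil) (.node 12685424 1 (.node 10305542 0 (.node 371206 1 (.node 4989254 1 .nil .nil) .nil) (.node 9451104 1 (.node 15274244 0 .nil (.node 5770785 1 (.node 14949408 0 .nil .nil) .nil)) .nil)) .nil)) (.node 6308804 1 (.node 4563017 0 (.node 10232008 1 (.node 1903248 1 .nil .nil) .nil) (.node 13811730 1 (.node 2908802 0 (.node 5210132 1 .nil .nil) (.node 10525252 1 (.node 4800613 0 (.node 9776129 0 .nil .nil) (.node 5375810 1 .nil .nil)) .nil)) .nil)) .nil)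

/-- Part of `treeO2`. -/
def treeO2_7 : OTree := .node 12222476 0 (.node 2640465 0 (.node 5476616 1 (.node 3457556 0 (.node 6447171 0 .nil (.node 4626498 1 .nil .nil)) .nil) .nil) (.node 2296514 1 (.node 5309160 0 (.node 16056344 0 .nil .nil) (.node 7479572 1 (.node 2392899 0 (.node 4441280 0 .nil .nil) (.node 11163650 1 (.node 2328324 1 .nil .nil) .nil)) .nil)) .nil)) (.node 290352 1 (.node 12726562 0 (.node 11028004 1 (.node 4424227 1 (.node 13911680 0 (.node 7221256 0 .nil .nil) .nil) .nil) .nil) (.node 5017889 1 (.node 8834052 0 (.node 684577 0 .nil .nil) (.node 8733800 1 (.node 10170384 0 .nil (.node 1352353 1 (.node 4982904 1 .nil .nil) .nil)) .nil)) .nil)) .nil)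

/-- Part of `treeO2`. -/
def treeO2_8 : OTree := .node 15747077 0 (.node 2892897 0 (.node 8592704 0 (.node 3172097 1 (.node 4900873 1 .nil .nil) .nil) (.node 2031657 1 (.node 11669008 0 (.node 6820450 0 (.node 12912836 0 .nil (.node 13829156 1 (.node 12325377 0 .nil .nil) .nil)) (.node 6429441 1 (.node 4490852 0 (.node 13062145 0 .nil (.node 13893731 1 (.node 11469952 0 .nil (.node 9701932 1 .nil .nil)) .nil)) (.node 14828808 1 .nil .nil)) .nil)) .nil) .nil)) (.node 8555274 1 treeO2_6 .nil)) (.node 4271202 1 (.node 9769376 0 treeO2_7 (.node 9969957 1 (.node 11046145 0 .nil (.node 608810 1 (.node 13641904 0 .nil .nil) .nil)) .nil)) .nil)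

/-- Part of `treeO2`. -/
def treeO2_9 : OTree := .node 10513600 0 (.node 1737489 1 (.node 6344194 0 (.node 4485344 0 (.node 8855820 0 .nil .nil) (.node 12747077 1 (.node 11551306 1 (.node 6889680 0 .nil (.node 5409412 1 .nil .nil)) .nil) .nil)) (.node 6379592 1 (.node 1384564 0 (.node 11731203 0 .nil (.node 1849378 1 (.node 10619300 0 .nil .nil) .nil)) (.node 9610624 1 (.node 2675464 0 .nil .nil) .nil)) .nil)) .nil) (.node 231532 1 (.node 9519665 0 (.node 16262146 0 (.node 9112069 1 .nil .nil) .nil) (.node 3154402 1 (.node 10584520 0 (.node 1687640 0 (.node 3237906 0 .nil (.node 1161408 1 (.node 1584464 1 .nil .nil) .nil)) .nil) (.node 1722420 1 (.node 10496547 0 (.node 4850476 1 (.node 12880401 0 .nil .nil) .nil) (.node 2201890 1 .nil .nil)) .nil)) .nil)) .nil)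

/-- Part of `treeO2`. -/
def treeO2_10 : OTree := .node 5268006 0 (.node 14950785 0 (.node 9323032 1 (.node 4860434 0 (.node 4459426 0 .nil .nil) (.node 6656640 1 (.node 5652556 0 (.node 2564625 0 .nil .nil) (.node 12985424 1 (.node 987906 0 .nil .nil) .nil)) .nil)) .nil) (.node 13142054 1 (.node 9193633 0 (.node 361272 1 .nil .nil) (.node 8455014 1 .nil .nil)) .nil)) (.node 6337856 1 (.node 381252 0 (.node 1302533 0 .nil .nil) (.node 10110017 1 (.node 2702848 0 (.node 5249380 0 (.node 10846245 0 (.node 402026 1 (.node 12780432 0 .nil .nil) .nil) .nil) (.node 4924673 1 (.node 11100169 1 (.node 762504 1 .nil .nil) .nil) .nil)) (.node 3246601 1 (.node 4336072 1 .nil .nil) .nil)) .nil)) .nil)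

/-- Part of `treeO2`. -/
def treeO2_11 : OTree := .node 6406417 0 (.node 1369154 0 (.node 2322816 0 .nil (.node 1869893 1 (.node 2313249 0 .nil (.node 1378634 1 (.node 3375280 0 .nil .nil) .nil)) .nil)) (.node 8581192 1 (.node 3704512 1 (.node 5441617 1 (.node 3474978 0 (.node 15864000 0 .nil .nil) .nil) .nil) .nil) .nil)) (.node 5785794 1 (.node 2435240 0 (.node 9568632 0 (.node 11108882 0 (.node 4403780 1 (.node 5571333 0 (.node 7767041 0 (.node 2512448 0 .nil .nil) .nil) .nil) .nil) (.node 3168928 1 (.node 14688364 0 (.node 9240913 0 (.node 1805314 0 .nil (.node 1405448 1 .nil .nil)) (.node 10093218 1 (.node 15207048 0 .nil (.node 6359604 1 .nil .nil)) .nil)) (.node 4361520 1 .nil .nil)) .nil)) (.node 926128 1 (.node 2969648 1 .nil .nil) .nil)) (.node 9537812 1 .nil .nil)) .nil)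

/-- Part of `treeO2`. -/
def treeO2_12 : OTree := .node 11548936 0 (.node 2654580 0 (.node 1265762 1 (.node 11608708 0 (.node 7864649 0 (.node 9652360 1 (.node 2141072 1 .nil .nil) .nil) .nil) (.node 3189796 1 (.node 10506593 0 .nil (.node 657763 1 (.node 8490656 0 (.node 14176296 0 .nil .nil) (.node 3227948 1 (.node 11575377 0 (.node 1710664 1 .nil .nil) .nil) .nil)) .nil)) .nil)) .nil) (.node 675712 1 (.node 4241960 0 (.node 12861748 0 (.node 9347075 0 (.node 2949708 1 .nil .nil) (.node 8704546 1 .nil .nil)) (.node 13108704 1 (.node 9279496 0 (.node 337856 1 .nil .nil) .nil) .nil)) .nil) .nil)) (.node 632881 1 (.node 9456930 0 (.node 52005 1 (.node 12641313 0 (.node 8946281 1 .nil .nil) (.node 4243818 1 (.node 8773776 0 (.node 1728778 0 .nil (.node 832080 1 (.node 6100032 1 .nil .nil) .nil)) (.node 9486564 1 .nil .nil)) .nil)) .nil) (.node 602472 1 .nil .nil)) .nil)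

/-- Part of `treeO2`. -/
def treeO2_13 : OTree := .node 157028 0 (.node 8499969 0 (.node 4744776 1 (.node 4536592 0 (.node 1474854 0 (.node 10666625 0 (.node 6455896 1 .nil .nil) .nil) (.node 9204992 1 (.node 702724 0 (.node 2704706 1 .nil .nil) (.node 902657 1 .nil .nil)) .nil)) (.node 14254209 1 (.node 3951624 0 (.node 2242672 0 (.node 3806496 1 .nil .nil) (.node 493953 1 (.node 1230376 0 (.node 14709264 0 .nil .nil) .nil) .nil)) (.node 8464984 1 (.node 5780352 1 (.node 13192208 1 .nil .nil) .nil) .nil)) .nil)) .nil) (.node 3719203 1 treeO2_9 .nil)) (.node 951624 1 (.node 252432 0 treeO2_10 (.node 3489985 1 (.node 1484824 1 (.node 2245426 0 (.node 12624578 0 (.node 5063048 0 .nil (.node 14156372 1 (.node 7145475 0 .nil .nil) .nil)) .nil) (.node 2890176 1 (.node 1525008 1 .nil .nil) .nil)) .nil) .nil)) .nil)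

/-- Part of `treeO2`. -/
def treeO2_14 : OTree := .node 9748745 0 (.node 2810896 0 (.node 2854977 1 (.node 1134148 0 (.node 7417889 0 (.node 11797828 0 (.node 1460739 1 (.node 6432416 0 (.node 12849992 0 .nil (.node 15335473 1 (.node 9178690 0 .nil .nil) .nil)) (.node 6588684 1 (.node 8798658 1 .nil .nil) .nil)) .nil) (.node 9055272 1 (.node 8919856 0 (.node 4282144 1 (.node 13938692 0 .nil .nil) .nil) (.node 2687905 1 (.node 13667400 0 .nil .nil) .nil)) .nil)) .nil) (.node 3351624 1 treeO2_0 .nil)) .nil) (.node 314056 1 treeO2_3 .nil)) (.node 8937586 1 (.node 8989058 0 (.node 1608104 0 (.node 10537016 0 (.node 168928 1 (.node 12698124 0 (.node 6053905 0 .nil .nil) (.node 7357552 1 (.node 10825794 0 (.node 1769924 0 .nil (.node 1975812 1 .nil .nil)) (.node 9607201 1 .nil .nil)) .nil)) .nil) (.node 84464 1 treeO2_4 .nil)) (.node 615188 1 treeO2_5 .nil)) (.node 1675812 1 treeO2_8 .nil)) .nil)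

/-- The spanning tree `treeO2`. -/
def treeO2 : OTree := .node 4301220 0 treeO2_14 (.node 5817604 1 (.node 2422785 0 treeO2_13 (.node 8505411 1 (.node 1664160 0 treeO2_12 (.node 1090380 1 treeO2_11 .nil)) .nil)) .nil)


/-- The spanning tree `treeO3`. -/
def treeO3 : OTree := .node 1256224 0 (.node 15762208 0 (.node 15515712 0 (.node 9929280 1 (.node 8077824 0 .nil (.node 7612992 1 (.node 6750560 0 .nil .nil) .nil)) .nil) (.node 12733024 1 (.node 13443616 0 (.node 14551296 0 (.node 3050016 0 .nil .nil) .nil) .nil) .nil)) (.node 6842656 1 (.node 8694112 0 (.node 1852256 1 (.node 14919680 0 (.node 11150144 1 .nil .nil) (.node 5621792 1 (.node 11952160 0 .nil .nil) .nil)) .nil) (.node 9158944 1 (.node 10021376 0 (.node 4819776 1 .nil .nil) .nil) .nil)) .nil)) (.node 4038912 1 (.node 3328320 0 (.node 2220640 0 (.node 13721920 0 .nil (.node 5939296 1 (.node 10832640 0 (.node 4645632 1 .nil .nil) (.node 12126304 1 .nil .nil)) .nil)) .nil) .nil) .nil)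

/-- The orbit certificates of configuration O. -/
def certsO : List (ℕ × OTree) := [(5279, treeO0), (10558, treeO1), (31554, treeO2), (1009728, treeO3)]

/-- Generators fixing configuration C. -/
def gensC : List PP := [(13227129436939103102276852634935197743417211816666731371627709868824430371515561362884102024548689021125043224576, 10221068323644234892986512106318465927085370166509482607150041177270661794097548046222782185249909130114881355776), (3607554063264123514641165990459446680617804609238987868064831342149742518710756160395401222693841656994007678976, 7816114850451353600360609509335913186358863955875580213164421493340422122933773545447008619050823919586445950976)]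


/-- The spanning tree `treeC0`. -/
def treeC0 : OTree := .nil

/-- Part of `treeC1`. -/
def treeC1_0 : OTree := .node 4196943 0 (.node 2204803 0 (.node 806987 0 (.node 69395 0 (.node 563843 1 .nil .nil) (.node 4587803 1 (.node 9471495 0 .nil .nil) .nil)) (.node 8983587 1 .nil .nil)) (.node 2263063 1 (.node 11010247 0 (.node 459847 1 (.node 8716939 0 .nil .nil) .nil) (.node 1116327 1 (.node 2494627 0 .nil .nil) .nil)) .nil)) (.node 4264387 1 (.node 1413139 0 (.node 786999 0 (.node 140167 0 .nil (.node 4505735 1 .nil .nil)) (.node 4726955 1 .nil .nil)) (.node 2754059 1 (.node 8398155 0 (.node 5325835 0 (.node 298027 0 .nil (.node 2634003 1 .nil .nil)) (.node 8524371 1 (.node 12656663 0 .nil .nil) .nil)) .nil) .nil)) .nil)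

/-- The spanning tree `treeC1`. -/
def treeC1 : OTree := .node 210955 0 (.node 10765331 0 treeC1_0 (.node 9963547 1 (.node 6292775 0 (.node 1212619 0 .nil (.node 2183687 1 (.node 622863 1 (.node 1836419 0 (.node 4470275 1 .nil .nil) .nil) .nil) .nil)) (.node 272595 1 (.node 12717187 1 (.node 14716939 0 (.node 4752467 0 .nil (.node 2162811 1 (.node 737427 1 .nil .nil) .nil)) (.node 3152963 1 .nil .nil)) .nil) .nil)) .nil)) (.node 185603 1 (.node 1053483 1 (.node 1188915 0 (.node 8536111 0 (.node 1065303 1 .nil .nil) (.node 9465987 1 (.node 4216883 0 .nil .nil) .nil)) (.node 57883 1 (.node 551943 0 (.node 2115979 0 .nil (.node 8657159 1 (.node 7340691 0 (.node 45159 0 .nil .nil) .nil) .nil)) (.node 8421811 1 (.node 5902343 0 (.node 3416079 1 .nil .nil) .nil) .nil)) .nil)) .nil) .nil)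


/-- The spanning tree `treeC2`. -/
def treeC2 : OTree := .node 1460739 0 (.node 10496547 0 (.node 6447171 0 (.node 11731203 1 (.node 13893731 0 .nil .nil) .nil) (.node 8505411 1 (.node 7145475 0 .nil (.node 657763 1 .nil .nil)) .nil)) (.node 5286147 1 (.node 3719203 0 .nil .nil) .nil)) (.node 13124355 1 (.node 2392899 1 (.node 1647171 0 (.node 9347075 1 .nil .nil) (.node 4424227 1 .nil .nil)) .nil) .nil)

/-- The orbit certificates of configuration C. -/
def certsC : List (ℕ × OTree) := [(5279, treeC0), (18147, treeC1), (352547, treeC2)]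

/-- Generators fixing configuration D. -/
def gensD : List PP := [(8417360097810566728623693423078246707256028537492958950351457664379671013789765339332145236017210564425996763136, 11423412038370867978824093790353286259458679616829297639557085767227154749200910710883441027606748724809041575936), (9018559477297269878624136495172652617390839771175382801870389163518875097109586238373313308363573176465633837056, 10221004106242946852190479721677505293983282298778670018266119820913722911390529485748170824837589375259821408256)]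


/-- The spanning tree `treeD0`. -/
def treeD0 : OTree := .nil

/-- Part of `treeD1`. -/
def treeD1_0 : OTree := .node 459847 0 (.node 210955 0 (.node 6488205 0 (.node 12717187 1 (.node 8619033 1 .nil .nil) .nil) (.node 12656663 1 (.node 3297305 0 .nil (.node 4370577 1 (.node 3736597 0 (.node 8524371 0 (.node 8966165 1 .nil .nil) .nil) .nil) .nil)) .nil)) (.node 12599513 1 (.node 185603 1 (.node 10486557 1 .nil .nil) .nil) .nil)) (.node 13370381 1 (.node 9465987 0 (.node 2147405 0 (.node 563843 0 .nil (.node 2115979 1 (.node 4229001 0 .nil (.node 69395 1 (.node 4788761 1 (.node 9830549 0 .nil (.node 5902343 1 .nil .nil)) .nil) .nil)) .nil)) .nil) (.node 1212619 1 (.node 593097 0 (.node 5325835 1 (.node 4587803 1 .nil .nil) .nil) (.node 10765331 1 (.node 57883 0 (.node 2916505 0 .nil .nil) .nil) .nil)) .nil)) .nil)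

/-- Part of `treeD1`. -/
def treeD1_1 : OTree := .node 11010247 1 (.node 8412681 0 (.node 4505735 0 (.node 1618953 0 (.node 3416079 1 (.node 272595 1 (.node 95313 1 .nil .nil) .nil) .nil) (.node 2229713 1 .nil .nil)) (.node 622863 1 (.node 9048457 0 (.node 8471941 0 .nil .nil) (.node 7340691 1 (.node 1312345 0 .nil (.node 924689 1 (.node 9506893 1 .nil .nil) .nil)) .nil)) .nil)) (.node 1100945 1 (.node 4752467 0 (.node 9963547 0 (.node 1413139 1 (.node 663645 0 (.node 10557585 0 .nil .nil) .nil) .nil) .nil) (.node 2430217 1 (.node 140167 0 (.node 8922769 1 .nil .nil) .nil) .nil)) .nil)) .nil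

/-- Part of `treeD1`. -/
def treeD1_2 : OTree := .node 13636881 0 (.node 1065303 0 (.node 283537 1 (.node 304405 0 (.node 2634003 0 (.node 1063445 1 (.node 6557781 0 (.node 153797 1 (.node 4299781 0 .nil .nil) .nil) .nil) .nil) (.node 2110153 1 (.node 2363013 0 (.node 4470275 0 .nil .nil) (.node 551943 1 (.node 14716939 0 (.node 2263063 1 .nil .nil) (.node 1122713 1 .nil .nil)) .nil)) .nil)) (.node 530245 1 (.node 8657159 0 (.node 4223245 0 (.node 3182981 0 .nil .nil) (.node 99029 1 .nil .nil)) (.node 1589901 1 (.node 8688833 0 .nil (.node 1836419 1 .nil .nil)) .nil)) .nil)) .nil) .nil) (.node 1250945 1 treeD1_0 .nil)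

/-- Part of `treeD1`. -/
def treeD1_3 : OTree := .node 2183687 1 (.node 430605 0 (.node 864389 0 (.node 10630149 0 (.node 8431757 1 (.node 6837377 0 (.node 9471495 0 (.node 806987 0 .nil .nil) (.node 1182989 1 (.node 8716939 1 .nil .nil) .nil)) (.node 2204803 1 (.node 2754059 0 .nil (.node 6302745 1 .nil .nil)) .nil)) .nil) (.node 5252293 1 (.node 3152963 0 (.node 4196943 0 (.node 5511305 0 .nil (.node 737427 1 .nil .nil)) (.node 346141 1 (.node 4264387 1 (.node 4343317 1 .nil .nil) .nil) .nil)) (.node 418953 1 (.node 8398155 1 .nil .nil) .nil)) .nil)) treeD1_1) .nil) .nil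

/-- The spanning tree `treeD1`. -/
def treeD1 : OTree := .node 4721045 0 treeD1_2 treeD1_3

/-- Part of `treeD2`. -/
def treeD2_0 : OTree := .node 10666625 0 (.node 902657 0 .nil (.node 11046145 1 (.node 13124355 0 (.node 9748745 0 (.node 582081 0 .nil (.node 2392899 1 .nil .nil)) (.node 1737489 1 (.node 12325377 1 (.node 8675909 0 .nil (.node 1869893 1 .nil .nil)) .nil) .nil)) (.node 3246601 1 (.node 5112513 0 (.node 9776129 0 .nil (.node 10110017 1 (.node 8505411 0 .nil .nil) .nil)) .nil) .nil)) .nil)) (.node 5286147 1 (.node 7864649 0 (.node 9440193 0 .nil (.node 1460739 1 (.node 4563017 0 (.node 3811457 0 .nil (.node 6447171 1 .nil .nil)) (.node 9240913 1 (.node 8546577 0 (.node 6406417 0 .nil (.node 8499969 1 .nil .nil)) (.node 5296705 1 (.node 3031301 1 .nil .nil) .nil)) .nil)) .nil)) (.node 2564625 1 (.node 13121601 1 (.node 15747077 0 .nil .nil) .nil) .nil)) .nil)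

/-- Part of `treeD2`. -/
def treeD2_1 : OTree := .node 13771273 0 (.node 3489985 0 (.node 4476225 1 (.node 213833 1 (.node 493953 0 (.node 4924673 0 (.node 11731203 0 .nil .nil) (.node 14747201 1 (.node 4900873 1 .nil .nil) .nil)) .nil) .nil) .nil) (.node 9347075 1 (.node 11575377 1 (.node 2640465 0 (.node 12880401 0 (.node 6053905 0 .nil .nil) .nil) (.node 2422785 1 (.node 6857221 0 .nil (.node 2173253 1 (.node 6429441 0 .nil (.node 4287105 1 (.node 7767041 0 (.node 10881097 1 .nil .nil) .nil) .nil)) .nil)) .nil)) .nil) .nil)) (.node 5441617 1 (.node 13062145 1 (.node 1302533 0 (.node 2854977 0 (.node 9112069 0 (.node 14254209 1 .nil .nil) .nil) (.node 14950785 1 (.node 3172097 0 (.node 797449 1 (.node 1647171 1 .nil .nil) .nil) .nil) .nil)) (.node 12747077 1 (.node 1661185 0 (.node 5571333 1 (.node 1454401 0 .nil .nil) .nil) .nil) .nil)) .nil) .nil)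

/-- The spanning tree `treeD2`. -/
def treeD2 : OTree := .node 7145475 0 treeD2_1 (.node 11100169 1 treeD2_0 .nil)

/-- The orbit certificates of configuration D. -/
def certsD : List (ℕ × OTree) := [(5279, treeD0), (39257, treeD1), (175681, treeD2)]

/-- Generators fixing configuration E. -/
def gensE : List PP := [(3006308813805147554925269523587628688754584149947988526210260131848470973099118814800406394078374870202473578496, 12024602244423007042629256572484878565831046622733050875394056028427492494948842206516002031976035870357745565696), (6012470840479189549681002398022582934906237593531375487470267650577832992908122461345191906225300307583534104576, 12024739853080084397437549894827888288734759883678706852031013880910285730206428211088897798498780597755210366976)]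

/-- Part of `treeE0`. -/
def treeE0_0 : OTree := .node 871367 0 (.node 6622169 0 (.node 4811099 0 (.node 2697887 0 (.node 293551 1 (.node 1372381 1 .nil .nil) .nil) (.node 4578059 1 .nil .nil)) (.node 4277183 1 (.node 5354127 1 (.node 12988623 1 (.node 6042221 0 .nil .nil) .nil) .nil) .nil)) .nil) (.node 4583989 1 (.node 954839 0 (.node 7803467 0 (.node 9991001 0 (.node 10564015 0 (.node 1389803 1 .nil .nil) (.node 8752973 1 (.node 470393 0 .nil (.node 2319647 1 (.node 1402519 0 (.node 10793623 1 .nil .nil) .nil) .nil)) .nil)) (.node 13111679 1 (.node 2994731 0 .nil (.node 5324617 1 (.node 15024463 1 .nil .nil) .nil)) .nil)) (.node 736209 1 (.node 7411999 0 (.node 9271827 0 (.node 2104311 0 .nil .nil) (.node 12677739 1 (.node 570301 0 .nil (.node 5543247 1 .nil .nil)) .nil)) .nil) .nil)) .nil) .nil)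

/-- Part of `treeE0`. -/
def treeE0_1 : OTree := .node 4274429 1 (.node 5027871 0 (.node 3029575 0 (.node 3431245 0 (.node 8747465 0 (.node 378331 1 .nil .nil) .nil) (.node 817525 1 (.node 2463951 0 .nil (.node 1436497 1 (.node 8897303 1 .nil .nil) .nil)) .nil)) (.node 4618841 1 (.node 1587663 0 (.node 15022605 0 (.node 4482175 1 .nil .nil) .nil) (.node 5030749 1 (.node 3088843 0 .nil .nil) .nil)) .nil)) (.node 5530571 1 (.node 12947869 1 (.node 5189747 0 (.node 3707487 0 (.node 8534893 1 (.node 1926477 1 .nil .nil) .nil) .nil) (.node 4400859 1 (.node 5777183 0 .nil .nil) .nil)) .nil) .nil)) .nil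

/-- Part of `treeE0`. -/
def treeE0_2 : OTree := .node 14496011 0 (.node 11088501 0 (.node 1322855 1 .nil .nil) (.node 12917851 1 (.node 540283 0 (.node 2146063 0 (.node 491269 0 (.node 1383893 0 .nil .nil) (.node 2584685 1 (.node 1876347 1 .nil .nil) .nil)) .nil) (.node 6313819 1 (.node 620427 0 (.node 6371221 0 (.node 5068055 0 .nil .nil) .nil) (.node 6394733 1 .nil .nil)) .nil)) .nil)) (.node 13181901 1 (.node 7151933 0 (.node 3006551 0 (.node 2507487 0 .nil .nil) (.node 5581371 1 (.node 8956759 0 (.node 2558767 0 (.node 1667135 1 .nil .nil) .nil) (.node 13914655 1 (.node 9188323 0 .nil (.node 12629597 1 (.node 6694733 1 .nil .nil) .nil)) .nil)) .nil)) .nil) .nil)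

/-- Part of `treeE0`. -/
def treeE0_3 : OTree := .node 7082895 0 (.node 7172929 0 (.node 2707933 0 (.node 109547 1 (.node 4434717 0 (.node 2042135 0 (.node 11864663 0 .nil .nil) .nil) (.node 1528207 1 (.node 13972177 0 (.node 12847063 1 .nil .nil) .nil) .nil)) .nil) (.node 4557175 1 (.node 1018459 0 (.node 678687 1 (.node 3488643 0 .nil .nil) .nil) (.node 5468947 1 (.node 10032023 0 .nil (.node 13472327 1 (.node 4341079 1 .nil .nil) .nil)) .nil)) .nil)) treeE0_1) (.node 4504517 1 (.node 5183821 0 (.node 4012121 0 (.node 10516575 0 (.node 325481 1 (.node 243149 0 .nil (.node 3637597 1 .nil .nil)) .nil) (.node 8670075 1 (.node 1169181 1 (.node 8861075 0 (.node 2954963 1 .nil .nil) (.node 10723919 1 (.node 931119 1 .nil .nil) .nil)) .nil) .nil)) .nil) .nil) .nil)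

/-- Part of `treeE0`. -/
def treeE0_4 : OTree := .node 2887007 0 (.node 2453067 0 (.node 2412863 1 (.node 520899 0 .nil (.node 1290873 1 .nil .nil)) .nil) (.node 2194233 1 (.node 129431 0 .nil (.node 1426031 1 (.node 8823769 0 (.node 5448047 0 (.node 10330653 0 (.node 10887543 0 .nil .nil) .nil) (.node 984989 1 .nil .nil)) (.node 9613599 1 (.node 9908775 0 (.node 9737077 0 (.node 8884587 0 .nil .nil) (.node 10237015 1 (.node 10764113 1 (.node 2443125 1 .nil .nil) .nil) .nil)) (.node 9385545 1 (.node 3159421 0 (.node 8778767 0 (.node 407285 0 .nil .nil) .nil) .nil) .nil)) .nil)) .nil)) .nil)) (.node 6581015 1 treeE0_0 .nil)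

/-- Part of `treeE0`. -/
def treeE0_5 : OTree := .node 6647963 1 (.node 4747991 0 treeE0_3 (.node 4494075 1 (.node 4895563 0 (.node 3879693 0 (.node 11890965 0 (.node 8737015 0 (.node 1095635 1 (.node 10949573 1 (.node 599543 1 (.node 6653471 0 .nil .nil) .nil) .nil) .nil) (.node 8758899 1 (.node 3544855 1 .nil .nil) .nil)) (.node 9250927 1 (.node 2402941 0 (.node 1467197 1 (.node 9806279 0 (.node 13042301 0 .nil .nil) .nil) .nil) (.node 1342747 1 (.node 8470215 0 (.node 2389447 1 .nil .nil) .nil) .nil)) .nil)) .nil) (.node 5379037 1 treeE0_2 .nil)) .nil)) .nil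

/-- Part of `treeE0`. -/
def treeE0_6 : OTree := .node 4799271 0 (.node 2988821 0 (.node 223863 1 (.node 1346463 0 (.node 13052739 0 .nil (.node 8614557 1 (.node 829135 1 .nil .nil) .nil)) (.node 1897223 1 .nil .nil)) .nil) (.node 5601351 1 (.node 12906835 1 (.node 725743 0 (.node 7648025 0 .nil .nil) (.node 4691793 1 (.node 1774939 0 .nil .nil) .nil)) .nil) .nil)) (.node 4544205 1 (.node 4994521 0 (.node 6894671 0 (.node 2913821 0 .nil .nil) .nil) (.node 6332895 1 (.node 5202447 0 (.node 3941333 0 (.node 8727477 1 .nil .nil) .nil) (.node 4666281 1 (.node 5878101 0 .nil .nil) .nil)) .nil)) .nil)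

/-- Part of `treeE0`. -/
def treeE0_7 : OTree := .node 2646895 0 (.node 1423661 1 (.node 8894549 0 (.node 1448063 0 (.node 9747019 0 (.node 8803677 1 (.node 2729817 1 .nil .nil) .nil) .nil) (.node 943955 1 (.node 3213263 0 (.node 12936985 0 .nil .nil) .nil) .nil)) (.node 9920603 1 (.node 9446143 0 .nil (.node 9213723 1 (.node 2307939 0 .nil .nil) .nil)) .nil)) .nil) (.node 4464445 1 (.node 900419 0 (.node 2301533 0 .nil (.node 2578771 1 (.node 1137371 0 .nil (.node 643955 1 (.node 2331547 0 .nil .nil) .nil)) .nil)) (.node 7430749 1 (.node 9200031 0 (.node 6628071 0 (.node 5517751 1 .nil .nil) (.node 376473 1 .nil .nil)) (.node 12886831 1 (.node 1024869 0 .nil (.node 5714973 1 .nil .nil)) .nil)) .nil)) .nil)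

/-- Part of `treeE0`. -/
def treeE0_8 : OTree := .node 7013207 0 (.node 4014875 0 (.node 10576851 0 (.node 366503 1 (.node 3354839 1 .nil .nil) .nil) (.node 8493631 1 (.node 441139 0 (.node 1284935 0 (.node 9902873 0 .nil (.node 9138503 1 .nil .nil)) (.node 2052693 1 (.node 11801051 0 .nil .nil) .nil)) (.node 1209935 1 (.node 9713549 0 (.node 10822877 1 .nil .nil) (.node 11317581 1 .nil .nil)) .nil)) .nil)) .nil) (.node 4659863 1 (.node 6036307 0 (.node 11082571 0 (.node 89455 1 (.node 3273035 1 .nil .nil) .nil) (.node 12671829 1 (.node 858555 0 (.node 6404691 0 (.node 4608871 1 .nil .nil) .nil) (.node 4319047 1 (.node 6795527 1 .nil .nil) .nil)) .nil)) .nil) .nil)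

/-- Part of `treeE0`. -/
def treeE0_9 : OTree := .node 15741767 0 (.node 9261869 0 (.node 2470385 0 (.node 4444255 0 .nil (.node 1508339 1 .nil .nil)) (.node 1158239 1 (.node 8793631 0 .nil (.node 10908427 1 (.node 1143781 0 .nil .nil) .nil)) .nil)) (.node 12924261 1 (.node 889981 0 (.node 2536539 0 (.node 3019641 1 (.node 1641341 1 (.node 10856731 0 .nil .nil) .nil) .nil) (.node 3287899 1 (.node 9530127 0 .nil .nil) .nil)) (.node 7677267 1 (.node 8996447 0 (.node 2369467 0 (.node 3478205 1 .nil .nil) .nil) (.node 15012659 1 (.node 5314167 1 .nil .nil) .nil)) .nil)) .nil)) (.node 9181917 1 (.node 6568299 0 (.node 653901 0 (.node 2505117 0 (.node 877305 1 .nil .nil) (.node 452943 1 (.node 1518285 0 (.node 13904221 0 .nil .nil) (.node 1044761 1 .nil .nil)) .nil)) (.node 5591417 1 (.node 9023707 0 (.node 6435391 0 .nil .nil) (.node 13730651 1 (.node 9118523 0 (.node 3253047 0 .nil (.node 1908239 1 .nil .nil)) (.node 12785423 1 (.node 1914673 0 .nil .nil) .nil)) .nil)) .nil)) .nil) .nil)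

/-- Part of `treeE0`. -/
def treeE0_10 : OTree := .node 10355535 0 (.node 11871081 0 (.node 8511869 0 (.node 1550091 1 (.node 9643861 0 (.node 11347719 1 .nil .nil) (.node 11472927 1 .nil .nil)) .nil) (.node 9766207 1 (.node 11613723 1 (.node 8419127 0 (.node 3520069 1 .nil .nil) (.node 10753647 1 .nil .nil)) .nil) .nil)) (.node 8994077 1 (.node 2440247 0 (.node 319063 0 (.node 401355 0 .nil (.node 2290517 1 .nil .nil)) (.node 3437171 1 (.node 8442831 0 .nil .nil) .nil)) .nil) .nil)) (.node 13513493 1 (.node 4002151 0 (.node 10867289 0 (.node 160251 0 (.node 1938377 1 (.node 14889305 0 (.node 5048171 1 .nil .nil) (.node 8587743 1 .nil .nil)) .nil) (.node 165759 1 .nil .nil)) (.node 9517427 1 (.node 9787203 1 (.node 8460281 0 (.node 4306235 0 (.node 767511 0 .nil .nil) .nil) (.node 10589527 1 (.node 480827 0 .nil .nil) .nil)) .nil) .nil)) .nil) .nil)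

/-- The spanning tree `treeE0`. -/
def treeE0 : OTree := .node 4533647 0 (.node 5058133 0 treeE0_4 treeE0_5) (.node 2483085 1 (.node 4678101 0 (.node 6095071 0 (.node 15475291 0 treeE0_7 (.node 12598171 1 treeE0_6 .nil)) (.node 5088147 1 treeE0_8 .nil)) (.node 499903 1 (.node 5677655 0 treeE0_10 (.node 1979035 1 treeE0_9 .nil)) .nil)) .nil)

/-- Part of `treeE1`. -/
def treeE1_0 : OTree := .node 9561801 0 (.node 12723645 0 (.node 6136871 0 (.node 16136211 1 (.node 9984615 0 .nil (.node 13391473 1 (.node 2659819 0 .nil .nil) .nil)) .nil) .nil) (.node 10913167 1 (.node 5727841 0 .nil (.node 2831545 1 (.node 3934955 1 (.node 14740297 0 (.node 747949 0 (.node 7710869 0 .nil .nil) .nil) (.node 9460157 1 .nil .nil)) .nil) .nil)) .nil)) (.node 12161337 1 (.node 10743859 0 (.node 1233591 0 (.node 14062467 0 (.node 14357345 0 .nil (.node 13309141 1 .nil .nil)) (.node 10138309 1 (.node 16126253 0 .nil (.node 9317829 1 (.node 2977169 1 .nil .nil) .nil)) .nil)) (.node 2004579 1 (.node 11704137 0 (.node 11208045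 1 .nil .nil) (.node 12196181 1 (.node 11884587 0 (.node 9491579 1 .nil .nil) .nil) .nil)) .nil)) (.node 9637483 1 (.node 9482041 0 (.node 12011021 1 (.node 9725425 0 (.node 12682479 0 .nil .nil) .nil) .nil) (.node 12080399 1 .nil .nil)) .nil)) .nil)

/-- Part of `treeE1`. -/
def treeE1_1 : OTree := .node 5473687 0 (.node 14616083 0 (.node 12060531 0 (.node 11607845 1 .nil .nil) (.node 15212055 1 (.node 2907939 0 (.node 3266677 1 (.node 8837275 0 .nil .nil) .nil) (.node 6323813 1 (.node 843149 0 .nil (.node 7659877 1 .nil .nil)) .nil)) .nil)) (.node 15413891 1 (.node 7885621 0 (.node 11391363 0 (.node 236787 1 .nil .nil) .nil) (.node 4988135 1 (.node 7118409 0 (.node 2784585 0 .nil .nil) (.node 7371217 1 (.node 13195407 0 (.node 7092913 0 .nil .nil) .nil) .nil)) .nil)) .nil)) (.node 4162183 1 (.node 16139089 0 (.node 10043883 0 (.node 14787257 0 .nil .nil) (.node 13207349 1 (.node 7548423 1 (.node 15495207 1 (.node 2937573 0 .nil .nil) .nil) .nil) .nil)) (.node 9058487 1 (.node 1867457 1 (.node 14687693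 0 (.node 6383081 1 .nil .nil) (.node 10799573 1 .nil .nil)) .nil) .nil)) .nil)

/-- Part of `treeE1`. -/
def treeE1_2 : OTree := .node 4239031 0 (.node 5148423 0 (.node 4132673 0 (.node 11094327 1 (.node 2476723 0 (.node 4377555 0 (.node 5966731 0 .nil .nil) .nil) .nil) .nil) (.node 7043093 1 (.node 3954839 0 (.node 14965443 0 .nil (.node 8452849 1 .nil .nil)) (.node 5040739 1 (.node 2788301 0 (.node 7825673 0 .nil .nil) (.node 5691669 1 (.node 13361745 1 .nil .nil) .nil)) .nil)) .nil)) (.node 7762565 1 (.node 14438853 0 (.node 15536361 0 (.node 6877305 0 .nil (.node 5246459 1 (.node 15815561 1 .nil .nil) .nil)) .nil) .nil) .nil)) (.node 3462795 1 (.node 12744641 0 (.node 5838253 0 (.node 15804619 1 (.node 13134397 0 .nil (.node 12866987 1 .nil .nil)) .nil) (.node 7177669 1 (.node 6498739 1 (.node 5884439 0 (.node 11406227 0 .nil .nil) .nil) .nil) .nil)) (.node 10653949 1 (.node 5697579 0 .nil (.node 1714153 1 (.node 12388749 1 .nil .nil) .nil)) .nil)) .nil)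

/-- Part of `treeE1`. -/
def treeE1_3 : OTree := .node 6275395 0 (.node 12255961 0 (.node 15753531 0 .nil .nil) (.node 13342995 1 (.node 3873331 0 (.node 11590419 0 (.node 8640101 1 (.node 3843399 1 .nil .nil) .nil) .nil) (.node 4939331 1 (.node 6871367 1 (.node 4454753 1 .nil .nil) .nil) .nil)) .nil)) (.node 5972661 1 (.node 16548119 0 (.node 11485795 0 (.node 1613111 1 (.node 10984963 0 .nil (.node 11762241 1 (.node 9225575 1 .nil .nil) .nil)) .nil) (.node 12795441 1 (.node 8144455 1 (.node 11290569 0 .nil .nil) .nil) .nil)) (.node 14428807 1 (.node 15469413 0 (.node 3000681 0 (.node 2353369 0 .nil (.node 1296699 1 .nil .nil)) .nil) .nil) .nil)) .nil)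

/-- Part of `treeE1`. -/
def treeE1_4 : OTree := .node 12777991 0 (.node 1973157 0 (.node 10053845 1 (.node 8712067 1 (.node 4394981 0 (.node 6130969 0 .nil .nil) .nil) .nil) .nil) (.node 5174341 1 (.node 4068557 0 (.node 16020553 0 (.node 8942829 0 (.node 6599853 0 .nil .nil) .nil) .nil) (.node 7252305 1 (.node 3885135 0 (.node 11823769 0 .nil (.node 8976683 1 (.node 1563721 1 .nil .nil) .nil)) (.node 5196593 1 .nil .nil)) .nil)) .nil)) (.node 9851625 1 (.node 9995741 1 (.node 15148075 0 (.node 1631861 0 .nil (.node 8131643 1 (.node 11073091 0 (.node 2530661 1 (.node 3891569 1 .nil .nil) .nil) .nil) .nil)) (.node 10694537 1 (.node 5336373 0 (.node 9276567 0 (.node 2260627 1 .nil .nil) (.node 16114179 1 (.node 13014071 1 .nil .nil) .nil)) .nil) .nil)) .nil) .nil)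

/-- Part of `treeE1`. -/
def treeE1_5 : OTree := .node 10273491 0 (.node 14812139 0 (.node 5890857 0 (.node 11248021 0 .nil (.node 14125071 1 .nil .nil)) .nil) (.node 8560533 1 (.node 5709091 0 (.node 16339027 1 .nil .nil) (.node 2844357 1 (.node 7619997 0 (.node 13460675 0 .nil .nil) (.node 2927015 1 (.node 1538225 1 .nil .nil) .nil)) .nil)) .nil)) (.node 14201395 1 (.node 11178791 0 (.node 3658529 0 (.node 9687505 0 (.node 13832379 0 .nil .nil) (.node 10190967 1 (.node 11960891 0 (.node 9626467 0 .nil .nil) (.node 10108675 1 .nil .nil)) .nil)) (.node 1784933 1 (.node 11836445 0 (.node 10643065 1 (.node 1107375 0 (.node 13084293 0 .nil .nil) .nil) .nil) (.node 12347715 1 (.node 10570477 0 (.node 4516281 0 .nil .nil) (.node 8772913 1 .nil .nil)) .nil)) .nil)) .nil) .nil)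

/-- Part of `treeE1`. -/
def treeE1_6 : OTree := .node 2966703 0 (.node 6612689 0 (.node 4867535 0 (.node 8201865 0 (.node 14944447 1 (.node 5273273 1 (.node 13153671 0 (.node 6765761 1 .nil .nil) (.node 16024269 1 .nil .nil)) .nil) .nil) (.node 6928777 1 (.node 4671723 1 (.node 5810905 0 .nil (.node 5820827 1 (.node 12819145 1 .nil .nil) .nil)) .nil) .nil)) (.node 6718389 1 treeE1_3 .nil)) (.node 3193019 1 treeE1_4 .nil)) (.node 6663969 1 (.node 773461 0 (.node 2878211 1 (.node 1038375 1 (.node 3578577 0 (.node 9061365 1 (.node 7700907 0 .nil .nil) .nil) (.node 1767507 1 (.node 11672207 0 .nil (.node 9362241 1 (.node 3348969 0 (.node 13760537 0 .nil .nil) .nil) .nil)) .nil)) .nil) .nil) (.node 7815223 1 treeE1_5 .nil)) .nil)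

/-- Part of `treeE1`. -/
def treeE1_7 : OTree := .node 6171723 0 (.node 12070477 0 (.node 10775853 0 (.node 388325 0 (.node 3596691 1 .nil .nil) (.node 3531833 1 .nil .nil)) .nil) (.node 15489305 1 (.node 2717923 0 (.node 6347421 0 .nil (.node 1366499 1 .nil .nil)) (.node 4312697 1 (.node 699803 0 (.node 3103369 1 .nil .nil) (.node 7521039 1 (.node 10445697 0 .nil .nil) .nil)) .nil)) .nil)) (.node 6972313 1 (.node 7954823 0 (.node 12957859 1 (.node 4889205 0 (.node 4102411 0 .nil (.node 5925701 1 .nil .nil)) (.node 5657811 1 (.node 14161611 0 .nil .nil) .nil)) .nil) (.node 5081773 1 (.node 5400735 1 .nil .nil) .nil)) .nil)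

/-- Part of `treeE1`. -/
def treeE1_8 : OTree := .node 14230649 0 (.node 11052095 0 (.node 2549287 0 (.node 1492933 0 .nil .nil) (.node 3554857 1 (.node 9502021 0 (.node 8854701 0 (.node 5553265 0 .nil .nil) .nil) (.node 12337277 1 .nil .nil)) .nil)) (.node 15994635 1 (.node 9006945 0 (.node 2198973 0 (.node 3367595 1 (.node 13689749 0 .nil .nil) .nil) (.node 3525895 1 (.node 8867537 0 .nil .nil) .nil)) (.node 14767165 1 (.node 849075 0 .nil (.node 7382635 1 .nil .nil)) .nil)) .nil)) (.node 15271323 1 (.node 6907443 0 (.node 2672535 0 (.node 6768515 0 (.node 5851089 0 (.node 14781319 1 .nil .nil) (.node 6918327 1 (.node 5389027 1 .nil .nil) .nil)) (.node 2341541 1 (.node 1990887 1 .nil .nil) .nil)) (.node 7641639 1 (.node 13791349 1 (.node 10260655 0 (.node 9583833 1 .nil .nil) (.node 14460737 1 .nil .nil)) .nil) .nil)) (.node 6364843 1 (.node 4783889 0 (.node 2825607 0 (.node 7691793 0 .nil .nil) (.node 6801989 1 (.node 1984985 0 (.node 9030553 1 .nil .nil) (.node 4907319 1 .nil .nil)) .nil)) .nil)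 .nil)) .nil)

/-- Part of `treeE1`. -/
def treeE1_9 : OTree := .node 3797649 0 (.node 14832023 0 (.node 6116003 0 (.node 15242193 0 .nil (.node 13670615 1 (.node 13507115 0 (.node 5790813 1 (.node 11287691 0 .nil .nil) .nil) .nil) .nil)) (.node 4830945 1 (.node 7735751 1 (.node 13201841 1 .nil .nil) .nil) .nil)) (.node 8817383 1 (.node 5671785 0 (.node 10201417 0 (.node 9391371 1 .nil .nil) .nil) (.node 1734037 1 (.node 16061575 0 .nil (.node 11381441 1 (.node 6441341 0 (.node 1960075 0 .nil .nil) .nil) .nil)) .nil)) .nil)) (.node 5871723 1 (.node 13785419 1 (.node 10042025 0 (.node 14727477 0 .nil .nil) (.node 13227337 1 .nil .nil)) .nil) .nil)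

/-- Part of `treeE1`. -/
def treeE1_10 : OTree := .node 13175539 0 (.node 6851387 0 (.node 5462573 1 (.node 10271121 0 .nil (.node 14213199 1 (.node 11412141 0 .nil .nil) .nil)) .nil) (.node 5267335 1 (.node 13442945 0 (.node 6888817 0 (.node 2743323 0 .nil (.node 7424867 1 .nil .nil)) (.node 6376663 1 .nil .nil)) (.node 14807237 1 (.node 5132477 0 (.node 8171715 0 (.node 15356493 0 .nil .nil) .nil) (.node 4629987 1 .nil .nil)) .nil)) .nil)) (.node 12703379 1 (.node 4855731 0 (.node 7968515 0 (.node 11228945 0 (.node 2723431 1 .nil .nil) (.node 14882919 1 .nil .nil)) (.node 7936709 1 (.node 12610023 1 .nil .nil) .nil)) (.node 6461127 1 .nil .nil)) .nil)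

/-- Part of `treeE1`. -/
def treeE1_11 : OTree := .node 13431433 0 (.node 6959589 0 (.node 8245261 0 (.node 12757115 1 (.node 1747503 0 (.node 11971333 0 (.node 9914725 0 (.node 10085651 1 .nil .nil) .nil) (.node 10385421 1 (.node 11811045 0 .nil (.node 9235545 1 (.node 2543385 1 (.node 2867773 1 .nil .nil) .nil) .nil)) .nil)) (.node 6182665 1 .nil .nil)) .nil) (.node 6105569 1 (.node 15304797 0 (.node 4353835 1 (.node 1683333 0 (.node 15142165 0 (.node 1920115 0 .nil .nil) .nil) .nil) .nil) .nil) .nil)) (.node 4623581 1 treeE1_7 .nil)) (.node 13677033 1 (.node 13348909 0 (.node 4108341 0 (.node 11980871 0 (.node 9090417 1 .nil .nil) (.node 10365553 1 (.node 11569519 0 (.node 8907305 0 (.node 1223157 0 .nil .nil) (.node 9663785 1 (.node 9548981 0 .nil .nil) .nil)) (.node 10243861 1 (.node 10612245 1 (.node 413111 0 (.node 5607107 0 .nil .nil) .nil) .nil) .nil)) .nil)) .nil) (.node 14091721 1 treeE1_8 .nil)) .nil)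

/-- Part of `treeE1`. -/
def treeE1_12 : OTree := .node 14224711 0 (.node 11341369 0 (.node 2157939 0 (.node 249487 0 (.node 2814095 1 (.node 964841 1 .nil .nil) .nil) .nil) (.node 3165759 1 .nil .nil)) (.node 14777603 1 (.node 614069 0 (.node 6593939 0 (.node 6509297 1 .nil .nil) .nil) (.node 6673507 1 (.node 710361 0 (.node 7484811 0 .nil .nil) (.node 7508339 1 (.node 10211851 0 (.node 9083983 1 .nil .nil) .nil) .nil)) .nil)) .nil)) (.node 15549077 1 (.node 7094771 0 (.node 6931147 0 (.node 4364719 1 (.node 6273537 0 (.node 13518935 1 .nil .nil) (.node 5992649 1 (.node 16265373 0 .nil (.node 13404619 1 .nil .nil)) .nil)) .nil) (.node 5348273 1 (.node 13845191 1 (.node 14418873 0 (.node 15311203 0 .nil (.node 13700765 1 .nil .nil)) .nil) .nil) .nil)) .nil) .nil)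

/-- Part of `treeE1`. -/
def treeE1_13 : OTree := .node 5797219 0 (.node 11114125 0 (.node 6714673 0 (.node 1692871 0 .nil (.node 8225393 1 (.node 11190619 0 .nil .nil) .nil)) (.node 2239727 1 (.node 5565965 0 (.node 15130653 1 (.node 5154361 1 .nil .nil) .nil) (.node 3961257 1 (.node 9799929 1 .nil .nil) .nil)) .nil)) (.node 16095553 1 (.node 9132153 0 (.node 1625931 1 (.node 10737933 1 .nil .nil) .nil) (.node 12797299 1 .nil .nil)) .nil)) (.node 6817533 1 (.node 7136523 0 (.node 6789177 1 .nil .nil) (.node 7351213 1 (.node 13494533 0 (.node 3082485 0 (.node 7653467 0 (.node 9071307 0 .nil .nil) (.node 1600435 1 .nil .nil)) (.node 4713491 1 (.node 1707735 0 .nil (.node 7262739 1 (.node 3822531 0 .nil .nil) .nil)) .nil)) .nil) .nil)) .nil)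

/-- Part of `treeE1`. -/
def treeE1_14 : OTree := .node 3966765 0 (.node 11003201 0 (.node 1262845 0 (.node 12100491 1 (.node 14902053 0 .nil .nil) .nil) (.node 3114291 1 (.node 3393107 0 (.node 9586587 0 .nil .nil) .nil) .nil)) (.node 11741245 1 (.node 9758775 0 .nil (.node 10249771 1 (.node 10528741 0 (.node 4703533 0 (.node 8101915 1 .nil .nil) .nil) .nil) .nil)) .nil)) (.node 8142085 1 (.node 11361349 0 (.node 2383097 0 (.node 4259019 0 (.node 4865677 0 (.node 7104717 1 .nil .nil) (.node 6738377 1 (.node 4948473 1 .nil .nil) .nil)) (.node 3195897 1 (.node 9667501 1 (.node 14131505 0 .nil (.node 10167439 1 (.node 16000565 0 .nil .nil) .nil)) .nil) .nil)) .nil) (.node 15034481 1 (.node 575743 0 (.node 6728331 0 .nil (.node 1244041 1 (.node 13842821 0 .nil (.node 9421005 1 (.node 7741689 0 .nil .nil) .nil)) .nil)) (.node 5556019 1 (.node 9144259 0 (.node 7538489 0 .nil .nil) .nil) .nil)) .nil)) .nil)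

/-- Part of `treeE1`. -/
def treeE1_15 : OTree := .node 11937475 0 (.node 13649773 0 (.node 15836429 1 (.node 9397301 0 (.node 3976723 1 .nil .nil) .nil) .nil) (.node 11277749 1 (.node 3223281 1 (.node 11813799 1 (.node 12960737 0 .nil .nil) .nil) .nil) .nil)) (.node 11188761 1 (.node 3307815 0 (.node 9820805 0 (.node 12982769 0 .nil (.node 8578263 1 (.node 5637807 0 .nil .nil) .nil)) (.node 10350689 1 (.node 9866579 1 .nil .nil) .nil)) (.node 937581 1 (.node 3452361 0 (.node 12807245 0 (.node 1846461 0 .nil .nil) .nil) (.node 3729693 1 (.node 10971271 0 (.node 5524213 0 .nil .nil) .nil) .nil)) .nil)) .nil)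

/-- Part of `treeE1`. -/
def treeE1_16 : OTree := .node 13659731 0 (.node 8916911 0 (.node 3243149 1 (.node 12876949 0 .nil (.node 10805483 1 (.node 4383469 0 (.node 6201741 0 .nil .nil) (.node 1480121 1 .nil .nil)) .nil)) .nil) (.node 14997253 1 (.node 1005025 0 (.node 7443673 0 (.node 13267995 0 (.node 3684007 0 .nil .nil) .nil) (.node 3770835 1 (.node 14895643 0 .nil (.node 8608675 1 .nil .nil)) .nil)) .nil) .nil)) (.node 11031227 1 (.node 6353827 0 (.node 4969349 0 (.node 8327569 0 .nil (.node 4958407 1 (.node 8260125 0 .nil (.node 5142915 1 (.node 5101777 1 .nil .nil) .nil)) .nil)) (.node 5738725 1 (.node 14585945 0 (.node 13242201 1 (.node 3747115 0 .nil (.node 6901517 1 .nil .nil)) .nil) (.node 14295507 1 (.node 16319023 0 (.node 13646895 1 .nil .nil) .nil) .nil)) .nil)) (.node 1089261 1 (.node 13024521 0 (.node 7291993 1 (.node 3695835 0 (.node 14706319 0 (.node 5007269 0 .nil .nil) (.node 10787753 1 .nil .nil)) .nil) .nil) .nil) .nil)) .nil)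

/-- Part of `treeE1`. -/
def treeE1_17 : OTree := .node 13410549 0 (.node 7241839 0 (.node 5912889 1 (.node 12171271 0 (.node 10902069 0 .nil (.node 8813667 1 (.node 3986769 1 (.node 10704075 0 .nil (.node 10718065 1 .nil .nil)) .nil) .nil)) (.node 14502473 1 (.node 11020793 0 (.node 6416431 0 (.node 977557 0 .nil .nil) .nil) (.node 12635423 1 (.node 994979 0 (.node 7376725 0 .nil .nil) (.node 6551049 1 .nil .nil)) .nil)) .nil)) .nil) (.node 5648273 1 treeE1_12 .nil)) (.node 13935771 1 (.node 13248103 0 treeE1_14 (.node 15079065 1 treeE1_13 .nil)) .nil)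

/-- Part of `treeE1`. -/
def treeE1_18 : OTree := .node 3614117 0 (.node 14009429 0 (.node 9307387 0 (.node 3678105 1 .nil .nil) (.node 14853907 1 (.node 1787687 0 (.node 11896721 0 (.node 10684087 1 .nil .nil) .nil) (.node 7280165 1 .nil .nil)) .nil)) (.node 12394675 1 (.node 14729847 0 (.node 967595 0 (.node 1808541 1 .nil .nil) (.node 5420837 1 (.node 10458373 0 (.node 11998321 0 .nil (.node 11218003 1 .nil .nil)) (.node 16719941 1 (.node 13380915 1 .nil .nil) .nil)) .nil)) (.node 9707187 1 (.node 12623715 0 (.node 761641 0 (.node 3390737 0 .nil .nil) .nil) .nil) .nil)) .nil)) (.node 3124237 1 (.node 3566677 0 (.node 9718991 0 (.node 12857065 0 (.node 4762989 0 .nil .nil) .nil) (.node 11330353 1 (.node 2343399 0 (.node 5751449 0 .nil .nil) .nil) .nil)) (.node 3041339 1 (.node 3205831 0 (.node 12995469 0 (.node 4842653 1 (.node 7218327 0 .nil .nil) .nil) .nil) (.node 1890873 1 (.node 10664387 0 .nil .nil) .nil)) .nil)) .nil)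

/-- Part of `treeE1`. -/
def treeE1_19 : OTree := .node 13740645 0 (.node 14050567 1 (.node 10290917 0 (.node 14976377 0 (.node 779371 0 (.node 3319453 0 .nil .nil) .nil) .nil) (.node 15578129 1 (.node 2774135 0 (.node 3717985 1 .nil .nil) (.node 6688371 1 .nil .nil)) .nil)) .nil) (.node 10310809 1 (.node 14693619 0 (.node 4773423 0 (.node 3061633 0 (.node 7558469 0 .nil .nil) (.node 7518285 1 (.node 13525353 1 .nil .nil) .nil)) (.node 7608289 1 (.node 15794677 1 (.node 13484091 0 (.node 5414427 1 .nil .nil) (.node 13707171 1 .nil .nil)) .nil) .nil)) (.node 10522331 1 (.node 2250669 1 (.node 5633409 0 .nil (.node 3776749 1 .nil .nil)) .nil) .nil)) .nil)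

/-- Part of `treeE1`. -/
def treeE1_20 : OTree := .node 12768057 0 (.node 1814947 0 (.node 15962645 0 .nil (.node 10426563 1 (.node 15735417 0 .nil (.node 8936915 1 (.node 2219969 1 (.node 4414873 0 .nil .nil) .nil) .nil)) .nil)) (.node 5998157 1 (.node 12461337 0 (.node 11625575 0 (.node 8701629 0 .nil (.node 11842851 1 .nil .nil)) .nil) (.node 15345935 1 (.node 4024869 0 .nil (.node 5078057 1 .nil .nil)) .nil)) .nil)) (.node 9573863 1 (.node 13997609 0 (.node 15860831 1 (.node 15218473 1 (.node 7670893 1 .nil .nil) .nil) .nil) (.node 12137921 1 (.node 10816995 1 (.node 3233203 1 .nil .nil) .nil) .nil)) .nil)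

/-- Part of `treeE1`. -/
def treeE1_21 : OTree := .node 11637475 0 treeE1_20 (.node 10067537 1 (.node 10624315 0 (.node 1179171 0 .nil (.node 3757673 1 (.node 10548633 0 (.node 4420775 0 (.node 6067861 0 (.node 14822101 1 .nil .nil) .nil) (.node 2590441 1 (.node 5432665 0 (.node 15696649 1 .nil .nil) (.node 3801535 1 .nil .nil)) .nil)) .nil) .nil)) (.node 10637127 1 (.node 1396649 0 (.node 12692945 0 (.node 4918335 0 .nil .nil) (.node 11649183 1 (.node 13001395 0 (.node 5800935 0 .nil .nil) (.node 8566443 1 .nil .nil)) .nil)) (.node 2749733 1 (.node 2610325 0 (.node 2794227 1 .nil .nil) .nil) .nil)) .nil)) .nil)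

/-- Part of `treeE1`. -/
def treeE1_22 : OTree := .node 4249077 0 (.node 5215371 0 (.node 8009297 0 .nil (.node 6953179 1 (.node 7895563 0 (.node 11041669 0 .nil (.node 12900461 1 .nil .nil)) (.node 4742121 1 .nil .nil)) .nil)) (.node 7578561 1 (.node 14369053 0 (.node 13217291 1 .nil .nil) (.node 13566375 1 (.node 5848211 1 .nil .nil) .nil)) .nil)) (.node 3441911 1 (.node 13026891 0 (.node 6984989 1 (.node 7023209 1 (.node 6048047 1 .nil .nil) .nil) .nil) (.node 11678641 1 (.node 13750567 0 (.node 9409201 0 .nil (.node 13874243 1 (.node 10098237 0 .nil (.node 15603011 1 .nil .nil)) .nil)) .nil) .nil)) .nil)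

/-- Part of `treeE1`. -/
def treeE1_23 : OTree := .node 11546007 0 (.node 12930599 0 (.node 7402519 1 (.node 9328263 0 (.node 2669781 1 (.node 6708239 0 .nil .nil) .nil) (.node 15118945 1 (.node 1757549 0 (.node 12038281 0 .nil .nil) (.node 6161781 1 (.node 12420171 0 .nil (.node 16329489 1 .nil .nil)) .nil)) .nil)) .nil) (.node 10843809 1 treeE1_22 .nil)) (.node 11323919 1 (.node 2517985 0 (.node 5360077 0 (.node 13576345 0 (.node 7874679 0 (.node 13925153 1 (.node 9017829 0 (.node 1273283 1 .nil .nil) .nil) .nil) (.node 5000859 1 (.node 6827971 0 (.node 6642085 1 .nil .nil) .nil) .nil)) (.node 12837259 1 .nil .nil)) (.node 1950133 1 (.node 15171795 0 (.node 5915259 0 (.node 14195469 1 (.node 11483425 0 .nil .nil) .nil) .nil) (.node 9677459 1 (.node 13765431 0 (.node 10324771 0 (.node 9657367 1 .nil .nil) (.node 14251525 1 (.node 14986311 1 .nil .nil) .nil)) .nil) .nil)) .nil)) .nil) .nil)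

/-- Part of `treeE1`. -/
def treeE1_24 : OTree := .node 13983917 0 treeE1_17 (.node 9282985 1 (.node 6530165 0 (.node 2016287 0 treeE1_15 (.node 8266531 1 (.node 12174149 0 (.node 10961337 0 (.node 5366003 0 (.node 13271711 0 .nil .nil) (.node 1672891 1 .nil .nil)) (.node 8629543 1 (.node 1543733 0 (.node 12214807 1 (.node 9223717 1 .nil .nil) .nil) (.node 4158467 1 (.node 11556565 0 .nil .nil) .nil)) .nil)) (.node 14489653 1 (.node 11311219 0 (.node 2284139 0 .nil (.node 1204081 1 (.node 9543051 0 .nil .nil) .nil)) .nil) .nil)) .nil)) (.node 3607707 1 treeE1_16 .nil)) .nil)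

/-- Part of `treeE1`. -/
def treeE1_25 : OTree := .node 14032453 0 (.node 10231145 0 (.node 10599529 0 (.node 3556715 1 treeE1_0 .nil) (.node 11619673 1 (.node 8481979 0 treeE1_2 (.node 10602283 1 (.node 255921 0 treeE1_1 (.node 3380271 1 (.node 9893393 0 (.node 11437653 1 (.node 2764597 1 .nil .nil) .nil) (.node 12202091 1 (.node 11596333 0 (.node 8843685 0 (.node 2073809 1 .nil .nil) (.node 9872493 1 .nil .nil)) .nil) .nil)) .nil)) .nil)) .nil)) (.node 15230293 1 treeE1_6 .nil)) (.node 11432145 1 (.node 7360751 0 treeE1_11 (.node 823281 1 (.node 6524235 0 (.node 7033131 1 treeE1_9 .nil) (.node 3361685 1 (.node 13978003 0 treeE1_10 (.node 9036455 1 .nil .nil)) .nil)) .nil)) .nil)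

/-- The spanning tree `treeE1`. -/
def treeE1 : OTree := .node 1490055 0 treeE1_25 (.node 4121161 1 (.node 11690445 0 treeE1_24 (.node 9341245 1 (.node 3647587 0 (.node 9620061 0 (.node 9841067 0 treeE1_19 (.node 9103117 1 treeE1_18 .nil)) (.node 10375475 1 treeE1_21 .nil)) (.node 1797657 1 treeE1_23 .nil)) .nil)) .nil)


/-- The spanning tree `treeE2`. -/
def treeE2 : OTree := .nil

/-- Part of `treeE3`. -/
def treeE3_0 : OTree := .node 11160733 0 (.node 7629987 0 (.node 13160133 0 .nil (.node 16044209 1 (.node 13291747 0 (.node 8032937 0 (.node 16445697 0 .nil .nil) (.node 5938625 1 (.node 16456713 0 .nil .nil) .nil)) (.node 13797105 1 (.node 14320939 0 .nil (.node 16385925 1 (.node 16598305 0 .nil .nil) .nil)) .nil)) .nil)) (.node 2682537 1 (.node 6483333 0 (.node 7332001 1 (.node 8044757 0 .nil (.node 6195379 1 (.node 14310033 1 .nil .nil) .nil)) .nil) (.node 3590317 1 (.node 10150073 1 (.node 15900839 0 .nil (.node 10391177 1 .nil .nil)) .nil) .nil)) .nil)) (.node 15124771 1 (.node 1821409 0 (.node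 10144135 1 (.node 9174145 1 .nil .nil) .nil) (.node 6018097 1 (.node 12227731 0 (.node 15881763 0 .nil (.node 11149025 1 (.node 7396649 0 .nil .nil) .nil)) (.node 16419395 1 (.node 12208937 0 (.node 10079277 1 (.node 11725835 1 .nil .nil) .nil) .nil) .nil)) .nil)) .nil)

/-- Part of `treeE3`. -/
def treeE3_1 : OTree := .node 14867537 0 (.node 6997857 1 (.node 8096037 1 (.node 12568593 0 (.node 9096755 1 (.node 3313571 0 (.node 12275877 1 .nil .nil) .nil) .nil) .nil) .nil) .nil) (.node 11684083 1 (.node 13683371 0 (.node 13282209 0 (.node 6245509 1 (.node 16518353 0 (.node 15223915 0 .nil (.node 14700465 1 .nil .nil)) .nil) .nil) (.node 13816973 1 (.node 14562465 0 (.node 16290917 0 (.node 11457577 0 .nil (.node 15871329 1 .nil .nil)) .nil) .nil) .nil)) (.node 10016673 1 (.node 14914977 0 .nil (.node 11766981 1 (.node 14044217 0 (.node 10005731 0 .nil .nil) (.node 11167139 1 (.node 7456421 0 .nil .nil) .nil)) .nil)) .nil)) .nil)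

/-- Part of `treeE3`. -/
def treeE3_2 : OTree := .node 6079721 0 (.node 15377609 0 (.node 8021037 0 (.node 12379269 0 (.node 10923185 1 (.node 5426279 0 .nil .nil) .nil) (.node 16558121 1 (.node 11200613 0 (.node 2026785 1 .nil .nil) .nil) .nil)) (.node 7212457 1 (.node 7948473 1 (.node 15263891 0 (.node 4644513 1 .nil .nil) .nil) .nil) .nil)) (.node 15894937 1 (.node 14379043 0 (.node 12094133 0 (.node 9596581 1 .nil .nil) (.node 14474243 1 .nil .nil)) (.node 13321897 1 (.node 7900303 1 .nil .nil) .nil)) .nil)) (.node 7906737 1 (.node 15451143 0 (.node 4081329 0 (.node 15779267 0 .nil .nil) (.node 6994979 1 (.node 3857925 0 (.node 11951489 0 (.node 13720801 0 .nil (.node 11126001 1 .nil .nil)) .nil) .nil) .nil)) (.node 16190113 1 (.node 14207345 0 (.node 13881089 1 (.node 10161585 0 (.node 15830067 0 .nil (.node 12144259 1 .nil .nil)) .nil) .nil) (.node 14173367 1 .nil .nil)) .nil)) .nil)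

/-- Part of `treeE3`. -/
def treeE3_3 : OTree := .node 15636613 0 (.node 8280161 0 .nil (.node 4877553 1 (.node 8178561 1 (.node 15419841 0 (.node 4836771 1 (.node 7592067 1 .nil .nil) .nil) (.node 12830901 1 (.node 5957251 1 .nil .nil) .nil)) .nil) .nil)) (.node 14084289 1 (.node 14289133 0 (.node 14183817 1 (.node 15281317 0 .nil (.node 15060105 1 (.node 6472891 1 .nil .nil) .nil)) .nil) (.node 13550993 1 (.node 8062179 0 (.node 16303641 0 (.node 14847533 1 .nil .nil) (.node 16259491 1 (.node 15325729 0 .nil .nil) .nil)) (.node 7048849 1 (.node 8015123 0 .nil (.node 6965927 1 .nil .nil)) .nil)) .nil)) .nil)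

/-- Part of `treeE3`. -/
def treeE3_4 : OTree := .node 5483689 0 (.node 14330901 0 (.node 12454951 0 (.node 11849313 0 (.node 11715893 1 (.node 9946275 0 .nil (.node 12297761 1 .nil .nil)) .nil) (.node 12090417 1 (.node 10542247 0 (.node 3339489 1 .nil .nil) .nil) .nil)) (.node 15625729 1 (.node 3689957 0 (.node 11659681 1 .nil .nil) (.node 7130165 1 (.node 3067075 0 (.node 2808241 1 .nil .nil) .nil) .nil)) .nil)) (.node 16662667 1 (.node 16278241 0 (.node 15253933 0 .nil (.node 13929893 1 (.node 13601889 0 (.node 3837049 0 .nil .nil) .nil) .nil)) (.node 13147321 1 (.node 7491273 1 .nil .nil) .nil)) .nil)) (.node 3917193 1 (.node 15950993 0 (.node 15500963 1 (.node 7478453 1 .nil .nil) .nil) (.node 11241643 1 (.node 7531057 0 (.node 14598693 1 (.node 12485089 0 (.node 15974505 0 .nil .nil) .nil) .nil) .nil) .nil)) .nil)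

/-- The spanning tree `treeE3`. -/
def treeE3 : OTree := .node 15777409 0 (.node 13262117 0 (.node 4037793 0 treeE3_1 (.node 7990337 1 treeE3_0 .nil)) (.node 15090917 1 treeE3_2 .nil)) (.node 12114121 1 (.node 14842025 0 (.node 5830821 0 treeE3_3 .nil) (.node 8572393 1 treeE3_4 .nil)) .nil)

/-- The orbit certificates of configuration E. -/
def certsE : List (ℕ × OTree) := [(28637, treeE0), (195645, treeE1), (340831, treeE2), (1727659, treeE3)]

/-- Generators fixing configuration F. -/
def gensF : List PP := [(8417240835322618283048399977050830628294727976081657420818928106544946399033246750878215160472913740551896760326, 6613633525387832466572862722400707261609053478434942662749275169931575217008251062145866341966569448768422084626), (3006327161234126473574398281340770518758586568413148634822560478722144259519171397969502562287266889789573234696, 9018495260875838122627573928044090521734605794346749871175726562427487110698707831802830955791272151039676579846)]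

/-- Part of `treeF0`. -/
def treeF0_0 : OTree := .node 10867289 0 (.node 5591417 0 (.node 1938377 0 (.node 4691793 0 (.node 15024463 1 (.node 1143781 0 .nil .nil) .nil) (.node 8587743 1 (.node 817525 1 (.node 10355535 0 .nil .nil) .nil) .nil)) (.node 3637597 1 (.node 6394733 0 (.node 10589527 1 (.node 12924261 1 .nil .nil) .nil) .nil) .nil)) (.node 9766207 1 (.node 4632956 1 (.node 7082895 0 (.node 407285 0 (.node 4578059 1 .nil .nil) (.node 2178522 1 (.node 5058133 1 .nil .nil) .nil)) .nil) .nil) .nil)) (.node 999806 1 (.node 3879693 0 (.node 2593398 0 (.node 7151933 0 (.node 725743 0 (.node 129431 1 (.node 13968974 0 .nil (.node 10304324 1 .nil .nil)) .nil) (.node 2398172 1 (.node 4464445 0 .nil (.node 12917851 1 .nil .nil)) .nil)) (.node 8778767 1 (.node 13710140 1 .nil .nil) .nil)) (.node 219094 1 (.node 3485468 0 (.node 5117534 1 (.node 2505117 0 (.node 10753647 0 .nil .nil) .nil) .nil) (.node 5601351 1 (.node 9806279 0 (.node 8534893 1 .nil .nil) .nil) .nil)) .nil)) .nil) .nil)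

/-- Part of `treeF0`. -/
def treeF0_1 : OTree := .node 4504517 0 (.node 12847063 0 (.node 6568299 1 .nil .nil) (.node 11082571 1 (.node 8876912 0 (.node 1426031 1 (.node 5878101 0 (.node 10949573 1 .nil .nil) .nil) .nil) .nil) .nil)) (.node 14889305 1 (.node 2446314 0 (.node 1914673 0 (.node 4686798 1 (.node 10516575 1 .nil .nil) .nil) (.node 1158239 1 (.node 12695886 0 .nil (.node 13513493 1 (.node 2507487 0 (.node 3159421 0 .nil .nil) .nil) .nil)) .nil)) (.node 2443125 1 (.node 1641341 0 (.node 9147228 0 (.node 6771484 0 .nil (.node 8737015 1 (.node 1423661 1 .nil .nil) .nil)) (.node 954839 1 (.node 8747465 1 (.node 9787203 0 .nil .nil) .nil) .nil)) .nil) .nil)) .nil)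

/-- Part of `treeF0`. -/
def treeF0_2 : OTree := .node 517724 1 (.node 7411999 0 (.node 8762092 0 (.node 5068055 0 (.node 1518285 0 .nil (.node 7680460 1 (.node 366503 0 .nil (.node 2301533 1 .nil .nil)) .nil)) (.node 8493631 1 (.node 13463644 0 (.node 1528207 0 .nil (.node 3478205 1 (.node 498974 1 (.node 15022605 0 .nil .nil) .nil) .nil)) .nil) .nil)) (.node 3093844 1 (.node 2558767 0 (.node 11088501 0 .nil (.node 587102 1 (.node 13972177 1 (.node 378331 0 .nil .nil) .nil) .nil)) (.node 4544205 1 (.node 1383893 0 (.node 5183821 1 (.node 2707933 1 .nil .nil) .nil) .nil) .nil)) .nil)) .nil) .nil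

/-- Part of `treeF0`. -/
def treeF0_3 : OTree := .node 2470385 0 (.node 5048171 0 (.node 736209 0 (.node 871367 1 .nil .nil) (.node 6332895 1 (.node 10764113 1 .nil .nil) .nil)) (.node 8752973 1 (.node 12671829 0 (.node 4002151 1 (.node 243149 1 .nil .nil) .nil) (.node 13111679 1 (.node 947148 0 (.node 3544855 0 .nil (.node 1137371 1 (.node 9811288 0 (.node 13042301 1 .nil .nil) (.node 2042135 1 .nil .nil)) .nil)) .nil) .nil)) .nil)) (.node 2319647 1 (.node 3226222 0 (.node 9285942 0 (.node 5202447 0 (.node 3354839 0 (.node 2467182 0 (.node 4799271 0 .nil .nil) (.node 491269 1 (.node 5854030 1 .nil .nil) .nil)) .nil) .nil) (.node 767511 1 (.node 6760542 0 (.node 10564015 0 .nil (.node 2913821 1 (.node 5576602 1 (.node 376473 0 .nil .nil) .nil) .nil)) (.node 12940166 1 .nil .nil)) .nil)) (.node 5535572 1 (.node 1346463 0 (.node 12629597 0 (.node 4479454 0 .nil (.node 15012659 1 .nil .nil)) (.node 9320794 1 (.node 877305 1 .nil .nil) .nil)) .nil) .nil)) .nil)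

/-- Part of `treeF0`. -/
def treeF0_4 : OTree := .node 331518 0 (.node 8994077 0 (.node 8870478 0 (.node 11890965 0 (.node 1513324 1 (.node 2988821 0 (.node 9246158 1 .nil .nil) .nil) .nil) (.node 1667135 1 (.node 1553300 1 .nil .nil) .nil)) (.node 5051380 1 (.node 984989 0 .nil (.node 2463951 1 .nil .nil)) .nil)) (.node 5027871 1 (.node 12988623 0 (.node 2389447 0 (.node 5324617 1 (.node 8756178 0 .nil .nil) .nil) .nil) .nil) .nil)) (.node 6627142 1 (.node 8727477 0 (.node 8996447 0 (.node 1276252 0 (.node 11899662 0 (.node 4583989 0 .nil .nil) .nil) (.node 5517751 1 .nil .nil)) (.node 826222 1 .nil .nil)) .nil) .nil)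

/-- Part of `treeF0`. -/
def treeF0_5 : OTree := .node 7803467 0 treeF0_3 (.node 9782236 1 (.node 1169181 0 (.node 5610076 0 (.node 12947869 0 (.node 10819964 1 (.node 9261869 0 (.node 2052693 0 .nil (.node 1151486 1 .nil .nil)) (.node 889981 1 .nil .nil)) .nil) (.node 11472927 1 (.node 357820 1 .nil .nil) .nil)) (.node 14094678 1 (.node 2584685 1 .nil .nil) .nil)) (.node 1448063 1 (.node 11317581 0 (.node 4608871 0 (.node 3941333 0 (.node 165759 0 (.node 6830940 0 .nil .nil) .nil) .nil) (.node 8460281 1 (.node 876376 0 (.node 6095071 1 .nil .nil) (.node 4557175 1 .nil .nil)) .nil)) .nil) .nil)) .nil)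

/-- Part of `treeF0`. -/
def treeF0_6 : OTree := .node 1044761 0 treeF0_5 (.node 499903 1 (.node 6894671 0 (.node 473574 0 (.node 11347719 0 (.node 223863 0 (.node 12132702 0 (.node 258862 0 (.node 9564758 1 (.node 9908775 1 .nil .nil) .nil) .nil) (.node 1897223 1 (.node 9647050 1 (.node 2488082 0 .nil .nil) .nil) .nil)) (.node 4208622 1 (.node 802710 0 (.node 8793631 0 (.node 5010234 1 .nil .nil) (.node 5061322 1 .nil .nil)) (.node 6404691 1 .nil .nil)) .nil)) (.node 653901 1 (.node 10032023 1 .nil .nil) .nil)) (.node 6371221 1 treeF0_4 .nil)) .nil) .nil)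

/-- Part of `treeF0`. -/
def treeF0_7 : OTree := .node 12785423 0 (.node 2456276 0 (.node 1908239 1 (.node 8894549 0 .nil (.node 4927902 1 .nil .nil)) .nil) (.node 6386038 1 (.node 1909678 0 .nil (.node 3520069 1 .nil .nil)) .nil)) (.node 9181917 1 (.node 8803677 0 (.node 3431245 0 (.node 9737077 0 (.node 8884587 1 (.node 8511869 1 .nil .nil) .nil) (.node 1774939 1 (.node 2603848 0 .nil (.node 4678101 1 .nil .nil)) .nil)) .nil) (.node 858555 1 (.node 9385545 0 (.node 2578771 0 (.node 1926477 1 (.node 1284935 0 .nil .nil) .nil) (.node 4277183 1 (.node 1652444 0 (.node 4659863 1 (.node 2980110 1 .nil .nil) .nil) .nil) .nil)) .nil) .nil)) .nil)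

/-- Part of `treeF0`. -/
def treeF0_8 : OTree := .node 5314167 0 (.node 895452 0 treeF0_7 (.node 6795527 1 (.node 6628071 0 (.node 599543 0 (.node 733006 0 (.node 10697494 0 (.node 10838590 0 .nil (.node 882278 1 (.node 5354127 1 (.node 4568278 0 .nil .nil) .nil) .nil)) (.node 4747991 1 (.node 3488643 1 (.node 8758899 0 .nil .nil) .nil) .nil)) .nil) (.node 2146063 1 .nil .nil)) (.node 10581836 1 (.node 1399606 0 (.node 10330653 0 (.node 4444255 0 .nil (.node 8786878 1 .nil .nil)) (.node 2076750 1 (.node 8614557 1 (.node 3495006 0 .nil .nil) .nil) .nil)) .nil) .nil)) .nil)) .nil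

/-- Part of `treeF0`. -/
def treeF0_9 : OTree := .node 13914655 0 (.node 1372381 0 (.node 5543247 0 treeF0_1 (.node 9902873 1 treeF0_0 .nil)) (.node 3617082 1 (.node 2994731 0 (.node 8497054 1 (.node 4292126 0 (.node 9779358 0 (.node 997948 1 (.node 905886 1 (.node 5714973 0 .nil .nil) .nil) .nil) (.node 8204822 1 (.node 2569870 1 (.node 2440247 0 (.node 9250927 0 (.node 9138503 0 .nil (.node 570301 1 .nil .nil)) (.node 5093132 1 .nil .nil)) .nil) .nil) .nil)) (.node 12860022 1 .nil .nil)) .nil) treeF0_2) .nil)) (.node 10293882 1 treeF0_6 .nil)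

/-- Part of `treeF0`. -/
def treeF0_10 : OTree := .node 4618841 0 (.node 11801051 0 (.node 325481 0 (.node 13730651 1 (.node 4322264 0 (.node 11864663 1 (.node 931119 1 .nil .nil) .nil) .nil) .nil) (.node 470393 1 (.node 5030749 1 (.node 5379037 0 .nil .nil) .nil) .nil)) (.node 4014875 1 (.node 1290873 0 (.node 7180634 0 (.node 4666281 0 (.node 2954963 0 (.node 4533647 1 .nil .nil) .nil) (.node 10822877 1 (.node 89455 0 .nil .nil) .nil)) (.node 8897303 1 (.node 7430749 0 .nil (.node 9728366 1 .nil .nil)) .nil)) (.node 1451486 1 .nil .nil)) .nil)) (.node 12919290 1 (.node 620427 0 (.node 1523282 0 .nil .nil) (.node 2402941 1 .nil .nil)) .nil)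

/-- Part of `treeF0`. -/
def treeF0_11 : OTree := .node 13186898 0 (.node 486298 0 (.node 11613723 0 (.node 391290 0 (.node 14496011 0 (.node 2302972 1 (.node 2692926 0 .nil .nil) .nil) .nil) (.node 4663094 1 (.node 2697887 0 (.node 8598654 0 .nil .nil) (.node 6615630 1 .nil .nil)) .nil)) (.node 1862238 1 (.node 9613599 0 .nil (.node 1979035 1 (.node 2536539 0 (.node 12936985 1 .nil .nil) .nil) .nil)) .nil)) .nil) (.node 8956759 1 (.node 12739422 0 (.node 3175326 0 (.node 1357374 0 .nil .nil) (.node 3437171 1 (.node 1550091 1 .nil .nil) .nil)) (.node 9188323 1 (.node 943955 0 (.node 3287899 0 .nil (.node 5530571 1 .nil .nil)) .nil) .nil)) .nil)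

/-- Part of `treeF0`. -/
def treeF0_12 : OTree := .node 7648025 0 (.node 4494075 0 (.node 4994521 0 (.node 401355 0 (.node 4811099 1 .nil .nil) (.node 6622169 1 (.node 2887007 1 .nil .nil) .nil)) (.node 10856731 1 (.node 12677739 0 .nil .nil) .nil)) (.node 10946394 1 (.node 2194233 0 (.node 1935190 1 (.node 4434717 0 (.node 14750430 0 .nil (.node 11293526 1 .nil .nil)) .nil) .nil) (.node 4482175 1 (.node 1587663 0 (.node 8828742 0 (.node 6581015 0 .nil .nil) .nil) .nil) .nil)) .nil)) (.node 9920603 1 (.node 3273035 0 (.node 5616482 0 (.node 5088147 0 (.node 4400859 0 .nil .nil) (.node 10723919 1 .nil .nil)) (.node 9643861 1 (.node 2214750 0 (.node 10237015 1 .nil .nil) .nil) .nil)) (.node 1467197 1 (.node 3707487 0 (.node 8861075 1 (.node 4549484 1 .nil .nil) .nil) .nil) .nil)) .nil)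

/-- Part of `treeF0`. -/
def treeF0_13 : OTree := .node 6697938 0 (.node 2369467 0 (.node 540283 0 .nil (.node 4501338 1 (.node 15475291 1 (.node 160251 0 (.node 3946314 0 .nil (.node 1436497 1 .nil .nil)) .nil) .nil) .nil)) (.node 2453067 1 (.node 9517427 0 (.node 9298762 0 (.node 9446143 1 (.node 441139 1 .nil .nil) .nil) (.node 1024869 1 (.node 7013207 0 .nil (.node 8442831 1 .nil .nil)) .nil)) .nil) .nil)) (.node 10576851 1 (.node 1140602 0 (.node 1686298 0 (.node 13087258 0 (.node 6647963 0 (.node 1389803 0 .nil .nil) .nil) (.node 9380566 1 (.node 293551 1 .nil .nil) .nil)) (.node 5677655 1 (.node 10908427 1 .nil .nil) .nil)) (.node 1322855 1 .nil .nil)) .nil)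

/-- Part of `treeF0`. -/
def treeF0_14 : OTree := .node 9991001 0 (.node 1495898 0 treeF0_12 (.node 1508339 1 (.node 2729817 0 (.node 4397946 0 (.node 11350936 0 (.node 480827 0 (.node 4012121 0 .nil (.node 5628190 1 .nil .nil)) .nil) (.node 3006551 1 (.node 5448047 0 (.node 2732998 0 (.node 8470215 1 .nil .nil) (.node 2290517 1 (.node 7603070 0 .nil .nil) .nil)) (.node 9713549 1 (.node 319063 0 (.node 13904221 0 (.node 3019641 1 .nil .nil) .nil) .nil) .nil)) .nil)) .nil) (.node 452943 1 .nil .nil)) .nil)) (.node 1876347 1 (.node 4895563 0 treeF0_13 .nil) .nil)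

/-- Part of `treeF0`. -/
def treeF0_15 : OTree := .node 1326072 0 (.node 9213723 0 treeF0_10 (.node 1018459 1 (.node 9200031 1 (.node 1209935 0 (.node 3455318 0 (.node 12886831 0 (.node 10531706 1 .nil .nil) .nil) (.node 5468947 1 (.node 3515098 0 (.node 4306235 0 (.node 15049556 1 .nil .nil) .nil) (.node 3629894 1 (.node 3253047 0 (.node 4825726 0 .nil .nil) .nil) .nil)) .nil)) .nil) .nil) .nil)) (.node 7677267 1 (.node 109547 0 treeF0_11 (.node 6694733 1 (.node 2104311 0 (.node 9185148 0 (.node 678687 0 (.node 11940444 0 (.node 2412863 0 (.node 6042221 0 .nil .nil) .nil) (.node 1929682 1 .nil .nil)) .nil) (.node 900419 1 (.node 13052739 0 .nil (.node 13181901 1 .nil .nil)) .nil)) .nil) .nil)) .nil)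

/-- Part of `treeF0`. -/
def treeF0_16 : OTree := .node 9118523 0 (.node 2847322 0 (.node 1402519 1 (.node 5651214 1 (.node 10793623 0 (.node 8732458 1 .nil .nil) .nil) .nil) .nil) (.node 320502 1 (.node 5777183 0 (.node 178910 0 (.node 14955806 0 (.node 6633080 1 (.node 6653471 1 (.node 4274429 0 .nil .nil) .nil) .nil) (.node 9271827 1 .nil .nil)) .nil) (.node 9747019 1 (.node 12906835 0 (.node 11871081 1 (.node 643955 0 .nil .nil) .nil) .nil) .nil)) .nil)) (.node 829135 1 (.node 4341079 0 (.node 10759118 0 (.node 8419127 0 .nil .nil) (.node 7172929 1 (.node 3213263 1 (.node 114548 0 (.node 13437726 0 (.node 2896126 1 .nil .nil) (.node 13472327 1 .nil .nil)) .nil) .nil) .nil)) (.node 12598171 1 (.node 8681178 0 (.node 1342747 0 (.node 6234968 1 (.node 2331547 0 (.node 8744278 1 .nil .nil) .nil) .nil) (.node 5581371 1 (.node 9023707 0 (.node 4683082 0 .nil .nil) (.node 3056414 1 (.node 6435391 0 .nil .nil) .nil)) .nil)) .nil) .nil)) .nil)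

/-- The spanning tree `treeF0`. -/
def treeF0 : OTree := .node 9445214 0 (.node 8715036 0 treeF0_9 (.node 5189747 1 (.node 2483085 1 treeF0_8 .nil) .nil)) (.node 6036307 1 (.node 8823769 0 (.node 6313819 0 treeF0_15 (.node 8670075 1 treeF0_14 .nil)) (.node 3088843 1 (.node 2307939 0 (.node 2960242 0 treeF0_16 (.node 4319047 1 (.node 5319638 0 (.node 3029575 1 (.node 10887543 0 (.node 2646895 0 (.node 1717110 0 (.node 520899 1 (.node 9530127 1 .nil .nil) .nil) (.node 1095635 1 .nil .nil)) .nil) .nil) .nil) (.node 15741767 1 .nil .nil)) .nil)) .nil) .nil)) .nil)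

/-- Part of `treeF1`. -/
def treeF1_0 : OTree := .node 9106322 0 (.node 7759386 0 (.node 3193019 0 (.node 13415530 0 (.node 5142915 0 .nil .nil) (.node 9416464 1 .nil .nil)) .nil) (.node 9792226 1 (.node 10085651 0 (.node 5499466 0 (.node 15839634 0 .nil .nil) (.node 14033892 1 (.node 2284139 1 .nil .nil) .nil)) .nil) .nil)) (.node 2794227 1 (.node 6956410 0 (.node 2767786 0 (.node 11417138 0 (.node 3041339 0 (.node 1894296 1 .nil .nil) (.node 4581034 1 .nil .nil)) (.node 650962 1 (.node 14428807 1 .nil .nil) .nil)) (.node 6612689 1 .nil .nil)) (.node 8712067 1 (.node 13659731 0 (.node 9497050 0 .nil .nil) .nil) .nil)) .nil)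

/-- Part of `treeF1`. -/
def treeF1_1 : OTree := .node 1698150 0 (.node 14394118 0 (.node 6546070 0 (.node 7414974 0 (.node 638126 0 .nil .nil) (.node 11828742 1 (.node 9758775 0 (.node 14213199 0 .nil (.node 10400552 1 .nil .nil)) .nil) .nil)) .nil) (.node 10138309 1 (.node 8608675 1 (.node 12412496 0 (.node 1296699 0 (.node 16364104 0 (.node 4706738 0 (.node 11921484 1 .nil .nil) .nil) (.node 10412372 1 .nil .nil)) (.node 5637807 1 .nil .nil)) .nil) .nil) .nil)) (.node 5420837 1 (.node 7113430 0 (.node 12723645 0 (.node 2645710 0 (.node 9846068 0 .nil (.node 5848211 1 .nil .nil)) (.node 6609776 1 (.node 14418873 0 .nil (.node 12420171 1 .nil .nil)) .nil)) (.node 11287691 1 (.node 8813667 0 .nil (.node 4796344 1 .nil .nil)) .nil)) .nil) .nil)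

/-- Part of `treeF1`. -/
def treeF1_2 : OTree := .node 1672891 0 (.node 4963416 0 (.node 15145354 0 (.node 10843809 0 (.node 1920115 0 .nil .nil) (.node 2714748 1 (.node 6067861 1 .nil .nil) .nil)) (.node 15549077 1 (.node 1262845 0 .nil (.node 3415470 1 .nil .nil)) .nil)) (.node 13019542 1 (.node 14706319 0 (.node 1080566 0 (.node 10267918 0 .nil (.node 6273537 1 (.node 15171795 0 .nil .nil) .nil)) (.node 7356210 1 (.node 9218746 0 .nil (.node 7317058 1 .nil .nil)) .nil)) (.node 11303528 1 .nil .nil)) .nil)) (.node 3575374 1 (.node 14727477 0 (.node 13386478 0 (.node 1734037 0 (.node 5725120 1 (.node 11896721 0 .nil (.node 3885135 1 (.node 11776356 0 .nil .nil) .nil)) .nil) .nil) .nil) (.node 13267995 1 (.node 3569866 0 (.node 11842851 0 (.node 5040739 0 (.node 14295507 0 .nil (.node 12100491 1 (.node 4388466 0 (.node 16114179 1 .nil .nil) (.node 8531954 1 .nil .nil)) .nil)) (.node 12822376 1 .nil .nil)) .nil) .nil) .nil)) .nil)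

/-- Part of `treeF1`. -/
def treeF1_3 : OTree := .node 3316540 0 (.node 15503932 0 (.node 5132477 0 (.node 4068557 0 (.node 4414873 1 (.node 8210772 1 .nil .nil) .nil) (.node 3529112 1 (.node 10423388 1 (.node 10737933 0 .nil .nil) .nil) .nil)) (.node 10851514 1 (.node 5078057 0 (.node 10426563 0 (.node 11003201 0 .nil .nil) (.node 7963548 1 .nil .nil)) (.node 12954684 1 .nil .nil)) .nil)) .nil) (.node 5657811 1 (.node 3452361 0 (.node 12623715 0 (.node 13396944 0 (.node 9586587 0 (.node 5663090 1 .nil .nil) (.node 3934955 1 (.node 699803 1 (.node 14827082 0 .nil .nil) .nil) .nil)) (.node 15311203 1 (.node 10528741 1 .nil .nil) .nil)) (.node 13242201 1 (.node 10640344 0 (.node 11818808 0 (.node 1890873 0 .nil .nil) .nil) .nil) .nil)) .nil) .nil)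

/-- Part of `treeF1`. -/
def treeF1_4 : OTree := .node 4377555 0 (.node 15738840 0 (.node 6688371 1 (.node 11020793 0 (.node 9066346 0 (.node 4094736 0 .nil (.node 5366003 1 (.node 11971333 1 (.node 14729847 0 .nil .nil) .nil) .nil)) (.node 823281 1 .nil .nil)) .nil) .nil) (.node 12347715 1 (.node 9626467 0 (.node 7922514 0 (.node 5415866 0 (.node 6862490 0 (.node 4603066 0 .nil (.node 15019666 1 .nil .nil)) .nil) (.node 11937475 1 .nil .nil)) .nil) (.node 1714153 1 .nil .nil)) .nil)) (.node 14812139 1 (.node 2652144 0 (.node 1969978 0 (.node 11188761 0 (.node 9258930 1 (.node 1797657 0 (.node 11769946 0 (.node 9397301 1 .nil .nil) (.node 6177686 1 .nil .nil)) (.node 5548270 1 .nil .nil)) .nil) (.node 5169370 1 (.node 11823769 1 (.node 9491579 0 (.node 6093128 0 .nil (.node 14131505 1 .nil .nil)) .nil) .nil) .nil)) .nil) (.node 2157939 1 (.node 14166890 0 treeF1_0 .nil) .nil)) .nil)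

/-- Part of `treeF1`. -/
def treeF1_5 : OTree := .node 5838253 0 (.node 1023684 0 (.node 15142165 0 .nil (.node 13195407 1 (.node 9925828 0 (.node 5462573 1 (.node 12423380 0 .nil (.node 3920150 1 .nil .nil)) .nil) (.node 3750324 1 (.node 9405998 0 .nil .nil) .nil)) .nil)) (.node 6527444 1 (.node 15009708 0 (.node 614069 0 (.node 6134150 1 (.node 11221196 1 (.node 10966310 0 .nil .nil) .nil) .nil) (.node 6331518 1 .nil .nil)) (.node 11361349 1 (.node 9914725 0 (.node 12174149 0 (.node 5489524 0 .nil .nil) .nil) .nil) .nil)) .nil)) (.node 11836445 1 (.node 12900461 0 (.node 14438853 0 .nil (.node 12161337 1 (.node 5231208 0 .nil .nil) .nil)) .nil) .nil)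

/-- Part of `treeF1`. -/
def treeF1_6 : OTree := .node 11998321 0 (.node 3000681 0 (.node 14357345 0 (.node 3130320 0 (.node 9718991 1 .nil .nil) .nil) (.node 9995741 1 (.node 12982769 1 .nil .nil) .nil)) (.node 4703533 1 (.node 7936709 0 (.node 8881652 0 .nil (.node 2825607 1 (.node 10956388 0 (.node 11094327 0 (.node 10183276 0 .nil .nil) .nil) .nil) .nil)) (.node 15782236 1 (.node 5559212 0 .nil .nil) .nil)) .nil)) (.node 1658270 1 (.node 9682444 0 (.node 15063062 0 .nil (.node 13324854 1 (.node 4153500 0 (.node 1466012 1 .nil .nil) (.node 3535014 1 .nil .nil)) .nil)) (.node 6174932 1 (.node 10913167 0 (.node 6323813 0 (.node 10226166 0 (.node 9103117 0 (.node 13652978 1 .nil .nil) (.node 964841 1 (.node 9030553 1 .nil .nil) .nil)) .nil) (.node 12615032 1 (.node 10247050 0 (.node 1779962 1 .nil .nil) (.node 8225393 1 (.node 4948473 0 .nil .nil) .nil)) .nil)) .nil) .nil)) .nil)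

/-- Part of `treeF1`. -/
def treeF1_7 : OTree := .node 3566677 0 (.node 11569519 0 (.node 13169508 0 .nil (.node 9090417 1 (.node 7228234 0 (.node 11678641 0 (.node 511842 1 .nil .nil) (.node 3695835 1 .nil .nil)) (.node 12960737 1 .nil .nil)) .nil)) (.node 6182665 1 (.node 3578577 0 (.node 14976377 0 .nil .nil) .nil) .nil)) (.node 5339562 1 (.node 10335874 0 (.node 4713491 0 (.node 15804619 0 (.node 2764597 1 .nil .nil) (.node 16540428 1 (.node 1233591 0 (.node 9959682 1 .nil .nil) (.node 3282682 1 .nil .nil)) .nil)) (.node 12790446 1 (.node 2685494 1 .nil .nil) .nil)) (.node 3910228 1 (.node 14909758 0 (.node 6910636 0 (.node 2036918 0 (.node 4716684 1 .nil .nil) .nil) .nil) .nil) .nil)) .nil)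

/-- Part of `treeF1`. -/
def treeF1_8 : OTree := .node 2793298 1 (.node 15084344 0 (.node 2934394 1 (.node 5912889 0 (.node 11440842 0 (.node 6714673 0 .nil (.node 8481979 1 (.node 10058826 0 (.node 5972661 1 .nil .nil) .nil) .nil)) .nil) .nil) .nil) (.node 13460675 1 (.node 1273283 0 (.node 11644738 0 (.node 12708658 0 .nil (.node 13248103 1 (.node 2779606 0 (.node 11675438 0 .nil .nil) (.node 6353827 1 (.node 6039282 0 .nil .nil) .nil)) .nil)) (.node 5925701 1 (.node 11699158 0 (.node 6350652 0 (.node 5774014 0 .nil (.node 16029266 1 .nil .nil)) .nil) (.node 3822531 1 .nil .nil)) .nil)) .nil) .nil)) .nil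

/-- Part of `treeF1`. -/
def treeF1_9 : OTree := .node 8951542 0 (.node 5139740 0 (.node 11672207 0 (.node 10810484 0 (.node 6048047 0 (.node 3846616 1 .nil .nil) (.node 13997609 1 (.node 5101777 0 (.node 14091721 0 (.node 2219969 0 (.node 13963120 0 .nil .nil) .nil) (.node 12388749 1 (.node 8640101 0 (.node 13750567 1 .nil .nil) .nil) .nil)) .nil) .nil)) (.node 752946 1 (.node 6152900 1 (.node 5473687 0 (.node 6401740 0 .nil .nil) .nil) .nil) .nil)) (.node 8147672 1 (.node 1480121 0 (.node 7118409 0 .nil .nil) .nil) .nil)) (.node 12957859 1 (.node 11119404 1 .nil .nil) .nil)) treeF1_8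

/-- Part of `treeF1`. -/
def treeF1_10 : OTree := .node 13571384 0 (.node 3103369 0 treeF1_6 (.node 6668540 1 treeF1_5 .nil)) (.node 9276567 1 (.node 12807245 0 (.node 11622854 0 (.node 9824036 0 (.node 5884439 0 (.node 13869276 0 (.node 10902069 1 .nil .nil) .nil) (.node 13800046 1 (.node 7139732 0 (.node 11869896 1 .nil .nil) .nil) .nil)) (.node 1784933 1 (.node 11503942 0 (.node 14902053 0 .nil (.node 8942829 1 (.node 5348273 1 .nil .nil) .nil)) .nil) .nil)) (.node 7885621 1 (.node 3642818 1 (.node 6663969 0 .nil .nil) .nil) .nil)) (.node 13384108 1 (.node 9328263 0 treeF1_7 .nil) .nil)) .nil)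

/-- Part of `treeF1`. -/
def treeF1_11 : OTree := .node 10694537 0 (.node 10575474 0 (.node 6136871 1 (.node 4958407 0 (.node 11041669 1 (.node 9848438 0 .nil .nil) .nil) .nil) .nil) (.node 4738934 1 (.node 10103708 0 (.node 10671646 0 (.node 7632956 0 .nil .nil) (.node 940786 1 (.node 12461337 0 (.node 4605944 1 .nil .nil) .nil) .nil)) (.node 8171715 1 (.node 4629987 0 (.node 6827971 0 .nil (.node 14740297 1 .nil .nil)) .nil) .nil)) .nil)) (.node 7104717 1 (.node 9573863 0 (.node 2944836 0 .nil (.node 4454753 1 (.node 16581570 0 (.node 255921 0 .nil .nil) .nil) .nil)) (.node 3678105 1 (.node 8822392 0 (.node 15489305 0 (.node 9851625 0 .nil .nil) (.node 13484091 1 .nil .nil)) .nil) .nil)) .nil)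

/-- Part of `treeF1`. -/
def treeF1_12 : OTree := .node 10252980 0 (.node 2016287 0 (.node 7518285 0 (.node 14979558 0 (.node 5007269 0 .nil .nil) (.node 11228945 1 (.node 5588454 1 (.node 1683333 0 .nil .nil) .nil) .nil)) (.node 14053784 1 (.node 3623544 1 .nil .nil) .nil)) (.node 1546922 1 (.node 15578129 0 (.node 4671723 0 (.node 12137921 0 .nil (.node 3729693 1 .nil .nil)) .nil) (.node 9168926 1 (.node 15953934 0 .nil .nil) .nil)) .nil)) (.node 3781746 1 (.node 5220650 0 .nil (.node 13084293 1 (.node 6376663 0 (.node 8142085 1 (.node 8817383 0 (.node 15230293 0 .nil .nil) (.node 7018440 1 .nil .nil)) .nil) .nil) .nil)) .nil)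

/-- Part of `treeF1`. -/
def treeF1_13 : OTree := .node 3266677 0 (.node 14516588 0 (.node 4969349 0 (.node 7800532 0 (.node 2198973 0 .nil (.node 6708239 1 (.node 7959832 1 .nil .nil) .nil)) .nil) (.node 10653949 1 (.node 7099756 0 .nil (.node 8772913 1 .nil .nil)) .nil)) (.node 10458373 1 (.node 6801989 0 (.node 15794677 0 (.node 2530661 1 (.node 13227337 1 .nil .nil) .nil) (.node 12080399 1 (.node 5453296 1 (.node 2985866 0 (.node 12795441 0 (.node 7193382 1 .nil .nil) (.node 13118686 1 .nil .nil)) .nil) .nil) .nil)) (.node 12800492 1 .nil .nil)) .nil)) (.node 5395774 1 (.node 3979916 0 (.node 13014071 0 (.node 15069480 1 (.node 6116003 0 (.node 2073809 0 (.node 6524235 0 .nil .nil) (.node 3385742 1 (.node 14792230 0 .nil .nil) .nil)) (.node 11634300 1 (.node 4839740 0 .nil .nil) .nil)) .nil) (.node 9117338 1 (.node 5073078 1 (.node 10167439 0 .nil .nil) .nil) .nil)) .nil) .nil)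

/-- Part of `treeF1`. -/
def treeF1_14 : OTree := .node 15573134 0 (.node 4420775 0 (.node 4009158 0 .nil (.node 7469828 1 (.node 13992630 0 .nil (.node 12260934 1 (.node 2615604 0 .nil .nil) .nil)) .nil)) (.node 10501820 1 (.node 5086770 1 (.node 13576345 0 (.node 2902972 1 (.node 10098237 0 .nil .nil) .nil) .nil) .nil) .nil)) (.node 11530756 1 (.node 7815223 0 (.node 3776749 0 (.node 4953446 0 (.node 7285636 0 (.node 10684087 0 (.node 4521254 1 .nil .nil) .nil) (.node 14807237 1 .nil .nil)) (.node 8560533 1 (.node 14962268 0 .nil .nil) .nil)) (.node 3601676 1 (.node 13850200 1 .nil .nil) .nil)) (.node 9524910 1 (.node 1965076 0 (.node 14125071 0 .nil (.node 14619276 1 .nil .nil)) .nil) .nil)) .nil)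

/-- Part of `treeF1`. -/
def treeF1_15 : OTree := .node 4383469 0 (.node 7869910 0 (.node 6765761 1 (.node 10816995 0 (.node 9006945 0 (.node 10177362 0 (.node 11789080 0 .nil .nil) .nil) (.node 4762989 1 (.node 13245382 0 (.node 10905492 0 (.node 5529194 1 .nil .nil) (.node 2717923 1 .nil .nil)) (.node 15242193 1 .nil .nil)) .nil)) (.node 6901517 1 (.node 9640692 0 .nil .nil) .nil)) .nil) (.node 11590419 1 (.node 13951608 0 (.node 11960891 1 (.node 6877305 0 .nil .nil) .nil) (.node 10429794 1 .nil .nil)) .nil)) (.node 10892776 1 (.node 2907939 0 (.node 10365553 0 (.node 11190619 0 (.node 9725425 1 (.node 5671785 1 .nil .nil) .nil) (.node 967595 1 .nil .nil)) (.node 5875146 1 (.node 4439938 0 .nil (.node 14822101 1 .nil .nil)) .nil)) (.node 4312697 1 (.node 14227928 0 (.node 8902536 0 (.node 7691793 0 .nil (.node 13715582 1 .nil .nil)) .nil) .nil) .nil)) .nil)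

/-- Part of `treeF1`. -/
def treeF1_16 : OTree := .node 14104680 0 (.node 11391363 0 (.node 5727841 0 (.node 3770835 0 .nil (.node 7521039 1 .nil .nil)) (.node 9514476 1 (.node 9035526 0 .nil (.node 4889205 1 (.node 15598044 0 (.node 2383097 1 .nil .nil) .nil) .nil)) .nil)) (.node 2867773 1 (.node 9754006 1 (.node 5565965 0 (.node 16388890 1 .nil .nil) .nil) .nil) .nil)) (.node 14493076 1 (.node 249487 0 (.node 15809620 0 (.node 8767918 0 (.node 14251525 0 .nil (.node 10008700 1 (.node 9409201 1 .nil .nil) .nil)) .nil) (.node 14186774 1 (.node 9888398 0 (.node 9599546 1 (.node 2089522 1 (.node 8101915 0 .nil .nil) .nil) .nil) (.node 4141792 1 .nil .nil)) .nil)) .nil) .nil)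

/-- Part of `treeF1`. -/
def treeF1_17 : OTree := .node 1396649 0 (.node 10067537 0 (.node 13093208 0 (.node 15815561 0 (.node 1431280 0 (.node 6130969 0 .nil .nil) (.node 3345782 1 (.node 5174341 1 .nil .nil) .nil)) (.node 12337277 1 (.node 1757549 0 .nil .nil) .nil)) (.node 13566375 1 (.node 2844357 0 .nil (.node 2161132 1 (.node 14423846 0 (.node 977557 0 .nil (.node 6533354 1 .nil .nil)) .nil) .nil)) .nil)) (.node 5933406 1 (.node 14857100 0 .nil (.node 11432145 1 (.node 3556715 0 (.node 3717985 0 (.node 9144259 1 .nil .nil) (.node 5432665 1 (.node 7379914 0 .nil .nil) .nil)) .nil) .nil)) .nil)) (.node 7670893 1 (.node 9017829 0 (.node 13584196 0 (.node 3361685 0 (.node 1989958 1 (.node 5992649 1 .nil .nil) .nil) (.node 7360751 1 (.node 1881572 0 (.node 5148423 0 (.node 15233482 1 .nil .nil) (.node 12819145 1 .nil .nil)) (.node 3390737 1 .nil .nil)) .nil)) .nil) .nil) .nil)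

/-- Part of `treeF1`. -/
def treeF1_18 : OTree := .node 6691564 0 (.node 11277749 0 (.node 937581 0 (.node 12196181 0 (.node 10929004 0 .nil (.node 1005025 1 (.node 4132673 0 (.node 10718065 0 (.node 15287160 0 .nil .nil) .nil) .nil) .nil)) (.node 5820827 1 (.node 12003792 1 .nil .nil) .nil)) (.node 4562408 1 (.node 13442945 0 (.node 8867537 0 (.node 11619673 0 (.node 6161781 1 (.node 6738377 1 (.node 7608289 0 .nil .nil) .nil) .nil) .nil) (.node 6883822 1 (.node 2669781 1 (.node 12979566 0 .nil .nil) .nil) .nil)) (.node 15304797 1 .nil .nil)) .nil)) (.node 2743323 1 treeF1_16 .nil)) (.node 15029712 1 treeF1_17 .nil)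

/-- Part of `treeF1`. -/
def treeF1_19 : OTree := .node 7860304 0 (.node 7700907 0 (.node 4830945 0 (.node 5180882 0 treeF1_11 (.node 14781319 1 (.node 12674804 0 (.node 7641639 1 (.node 11253002 1 .nil .nil) .nil) (.node 11025766 1 .nil .nil)) .nil)) (.node 10661212 1 (.node 14703406 0 treeF1_12 (.node 13391473 1 (.node 1984985 0 (.node 11704137 0 .nil .nil) .nil) .nil)) .nil)) (.node 12011021 1 treeF1_13 .nil)) (.node 9658806 1 (.node 3794446 0 (.node 5486646 0 treeF1_14 (.node 13776534 1 (.node 6781474 1 (.node 12394675 0 (.node 779371 0 (.node 13689749 1 .nil .nil) (.node 438188 1 (.node 15212055 0 (.node 8808700 0 .nil (.node 7157154 1 .nil .nil)) (.node 13163098 1 .nil .nil)) .nil)) .nil) .nil) .nil)) (.node 1505892 1 (.node 16548119 0 treeF1_15 .nil) .nil)) .nil)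

/-- Part of `treeF1`. -/
def treeF1_20 : OTree := .node 1492933 1 (.node 7376725 0 (.node 12618748 0 (.node 13129628 0 (.node 7674098 1 (.node 3124237 1 .nil .nil) .nil) (.node 11311219 1 (.node 13525353 0 .nil (.node 9282985 1 .nil .nil)) .nil)) (.node 15603011 1 (.node 2517985 0 (.node 12060531 0 .nil (.node 1625931 1 .nil .nil)) (.node 6383081 1 (.node 1646562 0 .nil .nil) .nil)) .nil)) (.node 13785419 1 (.node 11858880 0 (.node 5556019 0 (.node 5810905 0 .nil (.node 16163146 1 .nil .nil)) (.node 9637483 1 (.node 11139408 0 (.node 14107434 0 .nil .nil) (.node 4907319 1 .nil .nil)) .nil)) .nil) .nil)) .nil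

/-- Part of `treeF1`. -/
def treeF1_21 : OTree := .node 13670615 1 (.node 12903884 0 (.node 5267335 0 (.node 9744084 0 (.node 12635423 0 (.node 13662924 0 .nil (.node 16527728 1 .nil .nil)) (.node 13507115 1 .nil .nil)) (.node 8075586 1 (.node 10986402 0 (.node 6907443 0 (.node 7645062 1 (.node 4239031 0 .nil .nil) .nil) (.node 8449646 1 .nil .nil)) .nil) .nil)) (.node 15735417 1 (.node 9228792 0 (.node 9799929 1 (.node 9341245 1 .nil .nil) .nil) (.node 3114291 1 (.node 7023209 0 (.node 11211250 0 (.node 388325 1 (.node 14224711 0 .nil .nil) .nil) (.node 2672535 1 .nil .nil)) .nil) .nil)) .nil)) .nil) .nil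

/-- Part of `treeF1`. -/
def treeF1_22 : OTree := .node 3891569 0 (.node 3900266 0 (.node 8578263 1 (.node 7368014 0 (.node 9485222 0 (.node 13428246 0 (.node 16003754 1 .nil .nil) (.node 9157218 1 .nil .nil)) (.node 8009297 1 (.node 2525690 0 .nil .nil) .nil)) (.node 13925153 1 (.node 10273491 0 (.node 9841067 1 (.node 11073091 0 .nil (.node 715640 1 .nil .nil)) .nil) .nil) .nil)) .nil) treeF1_20) (.node 1107375 1 (.node 5815878 0 (.node 15413891 1 (.node 2581746 0 (.node 3747115 0 (.node 4892628 1 (.node 6426526 0 .nil (.node 14965443 1 .nil .nil)) .nil) .nil) (.node 2191270 1 .nil .nil)) .nil) (.node 13810512 1 (.node 14992282 0 (.node 5273273 0 (.node 1875162 0 (.node 13024521 0 .nil .nil) (.node 7834386 1 (.node 14787257 0 (.node 4805882 0 (.node 7710869 1 .nil .nil) .nil) .nil) .nil)) (.node 11807866 1 (.node 8976683 0 (.node 10068976 1 (.node 4966170 0 .nil .nil) .nil) .nil) .nil)) .nil) .nil)) .nil)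

/-- Part of `treeF1`. -/
def treeF1_23 : OTree := .node 12930599 0 (.node 10053845 0 (.node 9684302 0 (.node 13791349 1 (.node 3658529 1 .nil .nil) .nil) (.node 1973157 1 (.node 776650 1 (.node 16201472 0 .nil .nil) .nil) .nil)) (.node 7909678 1 (.node 5157542 0 (.node 7218327 0 (.node 2239727 0 (.node 4783889 1 (.node 14027482 0 .nil .nil) .nil) (.node 6586248 1 (.node 7933530 1 (.node 8632760 0 .nil .nil) .nil) .nil)) .nil) (.node 10729168 1 (.node 6638906 0 (.node 8168540 1 .nil .nil) .nil) .nil)) .nil)) (.node 13180524 1 (.node 9394580 0 .nil (.node 6918327 1 (.node 5186796 0 .nil .nil) .nil)) .nil)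

/-- Part of `treeF1`. -/
def treeF1_24 : OTree := .node 5790813 0 (.node 9869772 0 (.node 14997253 0 (.node 15799658 1 (.node 6530165 1 .nil .nil) .nil) (.node 9132153 1 (.node 12538184 0 .nil (.node 1950133 1 .nil .nil)) .nil)) (.node 8327569 1 (.node 2590441 0 (.node 6888817 0 (.node 9374696 0 .nil (.node 7177669 1 (.node 4394981 0 .nil (.node 14687693 1 .nil .nil)) .nil)) .nil) (.node 2575820 1 (.node 11607845 0 (.node 9292404 0 (.node 10260655 1 .nil .nil) .nil) .nil) .nil)) .nil)) (.node 13932858 1 (.node 13431433 0 (.node 11602874 1 (.node 961654 1 .nil .nil) .nil) (.node 11509880 1 (.node 7033131 0 .nil .nil) .nil)) .nil)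

/-- Part of `treeF1`. -/
def treeF1_25 : OTree := .node 11485795 0 treeF1_22 (.node 641004 1 (.node 5971732 0 (.node 10979996 0 (.node 14767165 0 (.node 1923308 0 .nil (.node 7705908 1 (.node 5081773 0 (.node 13309141 0 .nil .nil) .nil) .nil)) (.node 9198654 1 (.node 10385421 0 (.node 11980871 0 (.node 9663785 1 .nil .nil) (.node 1790904 1 (.node 4167192 0 (.node 13059230 1 .nil .nil) (.node 1558742 1 (.node 15836429 0 .nil .nil) .nil)) .nil)) (.node 6140088 1 (.node 5215371 0 (.node 14772636 1 .nil .nil) .nil) .nil)) .nil)) (.node 7295174 1 (.node 3243149 1 .nil .nil) .nil)) treeF1_21) .nil)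

/-- Part of `treeF1`. -/
def treeF1_26 : OTree := .node 5709091 0 (.node 11381441 0 (.node 12797299 0 (.node 3763144 0 (.node 1707735 1 .nil .nil) (.node 7659877 1 (.node 5800935 0 (.node 10664387 1 .nil .nil) .nil) .nil)) (.node 8916911 1 (.node 9076308 0 .nil (.node 4766194 1 (.node 13510538 0 (.node 6318842 1 .nil .nil) .nil) .nil)) .nil)) (.node 7070028 1 (.node 7541670 0 (.node 2991796 0 (.node 4918335 0 .nil (.node 12885646 1 (.node 12876949 0 .nil .nil) .nil)) (.node 2358342 1 .nil .nil)) (.node 11556565 1 (.node 1363324 0 (.node 14195469 0 .nil (.node 14585945 1 .nil .nil)) .nil) .nil)) .nil)) .nil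

/-- Part of `treeF1`. -/
def treeF1_27 : OTree := .node 13982988 0 (.node 9820805 0 (.node 14009429 0 (.node 5360077 0 .nil (.node 16126253 1 (.node 2937573 0 .nil (.node 2348408 1 (.node 8198952 0 (.node 2852062 1 .nil .nil) .nil) .nil)) .nil)) (.node 10164526 1 (.node 782580 1 (.node 8324366 0 (.node 6452444 1 .nil .nil) .nil) .nil) .nil)) (.node 8065148 1 (.node 2610325 1 .nil .nil) .nil)) (.node 14489653 1 (.node 9421005 0 (.node 7558469 0 (.node 3509220 0 (.node 13207349 0 (.node 4934364 0 (.node 11736476 0 .nil .nil) .nil) (.node 9083983 1 (.node 15104324 0 (.node 3757673 1 .nil .nil) .nil) .nil)) .nil) (.node 9460157 1 (.node 10278476 0 (.node 5691669 0 .nil (.node 13832379 1 .nil .nil)) (.node 2070896 1 .nil .nil)) .nil)) (.node 3117484 1 (.node 7280165 0 (.node 3082485 0 (.node 11208045 0 (.node 4249077 1 .nil .nil) (.node 843149 1 .nil .nil)) (.node 6411662 1 (.node 5586596 0 .nil .nil) .nil)) .nil) .nil)) .nil)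

/-- Part of `treeF1`. -/
def treeF1_28 : OTree := .node 13700765 0 (.node 8510684 0 treeF1_27 (.node 7215414 1 (.node 3011784 1 treeF1_26 .nil) .nil)) (.node 16521294 1 (.node 8843685 0 (.node 8144455 0 (.node 1223157 0 (.node 15238990 0 (.node 4357044 0 (.node 12322462 0 .nil (.node 4053570 1 .nil .nil)) (.node 14693619 1 (.node 814570 0 .nil .nil) .nil)) (.node 9362241 1 (.node 16139089 0 (.node 3195897 0 (.node 5805944 0 .nil (.node 9866579 1 .nil .nil)) .nil) (.node 10043883 1 (.node 1832768 0 .nil .nil) .nil)) .nil)) (.node 7484811 1 (.node 6516560 1 .nil .nil) .nil)) (.node 9558888 1 (.node 14537488 0 .nil (.node 10190967 1 .nil .nil)) .nil)) .nil) .nil)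

/-- Part of `treeF1`. -/
def treeF1_29 : OTree := .node 13673846 0 (.node 4778894 0 (.node 12073682 1 (.node 8840506 0 (.node 7895563 0 .nil .nil) (.node 994979 1 (.node 11218003 0 (.node 10709354 0 .nil .nil) .nil) .nil)) .nil) (.node 15118945 1 (.node 7094771 0 .nil (.node 10602283 1 (.node 5864048 0 (.node 10453402 0 .nil (.node 4162183 1 (.node 8551822 1 .nil .nil) .nil)) .nil) .nil)) .nil)) (.node 10108675 1 (.node 10938962 0 (.node 15753531 0 (.node 3581808 1 (.node 13026891 1 .nil .nil) .nil) (.node 10249771 1 (.node 1767507 0 (.node 10445697 1 (.node 1199086 1 .nil .nil) .nil) .nil) .nil)) (.node 4940770 1 (.node 3876754 0 (.node 2338362 0 (.node 15284282 0 (.node 9400490 0 (.node 1174204 1 .nil .nil) .nil) .nil) (.node 4615878 1 .nil .nil)) .nil) .nil)) .nil)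

/-- Part of `treeF1`. -/
def treeF1_30 : OTree := .node 9426002 0 (.node 7825673 0 (.node 11637475 0 (.node 5105008 0 (.node 5966731 0 .nil (.node 16024269 1 (.node 10624315 1 .nil .nil) .nil)) (.node 8629543 1 (.node 15297094 0 (.node 3684007 1 .nil .nil) .nil) .nil)) .nil) (.node 13983917 1 (.node 1692871 0 (.node 5745988 0 (.node 15356493 1 (.node 3559924 0 .nil (.node 3233203 1 (.node 1945192 0 .nil .nil) .nil)) .nil) (.node 13842821 1 (.node 2841444 1 .nil .nil) .nil)) .nil) .nil)) (.node 756662 1 (.node 15410716 0 (.node 2316478 0 (.node 12399660 0 (.node 1038375 0 (.node 10088844 1 (.node 5756422 0 .nil .nil) .nil) (.node 4429500 1 (.node 7150748 0 (.node 8854701 0 .nil .nil) .nil) .nil)) .nil) (.node 6575798 1 (.node 1846461 0 (.node 5151640 1 (.node 15079065 0 .nil (.node 11356378 1 .nil .nil)) .nil) (.node 7715850 1 .nil .nil)) .nil)) .nil) .nil)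

/-- Part of `treeF1`. -/
def treeF1_31 : OTree := .node 9238726 0 (.node 14050567 0 (.node 3205831 0 treeF1_29 (.node 7500648 1 (.node 3969970 0 (.node 5154361 0 (.node 6953179 0 (.node 2977169 1 (.node 6033356 1 .nil .nil) .nil) .nil) (.node 8891594 1 (.node 14777603 0 (.node 7939940 1 (.node 6461127 1 .nil .nil) .nil) (.node 13134397 1 (.node 10113246 0 .nil .nil) .nil)) .nil)) (.node 3393107 1 (.node 7448952 0 (.node 11437653 1 (.node 6441341 0 (.node 3986769 1 .nil .nil) .nil) .nil) .nil) .nil)) .nil)) (.node 10042025 1 treeF1_30 .nil)) (.node 7058224 1 (.node 10864326 1 (.node 5336373 0 (.node 10062542 0 (.node 12842260 0 (.node 16077412 1 (.node 3380271 1 (.node 7190628 0 .nil .nil) .nil) .nil) (.node 9058487 1 (.node 11428942 0 .nil (.node 916384 1 (.node 14616083 0 (.node 2353369 0 .nil .nil) .nil) .nil)) .nil)) (.node 8295236 1 (.node 6718389 0 (.node 6817533 0 (.node 663036 0 (.node 11411212 0 .nil .nil) .nil) (.node 10804554 1 (.node 14230649 1 .nil .nil) .nil)) (.node 10704075 1 .nil .nil))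 .nil)) .nil) .nil) .nil)

/-- Part of `treeF1`. -/
def treeF1_32 : OTree := .node 3087466 0 (.node 11483425 0 treeF1_25 (.node 4842653 1 (.node 5446862 0 (.node 10861956 0 treeF1_23 (.node 7043093 1 (.node 11993326 0 (.node 2749733 0 (.node 13735876 1 (.node 14882919 1 .nil .nil) .nil) (.node 195645 1 .nil .nil)) (.node 4020100 1 (.node 1543733 0 (.node 13553934 1 (.node 7762565 0 (.node 3441911 0 .nil .nil) (.node 11628792 1 (.node 1955114 0 .nil .nil) .nil)) .nil) .nil) .nil)) .nil)) (.node 15997844 1 (.node 8701629 0 treeF1_24 .nil) .nil)) .nil)) (.node 4575124 1 treeF1_28 .nil)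

/-- Part of `treeF1`. -/
def treeF1_33 : OTree := .node 16020553 0 (.node 1366499 0 (.node 14460737 0 treeF1_4 (.node 10201417 1 (.node 14930754 0 (.node 7693232 0 treeF1_2 (.node 11625575 1 treeF1_1 .nil)) (.node 9061365 1 (.node 3819356 0 treeF1_3 .nil) .nil)) .nil)) (.node 7538489 1 (.node 2726648 0 treeF1_10 (.node 6735190 1 (.node 7351213 0 treeF1_9 .nil) .nil)) .nil)) (.node 10316088 1 (.node 10211851 0 treeF1_19 (.node 1999612 1 (.node 6984989 0 treeF1_18 .nil) .nil)) .nil)

/-- Part of `treeF1`. -/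
def treeF1_34 : OTree := .node 681662 0 (.node 3816478 0 (.node 10926126 0 (.node 15495207 0 (.node 1990887 0 (.node 3843399 0 (.node 6466406 0 .nil .nil) (.node 1244041 1 .nil .nil)) (.node 3258280 1 (.node 12815958 1 .nil .nil) .nil)) (.node 9041464 1 (.node 6248474 0 (.node 12038281 0 (.node 6673507 0 .nil .nil) .nil) .nil) .nil)) .nil) (.node 5569170 1 (.node 13935771 0 (.node 4259019 0 (.node 13909442 0 .nil (.node 16329489 1 (.node 8635130 0 .nil (.node 3016678 1 .nil .nil)) .nil)) .nil) (.node 12528138 1 (.node 10743859 0 .nil .nil) .nil)) .nil)) (.node 2408162 1 (.node 13380915 0 (.node 9071307 0 (.node 11695442 0 (.node 3468074 0 (.node 14201395 0 .nil .nil) .nil) (.node 1600435 1 (.node 10135130 0 (.node 6486298 0 .nil (.node 13001395 1 .nil .nil)) (.node 2010050 1 (.node 14853907 0 (.node 14968674 1 .nil .nil) .nil) .nil)) .nil)) (.node 7119848 1 (.node 4855731 0 (.node 3026648 0 .nil (.node 6678978 1 (.node 13707171 0 .nil (.node 12070477 1 .nil .nil)) .nil)) (.node 10522331 1 .nil .nil))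 .nil)) .nil) .nil)

/-- Part of `treeF1`. -/
def treeF1_35 : OTree := .node 3434220 0 (.node 1613111 0 (.node 13611456 1 (.node 6768515 0 (.node 3223281 0 .nil .nil) (.node 10570477 1 (.node 10048884 0 (.node 5738725 1 .nil .nil) .nil) .nil)) .nil) (.node 5414427 1 (.node 14989528 0 (.node 12866987 0 (.node 1867457 0 .nil .nil) (.node 11341369 1 .nil .nil)) (.node 15687954 1 (.node 3367595 0 .nil .nil) .nil)) .nil)) (.node 3505504 1 (.node 10324771 0 (.node 13361745 0 (.node 7553498 0 .nil (.node 11813799 1 (.node 1631861 0 (.node 14062467 1 .nil .nil) (.node 1228138 1 (.node 15514370 0 (.node 11085546 1 .nil .nil) .nil) .nil)) .nil)) (.node 9085422 1 (.node 8452849 1 (.node 14435674 0 .nil .nil) .nil) .nil)) (.node 5998157 1 .nil .nil)) .nil)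

/-- Part of `treeF1`. -/
def treeF1_36 : OTree := .node 12810450 0 (.node 11888010 0 (.node 1179171 0 .nil (.node 5385852 1 (.node 11049374 0 (.node 9256176 1 (.node 9391371 0 (.node 11762241 0 .nil (.node 5792252 1 .nil .nil)) .nil) .nil) (.node 7262739 1 (.node 7741689 0 (.node 2543385 1 .nil .nil) .nil) .nil)) .nil)) (.node 4024869 1 (.node 1742734 1 (.node 6733332 0 (.node 14944447 0 (.node 2932024 1 (.node 13469400 1 .nil .nil) .nil) (.node 15554058 1 (.node 1538225 0 (.node 2083596 1 (.node 15962645 0 .nil .nil) .nil) .nil) .nil)) .nil) .nil) .nil)) (.node 15213494 1 treeF1_34 .nil)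

/-- Part of `treeF1`. -/
def treeF1_37 : OTree := .node 1800838 0 (.node 12035094 0 (.node 6416431 0 (.node 14233830 0 (.node 1041798 0 .nil (.node 2341541 1 .nil .nil)) (.node 12105492 1 (.node 4639294 0 (.node 16265373 0 (.node 2564016 1 .nil .nil) (.node 12382234 1 (.node 5697579 0 .nil .nil) .nil)) .nil) .nil)) (.node 13006380 1 (.node 3954839 0 (.node 9872493 0 (.node 6871367 0 .nil .nil) (.node 2047368 1 .nil .nil)) (.node 7459386 1 .nil .nil)) .nil)) .nil) (.node 7385844 1 (.node 5014974 0 (.node 4865677 0 (.node 10886358 0 (.node 10775853 0 (.node 9984615 0 .nil .nil) .nil) (.node 6904722 1 (.node 9905848 0 .nil .nil) .nil)) .nil) (.node 10984963 1 (.node 15034481 0 (.node 3966765 1 (.node 12752346 1 .nil .nil) .nil) .nil) .nil)) .nil)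

/-- Part of `treeF1`. -/
def treeF1_38 : OTree := .node 11052095 0 (.node 4880494 0 (.node 12464518 0 (.node 2549287 0 (.node 13694730 1 .nil .nil) (.node 229096 1 .nil .nil)) (.node 3797649 1 (.node 5735546 0 (.node 15130653 1 .nil .nil) (.node 9899910 1 (.node 10612245 0 .nil .nil) .nil)) .nil)) (.node 12892080 1 (.node 5000859 0 (.node 9583833 0 .nil (.node 8137114 1 (.node 8566443 0 (.node 7109714 0 (.node 8201865 1 .nil .nil) .nil) .nil) .nil)) (.node 15043178 1 (.node 13201841 0 (.node 2049738 0 (.node 5400735 1 (.node 11580622 0 .nil .nil) .nil) .nil) .nil) .nil)) .nil)) (.node 982538 1 (.node 16136211 0 (.node 10805483 0 (.node 5797219 0 .nil (.node 9482041 1 (.node 13534066 1 (.node 6972313 0 .nil .nil) .nil) .nil)) (.node 3106600 1 (.node 3873331 0 .nil (.node 5293790 1 (.node 5291420 0 .nil .nil) .nil)) .nil)) (.node 14246554 1 (.node 1307802 0 (.node 14117396 1 (.node 11649183 0 (.node 5370988 0 .nil .nil) (.node 4084270 1 (.node 4108341 0 (.node 7241839 0 (.node 6959589 0 .nil (.node 10548633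 1 .nil .nil)) .nil) .nil) .nil)) .nil) .nil) .nil)) .nil)

/-- Part of `treeF1`. -/
def treeF1_39 : OTree := .node 10594550 0 (.node 13198638 0 treeF1_37 (.node 9223717 1 (.node 13518935 0 (.node 11690445 0 (.node 3200870 0 (.node 6073140 0 (.node 13271711 0 (.node 10779058 1 .nil .nil) .nil) (.node 13874243 1 .nil .nil)) .nil) (.node 3961257 1 (.node 1282008 1 .nil .nil) .nil)) (.node 13210538 1 (.node 5207696 0 (.node 3607707 0 (.node 10599529 0 (.node 13457762 0 .nil .nil) .nil) (.node 7686798 1 (.node 9548981 0 (.node 5098574 0 .nil (.node 13081380 1 (.node 11128942 1 (.node 6254884 0 .nil .nil) .nil) .nil)) .nil) .nil)) .nil) .nil)) .nil)) (.node 6977286 1 (.node 3549878 0 treeF1_38 .nil) .nil)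

/-- Part of `treeF1`. -/
def treeF1_40 : OTree := .node 4988135 0 (.node 9317829 0 (.node 10637127 0 .nil (.node 4742121 1 (.node 10360784 0 .nil .nil) .nil)) (.node 6928777 1 (.node 13047522 0 .nil (.node 11079636 1 (.node 8605500 0 (.node 12147228 0 (.node 9949244 0 (.node 8245261 0 .nil .nil) .nil) .nil) .nil) .nil)) .nil)) (.node 14786328 1 (.node 12933816 0 (.node 10310809 0 (.node 1563721 0 (.node 16095553 0 .nil (.node 14369053 1 (.node 3396300 0 (.node 9657367 1 .nil .nil) .nil) .nil)) (.node 5704124 1 (.node 11114125 0 (.node 4676724 0 .nil (.node 12656054 1 .nil .nil)) (.node 3070044 1 .nil .nil)) .nil)) (.node 4032574 1 (.node 9352348 1 .nil .nil) .nil)) (.node 15533174 1 (.node 747949 0 (.node 1629140 1 .nil .nil) .nil) .nil)) .nil)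

/-- Part of `treeF1`. -/
def treeF1_41 : OTree := .node 3531833 0 (.node 5871723 0 (.node 11248021 1 (.node 6506094 0 (.node 7402519 1 .nil .nil) (.node 8675300 1 (.node 10243861 0 (.node 6164970 1 .nil .nil) .nil) .nil)) .nil) (.node 14059292 1 (.node 6347421 0 (.node 13899004 0 (.node 6789177 1 (.node 11388188 1 .nil .nil) .nil) (.node 12393746 1 .nil .nil)) (.node 15093882 1 .nil .nil)) .nil)) (.node 1535022 1 (.node 12171271 0 (.node 13099110 0 (.node 7954823 0 (.node 1287910 0 (.node 6925590 0 (.node 15480516 1 (.node 6364843 1 .nil .nil) .nil) (.node 12777991 1 (.node 16015574 0 .nil (.node 12153634 1 .nil .nil)) .nil)) (.node 3293124 1 (.node 10784566 0 .nil (.node 4939331 1 .nil .nil)) .nil)) .nil) (.node 9123748 1 (.node 3100182 0 (.node 11741245 0 .nil (.node 6059150 1 (.node 7551640 1 .nil .nil) .nil)) (.node 4315878 1 .nil .nil)) .nil)) .nil) .nil)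

/-- Part of `treeF1`. -/
def treeF1_42 : OTree := .node 11314642 0 (.node 4353835 0 .nil (.node 12857065 1 (.node 8936915 0 (.node 9858888 0 (.node 5915259 1 .nil .nil) (.node 6105569 1 (.node 2788301 1 (.node 14817140 0 .nil .nil) .nil) .nil)) (.node 6851387 1 (.node 13251320 0 (.node 3036570 0 (.node 3554857 0 .nil .nil) (.node 2476723 1 .nil .nil)) .nil) .nil)) .nil)) (.node 2878211 1 (.node 15934066 0 (.node 2744762 0 (.node 5977642 0 (.node 3127442 0 (.node 15148075 0 .nil (.node 9268876 1 .nil .nil)) .nil) .nil) .nil) (.node 9988038 1 (.node 1240854 0 (.node 15772190 0 (.node 12644542 0 .nil .nil) (.node 14578242 1 (.node 3596691 0 (.node 7382635 0 .nil .nil) .nil) .nil)) .nil) .nil)) .nil)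

/-- Part of `treeF1`. -/
def treeF1_43 : OTree := .node 7136523 0 (.node 5389027 0 treeF1_42 .nil) (.node 8907305 1 (.node 16339027 0 (.node 1565160 0 (.node 7968515 0 (.node 4696816 0 (.node 15271323 0 (.node 6565364 1 .nil .nil) (.node 11323919 1 (.node 9975226 1 .nil .nil) .nil)) (.node 14886342 1 .nil .nil)) (.node 9620061 1 (.node 10375475 1 (.node 4121161 0 (.node 7508339 0 .nil .nil) .nil) .nil) .nil)) (.node 3614117 1 (.node 2723431 0 (.node 13314420 0 (.node 11223950 0 (.node 3372596 0 .nil .nil) .nil) (.node 13153671 1 (.node 14760928 1 .nil .nil) .nil)) (.node 4382540 1 .nil .nil)) .nil)) .nil) .nil)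

/-- Part of `treeF1`. -/
def treeF1_44 : OTree := .node 1204081 0 (.node 12356440 0 (.node 12768057 0 (.node 11911538 1 (.node 5890857 0 (.node 6001362 0 (.node 6792600 0 .nil .nil) .nil) .nil) .nil) (.node 9307387 1 (.node 2784585 0 (.node 11934562 0 (.node 11330353 0 .nil .nil) (.node 5851089 1 (.node 7735751 1 .nil .nil) .nil)) (.node 4516281 1 (.node 14161611 0 (.node 6498739 1 .nil .nil) .nil) .nil)) .nil)) (.node 6275395 1 (.node 7578561 0 (.node 6391794 0 (.node 14986311 1 (.node 12610023 0 .nil (.node 15218473 1 .nil .nil)) .nil) .nil) .nil) .nil)) (.node 5246459 1 (.node 8961992 0 (.node 13000466 0 (.node 8216682 1 (.node 1814947 0 (.node 8645572 1 (.node 15812374 0 .nil .nil) .nil) (.node 3319453 1 .nil .nil)) .nil) (.node 13175539 1 (.node 2927015 1 .nil .nil) .nil)) .nil) .nil)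

/-- Part of `treeF1`. -/
def treeF1_45 : OTree := .node 5960220 0 (.node 7770270 0 (.node 6599853 0 treeF1_40 (.node 10976280 1 (.node 11884587 0 (.node 10350689 0 (.node 9667501 1 (.node 6936148 0 (.node 16061575 1 (.node 6503724 1 .nil .nil) .nil) (.node 8575350 1 .nil .nil)) .nil) (.node 1811772 1 (.node 7051790 0 (.node 15151284 0 (.node 2966703 0 .nil (.node 2481708 1 (.node 14259230 1 .nil .nil) .nil)) (.node 11105430 1 .nil .nil)) (.node 13030100 1 .nil .nil)) .nil)) .nil) .nil)) (.node 12014226 1 treeF1_41 .nil)) (.node 9875698 1 treeF1_43 .nil)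

/-- Part of `treeF1`. -/
def treeF1_46 : OTree := .node 1420722 0 (.node 13217291 0 treeF1_36 (.node 13544012 1 (.node 14832023 0 treeF1_35 (.node 11031227 1 (.node 1995896 0 (.node 4102411 0 (.node 9135576 1 (.node 3366666 0 (.node 11909680 0 .nil (.node 5989462 1 .nil .nil)) (.node 5524213 1 .nil .nil)) .nil) (.node 5751449 1 (.node 7443673 0 .nil (.node 11946270 1 (.node 11596333 0 (.node 6082678 0 (.node 6201741 0 .nil .nil) (.node 9672498 1 (.node 7203352 0 .nil .nil) .nil)) .nil) .nil)) .nil)) .nil) .nil)) .nil)) (.node 7548423 1 treeF1_39 .nil)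

/-- Part of `treeF1`. -/
def treeF1_47 : OTree := .node 9677459 0 (.node 14804058 0 (.node 16000565 1 (.node 575743 0 (.node 10271121 1 .nil .nil) (.node 6723370 1 (.node 7092913 0 .nil .nil) .nil)) .nil) (.node 9333542 1 (.node 12214807 0 (.node 3334270 0 (.node 9893393 1 (.node 7653467 0 .nil .nil) .nil) (.node 1472418 1 (.node 3976723 0 (.node 12757115 0 .nil .nil) .nil) .nil)) (.node 1635050 1 (.node 6206738 0 (.node 6728331 0 (.node 11038490 1 .nil .nil) .nil) .nil) .nil)) .nil)) (.node 8004302 1 (.node 2274742 0 (.node 7089710 0 .nil (.node 12975680 1 (.node 16319023 1 .nil .nil) .nil)) (.node 2260627 1 .nil .nil)) .nil)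

/-- Part of `treeF1`. -/
def treeF1_48 : OTree := .node 3801535 0 (.node 2799212 0 (.node 12703379 1 (.node 5598424 0 (.node 9543051 0 .nil (.node 8260125 1 .nil .nil)) (.node 16066854 1 (.node 9036455 0 .nil .nil) .nil)) .nil) (.node 458192 1 (.node 15994635 0 .nil (.node 14502473 1 (.node 9687505 0 (.node 7718728 0 (.node 15860831 1 .nil .nil) .nil) .nil) .nil)) .nil)) (.node 3462795 1 (.node 5553265 0 (.node 13404619 0 (.node 12744641 0 (.node 3428306 0 (.node 6171723 1 .nil .nil) (.node 7424867 1 .nil .nil)) .nil) (.node 15696649 1 (.node 6509297 0 (.node 3999224 0 (.node 4623581 1 .nil .nil) (.node 3525895 1 (.node 14300492 1 (.node 2546566 0 .nil .nil) .nil) .nil)) (.node 10503678 1 (.node 1605420 0 (.node 10394134 0 .nil .nil) .nil) .nil)) .nil)) (.node 13839642 1 (.node 10615434 0 (.node 13988914 0 (.node 1960075 0 .nil (.node 7840300 1 .nil .nil)) (.node 10038838 1 .nil .nil)) .nil) .nil)) .nil)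

/-- Part of `treeF1`. -/
def treeF1_49 : OTree := .node 10787753 0 (.node 9014650 1 (.node 13335304 0 (.node 3752694 1 (.node 1490055 1 .nil .nil) .nil) (.node 13410549 1 (.node 4867535 0 (.node 7371217 1 (.node 9734122 0 .nil .nil) .nil) .nil) .nil)) .nil) (.node 7291993 1 (.node 3348969 0 (.node 11376480 0 (.node 5196593 0 (.node 12255961 0 (.node 413111 1 .nil .nil) (.node 3981774 1 .nil .nil)) (.node 12682479 1 (.node 4816324 0 .nil .nil) .nil)) (.node 773461 1 .nil .nil)) (.node 7619997 1 (.node 1089261 0 (.node 13409620 0 (.node 12995469 0 (.node 3692922 1 .nil .nil) (.node 15536361 1 .nil .nil)) (.node 13342995 1 (.node 15164104 0 (.node 3165759 1 .nil .nil) (.node 11362788 1 (.node 1787687 0 (.node 5435846 1 .nil .nil) .nil) .nil)) .nil)) .nil) .nil)) .nil)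

/-- Part of `treeF1`. -/
def treeF1_50 : OTree := .node 7234164 0 treeF1_48 (.node 8517090 1 (.node 6123266 0 treeF1_47 (.node 13740645 1 (.node 13222358 0 (.node 5465996 0 (.node 3251862 0 (.node 13581318 1 (.node 10971271 0 .nil .nil) .nil) (.node 7494230 1 (.node 11837884 0 (.node 4773423 0 .nil .nil) (.node 4158467 1 (.node 3647587 0 .nil .nil) .nil)) .nil)) (.node 11811045 1 (.node 9225575 0 (.node 13677033 1 (.node 5035970 0 (.node 5648273 0 .nil .nil) .nil) .nil) (.node 761641 1 (.node 15669840 0 (.node 10961337 0 .nil .nil) .nil) .nil)) .nil)) .nil) .nil)) .nil)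

/-- Part of `treeF1`. -/
def treeF1_51 : OTree := .node 710361 1 (.node 7740760 0 treeF1_49 (.node 13978003 1 (.node 9561801 0 (.node 5365074 0 (.node 14003080 0 (.node 11143806 1 (.node 11170108 0 .nil (.node 849075 1 .nil .nil)) .nil) (.node 16719941 1 (.node 2343399 0 (.node 9502021 1 (.node 13945670 0 (.node 12202091 1 .nil .nil) .nil) .nil) (.node 2250669 1 (.node 3939956 0 .nil .nil) .nil)) .nil)) (.node 13765431 1 (.node 11068124 0 (.node 9707187 1 (.node 9235545 0 .nil .nil) .nil) (.node 3076450 1 (.node 8266531 0 (.node 2287562 1 .nil .nil) .nil) .nil)) .nil)) .nil) .nil)) .nil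

/-- Part of `treeF1`. -/
def treeF1_52 : OTree := .node 6112828 0 (.node 1808541 0 (.node 15176780 0 (.node 6642085 0 (.node 10290917 0 (.node 4364719 1 .nil .nil) (.node 3775820 1 .nil .nil)) .nil) .nil) .nil) (.node 9804902 1 (.node 13494533 0 (.node 13845191 0 (.node 3270100 0 (.node 5345070 0 (.node 13220500 0 (.node 11344550 1 .nil .nil) .nil) (.node 14032453 1 (.node 10799573 0 (.node 13649773 0 .nil (.node 10231145 1 .nil .nil)) .nil) .nil)) (.node 3307815 1 (.node 12362342 0 .nil .nil) .nil)) (.node 12063724 1 (.node 972596 0 .nil (.node 236787 1 .nil .nil)) .nil)) (.node 13348909 1 .nil .nil)) .nil)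

/-- Part of `treeF1`. -/
def treeF1_53 : OTree := .node 12692945 0 (.node 12668874 0 (.node 9535376 0 (.node 9817626 0 (.node 13760537 0 (.node 14012618 0 .nil (.node 12518196 1 (.node 447726 1 .nil .nil) .nil)) (.node 14557246 1 (.node 2552504 1 (.node 8131643 0 .nil .nil) .nil) .nil)) (.node 6228582 1 (.node 2814095 1 (.node 7746662 0 (.node 6551049 1 .nil .nil) .nil) .nil) .nil)) (.node 7874679 1 (.node 3061633 1 .nil .nil) .nil)) (.node 15469413 1 (.node 2659819 1 (.node 5128032 0 (.node 11406227 0 (.node 10643065 0 .nil .nil) (.node 6931147 1 (.node 11546007 1 .nil .nil) .nil)) .nil) .nil) .nil)) (.node 15345935 1 (.node 10646246 0 (.node 3958070 0 (.node 1747503 0 (.node 15380566 0 (.node 6709678 0 (.node 3210840 1 .nil .nil) .nil) .nil) (.node 5682888 1 (.node 6593939 0 (.node 15543624 1 .nil .nil) (.node 14895643 1 .nil .nil)) .nil)) .nil) .nil) .nil)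

/-- The spanning tree `treeF1`. -/
def treeF1 : OTree := .node 14433816 0 (.node 8837275 0 treeF1_33 (.node 7275194 1 (.node 2831545 0 treeF1_32 (.node 2419870 1 (.node 13646895 0 treeF1_31 .nil) .nil)) .nil)) (.node 14526546 1 (.node 12837259 0 (.node 7435970 0 treeF1_46 (.node 11561844 1 (.node 10011454 0 treeF1_45 (.node 2004579 1 (.node 7252305 0 (.node 11290569 1 treeF1_44 .nil) .nil) .nil)) .nil)) (.node 11412141 1 (.node 2774135 0 (.node 4073836 0 (.node 11178791 0 treeF1_50 treeF1_51) (.node 5633409 1 (.node 5607107 0 treeF1_53 (.node 15928140 1 (.node 10605492 0 treeF1_52 .nil) .nil)) .nil)) .nil) .nil)) .nil)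


/-- The spanning tree `treeF2`. -/
def treeF2 : OTree := .nil

/-- Part of `treeF3`. -/
def treeF3_0 : OTree := .node 7391670 0 (.node 14198444 0 (.node 14850738 1 (.node 15492280 0 .nil (.node 11398178 1 (.node 14379043 0 (.node 12312770 0 .nil .nil) .nil) .nil)) .nil) (.node 12500032 1 (.node 15124771 0 (.node 16278241 0 (.node 1754610 0 (.node 8040200 0 .nil .nil) .nil) (.node 12117352 1 (.node 5954338 0 (.node 16687760 0 .nil .nil) (.node 13797105 1 .nil .nil)) .nil)) .nil) .nil)) (.node 15881763 1 (.node 3991792 0 (.node 14320939 0 (.node 7011008 0 .nil (.node 14868976 1 (.node 7882666 0 (.node 7515346 1 .nil .nil) .nil) .nil)) (.node 10391177 1 (.node 13257146 1 (.node 12220040 0 .nil .nil) .nil) .nil)) (.node 7595298 1 (.node 7973538 0 (.node 13345970 0 (.node 7040138 0 (.node 7892628 1 .nil .nil) .nil) (.node 11185798 1 (.node 14838838 0 .nil (.node 13139618 1 (.node 10382482 0 .nil .nil) .nil)) .nil)) .nil) .nil)) .nil)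

/-- Part of `treeF3`. -/
def treeF3_1 : OTree := .node 6540200 0 (.node 16324272 0 (.node 6786214 1 .nil .nil) (.node 12110934 1 (.node 14562465 1 .nil .nil) .nil)) (.node 15090917 1 (.node 3689957 0 (.node 10129252 0 (.node 15387412 0 (.node 15876796 0 (.node 3595314 1 .nil .nil) (.node 12342498 1 .nil .nil)) (.node 13291747 1 (.node 11659681 1 (.node 14272098 0 (.node 15900839 1 (.node 10682144 1 .nil .nil) .nil) .nil) .nil) .nil)) (.node 5938625 1 (.node 15110080 0 (.node 14700465 0 .nil (.node 15223915 1 (.node 7906737 1 .nil .nil) .nil)) (.node 15419841 1 (.node 11749344 0 (.node 3788592 0 .nil .nil) .nil) .nil)) .nil)) (.node 7396649 1 (.node 14457568 0 .nil .nil) .nil)) .nil)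

/-- Part of `treeF3`. -/
def treeF3_2 : OTree := .node 13504180 0 (.node 11160733 0 (.node 6053296 1 .nil .nil) (.node 7133354 1 (.node 12168344 1 (.node 12835882 0 (.node 16375860 1 (.node 6013102 0 .nil .nil) .nil) .nil) .nil) .nil)) (.node 15310018 1 (.node 13069728 0 (.node 12144259 0 (.node 9694320 0 (.node 16369930 0 (.node 13890208 0 .nil (.node 12199156 1 .nil .nil)) .nil) (.node 5909926 1 .nil .nil)) (.node 7916140 1 (.node 12227731 1 (.node 6745192 0 .nil .nil) .nil) .nil)) (.node 15281317 1 (.node 9129190 0 (.node 12283140 0 (.node 11782694 0 .nil .nil) (.node 5830821 1 (.node 14582982 0 (.node 14842025 1 .nil .nil) .nil) .nil)) .nil) .nil)) .nil)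

/-- Part of `treeF3`. -/
def treeF3_3 : OTree := .node 7505388 1 (.node 6856612 0 treeF3_2 (.node 14867537 1 (.node 16009704 0 (.node 10016673 0 (.node 6213200 0 (.node 15894937 0 (.node 14735080 0 (.node 15830067 1 .nil .nil) (.node 11423088 1 (.node 6079721 1 .nil .nil) .nil)) .nil) (.node 13863394 1 (.node 15329152 0 (.node 5459634 0 (.node 8316934 1 .nil .nil) (.node 15732454 1 (.node 6994979 1 .nil .nil) .nil)) (.node 11200613 1 (.node 16400742 0 (.node 3859364 0 .nil .nil) .nil) .nil)) .nil)) (.node 3837049 1 (.node 13550993 1 (.node 7491273 0 .nil .nil) .nil) .nil)) .nil) .nil)) .nil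

/-- Part of `treeF3`. -/
def treeF3_4 : OTree := .node 7456421 0 (.node 5868788 0 (.node 13340044 0 (.node 14900868 0 .nil (.node 15227124 1 (.node 10372524 0 .nil (.node 4037793 1 .nil .nil)) .nil)) (.node 15636613 1 (.node 11099560 1 (.node 10444320 0 (.node 12568593 0 (.node 15974505 0 .nil .nil) .nil) .nil) .nil) .nil)) (.node 15899910 1 (.node 15002276 0 (.node 14173367 0 (.node 1764556 0 .nil .nil) (.node 12099114 1 .nil .nil)) (.node 15430752 1 (.node 4147618 0 (.node 12297761 0 (.node 12765094 1 (.node 15792226 1 .nil .nil) .nil) .nil) .nil) .nil)) .nil)) (.node 11689068 1 (.node 12376356 0 (.node 14598693 0 (.node 11719082 1 (.node 8189472 0 (.node 6195379 0 .nil (.node 15959690 1 .nil .nil)) .nil) .nil) (.node 10196200 1 .nil .nil)) .nil) .nil)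

/-- Part of `treeF3`. -/
def treeF3_5 : OTree := .node 7478453 0 (.node 11308268 0 (.node 13262117 0 (.node 12470980 0 (.node 11715893 0 (.node 14079328 1 (.node 8178561 0 .nil .nil) .nil) (.node 1727659 1 (.node 6023568 1 .nil .nil) .nil)) (.node 7983584 1 (.node 6260640 0 (.node 7048849 0 .nil .nil) .nil) .nil)) (.node 13147321 1 (.node 13524168 0 (.node 7948473 1 .nil .nil) .nil) .nil)) (.node 7331072 1 (.node 16190113 0 (.node 2805038 1 (.node 16398884 0 .nil .nil) .nil) (.node 16336076 1 .nil .nil)) .nil)) (.node 15752346 1 (.node 9764008 0 (.node 14474243 0 (.node 14084289 0 (.node 12208937 1 .nil .nil) (.node 16458152 1 (.node 2872994 0 (.node 13757574 1 .nil .nil) .nil) .nil)) (.node 14387768 1 (.node 11452598 1 (.node 8021037 0 .nil .nil) .nil) .nil)) (.node 8334384 1 (.node 11241643 0 (.node 8973748 1 (.node 14306830 0 (.node 11729044 0 .nil (.node 8024242 1 (.node 4105386 0 .nil .nil) .nil)) .nil) .nil) .nil) .nil)) .nil)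

/-- Part of `treeF3`. -/
def treeF3_6 : OTree := .node 16133260 0 (.node 10542247 0 (.node 14445668 0 (.node 8032937 1 (.node 7247088 0 (.node 7212457 0 (.node 11149025 0 .nil (.node 6868440 1 .nil .nil)) .nil) (.node 10734994 1 (.node 15822376 0 (.node 8029750 1 .nil .nil) .nil) .nil)) .nil) (.node 14269728 1 (.node 13617794 0 (.node 15950993 0 .nil (.node 12085422 1 (.node 10155046 0 .nil (.node 1752752 1 (.node 15633434 0 .nil .nil) .nil)) .nil)) .nil) .nil)) (.node 6970936 1 (.node 8242322 1 (.node 5483689 0 .nil .nil) .nil) .nil)) (.node 16611456 1 (.node 9946275 0 (.node 7990337 0 (.node 16385925 1 (.node 2281204 0 .nil (.node 6446562 1 (.node 12332960 0 (.node 4886250 1 .nil .nil) .nil) .nil)) .nil) (.node 13822252 1 (.node 16306822 0 (.node 5694644 0 (.node 16177672 1 .nil .nil) (.node 11746466 1 (.node 4976164 1 .nil .nil) .nil)) (.node 12243568 1 (.node 8307000 0 (.node 11977944 1 (.node 14044217 1 .nil .nil) .nil) .nil) .nil)) .nil)) .nil) .nil)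

/-- Part of `treeF3`. -/
def treeF3_7 : OTree := .node 15681580 0 (.node 3724476 1 (.node 6200364 0 (.node 15454360 1 (.node 7820456 0 (.node 7588892 1 .nil .nil) (.node 11881652 1 .nil .nil)) .nil) .nil) .nil) (.node 13489316 1 (.node 6245509 0 (.node 11766981 0 (.node 14798180 0 (.node 14240676 0 (.node 3840230 1 (.node 15639844 0 .nil .nil) .nil) (.node 16290917 1 (.node 5163492 0 (.node 12114121 1 .nil .nil) .nil) .nil)) .nil) (.node 8018316 1 (.node 11966116 0 (.node 7130165 0 (.node 16553352 1 (.node 4644513 0 (.node 16518353 0 .nil .nil) (.node 14879992 1 .nil .nil)) .nil) .nil) (.node 3890384 1 (.node 12029224 0 (.node 15325729 0 (.node 14631152 0 .nil .nil) .nil) .nil) .nil)) .nil)) (.node 15833260 1 .nil .nil)) .nil)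

/-- Part of `treeF3`. -/
def treeF3_8 : OTree := .node 9365216 0 (.node 8015123 0 (.node 11709160 0 (.node 15258930 0 (.node 6187688 0 .nil .nil) (.node 9096755 1 (.node 14475682 1 (.node 5957251 0 .nil .nil) .nil) .nil)) (.node 8283584 1 (.node 3313571 0 (.node 15249008 0 .nil (.node 13299010 1 (.node 15887234 0 .nil .nil) .nil)) .nil) .nil)) (.node 13683371 1 (.node 14218448 0 .nil (.node 12233010 1 (.node 15393322 0 (.node 11593394 1 (.node 5827642 0 .nil .nil) .nil) .nil) .nil)) .nil)) (.node 2862560 1 (.node 15404834 0 (.node 11233968 0 (.node 12272698 0 .nil .nil) (.node 6874342 1 .nil .nil)) .nil) .nil)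

/-- Part of `treeF3`. -/
def treeF3_9 : OTree := .node 13160133 0 (.node 13782484 0 (.node 11587468 0 (.node 13688372 0 (.node 16748578 1 .nil .nil) (.node 14294130 1 (.node 11463048 0 (.node 9981688 1 (.node 10149144 0 .nil .nil) .nil) (.node 7332001 1 .nil .nil)) .nil)) .nil) (.node 16259491 1 treeF3_8 .nil)) (.node 15374696 1 (.node 15618976 0 (.node 4081329 0 (.node 5688714 1 (.node 15777409 0 .nil (.node 16410712 1 .nil .nil)) .nil) (.node 3263722 1 (.node 14330901 1 (.node 14862542 0 (.node 12090417 1 .nil .nil) .nil) .nil) .nil)) (.node 11126001 1 (.node 5983592 0 (.node 12295040 0 (.node 15189552 0 (.node 16041006 1 (.node 15905848 1 .nil .nil) .nil) .nil) (.node 8044757 1 (.node 11951489 1 (.node 11849313 0 .nil .nil) .nil) .nil)) .nil) .nil)) .nil)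

/-- Part of `treeF3`. -/
def treeF3_10 : OTree := .node 16598305 0 (.node 1821409 0 (.node 16483664 0 treeF3_1 (.node 10144135 1 (.node 15918660 0 treeF3_0 (.node 10123744 1 (.node 12502786 0 (.node 7531057 0 (.node 16285946 0 (.node 10923185 1 .nil .nil) .nil) (.node 13788394 1 (.node 3734914 0 (.node 14069282 0 (.node 15263891 0 .nil .nil) (.node 14364352 1 (.node 6965927 1 .nil .nil) .nil)) .nil) .nil)) .nil) .nil)) .nil)) treeF3_3) (.node 10079277 1 (.node 14407748 0 (.node 16236932 0 treeF3_4 (.node 12275877 1 (.node 1301924 1 (.node 16616964 0 (.node 12830901 0 .nil (.node 15340718 1 (.node 6421680 1 (.node 14486698 0 (.node 9174145 0 .nil (.node 6990012 1 .nil .nil)) .nil) .nil) .nil)) .nil) .nil) .nil)) (.node 14324148 1 (.node 7259788 0 treeF3_5 .nil) .nil)) .nil)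

/-- Part of `treeF3`. -/
def treeF3_11 : OTree := .node 15268876 0 (.node 14047398 0 (.node 12379269 0 (.node 5426279 0 (.node 16296388 0 .nil (.node 16445697 1 (.node 7783138 0 (.node 11725835 1 .nil .nil) .nil) .nil)) (.node 13770664 1 (.node 11329168 0 .nil (.node 7063666 1 .nil .nil)) .nil)) (.node 3930152 1 (.node 10208916 1 .nil .nil) .nil)) .nil) (.node 13563952 1 (.node 16662667 0 (.node 3339489 0 (.node 8162658 0 (.node 13282209 0 (.node 15353554 0 (.node 7629987 1 .nil .nil) .nil) (.node 15377609 1 .nil .nil)) (.node 13881089 1 (.node 15846096 0 .nil .nil) .nil)) (.node 3304888 1 .nil .nil)) .nil) .nil)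

/-- Part of `treeF3`. -/
def treeF3_12 : OTree := .node 12436136 0 (.node 6018097 0 (.node 8358088 0 (.node 14914977 0 (.node 7163616 0 (.node 10161585 0 (.node 11259464 0 .nil .nil) (.node 7900303 1 (.node 12762340 0 (.node 15486342 0 (.node 9596581 0 .nil (.node 7879912 1 .nil .nil)) .nil) (.node 15351184 1 (.node 10899114 0 .nil .nil) .nil)) .nil)) .nil) .nil) .nil) (.node 9604286 1 treeF3_11 .nil)) (.node 4179044 1 (.node 8096037 0 (.node 15434468 0 .nil (.node 11195844 1 (.node 7753508 0 (.node 12094133 0 (.node 13288572 0 (.node 16044209 1 .nil .nil) (.node 9346466 1 (.node 15625729 0 .nil (.node 13232360 1 .nil .nil)) .nil)) (.node 8049738 1 (.node 7780768 0 (.node 15500963 0 (.node 4877553 0 (.node 12193226 0 .nil .nil) (.node 14724522 1 .nil .nil)) .nil) .nil) .nil)) (.node 13720801 1 (.node 10341824 0 (.node 14289133 1 (.node 2808241 1 (.node 16647784 0 (.node 6472891 1 .nil .nil) .nil) .nil) .nil) .nil) .nil)) .nil)) .nil) .nil)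

/-- Part of `treeF3`. -/
def treeF3_13 : OTree := .node 6997857 0 (.node 7998448 0 (.node 11175864 0 (.node 12897522 1 (.node 16558121 1 .nil .nil) .nil) (.node 3067075 1 (.node 14183817 1 (.node 9625282 0 (.node 16051472 0 .nil .nil) .nil) .nil) .nil)) (.node 15779267 1 (.node 5304288 0 (.node 14192530 0 (.node 12775064 0 (.node 16534066 1 .nil .nil) (.node 15608034 1 (.node 2682537 1 .nil .nil) .nil)) (.node 16419395 1 (.node 11167139 1 (.node 3829346 0 .nil .nil) .nil) .nil)) (.node 15871329 1 (.node 11062242 0 (.node 14313264 0 (.node 3852954 0 .nil .nil) (.node 10005731 1 .nil .nil)) .nil) .nil)) .nil)) (.node 8572393 1 (.node 16277312 0 (.node 9882544 0 (.node 16303641 0 (.node 5429496 0 .nil (.node 16123314 1 .nil .nil)) (.node 10405994 1 (.node 10150073 1 .nil .nil) .nil)) (.node 8062179 1 (.node 6483333 1 .nil .nil) .nil)) (.node 14207345 1 (.node 14336968 0 (.node 7526288 0 (.node 7638712 0 .nil (.node 16206914 1 .nil .nil)) (.node 11684083 1 (.node 2026785 1 .nil .nil) .nil)) .nil) .nil))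 .nil)

/-- Part of `treeF3`. -/
def treeF3_14 : OTree := .node 5889672 0 (.node 14130320 0 (.node 15060105 0 (.node 16256316 1 (.node 9099948 0 (.node 16667668 0 (.node 3590317 0 .nil .nil) (.node 10082482 1 (.node 14672904 0 .nil .nil) .nil)) .nil) .nil) .nil) (.node 16451734 1 (.node 10740908 0 (.node 7953446 0 (.node 10463396 0 .nil (.node 8107140 1 .nil .nil)) .nil) (.node 3046564 1 (.node 12454951 0 (.node 4912552 1 (.node 8265346 0 .nil .nil) .nil) .nil) .nil)) .nil)) (.node 16156788 1 (.node 15253933 0 (.node 5920484 0 (.node 4099476 0 (.node 14847533 0 .nil .nil) (.node 7592067 1 (.node 16098528 0 (.node 4836771 0 .nil .nil) .nil) .nil)) (.node 11574768 1 (.node 13422376 0 (.node 14310033 0 .nil .nil) (.node 13601889 1 .nil .nil)) .nil)) .nil) .nil)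

/-- Part of `treeF3`. -/
def treeF3_15 : OTree := .node 13816973 0 (.node 15948080 1 treeF3_12 .nil) (.node 12458168 1 (.node 11457577 0 (.node 8280161 0 (.node 12485089 0 treeF3_13 (.node 3917193 1 (.node 7577184 0 (.node 15567280 0 (.node 13321897 0 .nil .nil) (.node 15451143 1 (.node 7563492 0 (.node 12158374 0 .nil (.node 3857925 1 (.node 14374274 1 (.node 3665536 0 .nil .nil) .nil) .nil)) (.node 15758756 1 (.node 1887910 0 (.node 14334090 1 (.node 15135874 0 .nil .nil) .nil) .nil) .nil)) .nil)) .nil) .nil)) (.node 13747640 1 treeF3_14 .nil)) .nil) .nil)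

/-- The spanning tree `treeF3`. -/
def treeF3 : OTree := .node 16456713 0 (.node 11000032 0 treeF3_10 (.node 7030196 1 (.node 3870380 0 (.node 11246644 0 treeF3_7 (.node 4906134 1 treeF3_6 .nil)) (.node 7658692 1 (.node 13929893 0 treeF3_9 .nil) .nil)) .nil)) (.node 14469276 1 treeF3_15 .nil)


/-- The spanning tree `treeF4`. -/
def treeF4 : OTree := .nil

/-- The orbit certificates of configuration F. -/
def certsF : List (ℕ × OTree) := [(28637, treeF0), (57274, treeF1), (340831, treeF2), (1035448, treeF3), (16436384, treeF4)]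

end Cfsg.Lib.Golay
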