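import Cfsg.Agent.Golay.Transfer
import Cfsg.Agent.Golay.OrbitData
import Cfsg.Agent.Golay.Conj

/-!
Orbits of stabilisers of an octad, of a dodecad, and of one or two points.
-/

namespace Cfsg.Lib.Golay

open Cfsg Cfsg.Lib.PermCert MulAction
open scoped Pointwise

/-- The listed tables fix the listed masks. -/
def fixesMasks (gens : List PP) (ms : List ℕ) : Bool :=
  gens.all fun g => preserves g && ms.all fun m => decide (m < 2 ^ 24) && (img g m == m)

theorem orbit_fix {gens : List PP} {cls : ℕ → ℕ} {univ : List ℕ} {certs : List (ℕ × OTree)} {ms : List ℕ}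
    (h : orbitsOK gens (· % 4096) cls univ certs = true) (hfix : fixesMasks gens ms = true)
    (hu : univ.all inCode = true) (hr : certs.all (fun c => inCode c.1) = true) {x y : Finset GolayPt}
    (hx : mk x ∈ univ) (hy : mk y ∈ univ) (hc : cls (mk x) = cls (mk y)) :
    ∃ g : Equiv.Perm GolayPt, g ∈ M24 ∧ (∀ m ∈ ms, g • pts m = pts m) ∧ g • x = y := by
  simp only [fixesMasks, List.all_eq_true, Bool.and_eq_true, decide_eq_true_eq, beq_iff_eq] at hfix
  have hcode : ∀ m, inCode m = true → pts m ∈ supports (golayCode : Set (GolayPt → ZMod 2)) := fun m hm => by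
    rw [mem_supports_iff, mk_pts (lt_of_inCode hm)]; exact hm
  set K : Subgroup (Equiv.Perm GolayPt) := Subgroup.closure {p | ∃ g ∈ gens, toP g = p} with hK
  have hKM : K ≤ M24 := (Subgroup.closure_le _).mpr (by rintro _ ⟨g, hg, rfl⟩; exact toP_mem_M24 (hfix g hg).1)
  obtain ⟨g, hg, hgx⟩ := orbitsOK_sound h K (fun g hg => Subgroup.subset_closure ⟨g, hg, rfl⟩)
    (· ∈ supports (golayCode : Set (GolayPt → ZMod 2))) (fun g hg s hs => (mem_M24_iff g).mp (hKM hg) s hs)
    (fun c hc => hcode _ (List.all_eq_true.mp hr c hc)) (fun s t => code_key_inj)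
    (fun m hm => hcode _ (List.all_eq_true.mp hu m hm)) hx hy hc
  refine ⟨g, hKM hg, fun m hm => ?_, hgx⟩
  have hKs : K ≤ stabilizer (Equiv.Perm GolayPt) (pts m) := (Subgroup.closure_le _).mpr (by
    rintro _ ⟨g, hg, rfl⟩
    obtain ⟨hp, hg'⟩ := hfix g hg
    simp only [preserves, Bool.and_eq_true] at hp
    rw [SetLike.mem_coe, mem_stabilizer_iff, ← pts_img hp.1, (hg' m hm).2])
  exact mem_stabilizer_iff.mp (hKs hg)

theorem fix_of_singleton {g : Equiv.Perm GolayPt} {p : GolayPt} {m : ℕ} (hm : pts m = {p})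
    (h : g • pts m = pts m) : g p = p := by
  rw [hm, Finset.smul_finset_singleton, Finset.singleton_inj] at h
  exact h

/-- Intersection size with the standard octad, on masks. -/
def meet0 (m : ℕ) : ℕ := pc (m &&& 5279)

/-- Intersection size with the standard dodecad, on masks. -/
def meetD (m : ℕ) : ℕ := pc (m &&& 340831)

theorem pts_land (a b : ℕ) : pts (a &&& b) = pts a ∩ pts b := by
  ext p; simp [Nat.testBit_and]

theorem meet0_eq (s : Finset GolayPt) : meet0 (mk s) = (oct0 ∩ s).card := by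
  rw [meet0, pc_eq_card, pts_land, pts_mk, oct0, Finset.inter_comm]

theorem meetD_eq (s : Finset GolayPt) : meetD (mk s) = (pts 340831 ∩ s).card := by
  rw [meetD, pc_eq_card, pts_land, pts_mk, Finset.inter_comm]

theorem base5_pts : base5 0 = ptAt 0 ∧ base5 1 = ptAt 1 ∧ b7 = ptAt 5 ∧
    pts 1 = {ptAt 0} ∧ pts 2 = {ptAt 1} ∧ pts 32 = {ptAt 5} := by decide +kernel

theorem testBit_mk_pt (s : Finset GolayPt) {i : ℕ} (hi : i < 24) : (mk s).testBit i = true ↔ ptAt i ∈ s := by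
  conv_rhs => rw [← pts_mk s, mem_pts, pidx_ptAt ⟨i, hi⟩]

theorem octads_orbit_A {x y : Finset GolayPt} (hx : x ∈ octads) (hy : y ∈ octads) (hx0 : ptAt 0 ∈ x)
    (hy0 : ptAt 0 ∈ y) (h : (oct0 ∩ x).card = (oct0 ∩ y).card) :
    ∃ g : Equiv.Perm GolayPt, g ∈ M24 ∧ g (ptAt 0) = ptAt 0 ∧ g • oct0 = oct0 ∧ g • x = y := by
  obtain ⟨g, hg, hf, hgx⟩ := orbit_fix (gens := gensA) (cls := meet0)
    (univ := octMasks.filter fun m => m.testBit 0) (certs := certsA) (ms := [1, 5279])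
    (by decide +kernel) (by decide +kernel) (by decide +kernel) (by decide +kernel) (x := x) (y := y)
    (List.mem_filter.mpr ⟨mk_mem_octMasks.mpr hx, (testBit_mk_pt x (by norm_num)).mpr hx0⟩)
    (List.mem_filter.mpr ⟨mk_mem_octMasks.mpr hy, (testBit_mk_pt y (by norm_num)).mpr hy0⟩)
    (by rw [meet0_eq, meet0_eq, h])
  exact ⟨g, hg, fix_of_singleton base5_pts.2.2.2.1 (hf 1 (by simp)), hf 5279 (by simp), hgx⟩

theorem octads_orbit_B {x y : Finset GolayPt} (hx : x ∈ octads) (hy : y ∈ octads) (hx0 : ptAt 5 ∉ x)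
    (hy0 : ptAt 5 ∉ y) (h : (oct0 ∩ x).card = (oct0 ∩ y).card) :
    ∃ g : Equiv.Perm GolayPt, g ∈ M24 ∧ g (ptAt 5) = ptAt 5 ∧ g • oct0 = oct0 ∧ g • x = y := by
  obtain ⟨g, hg, hf, hgx⟩ := orbit_fix (gens := gensB) (cls := meet0)
    (univ := octMasks.filter fun m => !m.testBit 5) (certs := certsB) (ms := [32, 5279])
    (by decide +kernel) (by decide +kernel) (by decide +kernel) (by decide +kernel) (x := x) (y := y)
    (List.mem_filter.mpr ⟨mk_mem_octMasks.mpr hx, by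
      rw [Bool.not_eq_true', Bool.eq_false_iff, Ne, testBit_mk_pt x (by norm_num)]; exact hx0⟩)
    (List.mem_filter.mpr ⟨mk_mem_octMasks.mpr hy, by
      rw [Bool.not_eq_true', Bool.eq_false_iff, Ne, testBit_mk_pt y (by norm_num)]; exact hy0⟩)
    (by rw [meet0_eq, meet0_eq, h])
  exact ⟨g, hg, fix_of_singleton base5_pts.2.2.2.2.2 (hf 32 (by simp)), hf 5279 (by simp), hgx⟩

theorem octads_orbit_O {x y : Finset GolayPt} (hx : x ∈ octads) (hy : y ∈ octads)
    (h : (oct0 ∩ x).card = (oct0 ∩ y).card) :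
    ∃ g : Equiv.Perm GolayPt, g ∈ M24 ∧ g • oct0 = oct0 ∧ g • x = y := by
  obtain ⟨g, hg, hf, hgx⟩ := orbit_fix (gens := gensO) (cls := meet0)
    (univ := octMasks) (certs := certsO) (ms := [5279])
    (by decide +kernel) (by decide +kernel) (by decide +kernel) (by decide +kernel) (x := x) (y := y)
    (mk_mem_octMasks.mpr hx) (mk_mem_octMasks.mpr hy) (by rw [meet0_eq, meet0_eq, h])
  exact ⟨g, hg, hf 5279 (by simp), hgx⟩

theorem octads_orbit_C {x y : Finset GolayPt} (hx : x ∈ octads) (hy : y ∈ octads) (hx0 : ptAt 0 ∈ x)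
    (hx1 : ptAt 1 ∈ x) (hy0 : ptAt 0 ∈ y) (hy1 : ptAt 1 ∈ y) (h : (oct0 ∩ x).card = (oct0 ∩ y).card) :
    ∃ g : Equiv.Perm GolayPt, g ∈ M24 ∧ g (ptAt 0) = ptAt 0 ∧ g (ptAt 1) = ptAt 1 ∧ g • oct0 = oct0 ∧ g • x = y := by
  obtain ⟨g, hg, hf, hgx⟩ := orbit_fix (gens := gensC) (cls := meet0)
    (univ := octMasks.filter fun m => m.testBit 0 && m.testBit 1) (certs := certsC) (ms := [1, 2, 5279])
    (by decide +kernel) (by decide +kernel) (by decide +kernel) (by decide +kernel) (x := x) (y := y)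
    (List.mem_filter.mpr ⟨mk_mem_octMasks.mpr hx, by
      rw [Bool.and_eq_true, testBit_mk_pt x (by norm_num), testBit_mk_pt x (by norm_num)]; exact ⟨hx0, hx1⟩⟩)
    (List.mem_filter.mpr ⟨mk_mem_octMasks.mpr hy, by
      rw [Bool.and_eq_true, testBit_mk_pt y (by norm_num), testBit_mk_pt y (by norm_num)]; exact ⟨hy0, hy1⟩⟩)
    (by rw [meet0_eq, meet0_eq, h])
  exact ⟨g, hg, fix_of_singleton base5_pts.2.2.2.1 (hf 1 (by simp)),
    fix_of_singleton base5_pts.2.2.2.2.1 (hf 2 (by simp)), hf 5279 (by simp), hgx⟩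

theorem octads_orbit_D {x y : Finset GolayPt} (hx : x ∈ octads) (hy : y ∈ octads) (hx0 : ptAt 0 ∈ x)
    (hx5 : ptAt 5 ∉ x) (hy0 : ptAt 0 ∈ y) (hy5 : ptAt 5 ∉ y) (h : (oct0 ∩ x).card = (oct0 ∩ y).card) :
    ∃ g : Equiv.Perm GolayPt, g ∈ M24 ∧ g (ptAt 0) = ptAt 0 ∧ g (ptAt 5) = ptAt 5 ∧ g • oct0 = oct0 ∧ g • x = y := by
  obtain ⟨g, hg, hf, hgx⟩ := orbit_fix (gens := gensD) (cls := meet0)
    (univ := octMasks.filter fun m => m.testBit 0 && !m.testBit 5) (certs := certsD) (ms := [1, 32, 5279])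
    (by decide +kernel) (by decide +kernel) (by decide +kernel) (by decide +kernel) (x := x) (y := y)
    (List.mem_filter.mpr ⟨mk_mem_octMasks.mpr hx, by
      rw [Bool.and_eq_true, Bool.not_eq_true', Bool.eq_false_iff, Ne, testBit_mk_pt x (by norm_num),
        testBit_mk_pt x (by norm_num)]
      exact ⟨hx0, hx5⟩⟩)
    (List.mem_filter.mpr ⟨mk_mem_octMasks.mpr hy, by
      rw [Bool.and_eq_true, Bool.not_eq_true', Bool.eq_false_iff, Ne, testBit_mk_pt y (by norm_num),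
        testBit_mk_pt y (by norm_num)]
      exact ⟨hy0, hy5⟩⟩)
    (by rw [meet0_eq, meet0_eq, h])
  exact ⟨g, hg, fix_of_singleton base5_pts.2.2.2.1 (hf 1 (by simp)),
    fix_of_singleton base5_pts.2.2.2.2.2 (hf 32 (by simp)), hf 5279 (by simp), hgx⟩

theorem dodecads_orbit_E {x y : Finset GolayPt} (hx : x ∈ dodecads) (hy : y ∈ dodecads) (hx0 : ptAt 0 ∈ x)
    (hy0 : ptAt 0 ∈ y) (h : (pts 340831 ∩ x).card = (pts 340831 ∩ y).card) :
    ∃ g : Equiv.Perm GolayPt, g ∈ M24 ∧ g (ptAt 0) = ptAt 0 ∧ g • pts 340831 = pts 340831 ∧ g • x = y := by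
  obtain ⟨g, hg, hf, hgx⟩ := orbit_fix (gens := gensE) (cls := meetD)
    (univ := dodMasks.filter fun m => m.testBit 0) (certs := certsE) (ms := [1, 340831])
    (by decide +kernel) (by decide +kernel) (by decide +kernel) (by decide +kernel) (x := x) (y := y)
    (List.mem_filter.mpr ⟨mk_mem_dodMasks.mpr hx, (testBit_mk_pt x (by norm_num)).mpr hx0⟩)
    (List.mem_filter.mpr ⟨mk_mem_dodMasks.mpr hy, (testBit_mk_pt y (by norm_num)).mpr hy0⟩)
    (by rw [meetD_eq, meetD_eq, h])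
  exact ⟨g, hg, fix_of_singleton base5_pts.2.2.2.1 (hf 1 (by simp)), hf 340831 (by simp), hgx⟩

theorem dodecads_orbit_F {x y : Finset GolayPt} (hx : x ∈ dodecads) (hy : y ∈ dodecads)
    (h : (pts 340831 ∩ x).card = (pts 340831 ∩ y).card) :
    ∃ g : Equiv.Perm GolayPt, g ∈ M24 ∧ g • pts 340831 = pts 340831 ∧ g • x = y := by
  obtain ⟨g, hg, hf, hgx⟩ := orbit_fix (gens := gensF) (cls := meetD)
    (univ := dodMasks) (certs := certsF) (ms := [340831])
    (by decide +kernel) (by decide +kernel) (by decide +kernel) (by decide +kernel) (x := x) (y := y)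
    (mk_mem_dodMasks.mpr hx) (mk_mem_dodMasks.mpr hy) (by rw [meetD_eq, meetD_eq, h])
  exact ⟨g, hg, hf 340831 (by simp), hgx⟩

/-- A dodecad with one of its points goes to the standard dodecad and point. -/
theorem exists_dodecad_config {d : Finset GolayPt} (hd : d ∈ dodecads) {p : GolayPt} (hp : p ∈ d) :
    ∃ g : M24, g • d = pts 340831 ∧ g • p = ptAt 0 := by
  obtain ⟨g, hg⟩ := M24_dodecads_transitive hd squareDodecad_mem
  have hq : g • p ∈ Spor.squareDodecad := hg ▸ Finset.smul_mem_smul_finset hp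
  have hL : ∀ i ∈ Spor.squareDodecad, pidx i ∈ points m12ChainL0 := by decide +kernel
  have hx : (ptEquiv (g • p) : ℕ) ∈ points m12ChainL0 := hL _ hq
  obtain ⟨k, hk, hkx⟩ := orbit_top (L := m12ChainL0) m12Chain_check (ptEquiv (g • p)) hx
  have hkM : permHom k ∈ Spor.M12 := by rw [M12_eq]; exact ⟨k, hk, rfl⟩
  have hk0 : permHom k (some 0 : GolayPt) = g • p := by
    show ptEquiv.symm (k (ptEquiv (some 0))) = g • p
    rw [Equiv.symm_apply_eq]
    exact Fin.ext hkx
  refine ⟨(⟨permHom k, hkM.1⟩ : M24)⁻¹ * g, ?_, ?_⟩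
  · rw [mul_smul, hg, inv_smul_eq_iff, ← squareDodecad_eq]
    exact (mem_stabilizer_iff.mp hkM.2).symm
  · rw [mul_smul, inv_smul_eq_iff, show ptAt 0 = (some 0 : GolayPt) from by decide +kernel]
    exact hk0.symm

end Cfsg.Lib.Golay
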