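import Cfsg.Agent.Golay.Elements
import Cfsg.Agent.Golay.Orbits
import Cfsg.Agent.Golay.OctTrioData

/-!
The octad graph, and the trios through an octad.
-/

set_option autoImplicit false

namespace Cfsg.Lib.Golay

open Cfsg Cfsg.Lib.PermCert MulAction
open scoped Pointwise

theorem mk_mem_orbOct {x : Finset GolayPt} (hx : x ∈ octads) : mk x ∈ stVals orbOct := by
  rw [octads_eq_orbit] at hx
  exact (stdOct.mem_orbit x).mp hx

theorem pts_mem_of_orbOct {m : ℕ} (hm : m ∈ stVals orbOct) : pts m ∈ octads ∧ m < 2 ^ 24 := by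
  have h : (stVals orbOct).all (fun m => decide (m < 2 ^ 24) && inCode m && pc m == 8) = true := by decide +kernel
  simp only [List.all_eq_true, Bool.and_eq_true, decide_eq_true_eq, beq_iff_eq] at h
  obtain ⟨⟨h1, h2⟩, h3⟩ := h m hm
  exact ⟨pts_mem_octads h2 h3, h1⟩

theorem card_inter_pts (a : ℕ) (x : Finset GolayPt) : (pts a ∩ x).card = pc (a &&& mk x) := by
  rw [pc_eq_card, pts_land, pts_mk]

/-- The facts about one octad and another one. -/
def graphOK : Bool :=
  (stVals orbOct).all fun m =>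
    (pc (codeOct &&& m) == 0) || (m == codeOct) ||
      (pc (codeOct &&& m) == 4 && ((stVals orbOct).any fun n => (pc (codeOct &&& n) == 0) && (pc (n &&& m) == 0))) ||
      (pc (codeOct &&& m) == 2 &&
        ((stVals orbOct).any fun n => (pc (codeOct &&& n) == 0) && (pc (n &&& m) == 4)) &&
        (stVals orbOct).all fun n => !((pc (codeOct &&& n) == 0) && (pc (n &&& m) == 0)))

theorem graphOK_true : graphOK = true := by decide +kernel

theorem octad_pair_facts {o o' : Finset GolayPt} (ho : o ∈ octads) (ho' : o' ∈ octads) (hne : o ≠ o') :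
    (o ∩ o').card = 0 ∨
    ((o ∩ o').card = 4 ∧ ∃ n ∈ octads, (o ∩ n).card = 0 ∧ (n ∩ o').card = 0) ∨
    ((o ∩ o').card = 2 ∧ (∃ n ∈ octads, (o ∩ n).card = 0 ∧ (n ∩ o').card = 4) ∧
      ∀ n ∈ octads, (o ∩ n).card = 0 → (n ∩ o').card ≠ 0) := by
  obtain ⟨g, hg⟩ : ∃ g : M24, g • o = pts codeOct := by
    rw [octads_eq_orbit] at ho
    obtain ⟨g, hg⟩ := ho
    exact ⟨g⁻¹, by rw [← hg, inv_smul_smul]⟩
  have hinter : ∀ a b : Finset GolayPt, (g • a ∩ g • b).card = (a ∩ b).card :=
    fun a b => card_smul_inter (g : Equiv.Perm GolayPt) a b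
  have hoct : ∀ a : Finset GolayPt, g • a ∈ octads ↔ a ∈ octads := fun a => smul_mem_octads_iff g.2
  have hx : g • o' ∈ octads := (hoct o').mpr ho'
  have back : ∀ n, n ∈ stVals orbOct → ∃ a ∈ octads, g • a = pts n := fun n hn =>
    ⟨g⁻¹ • pts n, by rw [← hoct, smul_inv_smul]; exact (pts_mem_of_orbOct hn).1, smul_inv_smul _ _⟩
  have h := graphOK_true
  simp only [graphOK, List.all_eq_true, List.any_eq_true, Bool.or_eq_true, Bool.and_eq_true, beq_iff_eq,
    Bool.not_eq_true', Bool.and_eq_false_iff] at h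
  have hi : (o ∩ o').card = pc (codeOct &&& mk (g • o')) := by rw [← card_inter_pts, ← hg, hinter]
  rcases h _ (mk_mem_orbOct hx) with ((h0 | he) | ⟨h4, n, hn, h1, h2⟩) | ⟨⟨h2', n, hn, h1, h2⟩, hall⟩
  · exact Or.inl (hi.trans h0)
  · exact absurd (smul_left_cancel g (hg.trans (by rw [← he, pts_mk]))) hne
  · obtain ⟨a, ha, hga⟩ := back n hn
    refine Or.inr (Or.inl ⟨hi.trans h4, a, ha, ?_, ?_⟩)
    · rw [← hinter, hg, hga, ← pts_land, ← pc_eq_card]; exact h1
    · rw [← hinter, hga, card_inter_pts]; exact h2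
  · obtain ⟨a, ha, hga⟩ := back n hn
    refine Or.inr (Or.inr ⟨hi.trans h2', ⟨a, ha, ?_, ?_⟩, fun b hb hb1 hb2 => ?_⟩)
    · rw [← hinter, hg, hga, ← pts_land, ← pc_eq_card]; exact h1
    · rw [← hinter, hga, card_inter_pts]; exact h2
    · rw [← hinter, hg, card_inter_pts] at hb1
      rw [← hinter, ← pts_mk (g • b), card_inter_pts] at hb2
      rcases hall _ (mk_mem_orbOct ((hoct b).mpr hb)) with e | e
      · exact beq_eq_false_iff_ne.mp e hb1
      · exact beq_eq_false_iff_ne.mp e hb2

theorem card_octad {o : Finset GolayPt} (ho : o ∈ octads) : o.card = 8 := ho.2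

/-- `A` splits the trio `T` over the octad `o`. -/
def Splits (o A : Finset GolayPt) (T : Finset (Finset GolayPt)) : Prop :=
  ∃ x ∈ octads, x ∩ o = A ∧ ∀ a ∈ T, a = o ∨ (x ∩ a).card = 0 ∨ (x ∩ a).card = 4

theorem splits_smul {g : Equiv.Perm GolayPt} (hg : g ∈ M24) (o A : Finset GolayPt) (T : Finset (Finset GolayPt)) :
    Splits (g • o) (g • A) (g • T) ↔ Splits o A T := by
  have key : ∀ h : Equiv.Perm GolayPt, h ∈ M24 → ∀ o A T, Splits o A T → Splits (h • o) (h • A) (h • T) := by
    rintro h hh o A T ⟨x, hx, hxA, hT⟩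
    refine ⟨h • x, smul_mem_octads hh hx, by rw [← Finset.smul_finset_inter, hxA], fun a ha => ?_⟩
    obtain ⟨b, hb, rfl⟩ := Finset.mem_smul_finset.mp ha
    rcases hT b hb with e | e | e
    · exact Or.inl (by rw [e])
    · exact Or.inr (Or.inl (by rw [card_smul_inter, e]))
    · exact Or.inr (Or.inr (by rw [card_smul_inter, e]))
  exact ⟨fun h => by simpa using key g⁻¹ (inv_mem hg) _ _ _ h, key g hg o A T⟩

theorem cgOctTrio_ok : cgOctTrio.ok = true := by decide +kernel
theorem orbThrough_ok : closedOK famCoding.act cgOct.gens codeThrough orbThrough = true := by decide +kernel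
theorem orbSecond_ok : closedOK famCoding.act cgOctTrio.gens codeSecond orbSecond = true := by decide +kernel

theorem through_filter :
    ((stVals orbTrio).filter fun E => decide (codeOct ∈ decList E)) = stVals orbThrough := by decide +kernel

/-- The table of the splittings is right and tells tetrads and trios apart. -/
def sigOK : Bool :=
  (sigTab.all fun e => (List.range 15).all fun j =>
    (((stVals orbOct).filter fun x => x &&& codeOct == e.1).any fun x =>
      (decList ((stVals orbThrough).getD j 0)).all fun a => (a == codeOct) || (pc (x &&& a) == 0) || (pc (x &&& a) == 4))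
      == e.2.testBit j) &&
  ((stVals orbOct).all fun x => (pc (x &&& codeOct) != 4) || sigTab.any fun e => e.1 == x &&& codeOct) &&
  (sigTab.all fun e => e.1 &&& codeOct == e.1 && pc e.1 == 4 && ((stVals orbOct).any fun x => x &&& codeOct == e.1)) &&
  (sigTab.all fun e => sigTab.all fun e' => !(e.2 == e'.2) || (e'.1 == e.1) || (e'.1 == codeOct ^^^ e.1)) &&
  (sigTab.all fun e => decide (e.2 < 2 ^ 15)) &&
  ((List.range 15).all fun j => (List.range 15).all fun k =>
    (j == k) || sigTab.any fun e => e.2.testBit j != e.2.testBit k) &&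
  ((List.range 24).all fun i => (List.range 24).all fun j =>
    !(codeOct.testBit i) || !(codeOct.testBit j) || (i == j) ||
      (List.range 24).any fun k => !(k == i) && codeOct.testBit k &&
        ((fun S => S.any fun a => S.any fun b => S.any fun c =>
            ((codeOct ^^^ a) &&& (codeOct ^^^ b) &&& (codeOct ^^^ c)) == 2 ^ j)
          ((sigTab.map Prod.fst).filter fun a => a.testBit i && a.testBit k && !(a.testBit j))))

theorem sigOK_true : sigOK = true := by decide +kernel

theorem through_iff (T : Finset (Finset GolayPt)) :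
    (T ∈ trios ∧ pts codeOct ∈ T) ↔ encFam T ∈ stVals orbThrough := by
  rw [← through_filter, List.mem_filter, decide_eq_true_eq, decList_encFam, Finset.mem_sort, Finset.mem_image]
  have hc : mk (pts codeOct) = codeOct := mk_pts (by decide +kernel)
  refine and_congr ?_ ⟨fun h => ⟨_, h, hc⟩, fun ⟨a, ha, e⟩ => mk_injective (e.trans hc.symm) ▸ ha⟩
  rw [trios_eq_orbit]
  exact stdTrio.mem_orbit T

/-- The position of a trio through the standard octad. -/
theorem through_index {T : Finset (Finset GolayPt)} (hT : T ∈ trios) (ho : pts codeOct ∈ T) :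
    ∃ j < 15, (stVals orbThrough).getD j 0 = encFam T := by
  have hlen : (stVals orbThrough).length = 15 := by decide +kernel
  obtain ⟨j, hj, e⟩ := List.getElem_of_mem ((through_iff T).mp ⟨hT, ho⟩)
  exact ⟨j, hlen ▸ hj, by rw [List.getD_eq_getElem _ _ hj, e]⟩

theorem splits_eq_testBit {e : ℕ × ℕ} (he : e ∈ sigTab) {j : ℕ} (hj : j < 15) {T : Finset (Finset GolayPt)}
    (hT : T ∈ trios) (hjT : (stVals orbThrough).getD j 0 = encFam T) :
    Splits (pts codeOct) (pts e.1) T ↔ e.2.testBit j = true := by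
  have h := sigOK_true
  simp only [sigOK, Bool.and_eq_true, List.all_eq_true, List.mem_range, beq_iff_eq] at h
  have h1 := h.1.1.1.1.1.1 e he j hj
  have h3 := (h.1.1.1.1.2 e he).1.1
  have hlt : e.1 < 2 ^ 24 := lt_of_le_of_lt (h3 ▸ Nat.and_le_right) (by decide +kernel)
  rw [← h1, List.any_eq_true, hjT]
  constructor
  · rintro ⟨x, hx, hxA, hall⟩
    refine ⟨mk x, List.mem_filter.mpr ⟨mk_mem_orbOct hx, ?_⟩, ?_⟩
    · rw [beq_iff_eq]
      refine eq_of_pts_eq (lt_of_le_of_lt Nat.and_le_left (mk_lt x)) hlt ?_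
      rw [pts_land, pts_mk, hxA]
    · simp only [decList_encFam, List.all_eq_true, Finset.mem_sort, Finset.mem_image, Bool.or_eq_true, beq_iff_eq]
      rintro _ ⟨a, ha, rfl⟩
      rcases hall a ha with e | e | e
      · exact Or.inl (Or.inl (by rw [e, mk_pts (by decide +kernel)]))
      · exact Or.inl (Or.inr (by rw [← card_inter_pts, pts_mk, e]))
      · exact Or.inr (by rw [← card_inter_pts, pts_mk, e])
  · rintro ⟨m, hm, hall⟩
    rw [List.mem_filter, beq_iff_eq] at hm
    simp only [decList_encFam, List.all_eq_true, Finset.mem_sort, Finset.mem_image, Bool.or_eq_true, beq_iff_eq] at hall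
    refine ⟨pts m, (pts_mem_of_orbOct hm.1).1, by rw [← pts_land, hm.2], fun a ha => ?_⟩
    rcases hall (mk a) ⟨a, ha, rfl⟩ with (e | e) | e
    · exact Or.inl (mk_injective (e.trans (mk_pts (by decide +kernel)).symm))
    · exact Or.inr (Or.inl (by rw [card_inter_pts]; exact e))
    · exact Or.inr (Or.inr (by rw [card_inter_pts]; exact e))

/-- An element fixing every trio through the standard octad fixes it pointwise, and conversely. -/
theorem kernel_trios {g : Equiv.Perm GolayPt} (hg : g ∈ M24) (hgo : g • pts codeOct = pts codeOct) :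
    (∀ T ∈ trios, pts codeOct ∈ T → g • T = T) ↔ ∀ p ∈ pts codeOct, g p = p := by
  have h := sigOK_true
  simp only [sigOK, Bool.and_eq_true, List.all_eq_true, List.mem_range, List.any_eq_true, Bool.or_eq_true,
    beq_iff_eq, bne_iff_ne, Bool.not_eq_true', decide_eq_true_eq] at h
  obtain ⟨⟨⟨⟨⟨⟨-, hcomplete⟩, htab⟩, hinjA⟩, hb15⟩, hinjT⟩, hfix⟩ := h
  have hstable : ∀ T, T ∈ trios ∧ pts codeOct ∈ T → g • T ∈ trios ∧ pts codeOct ∈ g • T := fun T hT =>
    ⟨smul_mem_trios hg hT.1, hgo ▸ Finset.smul_mem_smul_finset hT.2⟩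
  have img : ∀ e ∈ sigTab, ∃ e' ∈ sigTab, g • pts e.1 = pts e'.1 := by
    intro e he
    obtain ⟨⟨hsub, h4⟩, x, hx, hxe⟩ := htab e he
    have hgx := smul_mem_octads hg (pts_mem_of_orbOct hx).1
    have hA : g • pts e.1 = pts (mk (g • pts x) &&& codeOct) := by
      rw [pts_land, pts_mk, ← hxe, pts_land, Finset.smul_finset_inter, hgo]
    have hpc : pc (mk (g • pts x) &&& codeOct) = 4 := by
      rw [pc_eq_card, ← hA, Finset.card_smul_finset, ← pc_eq_card, h4]
    rcases hcomplete _ (mk_mem_orbOct hgx) with hne | ⟨e', he', hee⟩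
    · exact absurd hpc hne
    · exact ⟨e', he', by rw [hA, hee]⟩
  constructor
  · intro hfixT
    have key : ∀ e ∈ sigTab, g • pts e.1 = pts e.1 ∨ g • pts e.1 = pts (codeOct ^^^ e.1) := by
      intro e he
      obtain ⟨e', he', hee⟩ := img e he
      have hbit : e.2 = e'.2 := by
        refine Nat.eq_of_testBit_eq fun j => ?_
        by_cases hj : j < 15
        · obtain ⟨hTt, hjT⟩ : ∃ hT : famOf ((stVals orbThrough).getD j 0) ∈ trios ∧
              pts codeOct ∈ famOf ((stVals orbThrough).getD j 0),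
              (stVals orbThrough).getD j 0 = encFam (famOf ((stVals orbThrough).getD j 0)) := by
            have hok : (List.range 15).all (fun j => famOK ((stVals orbThrough).getD j 0) &&
                decide ((stVals orbThrough).getD j 0 ∈ stVals orbThrough)) = true := by decide +kernel
            simp only [List.all_eq_true, List.mem_range, Bool.and_eq_true, decide_eq_true_eq] at hok
            obtain ⟨h1, h2⟩ := hok j hj
            have e := encFam_famOf h1
            exact ⟨(through_iff _).mpr (e.symm ▸ h2), e.symm⟩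
          refine Bool.eq_iff_iff.mpr ?_
          rw [← splits_eq_testBit he hj hTt.1 hjT, ← splits_eq_testBit he' hj hTt.1 hjT,
            ← splits_smul hg (pts codeOct) (pts e.1), hgo, hfixT _ hTt.1 hTt.2, hee]
        · have a := Nat.testBit_lt_two_pow (lt_of_lt_of_le (hb15 e he) (Nat.pow_le_pow_right two_pos (not_lt.mp hj)))
          have b := Nat.testBit_lt_two_pow (lt_of_lt_of_le (hb15 e' he') (Nat.pow_le_pow_right two_pos (not_lt.mp hj)))
          rw [a, b]
      rcases hinjA e he e' he' with (hne | h1) | h1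
      · exact absurd hbit (by simpa using hne)
      · exact Or.inl (hee.trans (congrArg pts h1))
      · exact Or.inr (hee.trans (congrArg pts h1))
    intro p hp
    by_contra hne
    have hq : g p ∈ pts codeOct := by rw [← hgo]; exact Finset.smul_mem_smul_finset hp
    rcases hfix _ (pidx_lt p) _ (pidx_lt (g p)) with ((hi | hi) | hij) | ⟨k, hk, ⟨hki, hkc⟩, a, ha, b, hb, c, hc, habc⟩
    · exact (Bool.eq_false_iff.mp hi) (mem_pts.mp hp)
    · exact (Bool.eq_false_iff.mp hi) (mem_pts.mp hq)
    · exact hne (pidx_injective hij).symm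
    set r := ptAt k with hr
    have hrk : pidx r = k := pidx_ptAt ⟨k, hk⟩
    have step : ∀ a, a ∈ (sigTab.map Prod.fst).filter (fun a => a.testBit (pidx p) && a.testBit k &&
        !(a.testBit (pidx (g p)))) → g r ∈ pts (codeOct ^^^ a) := by
      intro a ha
      simp only [List.mem_filter, List.mem_map, Bool.and_eq_true, Bool.not_eq_true'] at ha
      obtain ⟨⟨e, he, rfl⟩, ⟨h1, h2⟩, h3⟩ := ha
      have hra : r ∈ pts e.1 := mem_pts.mpr (by rw [hrk]; exact h2)
      rcases key e he with e1 | e1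
      · exfalso
        have : g • p ∈ g • pts e.1 := Finset.smul_mem_smul_finset (mem_pts.mpr h1)
        rw [e1, Equiv.Perm.smul_def, mem_pts, h3] at this
        exact Bool.false_ne_true this
      · rw [← e1]; exact Finset.smul_mem_smul_finset hra
    have hgr : g r ∈ pts ((codeOct ^^^ a) &&& (codeOct ^^^ b) &&& (codeOct ^^^ c)) := by
      rw [pts_land, pts_land, Finset.mem_inter, Finset.mem_inter]
      exact ⟨⟨step a ha, step b hb⟩, step c hc⟩
    rw [habc, mem_pts, Nat.testBit_two_pow, decide_eq_true_eq] at hgr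
    have hkp : r = p := g.injective (pidx_injective hgr.symm)
    exact absurd (hrk.symm.trans (congrArg pidx hkp)) (by simpa using hki)
  · intro hpt T hT hoT
    obtain ⟨j, hj, hjT⟩ := through_index hT hoT
    obtain ⟨k, hk, hkT⟩ := through_index (hstable T ⟨hT, hoT⟩).1 (hstable T ⟨hT, hoT⟩).2
    by_contra hne
    rcases hinjT j hj k hk with e | ⟨e, he, hbit⟩
    · exact hne (encFam_injective (by rw [← hjT, ← hkT, e]))
    · apply hbit
      refine Bool.eq_iff_iff.mpr ?_
      rw [← splits_eq_testBit he hj hT hjT, ← splits_eq_testBit he hk (hstable T ⟨hT, hoT⟩).1 hkT,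
        ← splits_smul hg (pts codeOct) (pts e.1) T, hgo]
      have hA : g • pts e.1 = pts e.1 := by
        have hsub : pts e.1 ⊆ pts codeOct := fun q hq => by
          rw [← ((htab e he).1).1, pts_land, Finset.mem_inter] at hq
          exact hq.2
        refine Finset.eq_of_subset_of_card_le (fun q hq => ?_) (by rw [Finset.card_smul_finset])
        obtain ⟨q', hq', rfl⟩ := Finset.mem_smul_finset.mp hq
        rwa [Equiv.Perm.smul_def, hpt q' (hsub hq')]
      rw [hA]

theorem through_ncard : {T : Finset (Finset GolayPt) | T ∈ trios ∧ pts codeOct ∈ T}.ncard = 15 := by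
  have hc := orbit_cert famCoding cgOct_ok (x₀ := famOf codeThrough) (encFam_famOf (by decide +kernel)) orbThrough_ok
  have e : {T : Finset (Finset GolayPt) | T ∈ trios ∧ pts codeOct ∈ T} = orbit cgOct.grp (famOf codeThrough) :=
    Set.ext fun T => (through_iff T).trans (hc.1 T).symm
  rw [e, hc.2]
  decide +kernel

theorem through_two_transitive {T₁ T₂ T₁' T₂' : Finset (Finset GolayPt)}
    (h₁ : T₁ ∈ trios ∧ pts codeOct ∈ T₁) (h₂ : T₂ ∈ trios ∧ pts codeOct ∈ T₂)
    (h₁' : T₁' ∈ trios ∧ pts codeOct ∈ T₁') (h₂' : T₂' ∈ trios ∧ pts codeOct ∈ T₂')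
    (hne : T₁ ≠ T₂) (hne' : T₁' ≠ T₂') :
    ∃ g ∈ M24, g • pts codeOct = pts codeOct ∧ g • T₁ = T₁' ∧ g • T₂ = T₂' := by
  have hOle : ∀ g ∈ cgOct.grp, g ∈ M24 ∧ g • pts codeOct = pts codeOct := fun g hg => by
    rw [← stdOct.stab_eq] at hg
    exact ⟨hg.1, mem_stabilizer_iff.mp hg.2⟩
  have hTenc : famCoding.enc (famOf codeThrough) = codeThrough := encFam_famOf (by decide +kernel)
  have hK := stab_inf_eq famCoding cgOct_ok cgOctTrio_ok hTenc orbThrough_ok (by decide +kernel) (by decide +kernel)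
    (by decide +kernel)
  have hc := orbit_cert famCoding cgOct_ok hTenc orbThrough_ok
  have hd := orbit_cert famCoding cgOctTrio_ok (x₀ := famOf codeSecond) (encFam_famOf (by decide +kernel)) orbSecond_ok
  have hsplit : (stVals orbThrough).all (fun E => (E == codeThrough) || decide (E ∈ stVals orbSecond)) = true := by
    decide +kernel
  simp only [List.all_eq_true, Bool.or_eq_true, beq_iff_eq, decide_eq_true_eq] at hsplit
  have base : ∀ A B, (A ∈ trios ∧ pts codeOct ∈ A) → (B ∈ trios ∧ pts codeOct ∈ B) → A ≠ B →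
      ∃ g ∈ cgOct.grp, g • famOf codeThrough = A ∧ g • famOf codeSecond = B := by
    intro A B hA hB hAB
    obtain ⟨⟨g, hg⟩, hgA⟩ := (hc.1 A).mpr ((through_iff A).mp hA)
    have hgA : g • famOf codeThrough = A := hgA
    obtain ⟨hgm, hgo⟩ := hOle g hg
    have hB' : g⁻¹ • B ∈ trios ∧ pts codeOct ∈ g⁻¹ • B :=
      ⟨smul_mem_trios (inv_mem hgm) hB.1, by
        have := Finset.smul_mem_smul_finset (a := g⁻¹) hB.2
        rwa [show g⁻¹ • pts codeOct = pts codeOct by rw [inv_smul_eq_iff, hgo]] at this⟩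
    rcases hsplit _ ((through_iff _).mp hB') with e | e
    · exfalso
      have e' : g⁻¹ • B = famOf codeThrough := famCoding.inj (e.trans hTenc.symm)
      exact hAB (by rw [← hgA, ← e', smul_inv_smul])
    · obtain ⟨⟨k, hk⟩, hkB⟩ := (hd.1 _).mpr e
      have hkB : k • famOf codeSecond = g⁻¹ • B := hkB
      have hk' : k ∈ cgOct.grp ⊓ stabilizer (Equiv.Perm GolayPt) (famOf codeThrough) := hK ▸ hk
      refine ⟨g * k, mul_mem hg hk'.1, ?_, ?_⟩
      · rw [mul_smul, mem_stabilizer_iff.mp hk'.2, hgA]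
      · rw [mul_smul, hkB, smul_inv_smul]
  obtain ⟨a, ha, ha1, ha2⟩ := base T₁ T₂ h₁ h₂ hne
  obtain ⟨b, hb, hb1, hb2⟩ := base T₁' T₂' h₁' h₂' hne'
  obtain ⟨hm, ho⟩ := hOle _ (mul_mem hb (inv_mem ha))
  exact ⟨_, hm, ho, by rw [mul_smul, ← ha1, inv_smul_smul, hb1], by rw [mul_smul, ← ha2, inv_smul_smul, hb2]⟩

end Cfsg.Lib.Golay
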