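import Cfsg.Agent.Golay.Orbits
import Cfsg.Agent.Golay.Family

/-!
Counts and orbit statements for octads and dodecads, carried to arbitrary configurations.
-/

namespace Cfsg.Lib.Golay

open Cfsg Cfsg.Lib.PermCert MulAction
open scoped Pointwise

theorem smul_coe (g : M24) {β : Type*} [MulAction (Equiv.Perm GolayPt) β] (x : β) :
    g • x = (g : Equiv.Perm GolayPt) • x := rfl

/-- Moving an orbit statement along a group element. -/
theorem orbit_transport (h : M24) {o : Finset GolayPt} {o₀ x y : Finset GolayPt} (ho : h • o = o₀)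
    {g : Equiv.Perm GolayPt} (hg : g ∈ M24) (hgo : g • o₀ = o₀) (hgx : g • (h • x) = h • y) :
    ∃ k : Equiv.Perm GolayPt, k ∈ M24 ∧ (∀ p, g ((h : Equiv.Perm GolayPt) p) = (h : Equiv.Perm GolayPt) p → k p = p) ∧
      k • o = o ∧ k • x = y := by
  refine ⟨(h : Equiv.Perm GolayPt)⁻¹ * g * h, mul_mem (mul_mem (inv_mem h.2) hg) h.2, fun p hp => ?_, ?_, ?_⟩
  · simp [Equiv.Perm.mul_apply, hp]
  · rw [mul_smul, mul_smul, ← smul_coe h o, ho, hgo, ← ho, smul_coe, inv_smul_smul]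
  · rw [mul_smul, mul_smul, ← smul_coe h x, hgx, smul_coe, inv_smul_smul]

theorem card_inter_transport (h : M24) {o o₀ : Finset GolayPt} (ho : h • o = o₀) (x : Finset GolayPt) :
    (o₀ ∩ h • x).card = (o ∩ x).card := by
  rw [← ho, smul_coe, smul_coe, card_smul_inter]

/-- Counting octads relative to a moved configuration. -/
theorem ncard_octads_transport (h : M24) (q₀ q : Finset GolayPt → Prop) (hq : ∀ x, q₀ (h • x) ↔ q x) :
    {x | x ∈ octads ∧ q x}.ncard = {x | x ∈ octads ∧ q₀ x}.ncard :=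
  ncard_smul_congr (h : Equiv.Perm GolayPt) fun x => by
    rw [smul_mem_octads_iff h.2]; exact and_congr_right fun _ => hq x

theorem smul_mem_iff (h : M24) {p q : GolayPt} (hp : h • p = q) (x : Finset GolayPt) : q ∈ h • x ↔ p ∈ x := by
  rw [← hp, smul_coe, smul_coe, Finset.smul_mem_smul_finset_iff]

/-- A predicate on the meet with the standard octad and membership of two points. -/
theorem count_check (f : ℕ → Bool) (q : Finset GolayPt → Prop) (n : ℕ)
    (hn : octMasks.countP f = n) (hf : ∀ m, f m = true ↔ q (pts m)) : {x | x ∈ octads ∧ q x}.ncard = n :=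
  (ncard_octads_countP q f hf).trans hn

theorem mem_pts_ptAt (m i : ℕ) (hi : i < 24) : ptAt i ∈ pts m ↔ m.testBit i = true := by
  rw [mem_pts, pidx_ptAt ⟨i, hi⟩]

theorem pidx_small : pidx (ptAt 0) = 0 ∧ pidx (ptAt 1) = 1 ∧ pidx (ptAt 5) = 5 := by decide +kernel

theorem meet0_pts (m : ℕ) : meet0 m = (oct0 ∩ pts m).card := by
  rw [meet0, pc_eq_card, pts_land, oct0, Finset.inter_comm]

/-- The configuration of an octad and one of its points. -/
theorem config_in {o : Finset GolayPt} (ho : o ∈ octads) {p : GolayPt} (hp : p ∈ o) :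
    ∃ h : M24, h • o = oct0 ∧ h • p = ptAt 0 := by
  obtain ⟨x, hx, hxp⟩ := exists_five_in ho (k := 1) (by norm_num) ⟨fun _ => p, fun i j _ => Subsingleton.elim i j⟩ (fun _ => hp)
  obtain ⟨c, hc⟩ : (oᶜ).Nonempty := Finset.card_pos.mp (by rw [Finset.card_compl, ho.2]; simp)
  obtain ⟨h, h1, h2, -⟩ := exists_config ho x hx (Finset.mem_compl.mp hc)
  refine ⟨h, h1, ?_⟩
  rw [← show x (Fin.castLE _ 0) = p from hxp 0, h2]
  exact base5_pts.1

theorem config_in_two {o : Finset GolayPt} (ho : o ∈ octads) {p q : GolayPt} (hp : p ∈ o) (hq : q ∈ o) (hpq : p ≠ q) :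
    ∃ h : M24, h • o = oct0 ∧ h • p = ptAt 0 ∧ h • q = ptAt 1 := by
  obtain ⟨x, hx, hxp⟩ := exists_five_in ho (k := 2) (by norm_num) ⟨![p, q], by
    intro i j; fin_cases i <;> fin_cases j <;> simp [hpq, hpq.symm]⟩ (by intro i; fin_cases i; exacts [hp, hq])
  obtain ⟨c, hc⟩ : (oᶜ).Nonempty := Finset.card_pos.mp (by rw [Finset.card_compl, ho.2]; simp)
  obtain ⟨h, h1, h2, -⟩ := exists_config ho x hx (Finset.mem_compl.mp hc)
  refine ⟨h, h1, ?_, ?_⟩
  · rw [← show x (Fin.castLE _ 0) = p from hxp 0, h2]; exact base5_pts.1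
  · rw [← show x (Fin.castLE _ 1) = q from hxp 1, h2]; exact base5_pts.2.1

theorem config_out {o : Finset GolayPt} (ho : o ∈ octads) {c : GolayPt} (hc : c ∉ o) :
    ∃ h : M24, h • o = oct0 ∧ h • c = ptAt 5 := by
  obtain ⟨x, hx, -⟩ := exists_five_in ho (k := 0) (by norm_num) ⟨Fin.elim0, fun i => i.elim0⟩ (fun i => i.elim0)
  obtain ⟨h, h1, -, h3⟩ := exists_config ho x hx hc
  exact ⟨h, h1, h3.trans base5_pts.2.2.1⟩

theorem config_in_out {o : Finset GolayPt} (ho : o ∈ octads) {p c : GolayPt} (hp : p ∈ o) (hc : c ∉ o) :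
    ∃ h : M24, h • o = oct0 ∧ h • p = ptAt 0 ∧ h • c = ptAt 5 := by
  obtain ⟨x, hx, hxp⟩ := exists_five_in ho (k := 1) (by norm_num) ⟨fun _ => p, fun i j _ => Subsingleton.elim i j⟩ (fun _ => hp)
  obtain ⟨h, h1, h2, h3⟩ := exists_config ho x hx hc
  refine ⟨h, h1, ?_, h3.trans base5_pts.2.2.1⟩
  rw [← show x (Fin.castLE _ 0) = p from hxp 0, h2]
  exact base5_pts.1

theorem s1607 (x : GolayPt) (o : Finset GolayPt) (ho : o ∈ octads) (hx : x ∈ o) :
    {o' : Finset GolayPt | o' ∈ octads ∧ x ∈ o' ∧ (o ∩ o').card = 2}.ncard = 112 ∧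
    {o' : Finset GolayPt | o' ∈ octads ∧ x ∈ o' ∧ (o ∩ o').card = 4}.ncard = 140 ∧
    ∀ o' o'' : Finset GolayPt, o' ∈ octads → o'' ∈ octads → x ∈ o' → x ∈ o'' → (o ∩ o').card = (o ∩ o'').card →
      ∃ g : Equiv.Perm GolayPt, g ∈ M24 ∧ g x = x ∧ g • o = o ∧ g • o' = o'' := by
  obtain ⟨h, h1, h2⟩ := config_in ho hx
  have hcnt : ∀ k, {o' | o' ∈ octads ∧ x ∈ o' ∧ (o ∩ o').card = k}.ncard
      = {o' | o' ∈ octads ∧ ptAt 0 ∈ o' ∧ (oct0 ∩ o').card = k}.ncard := fun k =>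
    ncard_octads_transport h _ _ fun y => by rw [smul_mem_iff h h2, card_inter_transport h h1]
  refine ⟨?_, ?_, fun o' o'' h' h'' hx' hx'' he => ?_⟩
  · rw [hcnt]
    exact count_check (fun m => m.testBit 0 && (meet0 m == 2)) _ _ (by decide +kernel) fun m => by
      simp [pidx_small, -Nat.testBit_zero, meet0_pts]
  · rw [hcnt]
    exact count_check (fun m => m.testBit 0 && (meet0 m == 4)) _ _ (by decide +kernel) fun m => by
      simp [pidx_small, -Nat.testBit_zero, meet0_pts]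
  · obtain ⟨g, hg, g0, go, gx⟩ := octads_orbit_A (smul_mem_octads h.2 h') (smul_mem_octads h.2 h'')
      ((smul_mem_iff h h2 _).mpr hx') ((smul_mem_iff h h2 _).mpr hx'')
      (by rw [← smul_coe, ← smul_coe, card_inter_transport h h1, card_inter_transport h h1, he])
    obtain ⟨k, hk, hfix, hko, hkx⟩ := orbit_transport h h1 hg go gx
    exact ⟨k, hk, hfix x (by rw [show (h : Equiv.Perm GolayPt) x = _ from h2]; exact g0), hko, hkx⟩

theorem s1608 (x : GolayPt) (o : Finset GolayPt) (ho : o ∈ octads) (hx : x ∉ o) :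
    {o' : Finset GolayPt | o' ∈ octads ∧ x ∉ o' ∧ (o ∩ o').card = 0}.ncard = 15 ∧
    {o' : Finset GolayPt | o' ∈ octads ∧ x ∉ o' ∧ (o ∩ o').card = 4}.ncard = 210 ∧
    {o' : Finset GolayPt | o' ∈ octads ∧ x ∉ o' ∧ (o ∩ o').card = 2}.ncard = 280 ∧
    ∀ o' o'' : Finset GolayPt, o' ∈ octads → o'' ∈ octads → x ∉ o' → x ∉ o'' → (o ∩ o').card = (o ∩ o'').card →
      ∃ g : Equiv.Perm GolayPt, g ∈ M24 ∧ g x = x ∧ g • o = o ∧ g • o' = o'' := by
  obtain ⟨h, h1, h2⟩ := config_out ho hx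
  have hcnt : ∀ k, {o' | o' ∈ octads ∧ x ∉ o' ∧ (o ∩ o').card = k}.ncard
      = {o' | o' ∈ octads ∧ ptAt 5 ∉ o' ∧ (oct0 ∩ o').card = k}.ncard := fun k =>
    ncard_octads_transport h _ _ fun y => by rw [smul_mem_iff h h2, card_inter_transport h h1]
  refine ⟨?_, ?_, ?_, fun o' o'' h' h'' hx' hx'' he => ?_⟩
  · rw [hcnt]
    exact count_check (fun m => !m.testBit 5 && (meet0 m == 0)) _ _ (by decide +kernel) fun m => by
      simp [pidx_small, -Nat.testBit_zero, meet0_pts]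
  · rw [hcnt]
    exact count_check (fun m => !m.testBit 5 && (meet0 m == 4)) _ _ (by decide +kernel) fun m => by
      simp [pidx_small, -Nat.testBit_zero, meet0_pts]
  · rw [hcnt]
    exact count_check (fun m => !m.testBit 5 && (meet0 m == 2)) _ _ (by decide +kernel) fun m => by
      simp [pidx_small, -Nat.testBit_zero, meet0_pts]
  · obtain ⟨g, hg, g0, go, gx⟩ := octads_orbit_B (smul_mem_octads h.2 h') (smul_mem_octads h.2 h'')
      (fun e => hx' ((smul_mem_iff h h2 _).mp e)) (fun e => hx'' ((smul_mem_iff h h2 _).mp e))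
      (by rw [← smul_coe, ← smul_coe, card_inter_transport h h1, card_inter_transport h h1, he])
    obtain ⟨k, hk, hfix, hko, hkx⟩ := orbit_transport h h1 hg go gx
    exact ⟨k, hk, hfix x (by rw [show (h : Equiv.Perm GolayPt) x = _ from h2]; exact g0), hko, hkx⟩

theorem s1556 (o o' o'' : Finset GolayPt) (ho : o ∈ octads) (ho' : o' ∈ octads) (ho'' : o'' ∈ octads)
    (h : (o ∩ o').card = (o ∩ o'').card) :
    ∃ g : Equiv.Perm GolayPt, g ∈ M24 ∧ g • o = o ∧ g • o' = o'' := by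
  obtain ⟨a, ha⟩ := M24_octads_transitive ho oct0_mem
  obtain ⟨g, hg, go, gx⟩ := octads_orbit_O (smul_mem_octads a.2 ho') (smul_mem_octads a.2 ho'')
    (by rw [← smul_coe, ← smul_coe, card_inter_transport a ha, card_inter_transport a ha, h])
  obtain ⟨k, hk, -, hko, hkx⟩ := orbit_transport a ha hg go gx
  exact ⟨k, hk, hko, hkx⟩

theorem s1604 (p q : GolayPt) (hpq : p ≠ q) (o o' o'' : Finset GolayPt) (ho : o ∈ octads) (ho' : o' ∈ octads)
    (ho'' : o'' ∈ octads) (hp : p ∈ o ∧ p ∈ o' ∧ p ∈ o'') (hq : q ∈ o ∧ q ∈ o' ∧ q ∈ o'')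
    (he : (o ∩ o').card = (o ∩ o'').card) :
    {x : Finset GolayPt | x ∈ octads ∧ p ∈ x ∧ q ∈ x ∧ (o ∩ x).card = 2}.ncard = 16 ∧
    {x : Finset GolayPt | x ∈ octads ∧ p ∈ x ∧ q ∈ x ∧ (o ∩ x).card = 4}.ncard = 60 ∧
    ∃ g : Equiv.Perm GolayPt, g ∈ M24 ∧ g p = p ∧ g q = q ∧ g • o = o ∧ g • o' = o'' := by
  obtain ⟨h, h1, h2, h3⟩ := config_in_two ho hp.1 hq.1 hpq
  have hcnt : ∀ k, {x | x ∈ octads ∧ p ∈ x ∧ q ∈ x ∧ (o ∩ x).card = k}.ncard
      = {x | x ∈ octads ∧ ptAt 0 ∈ x ∧ ptAt 1 ∈ x ∧ (oct0 ∩ x).card = k}.ncard := fun k =>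
    ncard_octads_transport h _ _ fun y => by
      rw [smul_mem_iff h h2, smul_mem_iff h h3, card_inter_transport h h1]
  refine ⟨?_, ?_, ?_⟩
  · rw [hcnt]
    exact count_check (fun m => m.testBit 0 && (m.testBit 1 && (meet0 m == 2))) _ _ (by decide +kernel) fun m => by
      simp [pidx_small, -Nat.testBit_zero, meet0_pts]
  · rw [hcnt]
    exact count_check (fun m => m.testBit 0 && (m.testBit 1 && (meet0 m == 4))) _ _ (by decide +kernel) fun m => by
      simp [pidx_small, -Nat.testBit_zero, meet0_pts]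
  · obtain ⟨g, hg, g0, g1, go, gx⟩ := octads_orbit_C (smul_mem_octads h.2 ho') (smul_mem_octads h.2 ho'')
      ((smul_mem_iff h h2 _).mpr hp.2.1) ((smul_mem_iff h h3 _).mpr hq.2.1)
      ((smul_mem_iff h h2 _).mpr hp.2.2) ((smul_mem_iff h h3 _).mpr hq.2.2)
      (by rw [← smul_coe, ← smul_coe, card_inter_transport h h1, card_inter_transport h h1, he])
    obtain ⟨k, hk, hfix, hko, hkx⟩ := orbit_transport h h1 hg go gx
    exact ⟨k, hk, hfix p (by rw [show (h : Equiv.Perm GolayPt) p = _ from h2]; exact g0), hfix q (by rw [show (h : Equiv.Perm GolayPt) q = _ from h3]; exact g1), hko, hkx⟩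

theorem s1605 (p q : GolayPt) (hpq : p ≠ q) :
    {x : Finset GolayPt | (x ∈ octads ∧ p ∈ x ∧ q ∉ x)}.ncard = 176 ∧
    (∀ o o' : Finset GolayPt, (o ∈ octads ∧ p ∈ o ∧ q ∉ o) → (o' ∈ octads ∧ p ∈ o' ∧ q ∉ o') →
      ∃ g : Equiv.Perm GolayPt, g ∈ M24 ∧ g p = p ∧ g q = q ∧ g • o = o') ∧
    ∀ o : Finset GolayPt, (o ∈ octads ∧ p ∈ o ∧ q ∉ o) →
      {x : Finset GolayPt | (x ∈ octads ∧ p ∈ x ∧ q ∉ x) ∧ (o ∩ x).card = 2}.ncard = 70 ∧
      {x : Finset GolayPt | (x ∈ octads ∧ p ∈ x ∧ q ∉ x) ∧ (o ∩ x).card = 4}.ncard = 105 ∧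
      ∀ o' o'' : Finset GolayPt, (o' ∈ octads ∧ p ∈ o' ∧ q ∉ o') → (o'' ∈ octads ∧ p ∈ o'' ∧ q ∉ o'') →
        (o ∩ o').card = (o ∩ o'').card →
        ∃ g : Equiv.Perm GolayPt, g ∈ M24 ∧ g p = p ∧ g q = q ∧ g • o = o ∧ g • o' = o'' := by
  refine ⟨?_, fun o o' ho ho' => ?_, fun o ho => ?_⟩
  · obtain ⟨h, hp, hq⟩ := exists_smul_eq_pair hpq (p' := ptAt 0) (q' := ptAt 5) (by decide +kernel)
    rw [ncard_octads_transport h (fun x => ptAt 0 ∈ x ∧ ptAt 5 ∉ x) _ fun y => by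
      rw [smul_mem_iff h hp, smul_mem_iff h hq]]
    exact count_check (fun m => m.testBit 0 && !m.testBit 5) _ _ (by decide +kernel) fun m => by simp [pidx_small, -Nat.testBit_zero]
  · obtain ⟨h, h1, h2, h3⟩ := config_in_out ho.1 ho.2.1 ho.2.2
    obtain ⟨h', h1', h2', h3'⟩ := config_in_out ho'.1 ho'.2.1 ho'.2.2
    refine ⟨((h'⁻¹ * h : M24) : Equiv.Perm GolayPt), (h'⁻¹ * h).2, ?_, ?_, ?_⟩
    · show (h'⁻¹ * h) • p = p
      rw [mul_smul, h2, ← h2', inv_smul_smul]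
    · show (h'⁻¹ * h) • q = q
      rw [mul_smul, h3, ← h3', inv_smul_smul]
    · show (h'⁻¹ * h) • o = o'
      rw [mul_smul, h1, ← h1', inv_smul_smul]
  · obtain ⟨h, h1, h2, h3⟩ := config_in_out ho.1 ho.2.1 ho.2.2
    have hset : ∀ k, {x | (x ∈ octads ∧ p ∈ x ∧ q ∉ x) ∧ (o ∩ x).card = k}
        = {x | x ∈ octads ∧ p ∈ x ∧ q ∉ x ∧ (o ∩ x).card = k} := fun k => by ext; simp [and_assoc]
    have hcnt : ∀ k, {x | (x ∈ octads ∧ p ∈ x ∧ q ∉ x) ∧ (o ∩ x).card = k}.ncard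
        = {x | x ∈ octads ∧ ptAt 0 ∈ x ∧ ptAt 5 ∉ x ∧ (oct0 ∩ x).card = k}.ncard := fun k => by
      rw [hset]
      exact ncard_octads_transport h _ _ fun y => by
        rw [smul_mem_iff h h2, smul_mem_iff h h3, card_inter_transport h h1]
    refine ⟨?_, ?_, fun o' o'' ho' ho'' he => ?_⟩
    · rw [hcnt]
      exact count_check (fun m => m.testBit 0 && (!m.testBit 5 && (meet0 m == 2))) _ _ (by decide +kernel)
        fun m => by simp [pidx_small, -Nat.testBit_zero, meet0_pts]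
    · rw [hcnt]
      exact count_check (fun m => m.testBit 0 && (!m.testBit 5 && (meet0 m == 4))) _ _ (by decide +kernel)
        fun m => by simp [pidx_small, -Nat.testBit_zero, meet0_pts]
    · obtain ⟨g, hg, g0, g5, go, gx⟩ := octads_orbit_D (smul_mem_octads h.2 ho'.1) (smul_mem_octads h.2 ho''.1)
        ((smul_mem_iff h h2 _).mpr ho'.2.1) (fun e => ho'.2.2 ((smul_mem_iff h h3 _).mp e))
        ((smul_mem_iff h h2 _).mpr ho''.2.1) (fun e => ho''.2.2 ((smul_mem_iff h h3 _).mp e))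
        (by rw [← smul_coe, ← smul_coe, card_inter_transport h h1, card_inter_transport h h1, he])
      obtain ⟨k, hk, hfix, hko, hkx⟩ := orbit_transport h h1 hg go gx
      exact ⟨k, hk, hfix p (by rw [show (h : Equiv.Perm GolayPt) p = _ from h2]; exact g0), hfix q (by rw [show (h : Equiv.Perm GolayPt) q = _ from h3]; exact g5), hko, hkx⟩

/-- The blocks meeting an octad in a given subset of two or four of its points. -/
theorem s1555 (o : Finset GolayPt) (ho : o ∈ octads) (s : Finset GolayPt) (hs : s ⊆ o) :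
    (s.card = 2 → {o' : Finset GolayPt | o' ∈ octads ∧ o ∩ o' = s}.ncard = 16) ∧
    (s.card = 4 → {o' : Finset GolayPt | o' ∈ octads ∧ o ∩ o' = s}.ncard = 4) := by
  have key : ∀ (k : ℕ) (hk : k ≤ 5) (m₀ n : ℕ), s.card = k →
      (Finset.univ.map ((Fin.castLEEmb hk).trans base5)) = pts m₀ →
      (octMasks.countP fun m => (5279 &&& m) == m₀) = n → m₀ < 2 ^ 24 →
      {o' : Finset GolayPt | o' ∈ octads ∧ o ∩ o' = s}.ncard = n := by
    intro k hk m₀ n hsk hm0 hn hlt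
    obtain ⟨x, hx, hxy⟩ := exists_five_in ho hk ((s.equivFinOfCardEq hsk).symm.toEmbedding.trans
      (Function.Embedding.subtype _)) fun i => hs (Subtype.prop _)
    obtain ⟨c, hc⟩ : (oᶜ).Nonempty := Finset.card_pos.mp (by rw [Finset.card_compl, ho.2]; simp)
    obtain ⟨h, h1, h2, -⟩ := exists_config ho x hx (Finset.mem_compl.mp hc)
    have hs0 : h • s = pts m₀ := by
      rw [← hm0]
      ext p
      simp only [Finset.mem_map, Finset.mem_univ, true_and, Function.Embedding.trans_apply, Fin.castLEEmb_apply]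
      constructor
      · intro hp
        obtain ⟨a, ha, rfl⟩ := Finset.mem_image.mp hp
        refine ⟨s.equivFinOfCardEq hsk ⟨a, ha⟩, ?_⟩
        rw [← h2, hxy]; simp
      · rintro ⟨i, rfl⟩
        rw [← h2, hxy]
        exact Finset.smul_mem_smul_finset (Subtype.prop _)
    rw [ncard_octads_transport h (fun y => oct0 ∩ y = pts m₀) _ fun y => by
      rw [← h1, ← hs0, smul_coe, smul_coe, smul_coe, ← Finset.smul_finset_inter, smul_left_cancel_iff]]
    refine count_check _ _ _ hn fun m => ?_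
    rw [beq_iff_eq, oct0, ← pts_land]
    exact ⟨fun e => by rw [e], fun e => eq_of_pts_eq
      (lt_of_le_of_lt Nat.and_le_left (by norm_num)) hlt e⟩
  exact ⟨fun h => key 2 (by norm_num) 3 16 h (by decide +kernel) (by decide +kernel) (by norm_num),
    fun h => key 4 (by norm_num) 15 4 h (by decide +kernel) (by decide +kernel) (by norm_num)⟩

end Cfsg.Lib.Golay
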