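import Cfsg.Agent.Golay.DodecadStab
import Cfsg.Agent.Golay.Conj

/-!
The two classes of the group of degree eleven inside a dodecad stabiliser.
-/

namespace Cfsg.Lib.Golay.OuterM11

open Cfsg Cfsg.Lib.Golay Cfsg.Lib.PermCert MulAction
open scoped Pointwise

/-- An element fixing the dodecad and the extra point, and moving every point of the dodecad. -/
def mover : PP := (13828347165394628906034765913596865677821847691021579236849739111157211977779303803508275314884747637132767526916, 13828319643971173210264783069679031809517345428758264519762487309864235722917078697754590035430443279136982171666)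

theorem mover_ok : (preserves mover && img mover 340831 == 340831 && ap mover.1 23 == 23 &&
    (List.range 24).all fun i => !Nat.testBit 340831 i || !(ap mover.1 i == i)) = true := by
  decide +kernel

theorem exists_mover {p : GolayPt} (hp : p ∈ Spor.squareDodecad) :
    ∃ σ ∈ Spor.M12, σ none = none ∧ σ p ≠ p := by
  have h := mover_ok
  simp only [Bool.and_eq_true, beq_iff_eq, List.all_eq_true, List.mem_range, Bool.or_eq_true,
    Bool.not_eq_true', beq_eq_false_iff_ne] at h
  obtain ⟨⟨⟨hpres, hD⟩, hnone⟩, hmove⟩ := h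
  have hv : valid 24 mover = true := by
    simp only [preserves, Bool.and_eq_true] at hpres; exact hpres.1
  refine ⟨toP mover, ⟨toP_mem_M24 hpres, ?_⟩, ?_, fun e => ?_⟩
  · exact mem_stabilizer_iff.mpr (by rw [squareDodecad_eq, ← pts_img hv, hD])
  · refine pidx_injective ?_
    rw [pidx_toP hv]
    exact hnone
  · have hp' : Nat.testBit 340831 (pidx p) = true := by
      rw [squareDodecad_eq, mem_pts] at hp; exact hp
    rcases hmove (pidx p) (pidx_lt p) with h' | h'
    · rw [hp'] at h'; exact Bool.noConfusion h'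
    · exact h' (by rw [← pidx_toP hv, e])

theorem compl_dodecad {d : Finset GolayPt} (hd : d ∈ dodecads) : (dᶜ : Finset GolayPt) ∈ dodecads :=
  ⟨compl_mem_supports hd.1, by rw [Finset.card_compl, hd.2]; rfl⟩

theorem transitive_on {d : Finset GolayPt} (hd : d ∈ dodecads) {p q : GolayPt} (hp : p ∈ d) (hq : q ∈ d) :
    ∃ g ∈ setStab d, g p = q := by
  have h : ∀ p ∈ d, ∃ r s, r ∈ d ∧ s ∈ d ∧ p ≠ r ∧ p ≠ s ∧ r ≠ s := by
    intro p hp
    have hc : 1 < (d.erase p).card := by rw [Finset.card_erase_of_mem hp, hd.2]; norm_num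
    obtain ⟨r, s, hr, hs, hrs⟩ := Finset.one_lt_card_iff.mp hc
    rw [Finset.mem_erase] at hr hs
    exact ⟨r, s, hr.2, hs.2, Ne.symm hr.1, Ne.symm hs.1, hrs⟩
  obtain ⟨r, s, hr, hs, h1, h2, h3⟩ := h p hp
  obtain ⟨r', s', hr', hs', h1', h2', h3'⟩ := h q hq
  obtain ⟨g, hg, hgp, -, -⟩ := dodecad_three hd hp hr hs h1 h2 h3 hq hr' hs' h1' h2' h3'
  exact ⟨g, hg, hgp⟩

theorem s5620 :
    Nonempty (↥(Spor.M12 ⊓ stabilizer (Equiv.Perm GolayPt) (none : GolayPt)) ≃* ↥Spor.M11) ∧
    (¬ ∃ k ∈ Spor.M12, MulAut.conj k • Spor.M11 = Spor.M12 ⊓ stabilizer (Equiv.Perm GolayPt) (none : GolayPt)) ∧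
    ∃ g ∈ M24, g • Spor.squareDodecad = Finset.univ \ Spor.squareDodecad ∧
      MulAut.conj g • Spor.M11 = Spor.M12 ⊓ stabilizer (Equiv.Perm GolayPt) (none : GolayPt) := by
  have h0 : (some 0 : GolayPt) ∈ Spor.squareDodecad := by decide +kernel
  have hn : (none : GolayPt) ∈ (Spor.squareDodecadᶜ : Finset GolayPt) := by decide +kernel
  have hc := compl_dodecad squareDodecad_mem
  obtain ⟨g0, hg0⟩ := M24_dodecads_transitive squareDodecad_mem hc
  have hg0' : (g0 : Equiv.Perm GolayPt) • Spor.squareDodecad = Spor.squareDodecadᶜ := hg0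
  have h0' : (g0 : Equiv.Perm GolayPt) (some 0) ∈ (Spor.squareDodecadᶜ : Finset GolayPt) := by
    rw [← hg0']; exact Finset.smul_mem_smul_finset h0
  obtain ⟨m, hm, hmp⟩ := transitive_on hc h0' hn
  set g := m * (g0 : Equiv.Perm GolayPt) with hgdef
  have hg24 : g ∈ M24 := mul_mem hm.1 g0.2
  have hgD : g • Spor.squareDodecad = Spor.squareDodecadᶜ := by
    rw [hgdef, mul_smul, hg0']; exact mem_stabilizer_iff.mp hm.2
  have hgp : g • (some 0 : GolayPt) = none := hmp
  have hcompl : ∀ σ : Equiv.Perm GolayPt,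
      σ • (Spor.squareDodecadᶜ : Finset GolayPt) = Spor.squareDodecadᶜ ↔ σ • Spor.squareDodecad = Spor.squareDodecad := by
    intro σ
    have e : σ • (Spor.squareDodecadᶜ : Finset GolayPt) = (σ • Spor.squareDodecad)ᶜ := by
      ext x
      obtain ⟨y, rfl⟩ := σ.surjective x
      rw [show σ y = σ • y from rfl, Finset.smul_mem_smul_finset_iff, Finset.mem_compl, Finset.mem_compl,
        Finset.smul_mem_smul_finset_iff]
    rw [e, compl_inj_iff]
  have hiff : ∀ k, k ∈ Spor.M11 ↔ g * k * g⁻¹ ∈ Spor.M12 ⊓ stabilizer (Equiv.Perm GolayPt) (none : GolayPt) := by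
    intro k
    rw [Spor.M11, Spor.M12]
    simp only [Subgroup.mem_inf]
    have hstab : stabilizer (Equiv.Perm GolayPt) (Spor.squareDodecadᶜ : Finset GolayPt)
        = stabilizer (Equiv.Perm GolayPt) Spor.squareDodecad := Subgroup.ext fun σ => hcompl σ
    rw [conj_mem_stabilizer hgD, conj_mem_stabilizer hgp, hstab]
    refine and_congr (and_congr ⟨fun h => mul_mem (mul_mem hg24 h) (inv_mem hg24), fun h => ?_⟩ Iff.rfl) Iff.rfl
    have := mul_mem (mul_mem (inv_mem hg24) h) hg24
    simpa [mul_assoc] using this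
  refine ⟨⟨(conjEquiv g hiff).symm⟩, ?_, g, hg24, by rw [hgD, Finset.compl_eq_univ_sdiff], ?_⟩
  · rintro ⟨k, hk, hkc⟩
    have hkp : k (some 0) ∈ Spor.squareDodecad := by
      rw [← mem_stabilizer_iff.mp hk.2]; exact Finset.smul_mem_smul_finset h0
    obtain ⟨σ, hσ, hσn, hσp⟩ := exists_mover hkp
    have hmem : σ ∈ Spor.M12 ⊓ stabilizer (Equiv.Perm GolayPt) (none : GolayPt) := ⟨hσ, hσn⟩
    rw [← hkc] at hmem
    obtain ⟨x, hx, rfl⟩ := Subgroup.mem_smul_pointwise_iff_exists _ _ _ |>.mp hmem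
    refine hσp ?_
    show k (x (k.symm (k (some 0)))) = k (some 0)
    rw [Equiv.symm_apply_apply, show x (some 0) = some 0 from hx.2]
  · ext x
    rw [Subgroup.mem_pointwise_smul_iff_inv_smul_mem, hiff]
    simp [mul_assoc]

end Cfsg.Lib.Golay.OuterM11
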