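import Cfsg.Agent.Golay.DodecadStab
import Cfsg.Agent.Golay.OctadCounts
import Cfsg.Prelude.Def_SporadicCombinatorics

/-!
Pairs of octads, and hexads on a dodecad.
-/

namespace Cfsg.Lib.Golay

open Cfsg Cfsg.Lib.PermCert Cfsg.Lib.Steiner MulAction
open scoped Pointwise

theorem card_inf_coe {β γ : Type*} [MulAction (Equiv.Perm GolayPt) β] [MulAction (Equiv.Perm GolayPt) γ] (x : β) (y : γ) :
    Nat.card ↥(stabilizer M24 x ⊓ stabilizer M24 y)
      = Nat.card ↥(M24 ⊓ stabilizer (Equiv.Perm GolayPt) x ⊓ stabilizer (Equiv.Perm GolayPt) y) :=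
  Nat.card_congr ⟨fun g => ⟨g.1, ⟨g.1.2, g.2.1⟩, g.2.2⟩, fun g => ⟨⟨g.1, g.2.1.1⟩, g.2.1.2, g.2.2⟩,
    fun _ => rfl, fun _ => rfl⟩

/-- An isomorphism between the two forms of an intersection of stabilisers. -/
def infEquiv {β γ : Type*} [MulAction (Equiv.Perm GolayPt) β] [MulAction (Equiv.Perm GolayPt) γ] (x : β) (y : γ) :
    ↥(stabilizer M24 x ⊓ stabilizer M24 y) ≃*
      ↥(M24 ⊓ stabilizer (Equiv.Perm GolayPt) x ⊓ stabilizer (Equiv.Perm GolayPt) y) where
  toFun g := ⟨g.1, ⟨g.1.2, g.2.1⟩, g.2.2⟩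
  invFun g := ⟨⟨g.1, g.2.1.1⟩, g.2.1.2, g.2.2⟩
  left_inv _ := rfl
  right_inv _ := rfl
  map_mul' _ _ := rfl

theorem card_pair_stab {o o' : Finset GolayPt} (ho : o ∈ octads) (ho' : o' ∈ octads) {k n : ℕ}
    (hk : (o ∩ o').card = k) (hk8 : k ≠ 8) (hn : meetCount octads o k = n) :
    Nat.card ↥(setStab o ⊓ stabilizer (Equiv.Perm GolayPt) o') * n = 322560 := by
  have horb : orbit ↥(setStab o) o' = {c | c ∈ octads ∧ (o ∩ c).card = k} := by
    ext c
    constructor
    · rintro ⟨g, rfl⟩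
      refine ⟨smul_mem_octads g.2.1 ho', ?_⟩
      show (o ∩ (g : Equiv.Perm GolayPt) • o').card = k
      have hgo : (g : Equiv.Perm GolayPt) • o = o := g.2.2
      rw [← hk, ← card_smul_inter (g : Equiv.Perm GolayPt) o o', hgo]
    · rintro ⟨hc, hck⟩
      obtain ⟨g, hg, hgo, hgc⟩ := s1556 o o' c ho ho' hc (hk.trans hck.symm)
      exact ⟨⟨g, hg, hgo⟩, hgc⟩
  have h := card_subgroup_inter (setStab o) o'
  rw [horb, card_setStab_octad ho, ncard_meet (by rw [ho.2]; exact hk8), hn] at h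
  exact h

theorem s5613 (o o' : Finset GolayPt) (ho : o ∈ octads) (ho' : o' ∈ octads) :
    ((o ∩ o').card = 0 → Nat.card ↥(stabilizer M24 o ⊓ stabilizer M24 o') = 10752) ∧
    ((o ∩ o').card = 4 → Nat.card ↥(stabilizer M24 o ⊓ stabilizer M24 o') = 1152) ∧
    ((o ∩ o').card = 2 → Nat.card ↥(stabilizer M24 o ⊓ stabilizer M24 o') = 720) := by
  obtain ⟨m0, -, m2, -, m4⟩ := meet_s5824 (by rw [Fintype.card_option, ZMod.card]) octads_steiner ho
  refine ⟨fun h => ?_, fun h => ?_, fun h => ?_⟩ <;> rw [card_inf_coe]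
  · exact Nat.eq_of_mul_eq_mul_right (by norm_num) ((card_pair_stab ho ho' h (by norm_num) m0).trans (by norm_num))
  · exact Nat.eq_of_mul_eq_mul_right (by norm_num) ((card_pair_stab ho ho' h (by norm_num) m4).trans (by norm_num))
  · exact Nat.eq_of_mul_eq_mul_right (by norm_num) ((card_pair_stab ho ho' h (by norm_num) m2).trans (by norm_num))

theorem nonempty_iso_perm {E : Finset GolayPt} (hE : E.card = 6) {H : Subgroup (Equiv.Perm GolayPt)}
    (hH : ∀ g ∈ H, g • E = E) (h1 : ∀ g ∈ H, (∀ p ∈ E, g p = p) → g = 1) (hc : Nat.card H = 720) :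
    Nonempty (H ≃* Equiv.Perm (Fin 6)) := by
  have hbij : Function.Bijective (restrictHom E H hH) := (Nat.bijective_iff_injective_and_card _).mpr
    ⟨restrictHom_injective _ _ _ h1, by rw [hc, Nat.card_perm, Nat.card_eq_fintype_card, Fintype.card_coe, hE]; rfl⟩
  exact ⟨(MulEquiv.ofBijective _ hbij).trans (Equiv.permCongrHom (E.equivFinOfCardEq hE))⟩

theorem s5614 (o o' : Finset GolayPt) (ho : o ∈ octads) (ho' : o' ∈ octads) (h₂ : (o ∩ o').card = 2) :
    Nonempty (↥(stabilizer M24 o ⊓ stabilizer M24 o') ≃* Equiv.Perm (Fin 6)) := by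
  have h6 : (o \ o').card = 6 ∧ (o' \ o).card = 6 := by
    have a := Finset.card_sdiff_add_card_inter o o'
    have b := Finset.card_sdiff_add_card_inter o' o
    rw [Finset.inter_comm o' o] at b
    rw [ho.2, h₂] at a
    rw [ho'.2, h₂] at b
    omega
  have hH : ∀ g ∈ setStab o ⊓ stabilizer (Equiv.Perm GolayPt) o', g • (o \ o') = o \ o' := fun g hg => by
    rw [Finset.smul_finset_sdiff, hg.1.2, mem_stabilizer_iff.mp hg.2]
  obtain ⟨e⟩ := nonempty_iso_perm h6.1 hH (fun g hg hfix =>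
    eq_one_of_six_word ho (A := o \ o') Finset.sdiff_subset h6.1.ge hg.1.1 hfix (Or.inl ho') h6.2 hg.2)
    (by
      exact Nat.eq_of_mul_eq_mul_right (by norm_num)
        ((card_pair_stab ho ho' h₂ (by norm_num)
          (meet_s5824 (by rw [Fintype.card_option, ZMod.card]) octads_steiner ho).2.2.1).trans (by norm_num)))
  exact ⟨(infEquiv o o').trans e⟩

theorem exists_perm_hexad {d o : Finset GolayPt} (hd : d ∈ dodecads) (ho : o ∈ octads) (h6 : (o ∩ d).card = 6)
    (σ : Equiv.Perm ↥(o ∩ d)) :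
    ∃ g ∈ setStab d ⊓ stabilizer (Equiv.Perm GolayPt) (o ∩ d), ∀ p : ↥(o ∩ d), g p = σ p := by
  obtain ⟨x, e, hx, he, hxe⟩ := exists_five h6.ge
  let x' : Fin 5 ↪ GolayPt := ⟨fun i => σ ⟨x i, hx i⟩, fun i j h => x.injective
    (congrArg Subtype.val (σ.injective (Subtype.ext h)))⟩
  have hx' : ∀ i, x' i ∈ o ∩ d := fun i => (σ ⟨x i, hx i⟩).2
  obtain ⟨g, hg, hgx⟩ := dodecad_five hd (fun i => (Finset.mem_inter.mp (hx i)).2) (y := x')
    (fun i => (Finset.mem_inter.mp (hx' i)).2)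
  have hgo : g • o = o := by
    rw [octThrough_unique ho fun i => (Finset.mem_inter.mp (hx' i)).1]
    refine octThrough_unique (smul_mem_octads hg.1 (octThrough_spec _).1) fun i => ?_
    rw [← hgx i, ← octThrough_unique ho fun i => (Finset.mem_inter.mp (hx' i)).1]
    exact Finset.smul_mem_smul_finset (Finset.mem_inter.mp (hx i)).1
  have hgC : g • (o ∩ d) = o ∩ d := by rw [Finset.smul_finset_inter, hgo, hg.2]
  refine ⟨g, ⟨hg, hgC⟩, fun p => ?_⟩
  have hsub : insert e (Finset.univ.map x) = o ∩ d := by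
    refine Finset.eq_of_subset_of_card_le ?_ ?_
    · intro p hp
      simp only [Finset.mem_insert, Finset.mem_map, Finset.mem_univ, true_and] at hp
      rcases hp with rfl | ⟨i, rfl⟩
      exacts [he, hx i]
    · rw [h6, Finset.card_insert_of_notMem (by simpa using hxe), Finset.card_map]; simp
  have hp : (p : GolayPt) ∈ insert e (Finset.univ.map x) := by rw [hsub]; exact p.2
  simp only [Finset.mem_insert, Finset.mem_map, Finset.mem_univ, true_and] at hp
  rcases hp with h | ⟨i, h⟩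
  · -- the sixth point follows from the other five
    have hge : g e ∈ o ∩ d := (mem_iff_of_smul_eq hgC e).mpr he
    set q := σ.symm ⟨g e, hge⟩ with hq
    have hqσ : ((σ q : ↥(o ∩ d)) : GolayPt) = g e := by rw [hq, Equiv.apply_symm_apply]
    have hq' : (q : GolayPt) = e := by
      have hmem : (q : GolayPt) ∈ insert e (Finset.univ.map x) := by rw [hsub]; exact q.2
      simp only [Finset.mem_insert, Finset.mem_map, Finset.mem_univ, true_and] at hmem
      refine hmem.resolve_right ?_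
      rintro ⟨i, hi⟩
      refine hxe i (g.injective ?_)
      rw [← hqσ, show q = ⟨x i, hx i⟩ from Subtype.ext hi.symm]
      exact hgx i
    rw [show p = q from Subtype.ext (h.trans hq'.symm), hq', hqσ]
  · rw [show p = ⟨x i, hx i⟩ from Subtype.ext h.symm]; exact hgx i

theorem s5618 (d : Finset GolayPt) (hd : d ∈ dodecads) (C : Finset GolayPt) (hC : C ∈ hexadsOn d) :
    Nonempty (↥(stabilizer M24 d ⊓ stabilizer M24 C) ≃* Equiv.Perm (Fin 6)) ∧
      (∀ g ∈ stabilizer M24 d ⊓ stabilizer M24 C,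
        (∀ p ∈ C, ((g : ↥M24) : Equiv.Perm GolayPt) p = p) → g = 1) ∧
      ∀ g ∈ stabilizer M24 d ⊓ stabilizer M24 C,
        (∀ p ∈ d \ C, ((g : ↥M24) : Equiv.Perm GolayPt) p = p) → g = 1 := by
  obtain ⟨h6, o, ho, rfl⟩ := hC
  have hd6 : (d \ o).card = 6 := by
    have := Finset.card_sdiff_add_card_inter d o
    rw [hd.2, Finset.inter_comm, h6] at this; omega
  have h1 : ∀ g ∈ setStab d ⊓ stabilizer (Equiv.Perm GolayPt) (o ∩ d), (∀ p ∈ o ∩ d, g p = p) → g = 1 :=
    fun g hg hfix => eq_one_of_six_word ho (A := o ∩ d) Finset.inter_subset_left h6.ge hg.1.1 hfix (Or.inr hd) hd6 hg.1.2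
  -- the complementary hexad is cut out by the symmetric difference
  have ho2 : symmDiff d o ∈ octads := by
    refine ⟨symmDiff_mem_supports hd.1 ho.1, ?_⟩
    rw [symmDiff_def, Finset.sup_eq_union, Finset.card_union_of_disjoint disjoint_sdiff_sdiff, hd6]
    have := Finset.card_sdiff_add_card_inter o d
    rw [ho.2, h6] at this; omega
  have h2 : ∀ g ∈ setStab d ⊓ stabilizer (Equiv.Perm GolayPt) (o ∩ d),
      (∀ p ∈ d \ (o ∩ d), g p = p) → g = 1 := fun g hg hfix => by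
    refine eq_one_of_six_word ho2 (A := d \ (o ∩ d)) ?_ ?_ hg.1.1 hfix (Or.inr hd) ?_ hg.1.2
    · intro p hp
      simp only [Finset.mem_sdiff, Finset.mem_inter] at hp
      exact Finset.mem_symmDiff.mpr (Or.inl ⟨hp.1, fun h => hp.2 ⟨h, hp.1⟩⟩)
    · rw [Finset.sdiff_inter_self_right, hd6]
    · rw [← h6]; congr 1
      ext p; simp only [Finset.mem_sdiff, Finset.mem_inter, Finset.mem_symmDiff]; tauto
  refine ⟨?_, fun g hg hfix => Subtype.ext (h1 g ⟨⟨g.2, hg.1⟩, hg.2⟩ hfix),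
    fun g hg hfix => Subtype.ext (h2 g ⟨⟨g.2, hg.1⟩, hg.2⟩ hfix)⟩
  have hbij : Function.Bijective (restrictHom (o ∩ d) (setStab d ⊓ stabilizer (Equiv.Perm GolayPt) (o ∩ d))
      fun _ h => h.2) := by
    refine ⟨restrictHom_injective _ _ _ h1, fun σ => ?_⟩
    obtain ⟨g, hg, hgσ⟩ := exists_perm_hexad hd ho h6 σ
    exact ⟨⟨g, hg⟩, Equiv.ext fun p => Subtype.ext (hgσ p)⟩
  exact ⟨((infEquiv d (o ∩ d)).trans (MulEquiv.ofBijective _ hbij)).trans
    (Equiv.permCongrHom ((o ∩ d).equivFinOfCardEq h6))⟩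

end Cfsg.Lib.Golay
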