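import Cfsg.Agent.Golay.GraphIso
import Cfsg.Agent.Golay.StdObjects
import Cfsg.Agent.Golay.Conj
import Cfsg.Agent.Golay.PlaneFourData
import Cfsg.Agent.Classical.SL
import Cfsg.Agent.Classical.Unitary.UThreeTwo

/-!
The pointwise stabiliser of three points as a projective linear group over a field with four elements.
-/

set_option autoImplicit false

namespace Cfsg.Lib.Golay

open Cfsg Cfsg.Lib.PermCert MulAction Matrix
open scoped Pointwise

/-- Multiplication of codes. -/
def fourMul (a b : ℕ) : ℕ :=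
  match a, b with
  | 1, x => x
  | 2, 1 => 2 | 2, 2 => 3 | 2, 3 => 1
  | 3, 1 => 3 | 3, 2 => 1 | 3, 3 => 2
  | _, _ => 0

/-- The value of a code. -/
def fourVal {F : Type*} [Field F] (ω : F) (c : ℕ) : F :=
  (if c.testBit 0 then 1 else 0) + if c.testBit 1 then ω else 0

/-- An entry of a listed matrix. -/
def fourEnt (l : List ℕ) (i j : Fin 3) : ℕ := l.getD (3 * i.val + j.val) 0

/-- A coordinate of a labelled point. -/
def fourLab (k : Fin 21) (i : Fin 3) : ℕ := (labPlaneFour.getD k.val []).getD i.val 0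

/-- The code of a coordinate of an image vector. -/
def fourImg (l : List ℕ) (k : Fin 21) (i : Fin 3) : ℕ :=
  fourMul (fourEnt l i 0) (fourLab k 0) ^^^ fourMul (fourEnt l i 1) (fourLab k 1) ^^^ fourMul (fourEnt l i 2) (fourLab k 2)

/-- The code of the determinant. -/
def fourDet (l : List ℕ) : ℕ :=
  fourMul (fourMul (fourEnt l 0 0) (fourEnt l 1 1)) (fourEnt l 2 2) ^^^
  fourMul (fourMul (fourEnt l 0 0) (fourEnt l 1 2)) (fourEnt l 2 1) ^^^
  fourMul (fourMul (fourEnt l 0 1) (fourEnt l 1 0)) (fourEnt l 2 2) ^^^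
  fourMul (fourMul (fourEnt l 0 1) (fourEnt l 1 2)) (fourEnt l 2 0) ^^^
  fourMul (fourMul (fourEnt l 0 2) (fourEnt l 1 0)) (fourEnt l 2 1) ^^^
  fourMul (fourMul (fourEnt l 0 2) (fourEnt l 1 1)) (fourEnt l 2 0)

/-- The point with a given index. -/
def planeObj (k : Fin 21) : GolayPt := ptAt (objPlaneFour.getD k.val 0)

/-- The test of an item. -/
def planeActOK (t : PP × List ℕ) : Bool :=
  valid 24 t.1 && sift 24 cgPlaneFour.chain [t.1] && fourDet t.2 == 1 &&
    decide (∀ i j : Fin 3, fourEnt t.2 i j < 4) &&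
    decide (∀ k : Fin 21, ∃ k' : Fin 21, toP t.1 (planeObj k) = planeObj k' ∧
      ∃ c : Fin 4, ∀ i : Fin 3, fourImg t.2 k i = fourMul c.val (fourLab k' i))

theorem planeActs_ok : actsPlaneFour.all planeActOK = true := by decide +kernel

theorem planeData_ok :
    cgPlaneFour.gens.all (fun g => actsPlaneFour.any fun t => t.1 == g.1) = true ∧
    (∀ i j : Fin 3, i ≠ j → ∀ c : Fin 4, c.val = 1 ∨ c.val = 2 → ∃ t ∈ actsPlaneFour, ∀ a b : Fin 3,
      fourEnt t.2 a b = if a = b then 1 else if a = i ∧ b = j then c.val else 0) ∧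
    (∀ a b : Fin 21, planeObj a = planeObj b → a = b) ∧
    (∀ k i, fourLab k i < 4) ∧
    (∀ j : Fin 3, ∃ k : Fin 21, ∀ i, fourLab k i = if i = j then 1 else 0) ∧
    (∃ k : Fin 21, ∀ i, fourLab k i = 1) ∧ size cgPlaneFour.chain = 20160 := by decide +kernel

theorem cgPlaneFour_ok : cgPlaneFour.ok = true := by decide +kernel

theorem cgPlaneFour_grp :
    M24 ⊓ stabilizer (Equiv.Perm GolayPt) (none : GolayPt) ⊓ stabilizer (Equiv.Perm GolayPt) (some 0 : GolayPt) ⊓
      stabilizer (Equiv.Perm GolayPt) (ptAt 1) = cgPlaneFour.grp := by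
  symm
  refine Subgroup.eq_of_le_of_card_ge (le_inf (le_inf (le_inf ?_ ?_) ?_) ?_) ?_
  · exact grp_cgM24 ▸ grp_le_of_gensIn cgM24_ok cgPlaneFour_ok (by decide +kernel)
  · exact le_stabilizer_of_gensFix ptCoding cgPlaneFour_ok (show pidx (none : GolayPt) = 23 from rfl) (by decide +kernel)
  · exact le_stabilizer_of_gensFix ptCoding cgPlaneFour_ok (show pidx (some 0 : GolayPt) = 0 from rfl) (by decide +kernel)
  · exact le_stabilizer_of_gensFix ptCoding cgPlaneFour_ok (show pidx (ptAt 1) = 1 from pidx_ptAt ⟨1, by norm_num⟩)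
      (by decide +kernel)
  · rw [CG.card_grp cgPlaneFour_ok, planeData_ok.2.2.2.2.2.2]
    refine le_of_eq ?_
    rw [← card_M21]
    rfl

section

variable {F : Type*} [Field F] [CharP F 2] {ω : F} (hω : ω * ω = ω + 1)
include hω

theorem fourVal_xor : ∀ a, a < 4 → ∀ b, b < 4 → fourVal ω (a ^^^ b) = fourVal ω a + fourVal ω b := by
  have h2 : (1 : F) + 1 = 0 := CharTwo.add_self_eq_zero 1
  have hw : ω + ω = 0 := CharTwo.add_self_eq_zero ω
  intro a ha b hb
  interval_cases a <;> interval_cases b <;> simp [fourVal, Nat.testBit] <;>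
    (first | ring1 | linear_combination h2 | linear_combination -h2 | linear_combination ω * h2 | linear_combination -ω * h2 |
      linear_combination (1 + ω) * h2 | linear_combination -(1 + ω) * h2)

theorem fourVal_mul : ∀ a, a < 4 → ∀ b, b < 4 → fourVal ω (fourMul a b) = fourVal ω a * fourVal ω b := by
  have h2 : (1 : F) + 1 = 0 := CharTwo.add_self_eq_zero 1
  intro a ha b hb
  interval_cases a <;> interval_cases b <;> simp [fourVal, fourMul, Nat.testBit] <;>
    (first | linear_combination (-1 : F) * hω | linear_combination -hω - ω * h2 | linear_combination -hω - h2 - ω * h2 |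
      linear_combination -hω)

theorem fourMul_lt : ∀ a, a < 4 → ∀ b, b < 4 → fourMul a b < 4 := by
  intro a ha b hb
  interval_cases a <;> interval_cases b <;> decide

theorem xor_lt_four : ∀ a, a < 4 → ∀ b, b < 4 → a ^^^ b < 4 := by
  intro a ha b hb
  interval_cases a <;> interval_cases b <;> decide

end

/-- The iso. -/
theorem planeFour_iso (F : Type) [Field F] [Fintype F] (hF : Fintype.card F = 4) :
    Nonempty (cgPlaneFour.grp ≃* Matrix.ProjectiveSpecialLinearGroup (Fin 3) F) := by
  classical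
  obtain ⟨_, ω, hω⟩ := Cfsg.Lib.Classical.UThreeTwo.exists_omega hF
  obtain ⟨hgens, htr, hinj, hlab, haxis, ⟨kone, hkone⟩, hsize⟩ := planeData_ok
  have h2 : (2 : F) = 0 := CharTwo.two_eq_zero
  have hneg : ∀ x : F, -x = x := CharTwo.neg_eq
  let val := fourVal (F := F) ω
  let lab : Fin 21 → Fin 3 → F := fun k i => val (fourLab k i)
  let Rel : Equiv.Perm GolayPt → Matrix.SpecialLinearGroup (Fin 3) F → Prop := fun x A =>
    ∀ k, ∃ k', x (planeObj k) = planeObj k' ∧ ∃ c : F, A.1 *ᵥ lab k = c • lab k'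
  have act : ∀ t ∈ actsPlaneFour, ∃ A : Matrix.SpecialLinearGroup (Fin 3) F,
      (∀ i j, A.1 i j = val (fourEnt t.2 i j)) ∧ toP t.1 ∈ cgPlaneFour.grp ∧ Rel (toP t.1) A := by
    intro t ht
    have h := List.all_eq_true.mp planeActs_ok t ht
    simp only [planeActOK, Bool.and_eq_true, decide_eq_true_eq, beq_iff_eq] at h
    obtain ⟨⟨⟨⟨hv, hs⟩, hd⟩, he⟩, hrel⟩ := h
    have m2 : ∀ {a b}, a < 4 → b < 4 → fourMul a b < 4 := fun ha hb => fourMul_lt hω _ ha _ hb
    have x2 : ∀ {a b}, a < 4 → b < 4 → a ^^^ b < 4 := fun ha hb => xor_lt_four hω _ ha _ hb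
    have vm : ∀ {a b}, a < 4 → b < 4 → val (fourMul a b) = val a * val b := fun ha hb => fourVal_mul hω _ ha _ hb
    have vx : ∀ {a b}, a < 4 → b < 4 → val (a ^^^ b) = val a + val b := fun ha hb => fourVal_xor hω _ ha _ hb
    let M : Matrix (Fin 3) (Fin 3) F := Matrix.of fun i j => val (fourEnt t.2 i j)
    have hdet : M.det = 1 := by
      have e : val (fourDet t.2) = 1 := by rw [hd]; simp [val, fourVal, Nat.testBit]
      have p : ∀ i j k l u w, fourMul (fourMul (fourEnt t.2 i j) (fourEnt t.2 k l)) (fourEnt t.2 u w) < 4 :=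
        fun i j k l u w => m2 (m2 (he i j) (he k l)) (he u w)
      have pv : ∀ i j k l u w, val (fourMul (fourMul (fourEnt t.2 i j) (fourEnt t.2 k l)) (fourEnt t.2 u w)) =
          M i j * M k l * M u w := fun i j k l u w => by
        rw [vm (m2 (he i j) (he k l)) (he u w), vm (he i j) (he k l)]; rfl
      rw [fourDet, vx (x2 (x2 (x2 (x2 (p ..) (p ..)) (p ..)) (p ..)) (p ..)) (p ..),
        vx (x2 (x2 (x2 (p ..) (p ..)) (p ..)) (p ..)) (p ..), vx (x2 (x2 (p ..) (p ..)) (p ..)) (p ..),
        vx (x2 (p ..) (p ..)) (p ..), vx (p ..) (p ..), pv, pv, pv, pv, pv, pv] at e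
      rw [Matrix.det_fin_three, ← e]
      simp only [sub_eq_add_neg, hneg]
    refine ⟨⟨M, hdet⟩, fun i j => rfl, ⟨perm 24 t.1, by
      simpa using mem_grp_of_sift (CG.ok_spec cgPlaneFour_ok).1 (w := [t.1]) (by simpa using hv) hs, rfl⟩, fun k => ?_⟩
    obtain ⟨k', h1, c, h3⟩ := hrel k
    refine ⟨k', h1, val c.val, funext fun i => ?_⟩
    have e := congrArg val (h3 i)
    rw [fourImg, vx (x2 (m2 (he i 0) (hlab k 0)) (m2 (he i 1) (hlab k 1))) (m2 (he i 2) (hlab k 2)),
      vx (m2 (he i 0) (hlab k 0)) (m2 (he i 1) (hlab k 1)), vm (he i 0) (hlab k 0), vm (he i 1) (hlab k 1),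
      vm (he i 2) (hlab k 2), vm c.2 (hlab k' i)] at e
    simpa [Matrix.mulVec, dotProduct, Fin.sum_univ_three, M, lab] using e
  have d : GraphData cgPlaneFour Rel :=
    { ok := cgPlaneFour_ok
      one := fun k => ⟨k, rfl, 1, by simp⟩
      mul := fun {x y A B} hx hy k => by
        obtain ⟨j, h1, c, h2⟩ := hy k
        obtain ⟨l, h3, c', h4⟩ := hx j
        refine ⟨l, by rw [Equiv.Perm.mul_apply, h1, h3], c * c', ?_⟩
        rw [Matrix.SpecialLinearGroup.coe_mul, ← Matrix.mulVec_mulVec, h2, Matrix.mulVec_smul, h4, smul_smul]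
      gens := fun g hg => by
        obtain ⟨t, ht, e⟩ := List.any_eq_true.mp (List.all_eq_true.mp hgens g hg)
        obtain ⟨A, -, -, hA⟩ := act t ht
        exact ⟨A, (congrArg toP (beq_iff_eq.mp e)) ▸ hA⟩ }
  have v01 : val 0 = 0 ∧ val 1 = 1 ∧ val 2 = ω ∧ val 3 = 1 + ω := by simp [val, fourVal, Nat.testBit]
  have hiff : ∀ A, Rel 1 A ↔ A ∈ Subgroup.center (Matrix.SpecialLinearGroup (Fin 3) F) := by
    intro A
    constructor
    · intro h
      have hfix : ∀ k, ∃ c : F, A.1 *ᵥ lab k = c • lab k := fun k => by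
        obtain ⟨l, h1, h3⟩ := h k
        exact (hinj _ _ h1).symm ▸ h3
      have col : ∀ j, ∃ c : F, ∀ i, A.1 i j = if i = j then c else 0 := by
        intro j
        obtain ⟨k, hk⟩ := haxis j
        obtain ⟨c, hc⟩ := hfix k
        have e : lab k = Pi.single j 1 := funext fun i => by
          by_cases hij : i = j
          · subst hij; simp [lab, hk, v01.2.1]
          · simp [lab, hk, hij, v01.1]
        refine ⟨c, fun i => ?_⟩
        have := congrFun hc i
        rw [e, Matrix.mulVec_single_one, Matrix.col_apply] at this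
        simpa [Pi.single_apply] using this
      choose c hc using col
      obtain ⟨a, ha⟩ := hfix kone
      have e1 : lab kone = fun _ => 1 := funext fun i => by simp [lab, hkone, v01.2.1]
      have hall : ∀ i, c i = a := fun i => by
        have := congrFun ha i
        rw [e1] at this
        simp [Matrix.mulVec, dotProduct, hc] at this
        exact this
      have hA : A.1 = Matrix.scalar (Fin 3) a := by
        ext i j
        rw [hc j i, hall]
        simp [Matrix.diagonal_apply]
      rw [Matrix.SpecialLinearGroup.mem_center_iff]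
      refine ⟨a, ?_, hA.symm⟩
      have hd := A.2
      rw [hA] at hd
      simpa using hd
    · intro h
      obtain ⟨r, -, hr⟩ := Matrix.SpecialLinearGroup.mem_center_iff.mp h
      intro k
      exact ⟨k, rfl, r, by rw [← hr]; simp⟩
  let S : Set (Matrix.SpecialLinearGroup (Fin 3) F) := {A | ∃ x ∈ cgPlaneFour.grp, Rel x A}
  have hFv : ∀ c : F, c = val 0 ∨ c = val 1 ∨ c = val 2 ∨ c = val 3 := by
    have hne : ω ≠ 0 ∧ ω ≠ 1 := by
      constructor <;> intro e <;> subst e <;> simp at hω
    have h3 : (1 : F) + ω ≠ 0 ∧ (1 : F) + ω ≠ 1 ∧ (1 : F) + ω ≠ ω := by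
      refine ⟨fun e => hne.2 ?_, fun e => hne.1 ?_, fun e => one_ne_zero (add_eq_right.mp e)⟩
      · have := eq_neg_of_add_eq_zero_right e; rwa [hneg] at this
      · exact add_eq_left.mp e
    intro c
    obtain ⟨r0, r1, r2, r3⟩ := v01
    rw [r0, r1, r2, r3]
    by_contra hc
    simp only [not_or] at hc
    have : ({0, 1, ω, 1 + ω, c} : Finset F).card ≤ 4 := hF ▸ Finset.card_le_univ _
    rw [Finset.card_insert_of_notMem, Finset.card_insert_of_notMem, Finset.card_insert_of_notMem,
      Finset.card_insert_of_notMem, Finset.card_singleton] at this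
    · omega
    all_goals simp [hne.1, hne.2, Ne.symm hne.1, Ne.symm hne.2, h3.1, h3.2.1, h3.2.2, Ne.symm h3.1, Ne.symm h3.2.1,
      Ne.symm h3.2.2, Ne.symm hc.1, Ne.symm hc.2.1, Ne.symm hc.2.2.1, Ne.symm hc.2.2.2]
  have htop : Subgroup.closure S = ⊤ := by
    refine Cfsg.Lib.Classical.eq_top_of_transvection_mem _ fun i j hij c => ?_
    have base : ∀ m : Fin 4, m.val = 1 ∨ m.val = 2 →
        Matrix.SpecialLinearGroup.transvection hij (val m.val) ∈ Subgroup.closure S := by
      intro m hm
      obtain ⟨t, ht, he⟩ := htr i j hij m hm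
      obtain ⟨A, hA, hx, hR⟩ := act t ht
      refine Subgroup.subset_closure ?_
      have e : Matrix.SpecialLinearGroup.transvection hij (val m.val) = A := Subtype.ext (Matrix.ext fun a b => by
        rw [hA, he, Matrix.SpecialLinearGroup.transvection_coe]
        by_cases hab : a = b
        · subst hab
          have : ¬ (a = i ∧ a = j) := fun h => hij (h.1.symm.trans h.2)
          rw [if_pos rfl, v01.2.1]
          simp [Matrix.add_apply, Matrix.single_apply]
          intro h1 h2; exact absurd (h1.trans h2.symm) hij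
        · rw [if_neg hab]
          by_cases h : a = i ∧ b = j
          · rw [if_pos h]; obtain ⟨rfl, rfl⟩ := h; simp [Matrix.add_apply, hij]
          · rw [if_neg h, v01.1]
            simp [Matrix.add_apply, Matrix.one_apply, hab, Matrix.single_apply]
            intro h1 h2; exact absurd ⟨h1.symm, h2.symm⟩ h)
      exact e ▸ ⟨_, hx, hR⟩
    rcases hFv c with rfl | rfl | rfl | rfl
    · have e : Matrix.SpecialLinearGroup.transvection hij (val 0) = 1 :=
        Subtype.ext (by simp [Matrix.SpecialLinearGroup.transvection_coe, v01.1])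
      rw [e]; exact one_mem _
    · exact base 1 (Or.inl rfl)
    · exact base 2 (Or.inr rfl)
    · have e : Matrix.SpecialLinearGroup.transvection hij (val 3) =
          Matrix.SpecialLinearGroup.transvection hij (val 1) * Matrix.SpecialLinearGroup.transvection hij (val 2) :=
        Subtype.ext (by
          rw [Matrix.SpecialLinearGroup.coe_mul, Matrix.SpecialLinearGroup.transvection_coe,
            Matrix.SpecialLinearGroup.transvection_coe, Matrix.SpecialLinearGroup.transvection_coe, v01.2.1, v01.2.2.1,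
            v01.2.2.2]
          simp [add_mul, mul_add, hij, hij.symm, Matrix.single_add, add_assoc])
      rw [e]; exact Subgroup.mul_mem _ (base 1 (Or.inl rfl)) (base 2 (Or.inr rfl))
  have hc : Nat.card {A : Matrix.SpecialLinearGroup (Fin 3) F // Rel 1 A} =
      Nat.card (Subgroup.center (Matrix.SpecialLinearGroup (Fin 3) F)) :=
    Nat.card_congr (Equiv.subtypeEquivRight hiff)
  obtain ⟨f, hf, hker⟩ := d.exists_hom S htop (fun A hA => hA) (by
    have h := Cfsg.Lib.Classical.card_SL_mul (ι := Fin 3) (F := F)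
    rw [Matrix.card_GL_field, hF, Fin.prod_univ_three, Nat.card_eq_fintype_card, hF] at h
    rw [hc, Cfsg.Lib.Classical.card_center_SL, Fintype.card_fin, Nat.card_eq_fintype_card, hF, hsize]
    norm_num at h ⊢
    omega)
  have e : f.ker = Subgroup.center (Matrix.SpecialLinearGroup (Fin 3) F) := by
    ext A; rw [MonoidHom.mem_ker, hker, hiff]
  exact ⟨(QuotientGroup.quotientKerEquivOfSurjective f hf).symm.trans (QuotientGroup.quotientMulEquivOfEq e)⟩

end Cfsg.Lib.Golay
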