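import Cfsg.Agent.Golay.Quartets
import Cfsg.Agent.Golay.PairStab

/-!
The 220 quartets of a dodecad form one orbit.
-/

namespace Cfsg.Lib.Golay.Quartets

open Cfsg Cfsg.Lib.Golay Finset MulAction
open scoped Pointwise

variable {d : Finset GolayPt} (hd : d ∈ dodecads)

theorem hexadsOn_ncard (hd : d ∈ dodecads) : (hexadsOn d).ncard = 132 := by
  rw [← (s0386 d hd).1]
  symm
  refine Set.ncard_congr (t := hexadsOn d) (fun o _ => o ∩ d) ?_ ?_ ?_
  · intro o ho; exact ⟨ho.2, o, ho.1, rfl⟩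
  · intro a b ha hb h
    obtain ⟨x, hxs⟩ : ∃ s, s ⊆ a ∩ d ∧ s.card = 5 := exists_subset_card_eq (by rw [ha.2]; norm_num)
    obtain ⟨o, -, hu⟩ := octads_steiner.2 x hxs.2
    rw [hu a ⟨ha.1, hxs.1.trans inter_subset_left⟩, hu b ⟨hb.1, (h ▸ hxs.1).trans inter_subset_left⟩]
  · rintro h ⟨h6, o, ho, rfl⟩; exact ⟨o, ⟨ho, h6⟩, rfl⟩

theorem disjoint_of_union {t u : Finset GolayPt} (ht : t.card = 3) (hu : u.card = 3)
    (h : t ∪ u ∈ hexadsOn d) : Disjoint t u :=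
  card_union_eq_card_add_card.mp (by rw [h.1, ht, hu])

include hd in
theorem ncard_quartets : (quartets d).ncard = 220 := by
  classical
  set H := (Set.toFinite (hexadsOn d)).toFinset with hH
  set QS := (Set.toFinite (quartets d)).toFinset with hQS
  have hHc : H.card = 132 := by rw [hH, ← Set.ncard_eq_toFinset_card, hexadsOn_ncard hd]
  rw [Set.ncard_eq_toFinset_card _ (Set.toFinite _), ← hQS]
  have key : (QS.sigma fun Q => Q.offDiag).card = (H.sigma fun h => powersetCard 3 h).card := by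
    refine card_bij (fun a _ => ⟨a.2.1 ∪ a.2.2, a.2.1⟩) ?_ ?_ ?_
    · rintro ⟨Q, t, u⟩ ha
      simp only [mem_sigma, mem_offDiag, hQS, Set.Finite.mem_toFinset] at ha
      obtain ⟨hQ, ht, hu, htu⟩ := ha
      simp only [mem_sigma, mem_powersetCard, hH, Set.Finite.mem_toFinset]
      exact ⟨hQ.2.2 t ht u hu htu, subset_union_left, (hQ.2.1 t ht).1⟩
    · rintro ⟨Q, t, u⟩ ha ⟨Q', t', u'⟩ hb he
      simp only [mem_sigma, mem_offDiag, hQS, Set.Finite.mem_toFinset] at ha hb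
      obtain ⟨hQ, ht, hu, htu⟩ := ha
      obtain ⟨hQ', ht', hu', htu'⟩ := hb
      simp only [Sigma.mk.injEq, heq_eq_eq] at he
      obtain ⟨he1, he2⟩ := he
      subst he2
      have d1 := disjoint_of_union (hQ.2.1 t ht).1 (hQ.2.1 u hu).1 (hQ.2.2 t ht u hu htu)
      have d2 := disjoint_of_union (hQ'.2.1 t ht').1 (hQ'.2.1 u' hu').1 (hQ'.2.2 t ht' u' hu' htu')
      have hue : u = u' := by rw [← union_sdiff_cancel_left d1, he1, union_sdiff_cancel_left d2]
      subst hue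
      obtain ⟨_, -, huniq⟩ := existsUnique_quartet hd (hQ.2.1 t ht).1 (hQ.2.1 u hu).1 d1 (hQ.2.2 t ht u hu htu)
      rw [huniq Q ⟨hQ, ht, hu⟩, huniq Q' ⟨hQ', ht', hu'⟩]
    · rintro ⟨h, t⟩ ha
      simp only [mem_sigma, mem_powersetCard, hH, Set.Finite.mem_toFinset] at ha
      obtain ⟨hh, hth, htc⟩ := ha
      have huc : (h \ t).card = 3 := by rw [card_sdiff_of_subset hth, hh.1, htc]
      have hun : t ∪ (h \ t) = h := union_sdiff_of_subset hth
      obtain ⟨Q, ⟨hQ, htQ, huQ⟩, -⟩ := existsUnique_quartet hd htc huc disjoint_sdiff (hun.symm ▸ hh)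
      have hne : t ≠ h \ t := fun e => by
        have := disjoint_sdiff (s := t) (t := h)
        rw [← e, disjoint_self] at this
        rw [this] at htc; simp at htc
      exact ⟨⟨Q, t, h \ t⟩, by simp only [mem_sigma, mem_offDiag, hQS, Set.Finite.mem_toFinset]; exact ⟨hQ, htQ, huQ, hne⟩,
        by rw [hun]⟩
  rw [card_sigma, card_sigma, sum_const_nat (m := 12), sum_const_nat (m := 20), hHc] at key
  · omega
  · intro h hh
    rw [hH, Set.Finite.mem_toFinset] at hh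
    rw [card_powersetCard, hh.1]; rfl
  · intro Q hQ
    rw [hQS, Set.Finite.mem_toFinset] at hQ
    rw [offDiag_card, hQ.1]

theorem smul_hexadsOn {g : Equiv.Perm GolayPt} (hg : g ∈ M24) (hgd : g • d = d) {h : Finset GolayPt}
    (hh : h ∈ hexadsOn d) : g • h ∈ hexadsOn d := by
  obtain ⟨h6, o, ho, rfl⟩ := hh
  exact ⟨by rw [card_smul_finset, h6], g • o, smul_mem_octads hg ho, by rw [smul_finset_inter, hgd]⟩

include hd in
theorem quartets_transitive {Q Q' : Finset (Finset GolayPt)} (hQ : Q ∈ quartets d) (hQ' : Q' ∈ quartets d) :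
    ∃ g : Equiv.Perm GolayPt, g ∈ M24 ∧ g • d = d ∧ g • Q = Q' := by
  classical
  obtain ⟨t, ht, u, hu, htu⟩ := one_lt_card.mp (by rw [hQ.1]; norm_num : 1 < Q.card)
  obtain ⟨t', ht', u', hu', htu'⟩ := one_lt_card.mp (by rw [hQ'.1]; norm_num : 1 < Q'.card)
  have hx : ∀ {P : Finset (Finset GolayPt)}, P ∈ quartets d → ∀ {t u : Finset GolayPt}, t ∈ P → u ∈ P → t ≠ u →
      Disjoint t u ∧ t ∪ u ∈ hexadsOn d ∧ ∃ x : Fin 5 ↪ GolayPt, t = {x 0, x 1, x 2} ∧ (∀ i, x i ∈ t ∪ u) ∧ ∀ i, x i ∈ d := by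
    intro P hP t u ht hu htu
    have hh := hP.2.2 t ht u hu htu
    have hdj := disjoint_of_union (hP.2.1 t ht).1 (hP.2.1 u hu).1 hh
    obtain ⟨a, b, c, hab, hac, hbc, rfl⟩ := card_eq_three.mp (hP.2.1 t ht).1
    obtain ⟨p, hp, q, hq, hpq⟩ := one_lt_card.mp (by rw [(hP.2.1 u hu).1]; norm_num : 1 < u.card)
    have hn : ∀ z ∈ u, a ≠ z ∧ b ≠ z ∧ c ≠ z := fun z hz => by
      have := disjoint_right.mp hdj hz
      simp only [mem_insert, mem_singleton, not_or] at this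
      exact ⟨Ne.symm this.1, Ne.symm this.2.1, Ne.symm this.2.2⟩
    refine ⟨hdj, hh, ⟨⟨![a, b, c, p, q], five_injective hab hac (hn p hp).1 (hn q hq).1 hbc (hn p hp).2.1 (hn q hq).2.1
      (hn p hp).2.2 (hn q hq).2.2 hpq⟩, rfl, fun i => ?_, fun i => ?_⟩⟩
    · fin_cases i <;> simp [hp, hq]
    · have hsub : ({a, b, c} : Finset GolayPt) ∪ u ⊆ d := union_subset (hP.2.1 _ ht).2 (hP.2.1 u hu).2
      exact hsub (by fin_cases i <;> simp [hp, hq])
  obtain ⟨hd1, hh1, x, hxt, hxh, hxd⟩ := hx hQ ht hu htu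
  obtain ⟨hd2, hh2, y, hyt, hyh, hyd⟩ := hx hQ' ht' hu' htu'
  obtain ⟨g, hg, hgx⟩ := dodecad_five hd hxd hyd
  have hgh : g • (t ∪ u) = t' ∪ u' := by
    obtain ⟨-, o, ho, hod⟩ := hh1
    obtain ⟨-, o', ho', ho'd⟩ := hh2
    have : g • o = o' := by
      rw [octThrough_unique ho' fun i => (mem_inter.mp (ho'd ▸ hyh i)).1]
      exact octThrough_unique (smul_mem_octads hg.1 ho) fun i => hgx i ▸
        Finset.smul_mem_smul_finset (mem_inter.mp (hod ▸ hxh i)).1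
    rw [← hod, ← ho'd, smul_finset_inter, this, mem_stabilizer_iff.mp hg.2]
  have hgt : g • t = t' := by
    rw [hxt, hyt, smul_finset_insert, smul_finset_insert, smul_finset_singleton, Equiv.Perm.smul_def,
      Equiv.Perm.smul_def, Equiv.Perm.smul_def, hgx, hgx, hgx]
  have hgu : g • u = u' := by
    rw [← union_sdiff_cancel_left hd1, smul_finset_sdiff, hgh, hgt, union_sdiff_cancel_left hd2]
  refine ⟨g, hg.1, hg.2, ?_⟩
  obtain ⟨_, -, huniq⟩ := existsUnique_quartet hd (hQ'.2.1 t' ht').1 (hQ'.2.1 u' hu').1 hd2 hh2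
  rw [huniq Q' ⟨hQ', ht', hu'⟩]
  refine huniq _ ⟨⟨by rw [card_smul_finset, hQ.1], ?_, ?_⟩, hgt ▸ smul_mem_smul_finset ht, hgu ▸ smul_mem_smul_finset hu⟩
  · intro a ha
    obtain ⟨b, hb, rfl⟩ := mem_smul_finset.mp ha
    exact ⟨by rw [card_smul_finset, (hQ.2.1 b hb).1],
      (smul_finset_subset_smul_finset (hQ.2.1 b hb).2).trans_eq (mem_stabilizer_iff.mp hg.2)⟩
  · intro a ha a' ha' hne
    obtain ⟨b, hb, rfl⟩ := mem_smul_finset.mp ha
    obtain ⟨b', hb', rfl⟩ := mem_smul_finset.mp ha'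
    rw [← smul_finset_union]
    exact smul_hexadsOn hg.1 hg.2 (hQ.2.2 b hb b' hb' fun e => hne (by rw [e]))

end Cfsg.Lib.Golay.Quartets
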