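import Cfsg.Agent.Golay.QuartetStabData
import Cfsg.Agent.Golay.QuartetOrbit
import Cfsg.Agent.Golay.Coding
import Cfsg.Agent.Golay.StdObjects
import Cfsg.Agent.Golay.Conj
import Cfsg.Agent.Golay.DodecadStab

/-!
The stabiliser of a dodecad and one of its quartets: order 432, `3² : GL(2, 3)`, transitive on the
dodecad, five orbits on quartets.  The standard group is listed element by element.
-/

namespace Cfsg.Lib.Golay.QuartetStab

open Cfsg Cfsg.Lib.Golay Cfsg.Lib.PermCert MulAction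
open scoped Pointwise

/-- The standard dodecad. -/
abbrev d0 : Finset GolayPt := pts 340831

/-- A family given by masks. -/
def famSet (l : List ℕ) : Finset (Finset GolayPt) := (l.map pts).toFinset

/-- The standard quartet. -/
abbrev Q0 : Finset (Finset GolayPt) := famSet quadMasks

/-- A strictly increasing list of masks. -/
def normal (l : List ℕ) : Bool := decide (l.Pairwise (· < ·)) && l.all (fun m => decide (m < 16777216))

/-- A list of masks is a quartet of the standard dodecad. -/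
def quartOK (l : List ℕ) : Bool :=
  l.length == 4 && normal l &&
    (l.all fun t => pc t == 3 && (t &&& 340831) == t) &&
      l.all fun t => l.all fun u => t == u ||
        (pc (t ||| u) == 6 && octMasks.any fun o => (o &&& 340831) == (t ||| u))

/-- Every element preserves the code, the dodecad and the quartet. -/
def elemsOK : Bool :=
  elems.all fun g => preserves g && img g 340831 == 340831 && isort (quadMasks.map (img g)) == quadMasks

/-- A key of a table. -/
def key (g : PP) : ℕ := (List.range 24).foldr (fun i a => ap g.1 i + 24 * a) 0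

/-- Certificate of an orbit. -/
def orbitOK (x : List ℕ) (o : List (List ℕ × ℕ)) : Bool :=
  quartOK x &&
    (elems.all fun g => (o.map Prod.fst).contains (isort (x.map (img g)))) &&
      o.all fun e => decide (e.2 < 432) && isort (x.map (img (elems.getD e.2 (0, 0)))) == e.1 && normal e.1

theorem elems_ok : elemsOK = true := by decide +kernel

theorem elems_length : elems.length = 432 := by decide +kernel

theorem keys_nodup : (elems.map key).Nodup := by decide +kernel

theorem quad_ok : quartOK quadMasks = true := by decide +kernel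

theorem orbit1_ok : orbitOK rep1 orbit1 = true := by decide +kernel
theorem orbit2_ok : orbitOK rep2 orbit2 = true := by decide +kernel
theorem orbit3_ok : orbitOK rep3 orbit3 = true := by decide +kernel
theorem orbit4_ok : orbitOK rep4 orbit4 = true := by decide +kernel

theorem orbit_lengths : orbit1.length = 12 ∧ orbit2.length = 27 ∧ orbit3.length = 72 ∧ orbit4.length = 108 := by
  decide +kernel

theorem all_nodup : (quadMasks :: (orbit1.map Prod.fst ++ orbit2.map Prod.fst ++ orbit3.map Prod.fst ++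
    orbit4.map Prod.fst)).Nodup := by decide +kernel

/-! ### Families by masks -/

theorem mem_famSet {l : List ℕ} {s : Finset GolayPt} : s ∈ famSet l ↔ ∃ m ∈ l, pts m = s := by
  simp [famSet]

theorem famSet_perm {l l' : List ℕ} (h : l.Perm l') : famSet l = famSet l' := by
  ext s; simp only [mem_famSet]; exact ⟨fun ⟨m, hm, e⟩ => ⟨m, h.mem_iff.mp hm, e⟩, fun ⟨m, hm, e⟩ => ⟨m, h.mem_iff.mpr hm, e⟩⟩

theorem smul_famSet {g : PP} (hg : valid 24 g = true) (l : List ℕ) :
    toP g • famSet l = famSet (isort (l.map (img g))) := by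
  rw [famSet_perm (isort_perm _)]
  ext s
  rw [Finset.mem_smul_finset]
  simp only [mem_famSet, List.mem_map, exists_exists_and_eq_and, pts_img hg]

theorem famSet_inj {l l' : List ℕ} (hl : normal l = true) (hl' : normal l' = true)
    (h : famSet l = famSet l') : l = l' := by
  simp only [normal, Bool.and_eq_true, decide_eq_true_eq, List.all_eq_true] at hl hl'
  refine List.Perm.eq_of_pairwise (fun a b _ _ h1 h2 => absurd h2 (by omega)) hl.1 hl'.1
    ((List.perm_ext_iff_of_nodup (hl.1.imp fun h => ne_of_lt h) (hl'.1.imp fun h => ne_of_lt h)).mpr fun m => ?_)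
  have key : ∀ {l₁ l₂ : List ℕ}, (∀ x ∈ l₁, x < 16777216) → (∀ x ∈ l₂, x < 16777216) →
      famSet l₁ = famSet l₂ → m ∈ l₁ → m ∈ l₂ := by
    intro l₁ l₂ h₁ h₂ he hm
    obtain ⟨m', hm', e⟩ := mem_famSet.mp (he ▸ mem_famSet.mpr ⟨m, hm, rfl⟩ : pts m ∈ famSet l₂)
    rwa [← eq_of_pts_eq (h₂ m' hm') (h₁ m hm) e]
  exact ⟨key hl.2 hl'.2 h, key hl'.2 hl.2 h.symm⟩

theorem normal_lt {l : List ℕ} (h : normal l = true) {m : ℕ} (hm : m ∈ l) : m < 2 ^ 24 := by
  simp only [normal, Bool.and_eq_true, decide_eq_true_eq, List.all_eq_true] at h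
  exact h.2 m hm

theorem quartet_of_ok {l : List ℕ} (h : quartOK l = true) : famSet l ∈ quartets d0 := by
  simp only [quartOK, Bool.and_eq_true, List.all_eq_true, beq_iff_eq, Bool.or_eq_true, List.any_eq_true] at h
  obtain ⟨⟨⟨hlen, hn⟩, ht⟩, hu⟩ := h
  have hlt := fun m hm => normal_lt hn (m := m) hm
  refine ⟨?_, fun s hs => ?_, fun s hs s' hs' hne => ?_⟩
  · have hnd : l.Nodup := by
      simp only [normal, Bool.and_eq_true, decide_eq_true_eq] at hn
      exact hn.1.imp fun h => ne_of_lt h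
    rw [famSet, List.toFinset_card_of_nodup (hnd.map_on fun a ha b hb e => eq_of_pts_eq (hlt a ha) (hlt b hb) e),
      List.length_map, hlen]
  · obtain ⟨t, htl, rfl⟩ := mem_famSet.mp hs
    refine ⟨(pc_eq_card t) ▸ (ht t htl).1, ?_⟩
    rw [← (ht t htl).2, pts_land]
    exact Finset.inter_subset_right
  · obtain ⟨t, htl, rfl⟩ := mem_famSet.mp hs
    obtain ⟨u, hul, rfl⟩ := mem_famSet.mp hs'
    rcases hu t htl u hul with h | ⟨h6, o, ho, he⟩
    · exact absurd (congrArg pts h) hne
    rw [← pts_lor]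
    refine ⟨by rw [← pc_eq_card, h6], pts o, ?_, by rw [← pts_land, he]⟩
    rw [← mk_mem_octMasks, mk_pts (lt_of_inCode (mem_octMasks.mp ho).1)]
    exact ho

/-! ### The standard group -/

theorem smul_quartets {d d' : Finset GolayPt} {g : Equiv.Perm GolayPt} (hg : g ∈ M24) (hgd : g • d = d')
    {Q : Finset (Finset GolayPt)} (hQ : Q ∈ quartets d) : g • Q ∈ quartets d' := by
  refine ⟨by rw [Finset.card_smul_finset, hQ.1], fun a ha => ?_, fun a ha a' ha' hne => ?_⟩
  · obtain ⟨b, hb, rfl⟩ := Finset.mem_smul_finset.mp ha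
    exact ⟨by rw [Finset.card_smul_finset, (hQ.2.1 b hb).1],
      (Finset.smul_finset_subset_smul_finset (hQ.2.1 b hb).2).trans_eq hgd⟩
  · obtain ⟨b, hb, rfl⟩ := Finset.mem_smul_finset.mp ha
    obtain ⟨b', hb', rfl⟩ := Finset.mem_smul_finset.mp ha'
    rw [← Finset.smul_finset_union]
    obtain ⟨h6, o, ho, hod⟩ := hQ.2.2 b hb b' hb' fun e => hne (by rw [e])
    exact ⟨by rw [Finset.card_smul_finset, h6], g • o, smul_mem_octads hg ho,
      by rw [← hgd, ← Finset.smul_finset_inter, hod]⟩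

theorem coe_inv_smul {β : Type*} [MulAction (Equiv.Perm GolayPt) β] (g : M24) (x : β) :
    g⁻¹ • x = ((g⁻¹ : M24) : Equiv.Perm GolayPt) • x := rfl

theorem d0_mem : d0 ∈ dodecads := by
  show pts 340831 ∈ dodecads
  rw [← squareDodecad_eq]; exact squareDodecad_mem

/-- The standard stabiliser. -/
abbrev K0 : Subgroup (Equiv.Perm GolayPt) := setStab d0 ⊓ stabilizer (Equiv.Perm GolayPt) Q0

theorem Q0_mem : Q0 ∈ quartets d0 := quartet_of_ok quad_ok

theorem card_K0 : Nat.card K0 = 432 := by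
  have horb : orbit (setStab d0) Q0 = quartets d0 := by
    ext X
    refine ⟨?_, fun hX => ?_⟩
    · rintro ⟨g, rfl⟩
      exact smul_quartets g.2.1 (smul_eq_of_mem_setStab g.2) Q0_mem
    · obtain ⟨g, hg, hgd, hgQ⟩ := Quartets.quartets_transitive d0_mem Q0_mem hX
      exact ⟨⟨g, hg, mem_stabilizer_iff.mpr hgd⟩, hgQ⟩
  have h := Subgroup.index_mul_card (stabilizer (setStab d0) Q0)
  rw [index_stabilizer, horb, Quartets.ncard_quartets d0_mem, card_setStab_dodecad d0_mem] at h
  have e := Nat.card_congr ((Subgroup.equivMapOfInjective (stabilizer (setStab d0) Q0) (setStab d0).subtype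
    (Subgroup.subtype_injective _)).toEquiv)
  rw [map_stabilizer] at e
  rw [e] at h
  show Nat.card (setStab d0 ⊓ stabilizer (Equiv.Perm GolayPt) Q0 : Subgroup _) = 432
  omega

theorem elem_facts {g : PP} (hg : g ∈ elems) : valid 24 g = true ∧ toP g ∈ K0 := by
  have h := List.all_eq_true.mp elems_ok g hg
  simp only [Bool.and_eq_true, beq_iff_eq] at h
  obtain ⟨⟨hp, hd⟩, hQ⟩ := h
  have hv : valid 24 g = true := by
    simp only [preserves, Bool.and_eq_true] at hp; exact hp.1
  refine ⟨hv, ⟨toP_mem_M24 hp, mem_stabilizer_iff.mpr ?_⟩, mem_stabilizer_iff.mpr ?_⟩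
  · rw [d0, ← pts_img hv, hd]
  · rw [Q0, smul_famSet hv, hQ]

theorem key_congr {g h : PP} (hg : valid 24 g = true) (hh : valid 24 h = true) (e : toP g = toP h) :
    key g = key h := by
  unfold key
  refine List.foldr_ext _ _ _ fun i hi a => ?_
  have hi' : i < 24 := List.mem_range.mp hi
  have h1 := pidx_toP hg (ptAt i)
  rw [e, pidx_toP hh, pidx_ptAt ⟨i, hi'⟩] at h1
  rw [h1]

theorem mem_K0_iff {σ : Equiv.Perm GolayPt} : σ ∈ K0 ↔ ∃ g ∈ elems, toP g = σ := by
  classical
  refine ⟨fun hσ => ?_, fun ⟨g, hg, e⟩ => e ▸ (elem_facts hg).2⟩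
  have hsub : toP '' {g | g ∈ elems} ⊆ (K0 : Set (Equiv.Perm GolayPt)) := by
    rintro _ ⟨g, hg, rfl⟩; exact (elem_facts hg).2
  have hinj : Set.InjOn toP {g | g ∈ elems} := fun a ha b hb e =>
    List.inj_on_of_nodup_map keys_nodup ha hb (key_congr (elem_facts ha).1 (elem_facts hb).1 e)
  have heq := Set.eq_of_subset_of_ncard_le hsub (by
    rw [hinj.ncard_image, ← Nat.card_coe_set_eq, SetLike.coe_sort_coe, card_K0,
      show {g | g ∈ elems} = (elems.toFinset : Set PP) by ext; simp, Set.ncard_coe_finset,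
      List.toFinset_card_of_nodup (List.Nodup.of_map _ keys_nodup), elems_length]) (Set.toFinite _)
  obtain ⟨g, hg, e⟩ := (heq ▸ hσ : σ ∈ toP '' {g | g ∈ elems})
  exact ⟨g, hg, e⟩

/-! ### Transport to an arbitrary dodecad and quartet -/

/-- The stabiliser in the general position. -/
abbrev Stab (d : Finset GolayPt) (Q : Finset (Finset GolayPt)) : Subgroup M24 :=
  stabilizer M24 d ⊓ stabilizer M24 Q

theorem exists_transport {d : Finset GolayPt} (hd : d ∈ dodecads) {Q : Finset (Finset GolayPt)}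
    (hQ : Q ∈ quartets d) : ∃ g : M24, g • d = d0 ∧ g • Q = Q0 := by
  obtain ⟨g, hg⟩ := exists_std_dodecad hd
  have hg' : (g : Equiv.Perm GolayPt) • d = d0 := hg
  have hQ' : (g : Equiv.Perm GolayPt) • Q ∈ quartets d0 := smul_quartets g.2 hg' hQ
  obtain ⟨k, hk, hkd, hkQ⟩ := Quartets.quartets_transitive d0_mem hQ' Q0_mem
  refine ⟨(⟨k, hk⟩ : M24) * g, ?_, ?_⟩
  · rw [mul_smul, hg]; exact hkd
  · rw [mul_smul]; exact hkQ

theorem map_Stab0 : (Stab d0 Q0).map M24.subtype = K0 := by
  ext x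
  constructor
  · rintro ⟨y, hy, rfl⟩
    exact ⟨⟨y.2, hy.1⟩, hy.2⟩
  · rintro ⟨⟨hx, h1⟩, h2⟩
    exact ⟨⟨x, hx⟩, ⟨h1, h2⟩, rfl⟩

theorem mem_conj_iff {d : Finset GolayPt} {Q : Finset (Finset GolayPt)} {g : M24} (hd : g • d = d0)
    (hQ : g • Q = Q0) (k : M24) : k ∈ Stab d Q ↔ g * k * g⁻¹ ∈ Stab d0 Q0 := by
  simp only [Stab, Subgroup.mem_inf, conj_mem_stabilizer hd, conj_mem_stabilizer hQ]

theorem exists_equiv {d : Finset GolayPt} (hd : d ∈ dodecads) {Q : Finset (Finset GolayPt)}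
    (hQ : Q ∈ quartets d) : Nonempty (Stab d Q ≃* K0) := by
  obtain ⟨g, hg, hgQ⟩ := exists_transport hd hQ
  exact ⟨(conjEquiv g (mem_conj_iff hg hgQ)).trans (subEquiv map_Stab0)⟩

theorem transitive0 : ∀ p ∈ d0, ∀ q ∈ d0, ∃ σ ∈ K0, σ p = q := by
  have h : ((List.range 24).all fun i => !Nat.testBit 340831 i || elems.any fun g => ap g.1 0 == i) = true := by
    decide +kernel
  have h0 : ∀ q ∈ d0, ∃ σ ∈ K0, σ (ptAt 0) = q := by
    intro q hq
    simp only [List.all_eq_true, List.mem_range, Bool.or_eq_true, Bool.not_eq_true', List.any_eq_true,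
      beq_iff_eq] at h
    rcases h (pidx q) (pidx_lt q) with h' | ⟨g, hg, he⟩
    · rw [mem_pts.mp hq] at h'; exact Bool.noConfusion h'
    · refine ⟨_, (elem_facts hg).2, pidx_injective ?_⟩
      rw [pidx_toP (elem_facts hg).1, pidx_ptAt ⟨0, by norm_num⟩, he]
  intro p hp q hq
  obtain ⟨a, ha, hap⟩ := h0 p hp
  obtain ⟨b, hb, hbq⟩ := h0 q hq
  exact ⟨b * a⁻¹, mul_mem hb (inv_mem ha), by rw [Equiv.Perm.mul_apply, ← hap, Equiv.Perm.inv_def, a.symm_apply_apply, hbq]⟩

theorem transitive {d : Finset GolayPt} (hd : d ∈ dodecads) {Q : Finset (Finset GolayPt)} (hQ : Q ∈ quartets d) :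
    ∀ p ∈ d, ∀ q ∈ d, ∃ g ∈ Stab d Q, ((g : M24) : Equiv.Perm GolayPt) p = q := by
  obtain ⟨g, hg, hgQ⟩ := exists_transport hd hQ
  intro p hp q hq
  have hm : ∀ z ∈ d, (g : Equiv.Perm GolayPt) z ∈ d0 := fun z hz =>
    (show (g : Equiv.Perm GolayPt) • d = d0 from hg) ▸ Finset.smul_mem_smul_finset hz
  obtain ⟨σ, hσ, hσp⟩ := transitive0 _ (hm p hp) _ (hm q hq)
  refine ⟨g⁻¹ * ⟨σ, hσ.1.1⟩ * g, (mem_conj_iff hg hgQ _).mpr ?_, ?_⟩
  · simp only [mul_assoc, mul_inv_cancel, mul_one, mul_inv_cancel_left]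
    exact ⟨hσ.1.2, hσ.2⟩
  · show (g : Equiv.Perm GolayPt).symm (σ ((g : Equiv.Perm GolayPt) p)) = q
    rw [hσp, Equiv.symm_apply_apply]

/-! ### The normal subgroup of order nine -/

/-- Equal words on all positions. -/
def eqOn (v w : List PP) : Bool := (List.range 24).all fun i => evalWord v i == evalWord w i

theorem pidx_word : ∀ {w : List PP}, (∀ g ∈ w, valid 24 g = true) → ∀ p,
    pidx ((w.map toP).prod p) = evalWord w (pidx p)
  | [], _, p => by simp [evalWord]
  | g :: w, h, p => by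
    rw [List.map_cons, List.prod_cons, Equiv.Perm.mul_apply, pidx_toP (h g (by simp)),
      pidx_word (fun x hx => h x (by simp [hx]))]
    rfl

theorem prod_eq_of_eqOn {v w : List PP} (hv : ∀ g ∈ v, valid 24 g = true) (hw : ∀ g ∈ w, valid 24 g = true)
    (h : eqOn v w = true) : (v.map toP).prod = (w.map toP).prod := by
  simp only [eqOn, List.all_eq_true, List.mem_range, beq_iff_eq] at h
  refine Equiv.ext fun p => pidx_injective ?_
  rw [pidx_word hv, pidx_word hw]
  exact h _ (pidx_lt p)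

/-- The word of a pair of exponents. -/
def nWord (c : ℕ × ℕ) : List PP := List.replicate c.1 nA ++ List.replicate c.2 nB

/-- All checks on the normal subgroup. -/
def normalPartOK : Bool :=
  valid 24 nA && valid 24 nB && (elems.map key).contains (key nA) && (elems.map key).contains (key nB) &&
    eqOn [nA, nA, nA] [] && eqOn [nB, nB, nB] [] && eqOn [nA, nB] [nB, nA] &&
    ((List.range 3).all fun i => (List.range 3).all fun j => (i == 0 && j == 0) || !eqOn (nWord (i, j)) []) &&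
    (elems.all fun g => ((List.range 3).any fun i => (List.range 3).any fun j => eqOn [g, nA] (nWord (i, j) ++ [g])) &&
      ((List.range 3).any fun i => (List.range 3).any fun j => eqOn [g, nB] (nWord (i, j) ++ [g]))) &&
    (matWit.all fun e => decide (e.2 < 432) && decide (e.1.1.1 < 3 ∧ e.1.1.2 < 3 ∧ e.1.2.1 < 3 ∧ e.1.2.2 < 3) &&
      eqOn [elems.getD e.2 (0, 0), nA] (nWord e.1.1 ++ [elems.getD e.2 (0, 0)]) &&
      eqOn [elems.getD e.2 (0, 0), nB] (nWord e.1.2 ++ [elems.getD e.2 (0, 0)]))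

theorem normalPart_ok : normalPartOK = true := by decide +kernel

theorem keys_cover : ∀ a b c d : Fin 3, (a.val * d.val + 2 * (b.val * c.val)) % 3 ≠ 0 →
    (matWit.map Prod.fst).contains ((a.val, c.val), (b.val, d.val)) = true := by decide +kernel

/-- `A ^ i * B ^ j`. -/
def nElt (c : ZMod 3 × ZMod 3) : Equiv.Perm GolayPt := toP nA ^ c.1.val * toP nB ^ c.2.val

theorem nWord_prod (i j : ℕ) : ((nWord (i, j)).map toP).prod = toP nA ^ i * toP nB ^ j := by
  simp [nWord, List.map_append, List.map_replicate, List.prod_replicate]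

structure NFacts : Prop where
  memA : toP nA ∈ K0
  memB : toP nB ∈ K0
  cubeA : toP nA ^ 3 = 1
  cubeB : toP nB ^ 3 = 1
  comm : toP nA * toP nB = toP nB * toP nA
  inj : ∀ c, nElt c = 1 → c = 0
  normA : ∀ σ ∈ K0, ∃ c, σ * toP nA * σ⁻¹ = nElt c
  normB : ∀ σ ∈ K0, ∃ c, σ * toP nB * σ⁻¹ = nElt c
  onto : ∀ a b c d : ZMod 3, a * d - b * c ≠ 0 →
    ∃ σ ∈ K0, σ * toP nA * σ⁻¹ = nElt (a, c) ∧ σ * toP nB * σ⁻¹ = nElt (b, d)

theorem nfacts : NFacts := by
  have h := normalPart_ok
  simp only [normalPartOK, Bool.and_eq_true, List.all_eq_true, List.any_eq_true, List.mem_range,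
    Bool.or_eq_true, Bool.not_eq_true', beq_iff_eq, decide_eq_true_eq, List.contains_eq_mem] at h
  obtain ⟨⟨⟨⟨⟨⟨⟨⟨⟨hvA, hvB⟩, hkA⟩, hkB⟩, hA3⟩, hB3⟩, hAB⟩, hinj⟩, hnorm⟩, hwit⟩ := h
  have hnil : ∀ g ∈ ([] : List PP), valid 24 g = true := fun g hg => absurd hg (List.not_mem_nil)
  have hnw : ∀ i j, ∀ g ∈ nWord (i, j), valid 24 g = true := fun i j g hg => by
    simp only [nWord, List.mem_append, List.mem_replicate] at hg
    rcases hg with ⟨-, rfl⟩ | ⟨-, rfl⟩ <;> assumption
  have hmem : ∀ {n : PP}, valid 24 n = true → key n ∈ elems.map key → toP n ∈ K0 := by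
    intro n hn hk
    obtain ⟨g, hg, e⟩ := List.mem_map.mp hk
    have he : toP g = toP n := Equiv.ext fun p => pidx_injective (by
      rw [pidx_toP (elem_facts hg).1, pidx_toP hn]
      exact key_digit (fun i hi => valid_lt (elem_facts hg).1 hi) (fun i hi => valid_lt hn hi) e _ (pidx_lt p))
    exact he ▸ (elem_facts hg).2
  have hc : ∀ (g n : PP) (i j : ℕ), valid 24 g = true → valid 24 n = true →
      eqOn [g, n] (nWord (i, j) ++ [g]) = true → i < 3 → j < 3 →
      toP g * toP n * (toP g)⁻¹ = nElt ((i : ZMod 3), (j : ZMod 3)) := by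
    intro g n i j hg hn he hi hj
    have := prod_eq_of_eqOn (fun x hx => by rcases List.mem_pair.mp hx with rfl | rfl <;> assumption)
      (fun x hx => by
        rcases List.mem_append.mp hx with hx | hx
        · exact hnw i j x hx
        · rw [List.mem_singleton.mp hx]; exact hg) he
    simp only [List.map_append, List.prod_append, nWord_prod, List.map_cons, List.map_nil, List.prod_cons,
      List.prod_nil, mul_one] at this
    rw [this, mul_inv_cancel_right, nElt, ZMod.val_natCast, ZMod.val_natCast, Nat.mod_eq_of_lt hi, Nat.mod_eq_of_lt hj]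
  refine ⟨hmem hvA hkA, hmem hvB hkB, ?_, ?_, ?_, fun c hc0 => ?_, fun σ hσ => ?_, fun σ hσ => ?_, fun a b c d hdet => ?_⟩
  · have := prod_eq_of_eqOn (fun g hg => by simp at hg; exact hg ▸ hvA) hnil hA3
    simpa [pow_succ, mul_assoc] using this
  · have := prod_eq_of_eqOn (fun g hg => by simp at hg; exact hg ▸ hvB) hnil hB3
    simpa [pow_succ, mul_assoc] using this
  · have := prod_eq_of_eqOn (fun x hx => by rcases List.mem_pair.mp hx with rfl | rfl <;> assumption)
      (fun x hx => by rcases List.mem_pair.mp hx with rfl | rfl <;> assumption) hAB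
    simpa using this
  · rcases hinj c.1.val (ZMod.val_lt _) c.2.val (ZMod.val_lt _) with ⟨h1, h2⟩ | h'
    · exact Prod.ext ((ZMod.val_eq_zero _).mp h1) ((ZMod.val_eq_zero _).mp h2)
    · exfalso
      have hne : eqOn (nWord (c.1.val, c.2.val)) [] = true := by
        simp only [eqOn, List.all_eq_true, List.mem_range, beq_iff_eq]
        intro i hi
        have := pidx_word (hnw c.1.val c.2.val) (ptAt i)
        rw [nWord_prod, show toP nA ^ c.1.val * toP nB ^ c.2.val = 1 from hc0, Equiv.Perm.one_apply,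
          pidx_ptAt ⟨i, hi⟩] at this
        rw [← this]; rfl
      rw [hne] at h'; exact Bool.noConfusion h'
  · obtain ⟨g, hg, rfl⟩ := mem_K0_iff.mp hσ
    obtain ⟨i, hi, j, hj, he⟩ := (hnorm g hg).1
    exact ⟨_, hc g nA i j (elem_facts hg).1 hvA he hi hj⟩
  · obtain ⟨g, hg, rfl⟩ := mem_K0_iff.mp hσ
    obtain ⟨i, hi, j, hj, he⟩ := (hnorm g hg).2
    exact ⟨_, hc g nB i j (elem_facts hg).1 hvB he hi hj⟩
  · have hk := keys_cover ⟨a.val, ZMod.val_lt a⟩ ⟨b.val, ZMod.val_lt b⟩ ⟨c.val, ZMod.val_lt c⟩ ⟨d.val, ZMod.val_lt d⟩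
      (by revert hdet; revert a b c d; decide)
    simp only [List.contains_eq_mem, decide_eq_true_eq, List.mem_map] at hk
    obtain ⟨e, he, hek⟩ := hk
    obtain ⟨⟨⟨hlt, -⟩, heA⟩, heB⟩ := hwit e he
    have hg : elems.getD e.2 (0, 0) ∈ elems := by
      rw [List.getD_eq_getElem _ _ (elems_length ▸ hlt)]; exact List.getElem_mem _
    rw [hek] at heA heB
    refine ⟨_, (elem_facts hg).2, ?_, ?_⟩
    · simpa using hc _ nA a.val c.val (elem_facts hg).1 hvA heA (ZMod.val_lt a) (ZMod.val_lt c)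
    · simpa using hc _ nB b.val d.val (elem_facts hg).1 hvB heB (ZMod.val_lt b) (ZMod.val_lt d)
where
  key_digit {f g : ℕ} (hf : ∀ i < 24, ap f i < 24) (hg : ∀ i < 24, ap g i < 24)
      (e : (List.range 24).foldr (fun i a => ap f i + 24 * a) 0 = (List.range 24).foldr (fun i a => ap g i + 24 * a) 0) :
      ∀ i < 24, ap f i = ap g i := by
    have key : ∀ l : List ℕ, (∀ i ∈ l, i < 24) →
        l.foldr (fun i a => ap f i + 24 * a) 0 = l.foldr (fun i a => ap g i + 24 * a) 0 → ∀ i ∈ l, ap f i = ap g i := by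
      intro l
      induction l with
      | nil => simp
      | cons x l ih =>
        intro hl e i hi
        simp only [List.foldr_cons] at e
        have h1 := hf x (hl x (by simp))
        have h2 := hg x (hl x (by simp))
        rcases List.mem_cons.mp hi with rfl | hi
        · omega
        · exact ih (fun y hy => hl y (by simp [hy])) (by omega) i hi
    exact fun i hi => key _ (fun y hy => List.mem_range.mp hy) e i (List.mem_range.mpr hi)

/-- The elements of the normal subgroup, as a homomorphism. -/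
noncomputable def nHom : Multiplicative (ZMod 3 × ZMod 3) →* K0 :=
  MonoidHom.mk' (fun c => ⟨nElt (Multiplicative.toAdd c),
      mul_mem (pow_mem nfacts.memA _) (pow_mem nfacts.memB _)⟩) fun c c' => Subtype.ext (by
    show nElt (Multiplicative.toAdd c + Multiplicative.toAdd c') = nElt (Multiplicative.toAdd c) * nElt (Multiplicative.toAdd c')
    simp only [nElt, Prod.fst_add, Prod.snd_add, ZMod.val_add]
    rw [← pow_eq_pow_mod _ nfacts.cubeA, ← pow_eq_pow_mod _ nfacts.cubeB, pow_add, pow_add]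
    have hc : Commute (toP nA) (toP nB) := nfacts.comm
    rw [mul_assoc, mul_assoc, ← mul_assoc (toP nA ^ (Multiplicative.toAdd c').1.val),
      (hc.pow_pow _ _).eq, mul_assoc])

theorem nHom_injective : Function.Injective nHom :=
  (injective_iff_map_eq_one _).mpr fun c hc => nfacts.inj (Multiplicative.toAdd c) (congrArg Subtype.val hc)

theorem nHom_decomp (c : ZMod 3 × ZMod 3) :
    nHom (Multiplicative.ofAdd c) =
      nHom (Multiplicative.ofAdd (1, 0)) ^ c.1.val * nHom (Multiplicative.ofAdd (0, 1)) ^ c.2.val := by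
  rw [← MonoidHom.map_pow, ← MonoidHom.map_pow, ← MonoidHom.map_mul, ← ofAdd_nsmul, ← ofAdd_nsmul, ← ofAdd_add]
  congr 2
  simp [Prod.ext_iff]

theorem exists_conj (σ : K0) (v : Multiplicative (ZMod 3 × ZMod 3)) : ∃ w, σ * nHom v * σ⁻¹ = nHom w := by
  obtain ⟨a, ha⟩ := nfacts.normA σ σ.2
  obtain ⟨b, hb⟩ := nfacts.normB σ σ.2
  have hA : σ * nHom (Multiplicative.ofAdd (1, 0)) * σ⁻¹ = nHom (Multiplicative.ofAdd a) :=
    Subtype.ext (by simpa [nHom, nElt, ZMod.val_one] using ha)
  have hB : σ * nHom (Multiplicative.ofAdd (0, 1)) * σ⁻¹ = nHom (Multiplicative.ofAdd b) :=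
    Subtype.ext (by simpa [nHom, nElt, ZMod.val_one] using hb)
  refine ⟨Multiplicative.ofAdd a ^ (Multiplicative.toAdd v).1.val * Multiplicative.ofAdd b ^ (Multiplicative.toAdd v).2.val, ?_⟩
  rw [map_mul, map_pow, map_pow, ← hA, ← hB, conj_pow, conj_pow]
  conv_lhs => rw [show v = Multiplicative.ofAdd (Multiplicative.toAdd v) from rfl, nHom_decomp]
  group

/-- The image of a generator under conjugation. -/
noncomputable def coordOf (σ : K0) (c : ZMod 3 × ZMod 3) : ZMod 3 × ZMod 3 :=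
  Multiplicative.toAdd (exists_conj σ (Multiplicative.ofAdd c)).choose

theorem coordOf_spec (σ : K0) (c : ZMod 3 × ZMod 3) :
    σ * nHom (Multiplicative.ofAdd c) * σ⁻¹ = nHom (Multiplicative.ofAdd (coordOf σ c)) :=
  (exists_conj σ (Multiplicative.ofAdd c)).choose_spec

theorem coordOf_eq {σ : K0} {c c' : ZMod 3 × ZMod 3}
    (h : σ * nHom (Multiplicative.ofAdd c) * σ⁻¹ = nHom (Multiplicative.ofAdd c')) : coordOf σ c = c' :=
  Multiplicative.ofAdd.injective (nHom_injective ((coordOf_spec σ c).symm.trans h))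

/-- The conjugation matrix. -/
noncomputable def matOf (σ : K0) : Matrix (Fin 2) (Fin 2) (ZMod 3) :=
  !![(coordOf σ (1, 0)).1, (coordOf σ (0, 1)).1; (coordOf σ (1, 0)).2, (coordOf σ (0, 1)).2]

theorem coordOf_linear (σ : K0) (c : ZMod 3 × ZMod 3) :
    coordOf σ c = c.1.val • coordOf σ (1, 0) + c.2.val • coordOf σ (0, 1) := by
  refine coordOf_eq ?_
  rw [ofAdd_add, ofAdd_nsmul, ofAdd_nsmul, map_mul, map_pow, map_pow, ← coordOf_spec, ← coordOf_spec,
    conj_pow, conj_pow, nHom_decomp c]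
  group

theorem coordOf_mul (σ τ : K0) (c : ZMod 3 × ZMod 3) : coordOf (σ * τ) c = coordOf σ (coordOf τ c) := by
  refine coordOf_eq ?_
  rw [← coordOf_spec, ← coordOf_spec]
  group

theorem coordOf_one (c : ZMod 3 × ZMod 3) : coordOf 1 c = c := coordOf_eq (by simp)

/-- The action on the normal subgroup. -/
noncomputable def matHom : K0 →* Matrix (Fin 2) (Fin 2) (ZMod 3) where
  toFun := matOf
  map_one' := by ext i j; fin_cases i <;> fin_cases j <;> simp [matOf, coordOf_one]
  map_mul' σ τ := by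
    unfold matOf
    rw [coordOf_mul, coordOf_mul, coordOf_linear σ (coordOf τ (1, 0)), coordOf_linear σ (coordOf τ (0, 1))]
    simp only [Prod.fst_add, Prod.snd_add, Prod.smul_fst, Prod.smul_snd, nsmul_eq_mul, ZMod.natCast_val,
      ZMod.cast_id', id, Matrix.mul_fin_two]
    ext i j
    fin_cases i <;> fin_cases j <;> simp <;> ring

/-- The action as a map to the general linear group. -/
noncomputable def glHom : K0 →* GL (Fin 2) (ZMod 3) := matHom.toHomUnits

theorem glHom_surjective : Function.Surjective glHom := by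
  intro M
  have hdet : (M.1 0 0) * (M.1 1 1) - (M.1 0 1) * (M.1 1 0) ≠ 0 := by
    have h := (Matrix.isUnit_iff_isUnit_det M.1).mp M.isUnit
    rw [Matrix.det_fin_two] at h
    exact h.ne_zero
  obtain ⟨σ, hσ, hA, hB⟩ := nfacts.onto (M.1 0 0) (M.1 0 1) (M.1 1 0) (M.1 1 1) hdet
  have h1 : coordOf ⟨σ, hσ⟩ (1, 0) = (M.1 0 0, M.1 1 0) :=
    coordOf_eq (Subtype.ext (by simpa [nHom, nElt, ZMod.val_one] using hA))
  have h2 : coordOf ⟨σ, hσ⟩ (0, 1) = (M.1 0 1, M.1 1 1) :=
    coordOf_eq (Subtype.ext (by simpa [nHom, nElt, ZMod.val_one] using hB))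
  refine ⟨⟨σ, hσ⟩, Units.ext ?_⟩
  show matOf ⟨σ, hσ⟩ = M.1
  unfold matOf
  rw [h1, h2]
  exact (Matrix.eta_fin_two M.1).symm

theorem card_gl : Nat.card (GL (Fin 2) (ZMod 3)) = 48 := by
  rw [Matrix.card_GL_field]
  simp [Fin.prod_univ_two, ZMod.card]

theorem structure_thm : ∃ (N : Subgroup K0) (_ : N.Normal), Nat.card N = 9 ∧
    Nonempty (K0 ⧸ N ≃* GL (Fin 2) (ZMod 3)) := by
  refine ⟨glHom.ker, inferInstance, ?_, ⟨QuotientGroup.quotientKerEquivOfSurjective glHom glHom_surjective⟩⟩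
  have h := Subgroup.card_eq_card_quotient_mul_card_subgroup glHom.ker
  rw [Nat.card_congr (QuotientGroup.quotientKerEquivOfSurjective glHom glHom_surjective).toEquiv, card_gl,
    card_K0] at h
  omega

theorem s1598 (d : Finset GolayPt) (hd : d ∈ dodecads) (Q : Finset (Finset GolayPt)) (hQ : Q ∈ quartets d) :
    Nat.card (Stab d Q) = 432 ∧ (∃ (N : Subgroup (Stab d Q)) (_ : N.Normal), Nat.card N = 9 ∧
      Nonempty (Stab d Q ⧸ N ≃* GL (Fin 2) (ZMod 3))) ∧
      ∀ p ∈ d, ∀ q ∈ d, ∃ g ∈ Stab d Q, ((g : M24) : Equiv.Perm GolayPt) p = q := by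
  obtain ⟨e⟩ := exists_equiv hd hQ
  obtain ⟨N, hN, hN9, ⟨f⟩⟩ := structure_thm
  refine ⟨(Nat.card_congr e.toEquiv).trans card_K0, ?_, transitive hd hQ⟩
  let φ : Stab d Q →* GL (Fin 2) (ZMod 3) := (f.toMonoidHom.comp (QuotientGroup.mk' N)).comp e.toMonoidHom
  have hs : Function.Surjective φ :=
    (f.surjective.comp (QuotientGroup.mk'_surjective N)).comp e.surjective
  refine ⟨φ.ker, inferInstance, ?_, ⟨QuotientGroup.quotientKerEquivOfSurjective φ hs⟩⟩
  have h := Subgroup.card_eq_card_quotient_mul_card_subgroup φ.ker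
  rw [Nat.card_congr (QuotientGroup.quotientKerEquivOfSurjective φ hs).toEquiv, card_gl,
    Nat.card_congr e.toEquiv, card_K0] at h
  omega

/-! ### Orbits on quartets -/

theorem orbit_eq {x : List ℕ} {o : List (List ℕ × ℕ)} (h : orbitOK x o = true) :
    famSet x ∈ quartets d0 ∧ orbit K0 (famSet x) = famSet '' {y | y ∈ o.map Prod.fst} ∧
      (∀ y ∈ o.map Prod.fst, normal y = true) := by
  simp only [orbitOK, Bool.and_eq_true, List.all_eq_true, decide_eq_true_eq, beq_iff_eq,
    List.contains_eq_mem] at h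
  obtain ⟨⟨hx, hsub⟩, hsup⟩ := h
  refine ⟨quartet_of_ok hx, Set.Subset.antisymm ?_ ?_, fun y hy => ?_⟩
  · rintro _ ⟨⟨σ, hσ⟩, rfl⟩
    obtain ⟨g, hg, rfl⟩ := mem_K0_iff.mp hσ
    exact ⟨_, hsub g hg, (smul_famSet (elem_facts hg).1 x).symm⟩
  · rintro _ ⟨y, hy, rfl⟩
    obtain ⟨e, he, rfl⟩ := List.mem_map.mp hy
    obtain ⟨⟨hlt, himg⟩, -⟩ := hsup e he
    have hg : elems.getD e.2 (0, 0) ∈ elems := by
      rw [List.getD_eq_getElem _ _ (elems_length ▸ hlt)]; exact List.getElem_mem _
    exact ⟨⟨_, (elem_facts hg).2⟩, (smul_famSet (elem_facts hg).1 x).trans (by rw [himg])⟩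
  · obtain ⟨e, he, rfl⟩ := List.mem_map.mp hy
    exact (hsup e he).2

theorem ncard_orbit {x : List ℕ} {o : List (List ℕ × ℕ)} (h : orbitOK x o = true)
    (hnd : (o.map Prod.fst).Nodup) : (orbit K0 (famSet x)).ncard = o.length := by
  classical
  obtain ⟨-, heq, hnorm⟩ := orbit_eq h
  rw [heq, Set.InjOn.ncard_image (s := {y | y ∈ o.map Prod.fst}) fun a ha b hb e =>
      famSet_inj (hnorm a ha) (hnorm b hb) e,
    show {y | y ∈ o.map Prod.fst} = ((o.map Prod.fst).toFinset : Set (List ℕ)) by ext; simp,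
    Set.ncard_coe_finset, List.toFinset_card_of_nodup hnd, List.length_map]

theorem cover : quartets d0 = {Q0} ∪ orbit K0 (famSet rep1) ∪ orbit K0 (famSet rep2) ∪
    orbit K0 (famSet rep3) ∪ orbit K0 (famSet rep4) := by
  classical
  symm
  refine Set.eq_of_subset_of_ncard_le ?_ ?_ (Set.toFinite _)
  · have hsub : ∀ {x : List ℕ} {o : List (List ℕ × ℕ)}, orbitOK x o = true → orbit K0 (famSet x) ⊆ quartets d0 := by
      rintro x o h _ ⟨σ, rfl⟩
      exact smul_quartets σ.2.1.1 (mem_stabilizer_iff.mp σ.2.1.2) (orbit_eq h).1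
    exact Set.union_subset (Set.union_subset (Set.union_subset (Set.union_subset
      (Set.singleton_subset_iff.mpr Q0_mem) (hsub orbit1_ok)) (hsub orbit2_ok)) (hsub orbit3_ok)) (hsub orbit4_ok)
  · set All := quadMasks :: (orbit1.map Prod.fst ++ orbit2.map Prod.fst ++ orbit3.map Prod.fst ++
      orbit4.map Prod.fst) with hAll
    have hn : ∀ y ∈ All, normal y = true := by
      intro y hy
      simp only [hAll, List.mem_cons, List.mem_append] at hy
      rcases hy with rfl | ((h | h) | h) | h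
      · decide +kernel
      · exact (orbit_eq orbit1_ok).2.2 y h
      · exact (orbit_eq orbit2_ok).2.2 y h
      · exact (orbit_eq orbit3_ok).2.2 y h
      · exact (orbit_eq orbit4_ok).2.2 y h
    have e : ({Q0} ∪ orbit K0 (famSet rep1) ∪ orbit K0 (famSet rep2) ∪ orbit K0 (famSet rep3) ∪
        orbit K0 (famSet rep4)) = famSet '' (All.toFinset : Set (List ℕ)) := by
      rw [(orbit_eq orbit1_ok).2.1, (orbit_eq orbit2_ok).2.1, (orbit_eq orbit3_ok).2.1, (orbit_eq orbit4_ok).2.1]
      ext X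
      simp only [hAll, Set.mem_union, Set.mem_singleton_iff, Set.mem_image, List.coe_toFinset, List.mem_cons,
        List.mem_append, Set.mem_ofPred_eq, or_and_right, exists_or, exists_eq_left, or_assoc,
        eq_comm (a := X) (b := Q0)]
    rw [e, Set.InjOn.ncard_image (fun a ha b hb e => famSet_inj (hn a (by simpa using ha)) (hn b (by simpa using hb)) e),
      Set.ncard_coe_finset, List.toFinset_card_of_nodup all_nodup, Quartets.ncard_quartets d0_mem]
    simp [hAll, List.length_append, orbit_lengths]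

theorem s1599 (d : Finset GolayPt) (hd : d ∈ dodecads) (Q : Finset (Finset GolayPt)) (hQ : Q ∈ quartets d) :
    ∃ X₁ ∈ quartets d, ∃ X₂ ∈ quartets d, ∃ X₃ ∈ quartets d, ∃ X₄ ∈ quartets d,
      (orbit (Stab d Q) X₁).ncard = 12 ∧ (orbit (Stab d Q) X₂).ncard = 27 ∧
      (orbit (Stab d Q) X₃).ncard = 72 ∧ (orbit (Stab d Q) X₄).ncard = 108 ∧
      quartets d = {Q} ∪ orbit (Stab d Q) X₁ ∪ orbit (Stab d Q) X₂ ∪ orbit (Stab d Q) X₃ ∪ orbit (Stab d Q) X₄ := by
  obtain ⟨g, hg, hgQ⟩ := exists_transport hd hQ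
  have horb : ∀ X : Finset (Finset GolayPt), orbit (Stab d Q) (g⁻¹ • X) = (fun Y => g⁻¹ • Y) '' orbit K0 X := by
    intro X
    ext Y
    constructor
    · rintro ⟨⟨k, hk⟩, rfl⟩
      have h := (mem_conj_iff hg hgQ k).mp hk
      refine ⟨(g * k * g⁻¹ : M24) • X, ⟨⟨((g * k * g⁻¹ : M24) : Equiv.Perm GolayPt), ⟨(g * k * g⁻¹).2, h.1⟩, h.2⟩, rfl⟩, ?_⟩
      show g⁻¹ • (g * k * g⁻¹) • X = k • g⁻¹ • X
      rw [smul_smul, smul_smul]; congr 1; group
    · rintro ⟨_, ⟨⟨σ, hσ⟩, rfl⟩, rfl⟩
      refine ⟨⟨g⁻¹ * ⟨σ, hσ.1.1⟩ * g, (mem_conj_iff hg hgQ _).mpr ?_⟩, ?_⟩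
      · simp only [mul_assoc, mul_inv_cancel, mul_one, mul_inv_cancel_left]
        exact ⟨hσ.1.2, hσ.2⟩
      · show (g⁻¹ * ⟨σ, hσ.1.1⟩ * g) • g⁻¹ • X = g⁻¹ • (⟨σ, hσ.1.1⟩ : M24) • X
        rw [smul_smul, smul_smul]; congr 1; group
  have himg : quartets d = (fun Y => g⁻¹ • Y) '' quartets d0 := by
    refine (Set.eq_of_subset_of_ncard_le ?_ ?_ (Set.toFinite _)).symm
    · rintro _ ⟨Y, hY, rfl⟩
      have hgd : ((g⁻¹ : M24) : Equiv.Perm GolayPt) • d0 = d := by
        rw [← coe_inv_smul]; exact inv_smul_eq_iff.mpr hg.symm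
      have := smul_quartets (g⁻¹).2 hgd hY
      rw [← coe_inv_smul] at this
      exact this
    · rw [Set.ncard_image_of_injective _ (MulAction.injective _), Quartets.ncard_quartets d0_mem,
        Quartets.ncard_quartets hd]
  have hmem : ∀ {x : List ℕ} {o : List (List ℕ × ℕ)}, orbitOK x o = true → g⁻¹ • famSet x ∈ quartets d :=
    fun {x o} h => by rw [himg]; exact Set.mem_image_of_mem _ (orbit_eq h).1
  have hcard : ∀ {x : List ℕ} {o : List (List ℕ × ℕ)}, orbitOK x o = true → (o.map Prod.fst).Nodup →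
      (orbit (Stab d Q) (g⁻¹ • famSet x)).ncard = o.length := fun h hn => by
    rw [horb, Set.ncard_image_of_injective _ (MulAction.injective _), ncard_orbit h hn]
  obtain ⟨l1, l2, l3, l4⟩ := orbit_lengths
  have hnd := List.nodup_cons.mp all_nodup
  simp only [List.nodup_append] at hnd
  refine ⟨_, hmem orbit1_ok, _, hmem orbit2_ok, _, hmem orbit3_ok, _, hmem orbit4_ok,
    (hcard orbit1_ok hnd.2.1.1.1).trans l1, (hcard orbit2_ok hnd.2.1.1.2.1).trans l2,
    (hcard orbit3_ok hnd.2.1.2.1).trans l3, (hcard orbit4_ok hnd.2.2.1).trans l4, ?_⟩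
  rw [himg, cover, Set.image_union, Set.image_union, Set.image_union, Set.image_union, Set.image_singleton,
    horb, horb, horb, horb, show g⁻¹ • Q0 = Q from inv_smul_eq_iff.mpr hgQ.symm]

end Cfsg.Lib.Golay.QuartetStab
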