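import Cfsg.Agent.Golay.ElementFix
import Cfsg.Agent.Golay.SevenData

/-!
The centraliser and the normaliser of a subgroup of order seven of the group of the code.
-/

set_option autoImplicit false

namespace Cfsg.Lib.Golay

open Cfsg Cfsg.Lib.PermCert MulAction
open scoped Pointwise

theorem mem_normalizer_zpowers {G : Type*} [Group G] [Finite G] {d x : G} :
    d ∈ Subgroup.normalizer (Subgroup.zpowers x : Set G) ↔ d * x * d⁻¹ ∈ Subgroup.zpowers x := by
  refine ⟨fun h => (Subgroup.mem_normalizer_iff.mp h x).mp (Subgroup.mem_zpowers x), fun h => ?_⟩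
  have hmap : (Subgroup.zpowers x).map (MulAut.conj d).toMonoidHom = Subgroup.zpowers x := by
    refine Subgroup.eq_of_le_of_card_ge ?_ ?_
    · rw [MonoidHom.map_zpowers, Subgroup.zpowers_le]
      simpa using h
    · exact le_of_eq (Nat.card_congr (Subgroup.equivMapOfInjective _ _ (MulAut.conj d).injective).toEquiv)
  refine Subgroup.mem_normalizer_iff.mpr fun y => ?_
  have e : d * y * d⁻¹ = (MulAut.conj d).toMonoidHom y := by simp
  constructor
  · intro hy
    have := Subgroup.mem_map_of_mem (MulAut.conj d).toMonoidHom hy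
    rwa [hmap, ← e] at this
  · intro hy
    rw [← hmap, e] at hy
    obtain ⟨z, hz, hzy⟩ := hy
    rwa [(MulAut.conj d).injective hzy] at hz

/-- The chosen element of order seven. -/
def xSeven : Equiv.Perm GolayPt := toP elSeven.1

theorem cgSeven_ok : cgSeven.ok = true := by decide +kernel
theorem cgSevenN_ok : cgSevenN.ok = true := by decide +kernel
theorem orbSeven_ok :
    closedOK cjCoding.act cgTrio.gens (pack ((List.range 24).map (ap elSeven.1.1))) orbSeven = true := by
  decide +kernel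

theorem seven_tabs : fvalid elSeven = true ∧ fvalid elSevenN = true ∧ preserves elSeven.1 = true ∧
    valid 24 elSevenSq = true ∧ valid 24 elSevenFour = true ∧ sift 24 cgSevenN.chain [elSevenN.1] = true ∧
    cjAct elSevenN (pack ((List.range 24).map (ap elSeven.1.1))) = pack ((List.range 24).map (ap elSevenSq.1)) := by
  decide +kernel

theorem xSeven_pows : xSeven ^ 7 = 1 ∧ xSeven ≠ 1 ∧ xSeven ^ 2 = toP elSevenSq ∧ xSeven ^ 4 = toP elSevenFour := by
  decide +kernel

theorem xSeven_mem : xSeven ∈ M24 := toP_mem_M24 seven_tabs.2.2.1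

theorem orderOf_xSeven : orderOf xSeven = 7 := by
  haveI : Fact (Nat.Prime 7) := ⟨by norm_num⟩
  exact orderOf_eq_prime xSeven_pows.1 xSeven_pows.2.1

theorem card_seven_grps : Nat.card cgSeven.grp = 42 ∧ Nat.card cgSevenN.grp = 126 := by
  rw [CG.card_grp cgSeven_ok, CG.card_grp cgSevenN_ok]
  decide +kernel

theorem trio_unique :
    (stVals orbTrio).countP (fun E => famCoding.act elSeven E == E) = 1 ∧
      famCoding.act elSeven codeTrio = codeTrio := by decide +kernel

theorem sevenN_gens : cgSevenN.gens.all (fun g =>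
    [pack ((List.range 24).map (ap elSeven.1.1)), pack ((List.range 24).map (ap elSevenSq.1)),
      pack ((List.range 24).map (ap elSevenFour.1))].contains
      (cjAct g (pack ((List.range 24).map (ap elSeven.1.1))))) = true := by decide +kernel

theorem inv_not_in_orbit :
    (stVals orbSeven).all (fun E => !(E == pack ((List.range 24).map (ap (pinv elSeven.1).1)))) = true := by
  decide +kernel

theorem xSeven_inv : xSeven⁻¹ = toP (pinv elSeven.1) := by
  rw [xSeven, toP, toP, perm_pinv (valid_of_fvalid seven_tabs.1), map_inv]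

/-- A normalising element of the group fixes the standard trio. -/
theorem mem_cgTrio_of_norm {d : Equiv.Perm GolayPt} (hd : d ∈ M24)
    (h : d * xSeven * d⁻¹ ∈ Subgroup.zpowers xSeven) : d ∈ cgTrio.grp := by
  set T : Finset (Finset GolayPt) := famOf codeTrio with hT
  have hv := seven_tabs.1
  have henc : famCoding.enc T = codeTrio := encFam_famOf (by decide +kernel)
  have hfix : xSeven • T = T := famCoding.inj (by
    show famCoding.enc (toP elSeven.1 • T) = _
    rw [famCoding.spec _ hv, henc]; exact trio_unique.2)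
  have heq : Subgroup.zpowers (d * xSeven * d⁻¹) = Subgroup.zpowers xSeven := by
    refine Subgroup.eq_of_le_of_card_ge (Subgroup.zpowers_le.mpr h) ?_
    rw [Nat.card_zpowers, Nat.card_zpowers, ← MulAut.conj_apply, MulEquiv.orderOf_eq]
  have hxd : xSeven • d • T = d • T := by
    have hle : Subgroup.zpowers (d * xSeven * d⁻¹) ≤ stabilizer (Equiv.Perm GolayPt) (d • T) := by
      rw [Subgroup.zpowers_le, mem_stabilizer_iff, mul_smul, mul_smul, inv_smul_smul, hfix]
    exact mem_stabilizer_iff.mp (hle (heq.symm ▸ Subgroup.mem_zpowers xSeven))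
  have hone : {y | y ∈ orbit M24 T ∧ toP elSeven.1 • y = y}.ncard = 1 := by
    rw [hT, stdTrio.ncard_fixed hv]; exact trio_unique.1
  obtain ⟨a, ha⟩ := Set.ncard_eq_one.mp hone
  have h1 : T ∈ ({a} : Set (Finset (Finset GolayPt))) := ha ▸ ⟨mem_orbit_self _, hfix⟩
  have h2 : d • T ∈ ({a} : Set (Finset (Finset GolayPt))) := ha ▸ ⟨⟨⟨d, hd⟩, rfl⟩, hxd⟩
  rw [← stdTrio.stab_eq, ← grp_cgM24]
  exact ⟨grp_cgM24 ▸ hd, mem_stabilizer_iff.mpr (h2.trans h1.symm)⟩

theorem cgTrio_le : cgTrio.grp ≤ M24 := fun d hd => grp_cgM24 ▸ (stdTrio.stab_eq ▸ hd :).1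

/-- The centraliser of the element of order seven. -/
theorem centralizer_seven {d : Equiv.Perm GolayPt} :
    (d ∈ M24 ∧ d * xSeven = xSeven * d) ↔ d ∈ cgSeven.grp := by
  have heq := stab_inf_eq cjCoding cgTrio_ok cgSeven_ok (x := ⟨xSeven⟩)
    (cjEnc_toP (valid_of_fvalid seven_tabs.1)) orbSeven_ok
    (by decide +kernel) (by decide +kernel) (by decide +kernel)
  rw [← heq, Subgroup.mem_inf]
  refine ⟨fun ⟨hd, hc⟩ => ⟨mem_cgTrio_of_norm hd ?_, mem_stabilizer_iff.mpr ((commute_iff_fix _ _).mp hc)⟩,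
    fun ⟨hd, hc⟩ => ⟨cgTrio_le hd, (commute_iff_fix _ _).mpr (mem_stabilizer_iff.mp hc)⟩⟩
  rw [hc, mul_inv_cancel_right]
  exact Subgroup.mem_zpowers _

theorem seven_le : cgSeven.grp ≤ cgSevenN.grp ∧ cgSevenN.grp ≤ M24 :=
  ⟨grp_le_of_gensIn cgSevenN_ok cgSeven_ok (by decide +kernel),
    grp_cgM24 ▸ grp_le_of_gensIn cgM24_ok cgSevenN_ok (by decide +kernel)⟩

theorem conj_eq_of_cjAct {g : FG} (hg : fvalid g = true) {p q : PP} (hp : valid 24 p = true)
    (hq : valid 24 q = true)
    (h : cjAct g (pack ((List.range 24).map (ap p.1))) = pack ((List.range 24).map (ap q.1))) :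
    toP g.1 * toP p * (toP g.1)⁻¹ = toP q := by
  rw [← cjEnc_toP hp, ← cjEnc_toP hq, ← cjEnc_smul hg] at h
  exact congrArg CJ.perm (cjEnc_injective h)

/-- The normaliser of the subgroup of order seven. -/
theorem normalizer_seven {d : Equiv.Perm GolayPt} :
    (d ∈ M24 ∧ d * xSeven * d⁻¹ ∈ Subgroup.zpowers xSeven) ↔ d ∈ cgSevenN.grp := by
  have hx := valid_of_fvalid seven_tabs.1
  constructor
  · rintro ⟨hd, h⟩
    obtain ⟨k, hk⟩ := (isOfFinOrder_of_finite xSeven).mem_powers_iff_mem_zpowers.mpr h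
    replace hk : d * xSeven * d⁻¹ = xSeven ^ (k % 7) := by
      rw [← hk, ← orderOf_xSeven]
      exact (pow_mod_orderOf _ _).symm
    obtain ⟨n, hn, hn2, hnT⟩ : ∃ n, n ∈ cgSevenN.grp ∧ n * xSeven * n⁻¹ = xSeven ^ 2 ∧ n ∈ cgTrio.grp := by
      have hval := valid_of_fvalid seven_tabs.2.1
      have hmem : toP elSevenN.1 ∈ cgSevenN.grp :=
        ⟨perm 24 elSevenN.1, by
          simpa using mem_grp_of_sift (CG.ok_spec cgSevenN_ok).1 (w := [elSevenN.1]) (by simpa using hval)
            seven_tabs.2.2.2.2.2.1, rfl⟩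
      have he := conj_eq_of_cjAct seven_tabs.2.1 hx seven_tabs.2.2.2.1 seven_tabs.2.2.2.2.2.2
      rw [← xSeven_pows.2.2.1] at he
      refine ⟨_, hmem, he, mem_cgTrio_of_norm (seven_le.2 hmem) ?_⟩
      show toP elSevenN.1 * xSeven * _ ∈ _
      rw [show toP elSevenN.1 * xSeven * (toP elSevenN.1)⁻¹ = xSeven ^ 2 from he]
      exact Subgroup.pow_mem _ (Subgroup.mem_zpowers _) 2
    have step : ∀ (e : Equiv.Perm GolayPt) (i : ℕ), e * xSeven * e⁻¹ = xSeven ^ i →
        (n * e) * xSeven * (n * e)⁻¹ = xSeven ^ (2 * i) := by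
      intro e i he
      rw [show (n * e) * xSeven * (n * e)⁻¹ = n * (e * xSeven * e⁻¹) * n⁻¹ by group, he, ← conj_pow, hn2, ← pow_mul]
    have keep : ∀ e ∈ cgSevenN.grp, ∀ i, e * xSeven * e⁻¹ = xSeven ^ i → d * xSeven * d⁻¹ = xSeven ^ i →
        d ∈ cgSevenN.grp := by
      intro e he i h1 h2
      have hc : e⁻¹ * d ∈ cgSeven.grp := centralizer_seven.mp ⟨mul_mem (inv_mem (seven_le.2 he)) hd, by
        have h3 := h2.trans h1.symm
        rw [mul_inv_eq_iff_eq_mul] at h3
        rw [mul_assoc, h3]; group⟩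
      simpa using mul_mem he (seven_le.1 hc)
    have hdT : d ∈ cgTrio.grp := mem_cgTrio_of_norm hd h
    have noinv : ∀ e ∈ cgTrio.grp, e * xSeven * e⁻¹ ≠ xSeven ^ 6 := by
      intro e he h6
      have h6' : e • (⟨xSeven⟩ : CJ) = ⟨xSeven⁻¹⟩ := congrArg CJ.mk (h6.trans (by
        rw [eq_inv_iff_mul_eq_one, ← pow_succ, xSeven_pows.1]))
      have horb := ((orbit_cert cjCoding cgTrio_ok (x₀ := (⟨xSeven⟩ : CJ)) (cjEnc_toP hx) orbSeven_ok).1 _).mp
        ⟨⟨e, he⟩, h6'⟩
      have := List.all_eq_true.mp inv_not_in_orbit _ horb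
      rw [show cjCoding.enc = cjEnc from rfl, xSeven_inv, cjEnc_toP (valid_pinv hx)] at this
      simp at this
    have h4 := step n 2 hn2
    have hlt : k % 7 < 7 := Nat.mod_lt _ (by norm_num)
    have hred : ∀ i, xSeven ^ i = xSeven ^ (i % 7) := fun i => by
      rw [← orderOf_xSeven, pow_mod_orderOf]
    interval_cases hj : k % 7
    · rw [pow_zero, mul_inv_eq_one] at hk
      exact absurd (by simpa using hk) xSeven_pows.2.1
    · exact keep 1 (one_mem _) 1 (by simp) hk
    · exact keep n hn 2 hn2 hk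
    · exact absurd (step d 3 hk) (noinv _ (mul_mem hnT hdT))
    · exact keep (n * n) (mul_mem hn hn) 4 h4 hk
    · exact absurd ((step _ _ (step d 5 hk)).trans (hred 20)) (noinv _ (mul_mem hnT (mul_mem hnT hdT)))
    · exact absurd hk (noinv d hdT)
  · intro hd
    refine ⟨seven_le.2 hd, mem_normalizer_zpowers.mp ?_⟩
    have hle : cgSevenN.grp ≤ Subgroup.normalizer (Subgroup.zpowers xSeven : Set (Equiv.Perm GolayPt)) := by
      rw [← (CG.ok_spec cgSevenN_ok).2.2, Subgroup.closure_le]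
      rintro _ ⟨g, hg, rfl⟩
      refine mem_normalizer_zpowers.mpr ?_
      have hgv := (CG.ok_spec cgSevenN_ok).2.1 g hg
      have h := List.all_eq_true.mp sevenN_gens g hg
      simp only [List.contains_iff_mem, List.mem_cons, List.not_mem_nil, or_false] at h
      rcases h with h | h | h
      · show _ * toP elSeven.1 * _ ∈ _
        rw [conj_eq_of_cjAct hgv hx hx h]; exact Subgroup.mem_zpowers _
      · show _ * toP elSeven.1 * _ ∈ _
        rw [conj_eq_of_cjAct hgv hx seven_tabs.2.2.2.1 h, ← xSeven_pows.2.2.1]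
        exact Subgroup.pow_mem _ (Subgroup.mem_zpowers _) 2
      · show _ * toP elSeven.1 * _ ∈ _
        rw [conj_eq_of_cjAct hgv hx seven_tabs.2.2.2.2.1 h, ← xSeven_pows.2.2.2]
        exact Subgroup.pow_mem _ (Subgroup.mem_zpowers _) 4
    exact hle hd

theorem seven_nonabelian : ∃ a ∈ cgSeven.grp, ∃ b ∈ cgSeven.grp, a * b ≠ b * a := by
  have h : fvalid cgSevenG0 = true ∧ fvalid cgSevenG1 = true ∧
      toP cgSevenG0.1 * toP cgSevenG1.1 ≠ toP cgSevenG1.1 * toP cgSevenG0.1 := by decide +kernel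
  have hm : ∀ g ∈ cgSeven.gens, toP g.1 ∈ cgSeven.grp := fun g hg => by
    rw [← (CG.ok_spec cgSeven_ok).2.2]; exact Subgroup.subset_closure ⟨g, hg, rfl⟩
  exact ⟨_, hm cgSevenG0 (by simp [cgSeven]), _, hm cgSevenG1 (by simp [cgSeven]), h.2.2⟩

end Cfsg.Lib.Golay
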