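import Cfsg.Agent.Golay.Seven

/-!
The action of the centraliser of the element of order seven on the pairs of its fixed points.
-/

set_option autoImplicit false
set_option maxRecDepth 100000

namespace Cfsg.Lib.Golay

open Cfsg Cfsg.Lib.PermCert MulAction
open scoped Pointwise

/-- The three pairs of fixed points. -/
def fixPairs : Set (Set GolayPt) :=
  {{ptAt 0, ptAt 5}, {ptAt 0, ptAt 11}, {ptAt 5, ptAt 11}}

theorem seven_fix_tab : (List.range 24).all (fun i => (ap elSeven.1.1 i == i) == [0, 5, 11].contains i) = true ∧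
    fvalid cgSevenG0 = true ∧ fvalid cgSevenG1 = true ∧
    ap cgSevenG0.1.1 0 = 0 ∧ ap cgSevenG0.1.1 5 = 11 ∧ ap cgSevenG0.1.1 11 = 5 ∧
    ap cgSevenG1.1.1 0 = 5 ∧ ap cgSevenG1.1.1 5 = 11 ∧ ap cgSevenG1.1.1 11 = 0 ∧
    nfix cgSevenG0.1 = 8 ∧ (ptAt 0 : GolayPt) ≠ ptAt 5 ∧ (ptAt 0 : GolayPt) ≠ ptAt 11 ∧
    (ptAt 5 : GolayPt) ≠ ptAt 11 ∧ toP cgSevenG0.1 * toP cgSevenG0.1 = 1 := by decide +kernel

theorem xSeven_fix {p : GolayPt} : xSeven p = p ↔ p = ptAt 0 ∨ p = ptAt 5 ∨ p = ptAt 11 := by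
  have h := seven_fix_tab.1
  simp only [List.all_eq_true, List.mem_range, beq_iff_eq] at h
  have h1 := h _ (pidx_lt p)
  have hp : ptAt (pidx p) = p := ptEquiv.left_inv p
  rw [← pidx_injective.eq_iff, show xSeven = toP elSeven.1 from rfl, pidx_toP (valid_of_fvalid seven_tabs.1),
    ← beq_iff_eq, h1]
  have hi : ∀ i, i < 24 → (p = ptAt i ↔ pidx p = i) := fun i hi =>
    ⟨fun e => e ▸ pidx_ptAt ⟨i, hi⟩, fun e => e ▸ hp.symm⟩
  rw [hi 0 (by norm_num), hi 5 (by norm_num), hi 11 (by norm_num)]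
  simp

theorem seven_gens_mem : toP cgSevenG0.1 ∈ cgSeven.grp ∧ toP cgSevenG1.1 ∈ cgSeven.grp := by
  have hm : ∀ g ∈ cgSeven.gens, toP g.1 ∈ cgSeven.grp := fun g hg => by
    rw [← (CG.ok_spec cgSeven_ok).2.2]; exact Subgroup.subset_closure ⟨g, hg, rfl⟩
  exact ⟨hm cgSevenG0 (by simp [cgSeven]), hm cgSevenG1 (by simp [cgSeven])⟩

theorem sevenG0_points : toP cgSevenG0.1 (ptAt 0) = ptAt 0 ∧ toP cgSevenG0.1 (ptAt 5) = ptAt 11 ∧
    toP cgSevenG0.1 (ptAt 11) = ptAt 5 := by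
  obtain ⟨-, h0, -, a, b, c, -⟩ := seven_fix_tab
  have hv := valid_of_fvalid h0
  exact ⟨by rw [toP_ptAt hv (by norm_num), a], by rw [toP_ptAt hv (by norm_num), b],
    by rw [toP_ptAt hv (by norm_num), c]⟩

/-- The chosen involution of the centraliser is one with eight fixed points. -/
theorem sevenG0_invol : orderOf (toP cgSevenG0.1) = 2 ∧ fixCard (toP cgSevenG0.1) = 8 := by
  haveI : Fact (Nat.Prime 2) := ⟨Nat.prime_two⟩
  obtain ⟨-, h0, -, -, -, -, -, -, -, hn, -, -, -, h2⟩ := seven_fix_tab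
  refine ⟨orderOf_eq_prime (by rw [pow_two, h2]) fun e => ?_, by rw [fixCard_toP (valid_of_fvalid h0), hn]⟩
  have h := sevenG0_points.2.1
  rw [e] at h
  exact seven_fix_tab.2.2.2.2.2.2.2.2.2.2.2.2.1 h

theorem mem_fixPairs {a b : GolayPt} (hab : a ≠ b) (ha : xSeven a = a) (hb : xSeven b = b) :
    ({a, b} : Set GolayPt) ∈ fixPairs := by
  simp only [fixPairs, Set.mem_insert_iff, Set.mem_singleton_iff]
  rcases xSeven_fix.mp ha with rfl | rfl | rfl <;> rcases xSeven_fix.mp hb with rfl | rfl | rfl <;>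
    first | exact absurd rfl hab | exact Or.inl rfl | exact Or.inl (Set.pair_comm _ _) |
      exact Or.inr (Or.inl rfl) | exact Or.inr (Or.inl (Set.pair_comm _ _)) | exact Or.inr (Or.inr rfl) |
      exact Or.inr (Or.inr (Set.pair_comm _ _))

theorem fixPairs_ncard : fixPairs.ncard = 3 := by
  obtain ⟨-, -, -, -, -, -, -, -, -, -, d1, d2, d3, -⟩ := seven_fix_tab
  have hne : ∀ {a b c d : GolayPt}, a ≠ c → a ≠ d → ({a, b} : Set GolayPt) ≠ {c, d} := fun {a b c d} h h' e => by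
    have : a ∈ ({c, d} : Set GolayPt) := e ▸ Set.mem_insert _ _
    rcases this with r | r
    exacts [h r, h' r]
  rw [fixPairs, Set.ncard_insert_of_notMem, Set.ncard_pair]
  · exact hne d1 d2
  · intro h
    rcases h with h | h
    · exact hne (d1.symm) d3 ((Set.pair_comm _ _).trans h)
    · exact hne d1 d2 h

/-- An element normalising the subgroup of order seven permutes the three pairs. -/
theorem fixPairs_stable {d : Equiv.Perm GolayPt} (hd : d ∈ cgSevenN.grp) {Q : Set GolayPt} (hQ : Q ∈ fixPairs) :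
    d • Q ∈ fixPairs := by
  obtain ⟨-, -, -, -, -, -, -, -, -, -, d1, d2, d3, -⟩ := seven_fix_tab
  obtain ⟨k, hk⟩ := Subgroup.mem_zpowers_iff.mp
    ((normalizer_seven.mpr (inv_mem hd)).2)
  have hfix : ∀ p, xSeven p = p → xSeven (d p) = d p := by
    intro p hp
    have h1 : (xSeven ^ k) p = p := Equiv.Perm.zpow_apply_eq_self_of_apply_eq_self hp k
    rw [hk, inv_inv] at h1
    simp only [Equiv.Perm.mul_apply] at h1
    exact Equiv.Perm.inv_eq_iff_eq.mp h1
  obtain ⟨a, b, hab, ha, hb, rfl⟩ : ∃ a b, a ≠ b ∧ xSeven a = a ∧ xSeven b = b ∧ Q = {a, b} := by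
    simp only [fixPairs, Set.mem_insert_iff, Set.mem_singleton_iff] at hQ
    rcases hQ with rfl | rfl | rfl
    · exact ⟨_, _, d1, xSeven_fix.mpr (Or.inl rfl), xSeven_fix.mpr (Or.inr (Or.inl rfl)), rfl⟩
    · exact ⟨_, _, d2, xSeven_fix.mpr (Or.inl rfl), xSeven_fix.mpr (Or.inr (Or.inr rfl)), rfl⟩
    · exact ⟨_, _, d3, xSeven_fix.mpr (Or.inr (Or.inl rfl)), xSeven_fix.mpr (Or.inr (Or.inr rfl)), rfl⟩
  rw [Set.smul_set_insert, Set.smul_set_singleton]
  exact mem_fixPairs (fun e => hab (d.injective e)) (hfix a ha) (hfix b hb)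

/-- Stabilisers of a pair of fixed points in the centraliser and the normaliser. -/
theorem seven_pair {Q : Set GolayPt} (hQ : Q ∈ fixPairs) :
    Nat.card ↥(cgSeven.grp ⊓ stabilizer (Equiv.Perm GolayPt) Q) = 14 ∧
      Nat.card ↥(cgSevenN.grp ⊓ stabilizer (Equiv.Perm GolayPt) Q) = 42 := by
  obtain ⟨-, -, h1, -, -, -, a, b, c, -⟩ := seven_fix_tab
  have hv := valid_of_fvalid h1
  set g := toP cgSevenG1.1 with hg
  have g0 : g (ptAt 0) = ptAt 5 := by rw [hg, toP_ptAt hv (by norm_num), a]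
  have g5 : g (ptAt 5) = ptAt 11 := by rw [hg, toP_ptAt hv (by norm_num), b]
  have g11 : g (ptAt 11) = ptAt 0 := by rw [hg, toP_ptAt hv (by norm_num), c]
  have key : ∀ (K : Subgroup (Equiv.Perm GolayPt)), g ∈ K → K ≤ cgSevenN.grp →
      Nat.card ↥(K ⊓ stabilizer (Equiv.Perm GolayPt) Q) * 3 = Nat.card K := by
    intro K hgK hK
    have hsub : ∀ {R : Set GolayPt} (n : ℕ), R ∈ orbit K Q → g ^ n • R ∈ orbit K Q := by
      rintro R n ⟨k, rfl⟩
      exact ⟨⟨g ^ n, pow_mem hgK n⟩ * k, (mul_smul _ _ _)⟩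
    have horb : orbit K Q = fixPairs := by
      refine Set.Subset.antisymm (fun R ⟨k, e⟩ => e ▸ fixPairs_stable (hK k.2) hQ) fun R hR => ?_
      have hcyc : ∀ R ∈ fixPairs, ∀ R' ∈ fixPairs, ∃ n : ℕ, g ^ n • R = R' := by
        have e0 : g • ({ptAt 0, ptAt 5} : Set GolayPt) = {ptAt 5, ptAt 11} := by
          rw [Set.smul_set_insert, Set.smul_set_singleton, Equiv.Perm.smul_def, Equiv.Perm.smul_def, g0, g5]
        have e1 : g • ({ptAt 5, ptAt 11} : Set GolayPt) = {ptAt 0, ptAt 11} := by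
          rw [Set.smul_set_insert, Set.smul_set_singleton, Equiv.Perm.smul_def, Equiv.Perm.smul_def, g5, g11,
            Set.pair_comm]
        have e2 : g • ({ptAt 0, ptAt 11} : Set GolayPt) = {ptAt 0, ptAt 5} := by
          rw [Set.smul_set_insert, Set.smul_set_singleton, Equiv.Perm.smul_def, Equiv.Perm.smul_def, g0, g11,
            Set.pair_comm]
        intro R hR R' hR'
        simp only [fixPairs, Set.mem_insert_iff, Set.mem_singleton_iff] at hR hR'
        rcases hR with rfl | rfl | rfl <;> rcases hR' with rfl | rfl | rfl <;>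
          first
          | (refine ⟨0, ?_⟩; rw [pow_zero, one_smul]; done)
          | (refine ⟨1, ?_⟩; rw [pow_one]; first | exact e0 | exact e1 | exact e2)
          | (refine ⟨2, ?_⟩; rw [pow_two, mul_smul]; simp only [e0, e1, e2]; done)
      obtain ⟨n, rfl⟩ := hcyc Q hQ R hR
      exact hsub n (mem_orbit_self Q)
    have h := (stabilizer K Q).card_mul_index
    rw [index_stabilizer, horb, fixPairs_ncard] at h
    rw [← h]
    congr 1
    refine Nat.card_congr ⟨fun x => ⟨⟨x.1, x.2.1⟩, x.2.2⟩, fun x => ⟨x.1.1, x.1.2, x.2⟩,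
      fun _ => rfl, fun _ => rfl⟩
  have h1' := key _ seven_gens_mem.2 seven_le.1
  have h2' := key _ (seven_le.1 seven_gens_mem.2) le_rfl
  rw [card_seven_grps.1] at h1'
  rw [card_seven_grps.2] at h2'
  omega

/-- An element of order seven fixing a pair of points fixes both. -/
theorem pair_fixed {a b : GolayPt} (hab : a ≠ b) (h : xSeven • ({a, b} : Set GolayPt) = {a, b}) :
    xSeven a = a ∧ xSeven b = b := by
  have hm : ∀ q ∈ ({a, b} : Set GolayPt), xSeven q ∈ ({a, b} : Set GolayPt) := fun q hq =>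
    h ▸ Set.smul_mem_smul_set hq
  have h7 : ∀ {p q : GolayPt}, xSeven p = q → xSeven q = p → p = q := by
    intro p q e e'
    have h7' : (xSeven ^ 7) p = q := by simp only [pow_succ, pow_zero, one_mul, Equiv.Perm.mul_apply, e, e']
    rwa [xSeven_pows.1] at h7'
  rcases hm a (Set.mem_insert a _) with e | e <;> rcases hm b (Set.mem_insert_of_mem a rfl) with e' | e'
  · exact absurd (xSeven.injective (e.trans e'.symm)) hab
  · exact ⟨e, e'⟩
  · exact absurd (h7 e e') hab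
  · exact absurd (xSeven.injective (e.trans e'.symm)) hab

end Cfsg.Lib.Golay
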