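import Cfsg.Agent.Golay.StdObjects
import Cfsg.Agent.Golay.SmallSylow
import Cfsg.Agent.Golay.SextetGroupData

/-!
The stabiliser of a sextet on its six tetrads.
-/

namespace Cfsg.Lib.Golay

open Cfsg Cfsg.Lib.PermCert MulAction
open scoped Pointwise

/-- The masks of the standard tetrads. -/
def tetMasks : List ℕ := [15, 5264, 622848, 3416064, 4196928, 8536096]

/-- A list of tables indexed by the vectors of an elementary abelian group. -/
def isBinGroup (k : ℕ) (l : List PP) : Bool :=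
  l.length == 2 ^ k && l.all (valid 24) &&
    (List.range 24).all (fun i => ap (l[0]!).1 i == i) &&
    ((List.range (2 ^ k)).all fun i => (List.range k).all fun j =>
      decide (i ^^^ 2 ^ j < 2 ^ k) && permEqOn (l[i ^^^ 2 ^ j]!) (l[i]!) (l[2 ^ j]!)) &&
    decide ((l.map fun g => (List.range 24).map (ap g.1)).Nodup)

/-- The certificate for the sextet group. -/
def sextGroupOK : Bool :=
  sextTranslList.all (fun n => preserves n && tetMasks.all (fun m => img n m == m) &&
      (List.range 24).all fun i => ap n.1 (ap n.1 i) == i) &&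
    sextSwapList.all preserves &&
    (tetMasks.all fun a => tetMasks.all fun b => a == b || sextSwapList.any fun g =>
      img g a == b && img g b == a && tetMasks.all fun m => m == a || m == b || img g m == m) &&
    cgSext.gens.all fun q => valid 24 q.1 && (List.range 6).all fun j => sextTranslList.any fun n' =>
      (List.range 24).all fun i => ap q.1.1 (ap (sextTranslList[2 ^ j]!).1 i) == ap n'.1 (ap q.1.1 i)

theorem sextGroup_ok : sextGroupOK = true ∧ sextTranslList.length = 64 ∧ decList codeSext = tetMasks := by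
  decide +kernel

theorem sextTransl_bin : isBinGroup 6 sextTranslList = true := by decide +kernel

/-- The group on such a list. -/
theorem exists_binGroup {k : ℕ} {l : List PP} (h : isBinGroup k l = true) :
    ∃ P : Subgroup (Equiv.Perm GolayPt), Nat.card P = 2 ^ k ∧ (∀ x, x ∈ P ↔ ∃ a ∈ l, toP a = x) ∧
      P = Subgroup.closure {x | ∃ j < k, toP (l[2 ^ j]!) = x} := by
  simp only [isBinGroup, Bool.and_eq_true, List.all_eq_true, beq_iff_eq, List.mem_range, decide_eq_true_eq] at h
  obtain ⟨⟨⟨⟨hlen, hv⟩, hid⟩, hmul⟩, hnd⟩ := h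
  have hget : ∀ i < 2 ^ k, l[i]! ∈ l := fun i hi => by
    rw [getElem!_pos l i (by omega)]; exact List.getElem_mem _
  have hidx : ∀ a ∈ l, ∃ i < 2 ^ k, l[i]! = a := fun a ha => by
    obtain ⟨i, hi, rfl⟩ := List.getElem_of_mem ha
    exact ⟨i, by omega, getElem!_pos l i hi⟩
  have hstep : ∀ i < 2 ^ k, ∀ j < k, toP (l[i ^^^ 2 ^ j]!) = toP (l[i]!) * toP (l[2 ^ j]!) := fun i hi j hj =>
    toP_eq_mul (hv _ (hget i hi)) (hv _ (hget _ (Nat.pow_lt_pow_right one_lt_two hj)))
      (hv _ (hget _ (hmul i hi j hj).1)) (hmul i hi j hj).2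
  have hone : toP (l[0]!) = 1 := Equiv.ext fun p => pidx_injective (by
    rw [pidx_toP (hv _ (hget 0 (Nat.two_pow_pos k)))]; exact hid _ (pidx_lt p))
  have hinv : ∀ j < k, (toP (l[2 ^ j]!))⁻¹ = toP (l[2 ^ j]!) := fun j hj => by
    refine inv_eq_of_mul_eq_one_right ?_
    rw [← hstep _ (Nat.pow_lt_pow_right one_lt_two hj) j hj, Nat.xor_self, hone]
  set P := Subgroup.closure {x | ∃ j < k, toP (l[2 ^ j]!) = x} with hP
  have hsub : ∀ i < 2 ^ k, toP (l[i]!) ∈ P := by
    intro i
    induction i using Nat.strong_induction_on with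
    | _ i ih =>
      intro hi
      rcases Nat.eq_zero_or_pos i with h0 | h0
      · rw [h0, hone]; exact one_mem _
      have hne : i ≠ 0 := by omega
      have hj : Nat.log 2 i < k := Nat.log_lt_of_lt_pow hne hi
      have hb : i.testBit (Nat.log 2 i) = true := by
        rw [Nat.testBit_eq_decide_div_mod_eq, decide_eq_true_eq]
        have h1 := Nat.pow_log_le_self 2 hne
        have h2 := Nat.lt_pow_succ_log_self one_lt_two i
        have : i / 2 ^ Nat.log 2 i = 1 := Nat.div_eq_of_lt_le (by simpa using h1) (by rw [pow_succ] at h2; omega)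
        rw [this]
      have hlt : i ^^^ 2 ^ Nat.log 2 i < i := by
        refine Nat.lt_of_testBit (Nat.log 2 i) ?_ hb fun m hm => ?_
        · rw [Nat.testBit_xor, hb, Nat.testBit_two_pow_self]; rfl
        · rw [Nat.testBit_xor, Nat.testBit_two_pow_of_ne (by omega), Bool.xor_false]
      have := hstep _ (lt_of_lt_of_le hlt hi.le) _ hj
      rw [Nat.xor_assoc, Nat.xor_self, Nat.xor_zero] at this
      rw [this]
      exact mul_mem (ih _ hlt (lt_of_lt_of_le hlt hi.le)) (Subgroup.subset_closure ⟨_, hj, rfl⟩)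
  have hmem : ∀ x, x ∈ P ↔ ∃ a ∈ l, toP a = x := by
    intro x
    constructor
    · intro hx
      have key : ∃ i < 2 ^ k, toP (l[i]!) = x := by
        induction hx using Subgroup.closure_induction_right with
        | one => exact ⟨0, Nat.two_pow_pos k, hone⟩
        | mul_right y _ g hg ih =>
          obtain ⟨i, hi, rfl⟩ := ih
          obtain ⟨j, hj, rfl⟩ := hg
          exact ⟨_, (hmul i hi j hj).1, hstep i hi j hj⟩
        | mul_inv_cancel y _ g hg ih =>
          obtain ⟨i, hi, rfl⟩ := ih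
          obtain ⟨j, hj, rfl⟩ := hg
          rw [hinv j hj]
          exact ⟨_, (hmul i hi j hj).1, hstep i hi j hj⟩
      obtain ⟨i, hi, rfl⟩ := key
      exact ⟨_, hget i hi, rfl⟩
    · rintro ⟨a, ha, rfl⟩
      obtain ⟨i, hi, rfl⟩ := hidx a ha
      exact hsub i hi
  refine ⟨P, ?_, hmem, rfl⟩
  have hinj : (l.map toP).Nodup := by
    refine (List.Nodup.of_map _ hnd).map_on fun a ha b hb he => ?_
    refine List.inj_on_of_nodup_map hnd ha hb (List.map_congr_left fun i hi => ?_)
    have := congrArg (fun g : Equiv.Perm GolayPt => pidx (g (ptAt i))) he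
    change pidx (toP a (ptAt i)) = pidx (toP b (ptAt i)) at this
    rw [pidx_toP (hv a ha), pidx_toP (hv b hb), pidx_ptAt ⟨i, List.mem_range.mp hi⟩] at this
    exact this
  classical
  have e : (P : Set (Equiv.Perm GolayPt)) = ((l.map toP).toFinset : Set (Equiv.Perm GolayPt)) := by
    ext x; simp [hmem x]
  show Nat.card ↥(P : Set (Equiv.Perm GolayPt)) = 2 ^ k
  rw [Nat.card_coe_set_eq, e, Set.ncard_coe_finset, List.toFinset_card_of_nodup hinj, List.length_map, hlen]

theorem mem_std_sextet {t : Finset GolayPt} : t ∈ famOf codeSext ↔ ∃ m ∈ tetMasks, pts m = t := by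
  rw [famOf, sextGroup_ok.2.2, List.mem_toFinset, List.mem_map]

theorem toP_smul_pts {g : PP} (hv : valid 24 g = true) {m : ℕ} : toP g • pts m = pts (img g m) :=
  (pts_img hv m).symm

theorem smul_std_sextet {g : Equiv.Perm GolayPt} (h : ∀ t ∈ famOf codeSext, g • t ∈ famOf codeSext) :
    g • famOf codeSext = famOf codeSext := by
  refine Finset.eq_of_subset_of_card_le ?_ (by rw [Finset.card_smul_finset])
  intro x hx
  obtain ⟨y, hy, rfl⟩ := Finset.mem_smul_finset.mp hx
  exact h y hy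

theorem sextet_swap {S : Finset (Finset GolayPt)} (hS : S ∈ sextets) {t u : Finset GolayPt} (ht : t ∈ S) (hu : u ∈ S)
    (htu : t ≠ u) : ∃ g ∈ M24, g • S = S ∧ g • t = u ∧ g • u = t ∧ ∀ v ∈ S, v ≠ t → v ≠ u → g • v = v := by
  rw [sextets_eq_orbit] at hS
  obtain ⟨c, hc⟩ := hS
  have hc' : (c : Equiv.Perm GolayPt) • famOf codeSext = S := hc
  subst hc'
  obtain ⟨t₀, ht₀, rfl⟩ := Finset.mem_smul_finset.mp ht
  obtain ⟨u₀, hu₀, rfl⟩ := Finset.mem_smul_finset.mp hu
  obtain ⟨a, ha, rfl⟩ := mem_std_sextet.mp ht₀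
  obtain ⟨b, hb, rfl⟩ := mem_std_sextet.mp hu₀
  have h := sextGroup_ok.1
  simp only [sextGroupOK, Bool.and_eq_true, List.all_eq_true, Bool.or_eq_true, List.any_eq_true, beq_iff_eq] at h
  rcases h.1.2 a ha b hb with e | ⟨g, hg, ⟨hab, hba⟩, hfix⟩
  · exact absurd (by rw [e]) htu
  have hp := h.1.1.2 g hg
  have hv : valid 24 g = true := by simp only [preserves, Bool.and_eq_true] at hp; exact hp.1
  refine ⟨c * toP g * (c : Equiv.Perm GolayPt)⁻¹, M24.mul_mem (M24.mul_mem c.2 (toP_mem_M24 hp)) (M24.inv_mem c.2),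
    ?_, ?_, ?_, ?_⟩
  · rw [mul_smul, mul_smul, inv_smul_smul, smul_std_sextet fun v hv' => ?_]
    obtain ⟨m, hm, rfl⟩ := mem_std_sextet.mp hv'
    rw [toP_smul_pts hv]
    refine mem_std_sextet.mpr ⟨_, ?_, rfl⟩
    rcases hfix m hm with (e | e) | e
    · rw [e, hab]; exact hb
    · rw [e, hba]; exact ha
    · rw [e]; exact hm
  · rw [mul_smul, mul_smul, inv_smul_smul, toP_smul_pts hv, hab]
  · rw [mul_smul, mul_smul, inv_smul_smul, toP_smul_pts hv, hba]
  · intro v hv' hvt hvu
    obtain ⟨v₀, hv₀, rfl⟩ := Finset.mem_smul_finset.mp hv'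
    obtain ⟨m, hm, rfl⟩ := mem_std_sextet.mp hv₀
    rw [mul_smul, mul_smul, inv_smul_smul, toP_smul_pts hv]
    rcases hfix m hm with (e | e) | e
    · exact absurd (by rw [e]) hvt
    · exact absurd (by rw [e]) hvu
    · rw [e]

theorem s1551 (S : Finset (Finset GolayPt)) (hS : S ∈ sextets) :
    (∀ e : Equiv.Perm ↥S, ∃ g ∈ stabilizer M24 S, ∀ t : ↥S,
        (g : Equiv.Perm GolayPt) • (t : Finset GolayPt) = ((e t : ↥S) : Finset GolayPt)) ∧
      Nat.card {g : ↥(stabilizer M24 S) // ∀ t ∈ S, ((g : M24) : Equiv.Perm GolayPt) • t = t} = 192 ∧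
      ∃ N : Subgroup ↥(stabilizer M24 S), N.Normal ∧ Nat.card N = 64 ∧ ∀ x ∈ N, x * x = 1 := by
  have hmem : ∀ (g : ↥(stabilizer M24 S)) (t : Finset GolayPt), ((g : M24) : Equiv.Perm GolayPt) • t ∈ S ↔ t ∈ S :=
    fun g t => by
      have e : ∀ (σ : Equiv.Perm GolayPt) (A : Finset (Finset GolayPt)), σ • A = A → (σ • t ∈ A ↔ t ∈ A) :=
        fun σ A h => by
          conv_lhs => rw [← h]
          exact Finset.smul_mem_smul_finset_iff _
      exact e _ S g.2
  let φ : ↥(stabilizer M24 S) →* Equiv.Perm ↥S :=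
    { toFun := fun g => (MulAction.toPerm ((g : M24) : Equiv.Perm GolayPt)).subtypePerm (hmem g)
      map_one' := Equiv.ext fun t => Subtype.ext (one_smul (Equiv.Perm GolayPt) (t : Finset GolayPt))
      map_mul' := fun g h => Equiv.ext fun t => Subtype.ext (mul_smul ((g : M24) : Equiv.Perm GolayPt)
        ((h : M24) : Equiv.Perm GolayPt) (t : Finset GolayPt)) }
  have htop : φ.range = ⊤ := by
    refine top_le_iff.mp (le_of_eq_of_le Equiv.Perm.closure_isSwap.symm ((Subgroup.closure_le _).mpr ?_))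
    rintro _ ⟨t, u, htu, rfl⟩
    obtain ⟨g, hg, hgS, h1, h2, h3⟩ := sextet_swap hS t.2 u.2 fun e => htu (Subtype.ext e)
    refine ⟨⟨⟨g, hg⟩, hgS⟩, Equiv.ext fun v => Subtype.ext ?_⟩
    show g • (v : Finset GolayPt) = _
    by_cases hvt : v = t
    · rw [hvt, Equiv.swap_apply_left, h1]
    by_cases hvu : v = u
    · rw [hvu, Equiv.swap_apply_right, h2]
    rw [Equiv.swap_apply_of_ne_of_ne hvt hvu,
      h3 v v.2 (fun e => hvt (Subtype.ext e)) (fun e => hvu (Subtype.ext e))]
  refine ⟨fun e => ?_, ?_, ?_⟩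
  · obtain ⟨g, hg⟩ := (htop.ge (Subgroup.mem_top e) : e ∈ φ.range)
    exact ⟨g, g.2, fun t => congrArg (fun p : Equiv.Perm ↥S => ((p t : ↥S) : Finset GolayPt)) hg⟩
  · have hG : Nat.card ↥(stabilizer M24 S) = 138240 := by
      have h := Subgroup.card_mul_index (stabilizer M24 S)
      rw [index_stabilizer, show orbit M24 S = sextets by
        rw [sextets_eq_orbit] at hS ⊢; exact orbit_eq_iff.mpr hS, sextets_facts.2, card_M24] at h
      omega
    have h := Subgroup.card_mul_index φ.ker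
    have hS6 : Nat.card ↥S = 6 := by rw [Nat.card_eq_fintype_card, Fintype.card_coe, hS.1]
    rw [Subgroup.index_ker, htop, Subgroup.card_top, Nat.card_perm, hS6, hG, show Nat.factorial 6 = 720 from rfl] at h
    have hk : Nat.card φ.ker = 192 := by omega
    rw [← hk]
    refine Nat.card_congr (Equiv.subtypeEquivRight fun g => ⟨fun h => ?_, fun h t ht => ?_⟩)
    · exact Equiv.ext fun t => Subtype.ext (h t t.2)
    · exact congrArg (fun p : Equiv.Perm ↥S => ((p ⟨t, ht⟩ : ↥S) : Finset GolayPt)) h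
  · rw [sextets_eq_orbit] at hS
    obtain ⟨c, hc⟩ := hS
    have hc' : (c : Equiv.Perm GolayPt) • famOf codeSext = S := hc
    have h := sextGroup_ok.1
    simp only [sextGroupOK, Bool.and_eq_true, List.all_eq_true, Bool.or_eq_true, List.any_eq_true, beq_iff_eq,
      List.mem_range] at h
    obtain ⟨⟨⟨hN, -⟩, -⟩, hnorm⟩ := h
    obtain ⟨N₀, hN₀, hN₀mem, hN₀gen⟩ := exists_binGroup sextTransl_bin
    let ψ : ↥(stabilizer M24 S) →* Equiv.Perm GolayPt :=
      (MulAut.conj (c : Equiv.Perm GolayPt)⁻¹).toMonoidHom.comp (M24.subtype.comp (stabilizer M24 S).subtype)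
    have hψ : Function.Injective ψ :=
      (MulAut.conj _).injective.comp (M24.subtype_injective.comp (stabilizer M24 S).subtype_injective)
    have hrange : ψ.range = M24 ⊓ stabilizer (Equiv.Perm GolayPt) (famOf codeSext) := by
      ext g
      constructor
      · rintro ⟨⟨⟨k, hk⟩, hkS⟩, rfl⟩
        have hkS' : k • S = S := hkS
        refine ⟨M24.mul_mem (M24.mul_mem (M24.inv_mem c.2) hk) (M24.inv_mem (M24.inv_mem c.2)), mem_stabilizer_iff.mpr ?_⟩
        show ((c : Equiv.Perm GolayPt)⁻¹ * k * (c : Equiv.Perm GolayPt)⁻¹⁻¹) • famOf codeSext = _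
        rw [inv_inv, mul_smul, mul_smul, hc', hkS', inv_smul_eq_iff.mpr hc'.symm]
      · rintro ⟨hgM, hg⟩
        refine ⟨⟨⟨c * g * (c : Equiv.Perm GolayPt)⁻¹, M24.mul_mem (M24.mul_mem c.2 hgM) (M24.inv_mem c.2)⟩,
          mem_stabilizer_iff.mpr ?_⟩, ?_⟩
        · show ((c : Equiv.Perm GolayPt) * g * (c : Equiv.Perm GolayPt)⁻¹) • S = S
          rw [mul_smul, mul_smul, inv_smul_eq_iff.mpr hc'.symm, mem_stabilizer_iff.mp hg, hc']
        · show (c : Equiv.Perm GolayPt)⁻¹ * (c * g * (c : Equiv.Perm GolayPt)⁻¹) * (c : Equiv.Perm GolayPt)⁻¹⁻¹ = g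
          group
    have hle : N₀ ≤ ψ.range := by
      rw [hrange]
      intro x hx
      obtain ⟨n, hn, rfl⟩ := (hN₀mem x).mp hx
      obtain ⟨⟨hp, hfix⟩, -⟩ := hN n hn
      have hv : valid 24 n = true := by simp only [preserves, Bool.and_eq_true] at hp; exact hp.1
      refine ⟨toP_mem_M24 hp, mem_stabilizer_iff.mpr (smul_std_sextet fun v hv' => ?_)⟩
      obtain ⟨m, hm, rfl⟩ := mem_std_sextet.mp hv'
      rw [toP_smul_pts hv, hfix m hm]; exact hv'
    have hKnorm : M24 ⊓ stabilizer (Equiv.Perm GolayPt) (famOf codeSext) ≤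
        Subgroup.normalizer (N₀ : Set (Equiv.Perm GolayPt)) := by
      rw [stdSext.stab_eq, ← (CG.ok_spec cgSext_ok).2.2, Subgroup.closure_le]
      rintro _ ⟨q, hq, rfl⟩
      have hv : ∀ m ∈ sextTranslList, valid 24 m = true := fun m hm => by
        have := (hN m hm).1.1
        simp only [preserves, Bool.and_eq_true] at this; exact this.1
      obtain ⟨hvq, hq'⟩ := hnorm q hq
      refine dod72_std.mem_normalizer_of_conj fun x hx => ?_
      have hle : N₀ ≤ N₀.comap (MulAut.conj (toP q.1)).toMonoidHom := by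
        rw [hN₀gen, Subgroup.closure_le]
        rintro _ ⟨j, hj, rfl⟩
        obtain ⟨n', hn', he⟩ := hq' j hj
        have hn : sextTranslList[2 ^ j]! ∈ sextTranslList := by
          have hlt : 2 ^ j < sextTranslList.length := by
            rw [sextGroup_ok.2.1]
            exact Nat.pow_lt_pow_right one_lt_two hj (a := 2)
          rw [getElem!_pos sextTranslList (2 ^ j) hlt]; exact List.getElem_mem _
        rw [← hN₀gen]
        refine (hN₀mem _).mpr ⟨n', hn', ?_⟩
        show toP n' = toP q.1 * toP (sextTranslList[2 ^ j]!) * (toP q.1)⁻¹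
        rw [eq_mul_inv_iff_mul_eq]
        refine Equiv.ext fun p => pidx_injective ?_
        rw [Equiv.Perm.mul_apply, Equiv.Perm.mul_apply, pidx_toP (hv _ hn'), pidx_toP hvq, pidx_toP hvq,
          pidx_toP (hv _ hn)]
        exact (he _ (pidx_lt p)).symm
      exact hle hx
    refine ⟨N₀.comap ψ, ?_, ?_, fun x hx => ?_⟩
    · refine ⟨fun x hx g => ?_⟩
      have hg : ψ g ∈ Subgroup.normalizer (N₀ : Set (Equiv.Perm GolayPt)) := hKnorm (hrange ▸ ⟨g, rfl⟩)
      show ψ (g * x * g⁻¹) ∈ N₀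
      rw [map_mul, map_mul, map_inv]
      exact (Subgroup.mem_normalizer_iff.mp hg _).mp hx
    · rw [show 64 = 2 ^ 6 from rfl, ← hN₀]
      refine Nat.card_congr (Equiv.ofBijective (fun x => ⟨ψ x.1, x.2⟩) ⟨fun a b e => Subtype.ext (hψ (congrArg Subtype.val e)), ?_⟩)
      rintro ⟨y, hy⟩
      obtain ⟨x, hx⟩ := hle hy
      exact ⟨⟨x, show ψ x ∈ N₀ from hx ▸ hy⟩, Subtype.ext hx⟩
    · obtain ⟨n, hn, hnx⟩ := (hN₀mem _).mp (show ψ x ∈ N₀ from hx)
      obtain ⟨⟨hp, -⟩, hinv⟩ := hN n hn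
      have hv : valid 24 n = true := by simp only [preserves, Bool.and_eq_true] at hp; exact hp.1
      refine hψ ?_
      rw [map_mul, map_one, ← hnx]
      exact Equiv.ext fun p => pidx_injective (by
        rw [Equiv.Perm.mul_apply, pidx_toP hv, pidx_toP hv]; exact hinv _ (pidx_lt p))

end Cfsg.Lib.Golay
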