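import Cfsg.Agent.Golay.GraphIso
import Cfsg.Agent.Golay.Elements
import Cfsg.Agent.Golay.SmallSylow
import Cfsg.Agent.Golay.DodecadStab
import Cfsg.Agent.Golay.Orbits
import Cfsg.Agent.Golay.Conj
import Cfsg.Agent.Golay.SmallIsoData
import Cfsg.Agent.Classical.SL

/-!
Three subgroups of the smallest Mathieu group with their isomorphism types.
-/

set_option autoImplicit false

namespace Cfsg.Lib.Golay

open Cfsg Cfsg.Lib.PermCert MulAction Matrix
open scoped Pointwise

/-- The standard point stabiliser of the standard dodecad. -/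
abbrev stdEleven : Subgroup (Equiv.Perm GolayPt) :=
  M24 ⊓ stabilizer (Equiv.Perm GolayPt) (pts 340831) ⊓ stabilizer (Equiv.Perm GolayPt) (ptAt 0)

theorem cgM11Std_ok : cgM11Std.ok = true := by decide +kernel
theorem cgLEleven_ok : cgLEleven.ok = true := by decide +kernel
theorem cgSymFive_ok : cgSymFive.ok = true := by decide +kernel
theorem cgGLThree_ok : cgGLThree.ok = true := by decide +kernel
theorem orbLEleven_ok : closedOK ptCoding.act cgM11Std.gens posOut orbLEleven = true := by decide +kernel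
theorem orbSymFive_ok : closedOK setCoding.act cgM11Std.gens pairOut orbSymFive = true := by decide +kernel
theorem orbM11Inv_ok :
    closedOK cjCoding.act cgM11Std.gens (pack ((List.range 24).map (ap elM11Inv.1.1))) orbM11Inv = true := by
  decide +kernel

theorem some_zero_eq : (some 0 : GolayPt) = ptAt 0 := by decide +kernel

theorem stdEleven_eq_M11 : stdEleven = Spor.M11 := by
  rw [Spor.M11, Spor.M12, squareDodecad_eq, some_zero_eq]

theorem cgM11Std_grp : cgM11Std.grp = stdEleven := by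
  refine Subgroup.eq_of_le_of_card_ge (le_inf (le_inf ?_ ?_) ?_) ?_
  · exact grp_cgM24 ▸ grp_le_of_gensIn cgM24_ok cgM11Std_ok (by decide +kernel)
  · exact le_stabilizer_of_gensFix setCoding cgM11Std_ok (show mk (pts 340831) = 340831 from mk_pts (by norm_num))
      (by decide +kernel)
  · exact le_stabilizer_of_gensFix ptCoding cgM11Std_ok
      (show pidx (ptAt 0) = 0 from pidx_ptAt ⟨0, by norm_num⟩) (by decide +kernel)
  · rw [stdEleven_eq_M11, card_M11, CG.card_grp cgM11Std_ok]
    exact le_of_eq (by decide +kernel)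

theorem cgLEleven_grp : stdEleven ⊓ stabilizer (Equiv.Perm GolayPt) (ptAt posOut) = cgLEleven.grp := by
  rw [← cgM11Std_grp]
  exact stab_inf_eq ptCoding cgM11Std_ok cgLEleven_ok (show pidx (ptAt posOut) = posOut from pidx_ptAt ⟨posOut, by decide⟩)
    orbLEleven_ok (by decide +kernel) (by decide +kernel) (by decide +kernel)

theorem cgSymFive_grp : stdEleven ⊓ stabilizer (Equiv.Perm GolayPt) (pts pairOut) = cgSymFive.grp := by
  rw [← cgM11Std_grp]
  exact stab_inf_eq setCoding cgM11Std_ok cgSymFive_ok (show mk (pts pairOut) = pairOut from mk_pts (by decide))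
    orbSymFive_ok (by decide +kernel) (by decide +kernel) (by decide +kernel)

theorem elM11Inv_valid : fvalid elM11Inv = true := by decide +kernel

theorem cgGLThree_grp :
    stdEleven ⊓ stabilizer (Equiv.Perm GolayPt) (⟨toP elM11Inv.1⟩ : CJ) = cgGLThree.grp := by
  rw [← cgM11Std_grp]
  refine stab_inf_eq cjCoding cgM11Std_ok cgGLThree_ok ?_ orbM11Inv_ok (by decide +kernel) (by decide +kernel)
    (by decide +kernel)
  show cjEnc _ = _
  refine congrArg pack (List.map_congr_left fun i hi => ?_)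
  show pidx (toP elM11Inv.1 (ptAt i)) = _
  rw [toP_ptAt (valid_of_fvalid elM11Inv_valid) (List.mem_range.mp hi)]
  exact pidx_ptAt ⟨_, valid_lt (valid_of_fvalid elM11Inv_valid) (List.mem_range.mp hi)⟩

/-! ## The linear group of degree eleven -/

/-- The twelve labels. -/
def lineLab (i : Fin 12) : Fin 2 → ZMod 11 := if i.val < 11 then ![(i.val : ZMod 11), 1] else ![1, 0]

/-- The twelve objects. -/
def lineObj (i : Fin 12) : Finset (Finset GolayPt) := famOf (objLEleven.getD i.val 0)

/-- The relation. -/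
def LineRel (x : Equiv.Perm GolayPt) (A : Matrix.SpecialLinearGroup (Fin 2) (ZMod 11)) : Prop :=
  ∀ i : Fin 12, ∃ j : Fin 12, x • lineObj i = lineObj j ∧ ∃ c : ZMod 11, A.1 *ᵥ lineLab i = c • lineLab j

/-- A listed matrix. -/
def matTwo {m : ℕ} (l : List ℕ) : Matrix (Fin 2) (Fin 2) (ZMod m) :=
  !![(l.getD 0 0 : ZMod m), (l.getD 1 0 : ZMod m); (l.getD 2 0 : ZMod m), (l.getD 3 0 : ZMod m)]

/-- The test. -/
def lineActOK (t : FG × List ℕ) : Bool :=
  fvalid t.1 && sift 24 cgLEleven.chain [t.1.1] && decide ((matTwo (m := 11) t.2).det = 1) &&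
    decide (∀ i : Fin 12, ∃ j : Fin 12, famCoding.act t.1 (objLEleven.getD i.val 0) = objLEleven.getD j.val 0 ∧
      ∃ c : ZMod 11, matTwo t.2 *ᵥ lineLab i = c • lineLab j)

theorem lineActs_ok : actsLEleven.all lineActOK = true := by decide +kernel

theorem lineData_ok : objLEleven.all famOK = true ∧ objLEleven.Nodup ∧
    cgLEleven.gens.all (fun g => actsLEleven.any fun t => t.1.1 == g.1) = true ∧
    (∃ t ∈ actsLEleven, matTwo (m := 11) t.2 = Matrix.transvection 0 1 1) ∧
    (∃ t ∈ actsLEleven, matTwo (m := 11) t.2 = Matrix.transvection 1 0 1) ∧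
    (∀ c : ZMod 11, ∃ n : Fin 11, Matrix.transvection (0 : Fin 2) 1 c = Matrix.transvection (0 : Fin 2) 1 (1 : ZMod 11) ^ n.val ∧
      Matrix.transvection (1 : Fin 2) 0 c = Matrix.transvection (1 : Fin 2) 0 (1 : ZMod 11) ^ n.val) := by
  decide +kernel

theorem lineObj_enc (i : Fin 12) : famCoding.enc (lineObj i) = objLEleven.getD i.val 0 :=
  encFam_famOf (List.all_eq_true.mp lineData_ok.1 _ (by
    rw [List.getD_eq_getElem _ _ (show i.val < objLEleven.length from i.2)]; exact List.getElem_mem _))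

theorem lineObj_inj : Function.Injective lineObj := by
  intro i j h
  have e := lineObj_enc i
  rw [h, lineObj_enc, List.getD_eq_getElem _ _ (show i.val < objLEleven.length from i.2),
    List.getD_eq_getElem _ _ (show j.val < objLEleven.length from j.2)] at e
  exact Fin.ext (lineData_ok.2.1.getElem_inj_iff.mp e.symm)

theorem mem_line_of_act {t : FG × List ℕ} (ht : t ∈ actsLEleven) :
    ∃ A : Matrix.SpecialLinearGroup (Fin 2) (ZMod 11), A.1 = matTwo t.2 ∧
      toP t.1.1 ∈ cgLEleven.grp ∧ LineRel (toP t.1.1) A := by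
  have h := List.all_eq_true.mp lineActs_ok t ht
  simp only [lineActOK, Bool.and_eq_true, decide_eq_true_eq] at h
  obtain ⟨⟨⟨hv, hs⟩, hd⟩, hrel⟩ := h
  refine ⟨⟨_, hd⟩, rfl, ⟨perm 24 t.1.1, by
    simpa using mem_grp_of_sift (CG.ok_spec cgLEleven_ok).1 (w := [t.1.1]) (by simpa using valid_of_fvalid hv) hs, rfl⟩,
    fun i => ?_⟩
  obtain ⟨j, h1, h2⟩ := hrel i
  exact ⟨j, famCoding.inj (by rw [famCoding.spec _ hv, lineObj_enc, lineObj_enc, h1]), h2⟩

theorem toP_congr_fst {g g' : PP} (h : g = g') : toP g = toP g' := by rw [h]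

theorem line_graph : GraphData cgLEleven LineRel where
  ok := cgLEleven_ok
  one := fun i => ⟨i, one_smul _ _, 1, by simp⟩
  mul := fun {x y A B} hx hy i => by
    obtain ⟨j, h1, c, h2⟩ := hy i
    obtain ⟨l, h3, c', h4⟩ := hx j
    refine ⟨l, by rw [mul_smul, h1, h3], c * c', ?_⟩
    rw [Matrix.SpecialLinearGroup.coe_mul, ← Matrix.mulVec_mulVec, h2, Matrix.mulVec_smul, h4, smul_smul]
  gens := fun g hg => by
    obtain ⟨t, ht, e⟩ := List.any_eq_true.mp (List.all_eq_true.mp lineData_ok.2.2.1 g hg)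
    obtain ⟨A, -, -, hA⟩ := mem_line_of_act ht
    exact ⟨A, toP_congr_fst (beq_iff_eq.mp e) ▸ hA⟩

theorem lineRel_one_iff (A : Matrix.SpecialLinearGroup (Fin 2) (ZMod 11)) :
    LineRel 1 A ↔ A ∈ Subgroup.center (Matrix.SpecialLinearGroup (Fin 2) (ZMod 11)) := by
  constructor
  · intro h
    have hfix : ∀ i, ∃ c : ZMod 11, A.1 *ᵥ lineLab i = c • lineLab i := fun i => by
      obtain ⟨j, h1, h2⟩ := h i
      rw [one_smul] at h1
      exact lineObj_inj h1 ▸ h2
    obtain ⟨a, ha⟩ := hfix 11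
    obtain ⟨b, hb⟩ := hfix 0
    obtain ⟨c, hc⟩ := hfix 1
    have a0 := congrFun ha 0
    have a1 := congrFun ha 1
    have b0 := congrFun hb 0
    have b1 := congrFun hb 1
    have c0 := congrFun hc 0
    have c1 := congrFun hc 1
    simp [lineLab, Matrix.mulVec, dotProduct, Fin.sum_univ_two] at a0 a1 b0 b1 c0 c1
    rw [Matrix.SpecialLinearGroup.mem_center_iff]
    have hab : a = b := by
      rw [a0, b0] at c0; rw [a1, b1] at c1
      linear_combination c0 - c1
    have hd := A.2
    rw [Matrix.det_fin_two, a0, a1, b0, b1, hab] at hd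
    refine ⟨b, ?_, ?_⟩
    · rw [Fintype.card_fin]; linear_combination hd
    · ext i j
      fin_cases i <;> fin_cases j <;> simp [a0, a1, b0, b1, hab]
  · intro h
    obtain ⟨r, -, hr⟩ := Matrix.SpecialLinearGroup.mem_center_iff.mp h
    intro i
    exact ⟨i, one_smul _ _, r, by rw [← hr]; simp⟩

theorem lEleven_iso : Nonempty (cgLEleven.grp ≃* Matrix.ProjectiveSpecialLinearGroup (Fin 2) (ZMod 11)) := by
  haveI : Fact (Nat.Prime 11) := ⟨by norm_num⟩
  obtain ⟨hobj, -, -, ⟨t, ht, hm⟩, ⟨u, hu, hn⟩, hpow⟩ := lineData_ok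
  obtain ⟨A, hA, hAx, hAR⟩ := mem_line_of_act ht
  obtain ⟨B, hB, hBx, hBR⟩ := mem_line_of_act hu
  have htop : Subgroup.closure ({A, B} : Set (Matrix.SpecialLinearGroup (Fin 2) (ZMod 11))) = ⊤ := by
    refine Cfsg.Lib.Classical.eq_top_of_transvection_mem _ fun i j hij c => ?_
    obtain ⟨n, h01, h10⟩ := hpow c
    fin_cases i <;> fin_cases j <;> first
      | exact absurd rfl hij
      | (have e : Matrix.SpecialLinearGroup.transvection hij c = A ^ n.val := Subtype.ext (by
            rw [Matrix.SpecialLinearGroup.coe_pow, hA, hm]; exact h01)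
         rw [e]; exact Subgroup.pow_mem _ (Subgroup.subset_closure (by simp)) _)
      | (have e : Matrix.SpecialLinearGroup.transvection hij c = B ^ n.val := Subtype.ext (by
            rw [Matrix.SpecialLinearGroup.coe_pow, hB, hn]; exact h10)
         rw [e]; exact Subgroup.pow_mem _ (Subgroup.subset_closure (by simp)) _)
  have hc : Nat.card {h : Matrix.SpecialLinearGroup (Fin 2) (ZMod 11) // LineRel 1 h} =
      Nat.card (Subgroup.center (Matrix.SpecialLinearGroup (Fin 2) (ZMod 11))) :=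
    Nat.card_congr (Equiv.subtypeEquivRight lineRel_one_iff)
  obtain ⟨f, hf, hker⟩ := line_graph.exists_hom _ htop (by
    intro h hh
    simp only [Set.mem_insert_iff, Set.mem_singleton_iff] at hh
    rcases hh with rfl | rfl
    · exact ⟨_, hAx, hAR⟩
    · exact ⟨_, hBx, hBR⟩) (by
    have h := Cfsg.Lib.Classical.card_SL_mul (ι := Fin 2) (F := ZMod 11)
    rw [Matrix.card_GL_field, ZMod.card, Fin.prod_univ_two, Nat.card_zmod] at h
    rw [hc, Cfsg.Lib.Classical.card_center_SL, Fintype.card_fin, Nat.card_zmod,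
      show size cgLEleven.chain = 660 by decide +kernel]
    norm_num at h ⊢
    omega)
  have e : f.ker = Subgroup.center (Matrix.SpecialLinearGroup (Fin 2) (ZMod 11)) := by
    ext A; rw [MonoidHom.mem_ker, hker, lineRel_one_iff]
  exact ⟨(QuotientGroup.quotientKerEquivOfSurjective f hf).symm.trans (QuotientGroup.quotientMulEquivOfEq e)⟩

/-! ## The symmetric group of degree five -/

/-- The five points. -/
def fiveObj (i : Fin 5) : GolayPt := ptAt (objSymFive.getD i.val 0)

/-- The relation. -/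
def FiveRel (x : Equiv.Perm GolayPt) (π : Equiv.Perm (Fin 5)) : Prop := ∀ i, x (fiveObj i) = fiveObj (π i)

theorem fiveData_ok : (actsSymFive.all fun t => valid 24 t.1.1 && sift 24 cgSymFive.chain [t.1.1] &&
      decide (∃ π : Equiv.Perm (Fin 5), ∀ i : Fin 5, toP t.1.1 (fiveObj i) = fiveObj (π i))) = true ∧
    cgSymFive.gens.all (fun g => actsSymFive.any fun t => t.1.1 == g.1) = true ∧
    (∀ i j : Fin 5, i ≠ j → ∃ t ∈ actsSymFive, ∀ k, toP t.1.1 (fiveObj k) = fiveObj (Equiv.swap i j k)) ∧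
    (∀ i j : Fin 5, fiveObj i = fiveObj j → i = j) ∧ size cgSymFive.chain = 120 := by decide +kernel

theorem symFive_iso : Nonempty (cgSymFive.grp ≃* Equiv.Perm (Fin 5)) := by
  obtain ⟨hall, hgens, hswap, hinj, hsize⟩ := fiveData_ok
  simp only [List.all_eq_true, Bool.and_eq_true, decide_eq_true_eq, List.any_eq_true, beq_iff_eq] at hall hgens
  have d : GraphData cgSymFive FiveRel :=
    { ok := cgSymFive_ok
      one := fun i => rfl
      mul := fun {x y a b} hx hy i => by rw [Equiv.Perm.mul_apply, hy, hx]; rfl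
      gens := fun g hg => by
        obtain ⟨t, ht, e⟩ := hgens g hg
        obtain ⟨π, hπ⟩ := (hall t ht).2
        exact ⟨π, toP_congr_fst e ▸ hπ⟩ }
  have hone : ∀ π, FiveRel 1 π → π = 1 := fun π h => Equiv.ext fun i => (hinj _ _ (h i)).symm
  have hc : Nat.card {h : Equiv.Perm (Fin 5) // FiveRel 1 h} = 1 := by
    rw [Nat.card_eq_one_iff_exists]
    exact ⟨⟨1, fun i => rfl⟩, fun π => Subtype.ext (hone _ π.2)⟩
  obtain ⟨f, hf, hker⟩ := d.exists_hom _ Equiv.Perm.closure_isSwap (by
    rintro _ ⟨i, j, hij, rfl⟩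
    obtain ⟨t, ht, hk⟩ := hswap i j hij
    exact ⟨_, ⟨perm 24 t.1.1, by
      simpa using mem_grp_of_sift (CG.ok_spec cgSymFive_ok).1 (w := [t.1.1]) (by simpa using (hall t ht).1.1)
        (hall t ht).1.2, rfl⟩, hk⟩) (by
    rw [hc, hsize, Nat.card_perm, Nat.card_eq_fintype_card, Fintype.card_fin]; rfl)
  have hi : Function.Injective f := (injective_iff_map_eq_one f).mpr fun π h => hone π ((hker π).mp h)
  exact ⟨(MulEquiv.ofBijective f ⟨hi, hf⟩).symm⟩

/-! ## The centraliser of an involution -/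

/-- The eight vectors. -/
def eightLab (i : Fin 8) : Fin 2 → ZMod 3 := ![(((i.val + 1) / 3 : ℕ) : ZMod 3), (((i.val + 1) % 3 : ℕ) : ZMod 3)]

/-- The eight points. -/
def eightObj (i : Fin 8) : GolayPt := ptAt (objGLThree.getD i.val 0)

/-- The relation. -/
def EightRel (x : Equiv.Perm GolayPt) (A : GL (Fin 2) (ZMod 3)) : Prop :=
  ∀ i, ∃ j, x (eightObj i) = eightObj j ∧ A.1 *ᵥ eightLab i = eightLab j

theorem eightData_ok : (actsGLThree.all fun t => valid 24 t.1.1 && sift 24 cgGLThree.chain [t.1.1] &&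
      decide ((matTwo (m := 3) t.2).det ≠ 0) &&
      decide (∀ i : Fin 8, ∃ j : Fin 8, toP t.1.1 (eightObj i) = eightObj j ∧ matTwo t.2 *ᵥ eightLab i = eightLab j)) = true ∧
    cgGLThree.gens.all (fun g => actsGLThree.any fun t => t.1.1 == g.1) = true ∧
    (∀ i j : Fin 2, i ≠ j → ∀ c : ZMod 3, c ≠ 0 → ∃ t ∈ actsGLThree, matTwo t.2 = Matrix.transvection i j c) ∧
    (∃ t ∈ actsGLThree, matTwo (m := 3) t.2 = !![2, 0; 0, 1]) ∧
    (∀ i j : Fin 8, eightObj i = eightObj j → i = j) ∧ size cgGLThree.chain = 48 ∧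
    (∀ a : ZMod 3, a ≠ 0 → a = 1 ∨ 2 * a = 1) := by decide +kernel

set_option maxHeartbeats 1000000 in
theorem glThree_iso : Nonempty (cgGLThree.grp ≃* GL (Fin 2) (ZMod 3)) := by
  haveI : Fact (Nat.Prime 3) := ⟨Nat.prime_three⟩
  obtain ⟨hall, hgens, htr, ⟨t₀, ht₀, hdiag⟩, hinj, hsize, hdet⟩ := eightData_ok
  simp only [List.all_eq_true, Bool.and_eq_true, decide_eq_true_eq, List.any_eq_true, beq_iff_eq] at hall hgens
  have act : ∀ t ∈ actsGLThree, ∃ A : GL (Fin 2) (ZMod 3), A.1 = matTwo t.2 ∧ toP t.1.1 ∈ cgGLThree.grp ∧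
      EightRel (toP t.1.1) A := fun t ht => by
    obtain ⟨⟨⟨hv, hs⟩, hd⟩, hrel⟩ := hall t ht
    refine ⟨Matrix.GeneralLinearGroup.mkOfDetNeZero _ hd, rfl, ⟨perm 24 t.1.1, by
      simpa using mem_grp_of_sift (CG.ok_spec cgGLThree_ok).1 (w := [t.1.1]) (by simpa using hv) hs, rfl⟩, hrel⟩
  have d : GraphData cgGLThree EightRel :=
    { ok := cgGLThree_ok
      one := fun i => ⟨i, rfl, by simp⟩
      mul := fun {x y a b} hx hy i => by
        obtain ⟨j, h1, h2⟩ := hy i
        obtain ⟨l, h3, h4⟩ := hx j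
        exact ⟨l, by rw [Equiv.Perm.mul_apply, h1, h3],
          by rw [Units.val_mul, ← Matrix.mulVec_mulVec, h2, h4]⟩
      gens := fun g hg => by
        obtain ⟨t, ht, e⟩ := hgens g hg
        obtain ⟨A, -, -, hA⟩ := act t ht
        exact ⟨A, toP_congr_fst e ▸ hA⟩ }
  have hone : ∀ A, EightRel 1 A → A = 1 := fun A h => by
    refine Units.ext (Matrix.ext fun i j => ?_)
    have hfix : ∀ k, A.1 *ᵥ eightLab k = eightLab k := fun k => by
      obtain ⟨l, h1, h2⟩ := h k
      exact (hinj _ _ h1).symm ▸ h2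
    have h2 := congrFun (hfix 2) i
    have h0 := congrFun (hfix 0) i
    fin_cases i <;> fin_cases j <;> simp_all [eightLab, Matrix.mulVec, dotProduct, Fin.sum_univ_two]
  have hc : Nat.card {h : GL (Fin 2) (ZMod 3) // EightRel 1 h} = 1 := by
    rw [Nat.card_eq_one_iff_exists]
    exact ⟨⟨1, fun i => ⟨i, rfl, by simp⟩⟩, fun A => Subtype.ext (hone _ A.2)⟩
  let S : Set (GL (Fin 2) (ZMod 3)) := {A | ∃ x ∈ cgGLThree.grp, EightRel x A}
  have htop : Subgroup.closure S = ⊤ := by
    refine (Subgroup.eq_top_iff' _).mpr fun A => ?_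
    have hsl : ∀ B : Matrix.SpecialLinearGroup (Fin 2) (ZMod 3), Matrix.SpecialLinearGroup.toGL B ∈ Subgroup.closure S := by
      have h : (Subgroup.closure S).comap Matrix.SpecialLinearGroup.toGL = ⊤ := by
        refine Cfsg.Lib.Classical.eq_top_of_transvection_mem _ fun i j hij c => ?_
        by_cases hc0 : c = 0
        · have e : Matrix.SpecialLinearGroup.transvection hij c = 1 := by
            subst hc0; exact Subtype.ext (by simp [Matrix.SpecialLinearGroup.transvection_coe])
          rw [e]; exact one_mem _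
        · obtain ⟨t, ht, he⟩ := htr i j hij c hc0
          obtain ⟨B, hB, hx, hR⟩ := act t ht
          have e : Matrix.SpecialLinearGroup.toGL (Matrix.SpecialLinearGroup.transvection hij c) = B :=
            Units.ext (by rw [hB, he]; rfl)
          rw [Subgroup.mem_comap, e]
          exact Subgroup.subset_closure ⟨_, hx, hR⟩
      exact fun B => h.ge (Subgroup.mem_top B)
    obtain ⟨D, hD, hx, hR⟩ := act t₀ ht₀
    have hDS : D ∈ Subgroup.closure S := Subgroup.subset_closure ⟨_, hx, hR⟩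
    rcases hdet _ (Matrix.GeneralLinearGroup.det_ne_zero A) with h1 | h2
    · have e : Matrix.SpecialLinearGroup.toGL ⟨A.1, h1⟩ = A := Units.ext rfl
      exact e ▸ hsl _
    · have h3 : (D * A).1.det = 1 := by
        rw [Units.val_mul, Matrix.det_mul, hD, hdiag, Matrix.det_fin_two]
        simpa using h2
      have e : Matrix.SpecialLinearGroup.toGL ⟨(D * A).1, h3⟩ = D * A := Units.ext rfl
      have := Subgroup.mul_mem _ (Subgroup.inv_mem _ hDS) (e ▸ hsl ⟨(D * A).1, h3⟩ : D * A ∈ Subgroup.closure S)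
      simpa using this
  obtain ⟨f, hf, hker⟩ := d.exists_hom S htop (fun A hA => hA) (by
    rw [hc, hsize, Matrix.card_GL_field, ZMod.card, Fin.prod_univ_two]; norm_num)
  have hi : Function.Injective f := (injective_iff_map_eq_one f).mpr fun A h => hone A ((hker A).mp h)
  exact ⟨(MulEquiv.ofBijective f ⟨hi, hf⟩).symm⟩

/-! ## One class of involutions -/

theorem certsM11Inv_ok : ((certsM11Inv.all fun h => preserves h && img h 340831 == 340831 && ap h.1 0 == 0) &&
    syl2List.all (fun a => (List.range 24).all (fun i => ap a.1 i == i) ||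
      !((List.range 24).all fun i => ap a.1 (ap a.1 i) == i) || certsM11Inv.any fun h => conjBy [a] h elM11Inv.1)) =
      true := by decide +kernel

theorem m11_involution_conj {t : Equiv.Perm GolayPt} (ht : t ∈ Spor.M11) (h2 : orderOf t = 2) :
    ∃ g ∈ Spor.M11, g * toP elM11Inv.1 * g⁻¹ = t := by
  haveI : Fact (Nat.Prime 2) := ⟨Nat.prime_two⟩
  have hs := syl_ok.1
  simp only [sylOK, Bool.and_eq_true, List.all_eq_true, beq_iff_eq] at hs
  obtain ⟨hgrp, hall⟩ := hs
  obtain ⟨P₀, hP₀, hmem⟩ := exists_listGroup hgrp (by rw [← List.length_pos_iff, syl_ok.2.2.1]; norm_num)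
  have hle : P₀ ≤ Spor.M11 := fun x hx => by
    obtain ⟨a, ha, rfl⟩ := (hmem x).mp hx
    obtain ⟨⟨⟨h1, h2'⟩, h3⟩, -⟩ := hall a ha
    exact m11_mem h1 h2' h3
  let P : Sylow 2 Spor.M11 := Sylow.ofCard (P₀.subgroupOf Spor.M11) (by
    rw [Nat.card_congr (Subgroup.subgroupOfEquivOfLe hle).toEquiv, hP₀, syl_ok.2.2.1, card_M11,
      factorization_eq Nat.prime_two (by norm_num) (show 2 ^ 4 ∣ 7920 by norm_num) (by norm_num)]
    norm_num)
  have hpg : IsPGroup 2 (Subgroup.zpowers (⟨t, ht⟩ : Spor.M11)) := IsPGroup.of_card (n := 1) (by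
    rw [Nat.card_zpowers, ← Subgroup.orderOf_coe, pow_one]; exact h2)
  obtain ⟨Q, hQ⟩ := hpg.exists_le_sylow
  obtain ⟨g, hg⟩ := exists_smul_eq Spor.M11 P Q
  have hm : (⟨t, ht⟩ : Spor.M11) ∈ (g • P : Sylow 2 Spor.M11) := hg ▸ hQ (Subgroup.mem_zpowers _)
  obtain ⟨u, hu, hgu⟩ := hm
  have hgu : (g : Equiv.Perm GolayPt) * u * (g : Equiv.Perm GolayPt)⁻¹ = t := congrArg Subtype.val hgu
  obtain ⟨a, ha, hau⟩ := (hmem _).mp (Subgroup.mem_subgroupOf.mp hu)
  have hva : valid 24 a = true := by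
    have := (hall a ha).1.1.1
    simp only [preserves, Bool.and_eq_true] at this; exact this.1
  have hc := certsM11Inv_ok
  simp only [Bool.and_eq_true, List.all_eq_true, Bool.or_eq_true, List.any_eq_true, Bool.not_eq_true', beq_iff_eq] at hc
  have hne1 : toP a ≠ 1 := by
    intro e
    rw [← hau, e, mul_one, mul_inv_cancel] at hgu
    rw [← hgu, orderOf_one] at h2
    omega
  have hsq : toP a * toP a = 1 := by
    have ht2 : t * t = 1 := by rw [← pow_two, ← h2, pow_orderOf_eq_one]
    rw [← hgu, ← hau] at ht2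
    have : (g : Equiv.Perm GolayPt) * (toP a * toP a) * (g : Equiv.Perm GolayPt)⁻¹ = 1 := by
      rw [← ht2]; group
    exact conj_eq_one_iff.mp this
  rcases hc.2 a ha with (h1 | h1) | ⟨h, hh, hconj⟩
  · refine absurd (Equiv.ext fun p => pidx_injective ?_) hne1
    rw [pidx_toP hva]; exact h1 _ (List.mem_range.mpr (pidx_lt p))
  · exfalso
    apply Bool.eq_false_iff.mp h1
    simp only [List.all_eq_true, List.mem_range, beq_iff_eq]
    intro i hi
    have e := congrArg (fun p : Equiv.Perm GolayPt => pidx (p (ptAt i))) hsq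
    simp only [Equiv.Perm.mul_apply, Equiv.Perm.one_apply, pidx_toP hva] at e
    have ei : pidx (ptAt i) = i := pidx_ptAt ⟨i, hi⟩
    rwa [ei] at e
  · obtain ⟨⟨hp, hd⟩, h0⟩ := hc.1 h hh
    have hm' : toP h ∈ Spor.M11 := m11_mem hp hd h0
    have hvh : valid 24 h = true := by simp only [preserves, Bool.and_eq_true] at hp; exact hp.1
    refine ⟨g * toP h, mul_mem g.2 hm', ?_⟩
    simp only [conjBy, List.all_eq_true, List.mem_range, beq_iff_eq] at hconj
    have key : toP a = toP h * toP elM11Inv.1 * (toP h)⁻¹ := by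
      rw [eq_mul_inv_iff_mul_eq]
      refine Equiv.ext fun p => pidx_injective ?_
      have := hconj _ (pidx_lt p)
      simp only [evalWord, List.foldr] at this
      rw [Equiv.Perm.mul_apply, Equiv.Perm.mul_apply, pidx_toP hva, pidx_toP hvh, pidx_toP hvh,
        pidx_toP (valid_of_fvalid elM11Inv_valid)]
      exact this
    rw [← hgu, ← hau, key]; group

end Cfsg.Lib.Golay
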