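import Cfsg.Agent.Golay.SmallIso

/-!
Moving a dodecad, a point of it and two points outside to standard position.
-/

set_option autoImplicit false

namespace Cfsg.Lib.Golay

open Cfsg Cfsg.Lib.PermCert MulAction
open scoped Pointwise

theorem exists_small_config {d : Finset GolayPt} (hd : d ∈ dodecads) {p a b : GolayPt} (hp : p ∈ d) (ha : a ∉ d)
    (hb : b ∉ d) (hab : a ≠ b) : ∃ g : M24, g • d = pts 340831 ∧ g • p = ptAt 0 ∧ g • a = ptAt posOut ∧
      g • ({a, b} : Finset GolayPt) = pts pairOut := by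
  obtain ⟨g, hgd, hgp⟩ := exists_dodecad_config hd hp
  have hd0 : pts 340831 ∈ dodecads := hgd ▸ smul_mem_dodecads g.2 hd
  have hout : ∀ z, z ∉ d → g • z ∉ pts 340831 := fun z hz h => hz (by
    rw [← hgd] at h
    exact (Finset.smul_mem_smul_finset_iff g).mp h)
  have hne : g • a ≠ g • b := fun e => hab (MulAction.injective g e)
  have facts : ptAt posOut ∉ pts 340831 ∧ (∃ w, w ≠ ptAt posOut ∧ w ∉ pts 340831 ∧ ({ptAt posOut, w} : Finset GolayPt) = pts pairOut) ∧
      ptAt 0 ∈ pts 340831 := by decide +kernel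
  obtain ⟨ho, ⟨w, hwne, hw, hpair⟩, h0⟩ := facts
  have third : ∀ u v : GolayPt, ∃ r, r ∉ pts 340831 ∧ r ≠ u ∧ r ≠ v := by
    intro u v
    by_contra hcon
    push Not at hcon
    have h : (pts 340831)ᶜ ⊆ ({u, v} : Finset GolayPt) := fun r hr => by
      by_cases hu : r = u
      · simp [hu]
      · simp [hcon r (Finset.mem_compl.mp hr) hu]
    have h1 := Finset.card_le_card h
    have h2 : ({u, v} : Finset GolayPt).card ≤ 2 := Finset.card_le_two
    have h3 : (pts 340831)ᶜ.card = 12 := by decide +kernel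
    omega
  obtain ⟨r, hr, hra, hrb⟩ := third (g • a) (g • b)
  obtain ⟨s, hs, hso, hsw⟩ := third (ptAt posOut) w
  let x : Fin 3 ↪ GolayPt := ⟨![g • a, g • b, r], by
    intro i j; fin_cases i <;> fin_cases j <;> simp [hne, hne.symm, hra, hra.symm, hrb, hrb.symm]⟩
  let y : Fin 3 ↪ GolayPt := ⟨![ptAt posOut, w, s], by
    intro i j; fin_cases i <;> fin_cases j <;> simp [hwne, hwne.symm, hso, hso.symm, hsw, hsw.symm]⟩
  obtain ⟨k, hk, hkx⟩ := s0389 (pts 340831) hd0 (ptAt 0) h0 x y
    (by intro i; fin_cases i <;> first | exact hout a ha | exact hout b hb | exact hr)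
    (by intro i; fin_cases i <;> first | exact ho | exact hw | exact hs)
  rw [Subgroup.mem_inf, mem_stabilizer_iff, mem_stabilizer_iff] at hk
  have ka : k • g • a = ptAt posOut := hkx 0
  have kb : k • g • b = w := hkx 1
  refine ⟨k * g, by rw [mul_smul, hgd, hk.1], by rw [mul_smul, hgp, hk.2], by rw [mul_smul, ka], ?_⟩
  rw [mul_smul, Finset.smul_finset_insert, Finset.smul_finset_singleton, Finset.smul_finset_insert,
    Finset.smul_finset_singleton, ka, kb, hpair]

theorem stdEleven_mem {k : M24} :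
    (k : Equiv.Perm GolayPt) ∈ stdEleven ↔
      k ∈ stabilizer M24 (pts 340831) ⊓ stabilizer M24 (ptAt 0) := by
  simp only [stdEleven, Subgroup.mem_inf, mem_stabilizer_iff]
  exact ⟨fun h => ⟨h.1.2, h.2⟩, fun h => ⟨⟨k.2, h.1⟩, h.2⟩⟩

end Cfsg.Lib.Golay
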