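import Cfsg.Agent.Golay.StabData

/-!
The stabilisers of standard objects in the automorphism group of the code.
-/

namespace Cfsg.Lib.Golay

open Cfsg Cfsg.Lib.PermCert MulAction
open scoped Pointwise

theorem cgM24_ok : cgM24.ok = true := by decide +kernel
theorem cgOct_ok : cgOct.ok = true := by decide +kernel
theorem cgTrio_ok : cgTrio.ok = true := by decide +kernel
theorem cgSext_ok : cgSext.ok = true := by decide +kernel
theorem cgDod_ok : cgDod.ok = true := by decide +kernel
theorem cgDodPair_ok : cgDodPair.ok = true := by decide +kernel
theorem cgDuo_ok : cgDuo.ok = true := by decide +kernel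
theorem cgTri_ok : cgTri.ok = true := by decide +kernel
theorem orbOct_ok : closedOK setCoding.act cgM24.gens codeOct orbOct = true := by decide +kernel
theorem orbTrio_ok : closedOK famCoding.act cgM24.gens codeTrio orbTrio = true := by decide +kernel
theorem orbSext_ok : closedOK famCoding.act cgM24.gens codeSext orbSext = true := by decide +kernel
theorem orbDod_ok : closedOK setCoding.act cgM24.gens codeDod orbDod = true := by decide +kernel
theorem orbDodPair_ok : closedOK famCoding.act cgM24.gens codeDodPair orbDodPair = true := by decide +kernel
theorem orbDuo_ok : closedOK setCoding.act cgM24.gens codeDuo orbDuo = true := by decide +kernel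
theorem orbTri_ok : closedOK setCoding.act cgM24.gens codeTri orbTri = true := by decide +kernel

theorem grp_cgM24 : cgM24.grp = M24 := grp_eq_M24 cgM24_ok (by decide +kernel) (by decide +kernel)

end Cfsg.Lib.Golay
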