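import Cfsg.Agent.Golay.Steiner4723
import Cfsg.Agent.Golay.HexUnique

/-!
Steiner systems with parameters (3, 6, 22): extension by two points.
-/

namespace Cfsg.Lib.Golay

open Cfsg Cfsg.Lib.Steiner Cfsg.Lib.PermCert MulAction Finset
open scoped Pointwise

variable {α : Type*} [DecidableEq α] [Fintype α] {B : Set (Finset α)}

/-- A block extended by two points. -/
def ins2 (b : Finset α) : Finset (Option (Option α)) := insertNone (insertNone b)

/-- The blocks extended by two points. -/
def ext2B (B : Set (Finset α)) : Set (Finset (Option (Option α))) := ins2 '' B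

theorem inter_s3622 (hα : Fintype.card α = 22) (hB : IsSteinerSystem 3 6 B) {b c : Finset α} (hb : b ∈ B)
    (hc : c ∈ B) (hbc : b ≠ c) : (b ∩ c).card = 0 ∨ (b ∩ c).card = 2 := by
  obtain ⟨-, e1, -⟩ := meet_s3622 hα hB hb
  have := meetCount_eq_zero hc hbc.symm e1
  have : (b ∩ c).card < 3 := by
    by_contra h; exact hbc (eq_of_le_inter hB hb hc (by omega))
  omega

theorem card_ins2 (b : Finset α) : (ins2 b).card = b.card + 2 := by
  rw [ins2, card_insertNone, card_insertNone]

theorem evenBlocks_3622 (hα : Fintype.card α = 22) (hB : IsSteinerSystem 3 6 B) : IsEvenBlocks (ext2B B) := by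
  refine ⟨?_, ?_, fun s hs hall => ?_⟩
  · rintro _ ⟨b, hb, rfl⟩
    rw [card_ins2, hB.1 b hb]; norm_num
  · rintro _ ⟨b, hb, rfl⟩ _ ⟨c, hc, rfl⟩
    rw [ins2, ins2, inter_insertNone, inter_insertNone, card_insertNone, card_insertNone]
    by_cases hbc : b = c
    · rw [hbc, inter_self, hB.1 c hc]; decide
    · rcases inter_s3622 hα hB hb hc hbc with e | e <;> rw [e] <;> decide
  · set t := eraseNone (eraseNone s) with ht
    set d : ℕ := (if none ∈ s then 1 else 0) + (if some none ∈ s then 1 else 0) with hd
    have hsplit : ∀ b : Finset α, (ins2 b ∩ s).card = (b ∩ t).card + d := by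
      intro b
      rw [inter_comm (ins2 b) s, card_filter_eq_sum_ones (ins2 b) s, hd]
      rw [inter_comm b t, card_filter_eq_sum_ones b t]
      simp only [ins2, mem_insertNone, Fintype.sum_option, ht, mem_eraseNone]
      split <;> split <;> simp_all <;> omega
    have htc : t.card + d = 4 := by
      have h := hsplit univ
      rwa [show ins2 (univ : Finset α) = univ by ext x; rcases x with _ | _ | x <;> simp [ins2],
        univ_inter, univ_inter, hs, eq_comm] at h
    have hd2 : d ≤ 2 := by simp only [hd]; split <;> split <;> omega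
    have hev : ∀ b ∈ B, Even ((b ∩ t).card + d) := fun b hb => hsplit b ▸ hall _ ⟨b, hb, rfl⟩
    obtain ⟨a, ha⟩ := card_pos.mp (by omega : 0 < t.card)
    -- three points of, or around, `t`; the block through them contains `t`
    obtain ⟨T, hTt, hTc, htT⟩ : ∃ T : Finset α, t.card - 1 ≤ (T ∩ t).card ∧ T.card = 3 ∧
        ∀ b ∈ B, T ⊆ b → t ⊆ b := by
      by_cases h4 : t.card = 4
      · refine ⟨t.erase a, ?_, by rw [card_erase_of_mem ha, h4], fun b hb hsub => ?_⟩
        · rw [inter_eq_left.mpr (erase_subset a t), card_erase_of_mem ha]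
        · obtain ⟨r, hr⟩ := hev b hb
          have h1 := card_le_card (show t.erase a ⊆ b ∩ t from
            fun x hx => mem_inter.mpr ⟨hsub hx, mem_of_mem_erase hx⟩)
          have h2 := card_le_card (inter_subset_right (s₁ := b) (s₂ := t))
          rw [card_erase_of_mem ha] at h1
          exact inter_eq_right.mp (eq_of_subset_of_card_le inter_subset_right (by omega))
      · obtain ⟨T, htT, hT⟩ := exists_superset_card_eq (s := t) (n := 3) (by omega) (by omega)
        exact ⟨T, by rw [inter_eq_right.mpr htT]; omega, hT, fun b _ hsub => htT.trans hsub⟩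
    obtain ⟨b, ⟨hb, hTb⟩, -⟩ := hB.2 T hTc
    have htb := htT b hb hTb
    obtain ⟨z, -, hz⟩ := exists_mem_notMem_of_card_lt_card (s := b) (t := univ)
      (by rw [card_univ, hα, hB.1 b hb]; norm_num)
    obtain ⟨q, hq, hqt⟩ := exists_mem_notMem_of_card_lt_card (s := t) (t := b) (by rw [hB.1 b hb]; omega)
    have haq : a ≠ q := fun e => hqt (e ▸ ha)
    obtain ⟨c, ⟨hc, hsub⟩, -⟩ := hB.2 {a, q, z} (by
      rw [card_insert_of_notMem, card_pair]
      · exact fun e => hz (e ▸ hq)
      · simp only [mem_insert, mem_singleton, not_or]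
        exact ⟨haq, fun e => hz (e ▸ htb ha)⟩)
    have hcb : c ≠ b := fun e => hz (e ▸ hsub (by simp))
    have hinter : b ∩ c = {a, q} := by
      refine (eq_of_subset_of_card_le (fun x hx => ?_) ?_).symm
      · refine mem_inter.mpr ⟨?_, hsub ?_⟩ <;>
          (rcases mem_insert.mp hx with rfl | hx)
        · exact htb ha
        · exact (mem_singleton.mp hx) ▸ hq
        · simp
        · simp [mem_singleton.mp hx]
      · rw [card_pair haq]
        rcases inter_s3622 hα hB hb hc (Ne.symm hcb) with e | e <;> omega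
    have h1 : c ∩ t = {a} := by
      ext x
      simp only [mem_inter, mem_singleton]
      constructor
      · rintro ⟨hxc, hxt⟩
        have : x ∈ ({a, q} : Finset α) := hinter ▸ mem_inter.mpr ⟨htb hxt, hxc⟩
        rcases mem_insert.mp this with h | h
        · exact h
        · exact absurd (mem_singleton.mp h ▸ hxt) hqt
      · rintro rfl; exact ⟨hsub (by simp), ha⟩
    have hevc := hev c hc
    rw [h1, card_singleton] at hevc
    have hevb := hev b hb
    rw [inter_eq_right.mpr htb, htc] at hevb
    -- parity of `d`: the counts `|c ∩ t| + d = 1 + d` and, for a block off `t`, `d`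
    obtain ⟨y, hy, hyt⟩ : ∃ y ∈ b, y ≠ q ∧ y ∉ t := by
      obtain ⟨y, hy, hyt⟩ := exists_mem_notMem_of_card_lt_card (s := insert q t) (t := b)
        (by rw [card_insert_of_notMem hqt, hB.1 b hb]; omega)
      simp only [mem_insert, not_or] at hyt
      exact ⟨y, hy, hyt⟩
    obtain ⟨c', ⟨hc', hsub'⟩, -⟩ := hB.2 {y, q, z} (by
      rw [card_insert_of_notMem, card_pair]
      · exact fun e => hz (e ▸ hq)
      · simp only [mem_insert, mem_singleton, not_or]
        exact ⟨hyt.1, fun e => hz (e ▸ hy)⟩)
    have hcb' : b ≠ c' := fun e => hz (e ▸ hsub' (by simp))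
    have hinter' : b ∩ c' = {y, q} := by
      refine (eq_of_subset_of_card_le (fun x hx => ?_) ?_).symm
      · refine mem_inter.mpr ⟨?_, hsub' ?_⟩ <;>
          (rcases mem_insert.mp hx with rfl | hx)
        · exact hy
        · exact (mem_singleton.mp hx) ▸ hq
        · simp
        · simp [mem_singleton.mp hx]
      · rw [card_pair hyt.1]
        rcases inter_s3622 hα hB hb hc' hcb' with e | e <;> omega
    have h0 : c' ∩ t = ∅ := by
      refine eq_empty_of_forall_notMem fun x hx => ?_
      obtain ⟨hxc, hxt⟩ := mem_inter.mp hx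
      have : x ∈ ({y, q} : Finset α) := hinter' ▸ mem_inter.mpr ⟨htb hxt, hxc⟩
      rcases mem_insert.mp this with h | h
      · exact hyt.2 (h ▸ hxt)
      · exact hqt (mem_singleton.mp h ▸ hxt)
    have hev' := hev c' hc'
    rw [h0, card_empty] at hev'
    rw [Nat.even_iff] at hev' hevc
    omega
where
  card_filter_eq_sum_ones {β : Type _} [Fintype β] [DecidableEq β] (u s : Finset β) :
      (s ∩ u).card = ∑ x : β, (if x ∈ u ∧ x ∈ s then 1 else 0) := by
    rw [← card_filter]; congr 1; ext x; simp [and_comm]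

theorem exists_equiv_3622 (hα : Fintype.card α = 22) (hB : IsSteinerSystem 3 6 B) :
    ∃ e : Option (Option α) ≃ GolayPt, e none = none ∧ e (some none) = some 0 ∧
      ∀ b : Finset α, (ins2 b).image e ∈ octads ↔ b ∈ B := by
  obtain ⟨e₁⟩ : Nonempty (Option (Option α) ≃ GolayPt) :=
    ⟨Fintype.equivOfCardEq (by rw [Fintype.card_option, Fintype.card_option, hα, Fintype.card_option, ZMod.card])⟩
  obtain ⟨g, hg0, hg1⟩ := exists_smul_eq_pair (p := e₁ none) (q := e₁ (some none))
    (fun e => by simpa using e₁.injective e) (p' := none) (q' := some 0) (by simp)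
  set e₀ := e₁.trans (g : Equiv.Perm GolayPt) with he₀
  have h00 : e₀ none = none := hg0
  have h01 : e₀ (some none) = some 0 := hg1
  have hU : ∀ (b : Finset α), hexU ⊆ (ins2 b).image e₀ := by
    intro b p hp
    simp only [hexU, mem_insert, mem_singleton] at hp
    rcases hp with rfl | rfl
    · exact mem_image.mpr ⟨none, none_mem_insertNone, h00⟩
    · exact mem_image.mpr ⟨some none, some_mem_insertNone.mpr none_mem_insertNone, h01⟩
  have hfive : FiveOver [8388609] ((fun s => s.image e₀) '' spanFam (ext2B B)) := by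
    intro F hF hex
    have hFU : hexU ⊆ F := pts_hexMask ▸ hex _ (by simp)
    set F' := F.image e₀.symm with hF'
    have hn : none ∈ F' := mem_image.mpr ⟨none, hFU (by simp [hexU]), e₀.symm_apply_eq.mpr h00.symm⟩
    have hn1 : some none ∈ F' := mem_image.mpr ⟨some 0, hFU (by simp [hexU]), e₀.symm_apply_eq.mpr h01.symm⟩
    have hrec : ins2 (eraseNone (eraseNone F')) = F' := by
      rw [ins2, insertNone_eraseNone, Finset.insert_eq_of_mem (mem_eraseNone.mpr hn1), insertNone_eraseNone,
        Finset.insert_eq_of_mem hn]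
    have hc : (eraseNone (eraseNone F')).card = 3 := by
      have := congrArg card hrec
      rw [card_ins2] at this
      have h5 : F'.card = 5 := by rw [hF', card_image_of_injective _ e₀.symm.injective, hF]
      omega
    obtain ⟨b, ⟨hb, hsub⟩, -⟩ := hB.2 _ hc
    refine ⟨(ins2 b).image e₀, ⟨ins2 b, subset_spanFam ⟨b, hb, rfl⟩, rfl⟩, ?_, ?_⟩
    · rw [← image_image_symm e₀ F, ← hF', ← hrec]
      exact image_subset_image (OrderEmbedding.monotone _ (OrderEmbedding.monotone _ hsub))
    · rw [card_image_of_injective _ e₀.injective, card_ins2, hB.1 b hb]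
  obtain ⟨σ, hσU, hσ⟩ := hex_unique ((evenBlocks_3622 hα hB).isEvenFamily.image e₀) hfive
  have hpair : σ • (none : GolayPt) ≠ σ • (some 0 : GolayPt) := fun e => by simpa using σ.injective e
  obtain ⟨k, hk0, hk1⟩ := exists_smul_eq_pair hpair (p' := (none : GolayPt)) (q' := some 0) (by simp)
  set e := e₀.trans (σ.trans (k : Equiv.Perm GolayPt)) with he
  have hmap : ∀ b ∈ B, (ins2 b).image e ∈ octads := by
    intro b hb
    have h8 : ((ins2 b).image e₀).card = 8 := by
      rw [card_image_of_injective _ e₀.injective, card_ins2, hB.1 b hb]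
    have h := hσ _ ⟨_, subset_spanFam ⟨b, hb, rfl⟩, rfl⟩ h8 (hU b)
    have hkey : (ins2 b).image e = (k : Equiv.Perm GolayPt) • σ • (ins2 b).image e₀ := by
      rw [smul_eq_image, smul_eq_image, image_image, image_image]; rfl
    rw [hkey]
    exact smul_mem_octads k.2 ⟨h, by rw [card_smul_finset]; exact h8⟩
  have he0 : e none = none := by
    show (k : Equiv.Perm GolayPt) (σ (e₀ none)) = none
    rw [h00]; exact hk0
  have he1 : e (some none) = some 0 := by
    show (k : Equiv.Perm GolayPt) (σ (e₀ (some none))) = some 0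
    rw [h01]; exact hk1
  refine ⟨e, he0, he1, fun b => ⟨fun h => ?_, hmap b⟩⟩
  have hcard : b.card = 6 := by
    have := h.2
    rw [card_image_of_injective _ e.injective, card_ins2] at this
    omega
  obtain ⟨F, hFb, hF⟩ := exists_subset_card_eq (s := b) (n := 3) (by omega)
  obtain ⟨c, ⟨hc, hFc⟩, -⟩ := hB.2 F hF
  have hFe : ((ins2 F).image e).card = 5 := by rw [card_image_of_injective _ e.injective, card_ins2, hF]
  have := (octads_steiner.2 _ hFe).unique
    ⟨h, image_subset_image (OrderEmbedding.monotone _ (OrderEmbedding.monotone _ hFb))⟩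
    ⟨hmap c hc, image_subset_image (OrderEmbedding.monotone _ (OrderEmbedding.monotone _ hFc))⟩
  have h2 := insertNone.injective (insertNone.injective (image_injective e.injective this))
  exact h2 ▸ hc

theorem setSystemIso_3622 {β : Type*} [DecidableEq β] [Fintype β] {B' : Set (Finset β)}
    (hα : Fintype.card α = 22) (hβ : Fintype.card β = 22)
    (hB : IsSteinerSystem 3 6 B) (hB' : IsSteinerSystem 3 6 B') : SetSystemIso B B' := by
  obtain ⟨e, hn, hn1, he⟩ := exists_equiv_3622 hα hB
  obtain ⟨e', hn', hn1', he'⟩ := exists_equiv_3622 hβ hB'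
  set f := e.trans e'.symm with hf
  have h0 : f none = none := by rw [hf, Equiv.trans_apply, hn, ← hn', Equiv.symm_apply_apply]
  have h1 : Equiv.removeNone f none = none := by
    have : f (some none) = some none := by rw [hf, Equiv.trans_apply, hn1, ← hn1', Equiv.symm_apply_apply]
    have h := Equiv.removeNone_some f ⟨none, this⟩
    rw [this] at h
    exact Option.some.inj h
  refine setSystemIso_of_equivs (Equiv.removeNone (Equiv.removeNone f)) fun b => ?_
  rw [← he' _, ← he b, ins2, ← image_optionCongr, optionCongr_removeNone _ h1, ← image_optionCongr,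
    optionCongr_removeNone _ h0, hf, Equiv.coe_trans, ← Finset.image_image, image_image_symm, ins2]

theorem golay_even_family : IsEvenFamily (supports (golayCode : Set (GolayPt → ZMod 2))) :=
  isEvenFamily_supports (fun _ hv _ hw => golayCode_orthogonal hv hw) fun w hw hne => by
    have h := card_support_mem (support₂_mem_supports.mpr hw)
    rw [← hammingNorm_eq] at h
    have : hammingNorm w ≠ 0 := fun h0 => hne (hammingNorm_eq_zero.mp h0)
    omega

/-- The exchange of the two fixed points. -/
def hexSwap : Equiv.Perm GolayPt := Equiv.swap none (some 0)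

theorem hexSwap_notMem : hexSwap ∉ M24 := by
  intro h
  obtain ⟨g, hg0, hg1⟩ := exists_smul_eq_pair (p := (none : GolayPt)) (q := some 0) (by simp)
    (p' := ptAt 20) (q' := ptAt 21) (by decide)
  have hc : (g : Equiv.Perm GolayPt) * hexSwap * (g : Equiv.Perm GolayPt)⁻¹ ∈ M24 :=
    mul_mem (mul_mem g.2 h) (inv_mem g.2)
  have hswap : (g : Equiv.Perm GolayPt) * hexSwap * (g : Equiv.Perm GolayPt)⁻¹ = Equiv.swap (ptAt 20) (ptAt 21) := by
    rw [hexSwap, ← Equiv.swap_apply_apply]
    congr 1
  rw [hswap] at hc
  have := eq_one_of_fix hc (by decide)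
  have h2 := congrArg (fun p : Equiv.Perm GolayPt => p (ptAt 20)) this
  simp only [Equiv.swap_apply_left, Equiv.Perm.one_apply] at h2
  exact absurd h2 (by decide)

/-- A permutation fixing the two points and preserving the octads through them lies in `M24`, possibly after
exchanging the two points. -/
theorem hex_perm_mem {g : Equiv.Perm GolayPt} (h0 : g none = none) (h1 : g (some 0) = some 0)
    (hoct : ∀ o ∈ octads, hexU ⊆ o → g • o ∈ octads ∧ g⁻¹ • o ∈ octads) :
    g ∈ M24 ∨ hexSwap * g ∈ M24 := by
  obtain ⟨-, -, hr0, hodd, hW, hrows, -⟩ := hex_facts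
  have hgU : g • hexU = hexU := by simp [hexU, smul_eq_image, h0, h1]
  have hr0c : pts hexExtraRow ∈ supports (golayCode : Set (GolayPt → ZMod 2)) := by
    have hp : pts hexExtraRow = support₂ (wd hexExtraRow) := by
      ext p; simp [mem_support₂, wd, mem_pts]
    rw [hp, support₂_mem_supports, SetLike.mem_coe, golayCode_eq_span_rows]
    exact Submodule.subset_span ⟨_, hr0, rfl⟩
  have hX : ∀ w ∈ hexWords, Even (pts w ∩ g • pts hexExtraRow).card := by
    intro w hw
    rw [← smul_inv_smul g (pts w), ← smul_finset_inter, card_smul_finset]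
    exact golay_even_family.even _ (hoct _ (hW w hw).2 (hW w hw).1).2.1 _ hr0c
  have hgen : ∀ k : Equiv.Perm GolayPt, k • pts hexExtraRow ∈ supports (golayCode : Set (GolayPt → ZMod 2)) →
      (∀ w ∈ hexWords, k • pts w ∈ supports (golayCode : Set (GolayPt → ZMod 2))) → k ∈ M24 := by
    intro k hk0 hk
    refine mem_M24_of_rows k fun r hr => ?_
    rw [← mem_supports_iff, ← Set.mem_inv_smul_set_iff]
    rw [← hrows] at hr
    obtain ⟨i, -, rfl⟩ := List.mem_map.mp hr
    refine pts_sel_mem (golay_even_family.smul k⁻¹) _ i fun x hx => ?_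
    rw [Set.mem_inv_smul_set_iff]
    rcases List.mem_cons.mp hx with rfl | hx
    · exact hk0
    · exact hk x hx
  rcases hex_dichotomy hX with h | h
  · exact Or.inl (hgen g h fun w hw => (hoct _ (hW w hw).2 (hW w hw).1).1.1)
  · refine Or.inr (hgen _ ?_ fun w hw => ?_)
    · have hone : (g • pts hexExtraRow ∩ hexU).card = 1 := by
        rw [← hgU, ← smul_finset_inter, card_smul_finset, hodd]
      obtain ⟨u, hu⟩ := card_eq_one.mp hone
      rw [mul_smul]
      convert h using 1
      generalize g • pts hexExtraRow = X at hu ⊢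
      ext p
      rw [smul_eq_image, mem_image, mem_symmDiff]
      have hXn : none ∈ X ↔ (some 0 : GolayPt) ∉ X := by
        have hu' := congrArg card hu
        rw [card_singleton, hexU] at hu'
        by_cases a : none ∈ X <;> by_cases b : (some 0 : GolayPt) ∈ X <;>
          simp_all [inter_insert_of_mem, inter_insert_of_notMem]
      constructor
      · rintro ⟨q, hq, rfl⟩
        simp only [hexSwap, hexU, mem_insert, mem_singleton, Equiv.swap_apply_def]
        split_ifs with a b <;> simp_all
      · intro hp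
        refine ⟨hexSwap p, ?_, by simp [hexSwap]⟩
        simp only [hexSwap, hexU, mem_insert, mem_singleton, Equiv.swap_apply_def] at hp ⊢
        split_ifs with a b <;> simp_all
    · have hfix : hexSwap • g • pts w = g • pts w := by
        have hsub : hexU ⊆ g • pts w := hgU ▸ smul_finset_subset_smul_finset (hW w hw).1
        generalize g • pts w = Y at hsub ⊢
        have a : none ∈ Y := hsub (by simp [hexU])
        have b : (some 0 : GolayPt) ∈ Y := hsub (by simp [hexU])
        refine eq_of_subset_of_card_le (fun p hp => ?_) (by rw [card_smul_finset])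
        rw [smul_eq_image, mem_image] at hp
        obtain ⟨q, hq, rfl⟩ := hp
        simp only [hexSwap, Equiv.swap_apply_def]
        split_ifs <;> simp_all
      rw [mul_smul, hfix]
      exact (hoct _ (hW w hw).2 (hW w hw).1).1.1

/-- Extension by two fixed points, relabelled. -/
noncomputable def ext2Hom (e : Option (Option α) ≃ GolayPt) : Equiv.Perm α →* Equiv.Perm GolayPt where
  toFun σ := e.permCongr (Equiv.optionCongr (Equiv.optionCongr σ))
  map_one' := by ext; simp
  map_mul' σ τ := by
    refine Equiv.ext fun x => ?_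
    simp only [Equiv.permCongr_apply, Equiv.Perm.mul_apply, Equiv.symm_apply_apply, Equiv.optionCongr_apply,
      Option.map_map]
    rcases e.symm x with _ | _ | a <;> rfl

theorem aut_3622 (hα : Fintype.card α = 22) (hB : IsSteinerSystem 3 6 B) :
    Nat.card (setSystemAut B) = 887040 ∧ IsMultiplyPretransitive (setSystemAut B) α 3 ∧
      ∃ H : Subgroup (setSystemAut B), H.index = 2 ∧ IsM22 H := by
  obtain ⟨e, hn, hn1, he⟩ := exists_equiv_3622 hα hB
  have hs0 : e.symm none = none := by rw [Equiv.symm_apply_eq, hn]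
  have hs1 : e.symm (some 0) = some none := by rw [Equiv.symm_apply_eq, hn1]
  have hfix : ∀ σ, ext2Hom e σ none = none ∧ ext2Hom e σ (some 0) = some 0 := fun σ =>
    ⟨by simp [ext2Hom, hs0, hn], by simp [ext2Hom, hs1, hn1]⟩
  have himg : ∀ (σ : Equiv.Perm α) (b : Finset α), ext2Hom e σ • (ins2 b).image e = (ins2 (σ • b)).image e := by
    intro σ b
    rw [smul_eq_image σ, ins2, ins2, ← image_optionCongr, ← image_optionCongr]
    exact permCongr_smul_image e _ _
  have hrange : ∀ g : Equiv.Perm GolayPt, g none = none → g (some 0) = some 0 → ∃ σ, ext2Hom e σ = g := by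
    intro g g0 g1
    refine ⟨Equiv.removeNone (Equiv.removeNone (e.symm.permCongr g)), ?_⟩
    have a : e.symm.permCongr g none = none := by rw [Equiv.permCongr_apply, Equiv.symm_symm, hn, g0, hs0]
    have b : Equiv.removeNone (e.symm.permCongr g) none = none := by
      have : e.symm.permCongr g (some none) = some none := by
        rw [Equiv.permCongr_apply, Equiv.symm_symm, hn1, g1, hs1]
      have h := Equiv.removeNone_some (e.symm.permCongr g) ⟨none, this⟩
      rw [this] at h
      exact Option.some.inj h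
    show e.permCongr _ = g
    rw [optionCongr_removeNone _ b, optionCongr_removeNone _ a]
    ext; simp
  have hUsub : ∀ b : Finset α, hexU ⊆ (ins2 b).image e := by
    intro b p hp
    simp only [hexU, mem_insert, mem_singleton] at hp
    rcases hp with rfl | rfl
    · exact mem_image.mpr ⟨none, none_mem_insertNone, hn⟩
    · exact mem_image.mpr ⟨some none, some_mem_insertNone.mpr none_mem_insertNone, hn1⟩
  have hpre : ∀ o ∈ octads, hexU ⊆ o → ∃ b ∈ B, (ins2 b).image e = o := by
    intro o ho hsub
    have a : none ∈ o.image e.symm := mem_image.mpr ⟨none, hsub (by simp [hexU]), hs0⟩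
    have c : some none ∈ o.image e.symm := mem_image.mpr ⟨some 0, hsub (by simp [hexU]), hs1⟩
    have hrec : ins2 (eraseNone (eraseNone (o.image e.symm))) = o.image e.symm := by
      rw [ins2, insertNone_eraseNone, Finset.insert_eq_of_mem (mem_eraseNone.mpr c), insertNone_eraseNone,
        Finset.insert_eq_of_mem a]
    exact ⟨_, (he _).mp (by rwa [hrec, image_image_symm]), by rw [hrec, image_image_symm]⟩
  have hmem : ∀ {σ}, σ ∈ setSystemAut B → ext2Hom e σ ∈ M24 ∨ hexSwap * ext2Hom e σ ∈ M24 := by
    intro σ hσ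
    refine hex_perm_mem (hfix σ).1 (hfix σ).2 fun o ho hsub => ?_
    obtain ⟨b, hb, rfl⟩ := hpre o ho hsub
    rw [← map_inv, himg, himg, he, he]
    exact ⟨(mem_setSystemAut_iff.mp hσ b).mpr hb, (mem_setSystemAut_iff.mp (inv_mem hσ) b).mpr hb⟩
  have hback : ∀ σ, ext2Hom e σ ∈ M24 ∨ hexSwap * ext2Hom e σ ∈ M24 → σ ∈ setSystemAut B := by
    intro σ hσ
    refine mem_setSystemAut_iff.mpr fun b => ?_
    rw [← he, ← he, ← himg]
    rcases hσ with h | h <;> have hg := M24_eq_octadAut ▸ h
    · exact mem_setSystemAut_iff.mp hg _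
    · have hswap : hexSwap • ext2Hom e σ • (ins2 b).image e = ext2Hom e σ • (ins2 b).image e := by
        have hsub : hexU ⊆ ext2Hom e σ • (ins2 b).image e := himg σ b ▸ hUsub _
        generalize ext2Hom e σ • (ins2 b).image e = Y at hsub ⊢
        have a : none ∈ Y := hsub (by simp [hexU])
        have c : (some 0 : GolayPt) ∈ Y := hsub (by simp [hexU])
        refine eq_of_subset_of_card_le (fun p hp => ?_) (by rw [card_smul_finset])
        rw [smul_eq_image, mem_image] at hp
        obtain ⟨q, hq, rfl⟩ := hp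
        simp only [hexSwap, Equiv.swap_apply_def]
        split_ifs <;> simp_all
      have := mem_setSystemAut_iff.mp hg ((ins2 b).image e)
      rwa [mul_smul, hswap] at this
  let H : Subgroup (setSystemAut B) := M24.comap ((ext2Hom e).comp (setSystemAut B).subtype)
  have hcomm : ∀ σ, hexSwap * ext2Hom e σ = ext2Hom e σ * hexSwap := by
    intro σ
    conv_rhs => rw [hexSwap, Equiv.mul_swap_eq_swap_mul, (hfix σ).1, (hfix σ).2]
    rfl
  have hindex : H.index = 2 := by
    obtain ⟨g, g0, g1⟩ := exists_smul_eq_pair (p := (none : GolayPt)) (q := some 0) (by simp)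
      (p' := some 0) (q' := none) (by simp)
    obtain ⟨τ, hτ⟩ := hrange (hexSwap * g)
      (by show hexSwap (g • none) = none; rw [g0]; simp [hexSwap])
      (by show hexSwap (g • some 0) = some 0; rw [g1]; simp [hexSwap])
    have hsq : hexSwap * hexSwap = 1 := Equiv.swap_mul_self _ _
    have hτ' : hexSwap * ext2Hom e τ ∈ M24 := by rw [hτ, ← mul_assoc, hsq, one_mul]; exact g.2
    have hτn : ext2Hom e τ ∉ M24 := fun h => hexSwap_notMem (by
      have := mul_mem hτ' (inv_mem h)
      rwa [mul_inv_cancel_right] at this)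
    rw [Subgroup.index_eq_two_iff]
    refine ⟨⟨τ, hback τ (Or.inr hτ')⟩, fun b => ?_⟩
    show Xor (ext2Hom e (b.1 * τ) ∈ M24) (ext2Hom e b.1 ∈ M24)
    rw [map_mul]
    by_cases hb : ext2Hom e b.1 ∈ M24
    · exact Or.inr ⟨hb, fun h => hτn (by simpa using mul_mem (inv_mem hb) h)⟩
    · refine Or.inl ⟨?_, hb⟩
      have hprod := mul_mem ((hmem b.2).resolve_left hb) hτ'
      rwa [hcomm b.1, mul_assoc, ← mul_assoc hexSwap, hsq, one_mul] at hprod
  have hinj : Function.Injective (ext2Hom e) := fun σ τ h => by
    have := e.permCongr.injective h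
    have h2 := congrArg Equiv.removeNone this
    rw [Equiv.removeNone_optionCongr, Equiv.removeNone_optionCongr] at h2
    rw [← Equiv.removeNone_optionCongr σ, h2, Equiv.removeNone_optionCongr]
  have hmapH : (H.map (setSystemAut B).subtype).map (ext2Hom e) = Spor.M22 := by
    refine le_antisymm ?_ fun g hg => ?_
    · rintro _ ⟨_, ⟨σ, hσ, rfl⟩, rfl⟩
      exact ⟨⟨hσ, mem_stabilizer_iff.mpr (hfix _).1⟩, mem_stabilizer_iff.mpr (hfix _).2⟩
    · obtain ⟨σ, rfl⟩ := hrange g (mem_stabilizer_iff.mp hg.1.2) (mem_stabilizer_iff.mp hg.2)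
      exact ⟨σ, ⟨⟨σ, hback σ (Or.inl hg.1.1)⟩, hg.1.1, rfl⟩, rfl⟩
  let φ : H ≃* Spor.M22 := ((Subgroup.equivMapOfInjective H _ (Subgroup.subtype_injective _)).trans
    (Subgroup.equivMapOfInjective _ _ hinj)).trans (MulEquiv.subgroupCongr hmapH)
  have hM22 : IsM22 H := ⟨@simple_congr _ _ _ _ φ isSimple_M22, (Nat.card_congr φ.toEquiv).trans card_M22⟩
  refine ⟨?_, ⟨fun x y => ?_⟩, H, hindex, hM22⟩
  · rw [← H.card_mul_index, hindex, hM22.2]
  · have hext : ∀ z : Fin 3 ↪ α, ∃ w : Fin 5 ↪ GolayPt, w 0 = none ∧ w 1 = some 0 ∧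
        ∀ i, w i.succ.succ = e (some (some (z i))) := fun z =>
      ⟨⟨Fin.cons none (Fin.cons (some 0) fun i => e (some (some (z i)))), by
        rw [Fin.cons_injective_iff, Fin.cons_injective_iff]
        refine ⟨?_, ?_, fun i j hij => z.injective (Option.some.inj (Option.some.inj (e.injective hij)))⟩
        · rintro ⟨i, hi⟩
          cases i using Fin.cases with
          | zero => simp at hi
          | succ j => simp only [Fin.cons_succ] at hi; simpa using e.injective (hi.trans hn.symm)
        · rintro ⟨i, hi⟩; simpa using e.injective (hi.trans hn1.symm)⟩, rfl, rfl, fun i => by simp⟩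
    obtain ⟨wx, hx0, hx1, hx⟩ := hext x
    obtain ⟨wy, hy0, hy1, hy⟩ := hext y
    obtain ⟨g, hg⟩ := M24_five_transitive.exists_smul_eq wx wy
    have hgi : ∀ i, (g : Equiv.Perm GolayPt) (wx i) = wy i := fun i =>
      congrArg (fun f : Fin 5 ↪ GolayPt => f i) hg
    have hg0 : (g : Equiv.Perm GolayPt) none = none := by simpa [hx0, hy0] using hgi 0
    have hg1 : (g : Equiv.Perm GolayPt) (some 0) = some 0 := by simpa [hx1, hy1] using hgi 1
    obtain ⟨σ, hσ⟩ := hrange g hg0 hg1
    refine ⟨⟨σ, hback σ (Or.inl (hσ ▸ g.2))⟩, ?_⟩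
    ext i
    have h := hgi i.succ.succ
    rw [hx, hy, ← hσ] at h
    simp only [ext2Hom, MonoidHom.coe_mk, OneHom.coe_mk, Equiv.permCongr_apply, Equiv.symm_apply_apply,
      Equiv.optionCongr_apply, Option.map_some, EmbeddingLike.apply_eq_iff_eq, Option.some.injEq] at h
    exact h

end Cfsg.Lib.Golay
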