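import Cfsg.Agent.Golay.SteinerFam
import Cfsg.Agent.Golay.Generators
import Cfsg.Agent.Golay.Conj
import Cfsg.Prelude.Def_Sporadic

/-!
Automorphism groups of the Steiner systems with parameters (5, 8, 24).
-/

namespace Cfsg.Lib.Golay

open Cfsg MulAction
open scoped Pointwise

variable {α : Type*} [DecidableEq α]

theorem mem_setSystemAut_iff {B : Set (Finset α)} {σ : Equiv.Perm α} :
    σ ∈ setSystemAut B ↔ ∀ b, σ • b ∈ B ↔ b ∈ B := by
  rw [mem_stabilizer_iff]
  constructor
  · intro h b
    conv_lhs => rw [← h, Set.smul_mem_smul_set_iff]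
  · intro h
    ext b
    rw [Set.mem_smul_set_iff_inv_smul_mem]
    have := h (σ⁻¹ • b)
    rw [smul_inv_smul] at this
    exact this.symm

theorem smul_eq_image (σ : Equiv.Perm α) (s : Finset α) : σ • s = s.image σ := rfl

theorem spanFam_smul [Fintype α] {B : Set (Finset α)} {σ : Equiv.Perm α} (h : ∀ b ∈ B, σ • b ∈ spanFam B)
    {s : Finset α} (hs : s ∈ spanFam B) : σ • s ∈ spanFam B := by
  refine spanFam_induction (p := fun s => σ • s ∈ spanFam B) ?_ h (fun a _ b _ ha hb => ?_) hs
  · rw [Finset.smul_finset_empty]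
    exact ⟨0, Submodule.zero_mem _, by ext; simp [mem_support₂]⟩
  · rw [Finset.smul_finset_symmDiff]
    obtain ⟨v, hv, hva⟩ := ha
    obtain ⟨w, hw, hwb⟩ := hb
    exact ⟨v + w, Submodule.add_mem _ hv hw, by rw [support₂_add, hva, hwb]⟩

theorem permCongr_smul_image (e : α ≃ GolayPt) (σ : Equiv.Perm α) (s : Finset α) :
    e.permCongr σ • s.image e = (σ • s).image e := by
  rw [smul_eq_image, smul_eq_image, Finset.image_image, Finset.image_image]
  refine Finset.image_congr fun a _ => ?_
  simp [Equiv.permCongr_apply]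

theorem permCongr_mem_M24_iff {B : Set (Finset α)} {e : α ≃ GolayPt}
    (he : ∀ s : Finset α, s.image e ∈ octads ↔ s ∈ B) (σ : Equiv.Perm α) :
    e.permCongr σ ∈ M24 ↔ σ ∈ setSystemAut B := by
  rw [M24_eq_octadAut, mem_setSystemAut_iff, mem_setSystemAut_iff]
  constructor
  · intro h b
    rw [← he, ← he, ← permCongr_smul_image, h]
  · intro h s
    obtain ⟨b, rfl⟩ : ∃ b : Finset α, b.image e = s := ⟨s.image e.symm, image_image_symm e s⟩
    rw [permCongr_smul_image, he, he, h]

/-- The automorphism group is a relabelling of `M24`. -/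
noncomputable def autEquivM24 {B : Set (Finset α)} {e : α ≃ GolayPt}
    (he : ∀ s : Finset α, s.image e ∈ octads ↔ s ∈ B) : setSystemAut B ≃* M24 where
  toFun σ := ⟨e.permCongr σ, (permCongr_mem_M24_iff he _).mpr σ.2⟩
  invFun g := ⟨e.symm.permCongr g, (permCongr_mem_M24_iff he _).mp (by
    rw [show e.permCongr (e.symm.permCongr (g : Equiv.Perm GolayPt)) = g by ext; simp]; exact g.2)⟩
  left_inv σ := by ext; simp
  right_inv g := by ext; simp
  map_mul' σ τ := by ext; simp

theorem isM24_aut [Fintype α] (hα : Fintype.card α = 24) {B : Set (Finset α)} (hB : IsSteinerSystem 5 8 B) :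
    IsM24 (setSystemAut B) ∧ IsMultiplyPretransitive (setSystemAut B) α 5 := by
  obtain ⟨e, he⟩ := exists_equiv_octads hα hB
  refine ⟨⟨@simple_congr _ _ _ _ (autEquivM24 he) isSimple_M24,
    (Nat.card_congr (autEquivM24 he).toEquiv).trans card_M24⟩, ⟨fun x y => ?_⟩⟩
  obtain ⟨g, hg⟩ := M24_five_transitive.exists_smul_eq (x.trans e.toEmbedding) (y.trans e.toEmbedding)
  refine ⟨(autEquivM24 he).symm g, ?_⟩
  ext i
  have := congrArg (fun f : Fin 5 ↪ GolayPt => f i) hg
  simp only [Function.Embedding.smul_apply, Function.Embedding.trans_apply, Equiv.coe_toEmbedding] at this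
  show e.symm.permCongr (g : Equiv.Perm GolayPt) (x i) = y i
  rw [Equiv.permCongr_apply, Equiv.symm_symm, Equiv.symm_apply_eq]
  exact this

end Cfsg.Lib.Golay
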