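import Cfsg.Agent.Golay.Family
import Cfsg.Agent.Steiner.Counting

/-!
The span of a family of blocks, and uniqueness of the Steiner systems with parameters (5, 8, 24).
-/

namespace Cfsg.Lib.Golay

open Cfsg Cfsg.Lib.Steiner

variable {α : Type*} [DecidableEq α] [Fintype α]

/-- The sums of members of a family, as subsets. -/
def spanFam (B : Set (Finset α)) : Set (Finset α) :=
  supports (Submodule.span (ZMod 2) (ind '' B) : Set (α → ZMod 2))

theorem subset_spanFam {B : Set (Finset α)} : B ⊆ spanFam B := fun b hb =>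
  mem_supports_iff_ind.mpr (Submodule.subset_span ⟨b, hb, rfl⟩)

theorem spanFam_induction {B : Set (Finset α)} {p : Finset α → Prop} (h0 : p ∅)
    (hb : ∀ b ∈ B, p b) (hsymm : ∀ s ∈ spanFam B, ∀ t ∈ spanFam B, p s → p t → p (symmDiff s t))
    {s : Finset α} (hs : s ∈ spanFam B) : p s := by
  obtain ⟨w, hw, rfl⟩ := hs
  have key : ∀ w ∈ Submodule.span (ZMod 2) (ind '' B), p (support₂ w) := by
    intro w hw
    induction hw using Submodule.span_induction with
    | mem x hx => obtain ⟨b, hb', rfl⟩ := hx; rw [support₂_ind]; exact hb b hb'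
    | zero => convert h0; ext; simp [mem_support₂]
    | add x y hx hy hx' hy' =>
      rw [support₂_add]; exact hsymm _ ⟨x, hx, rfl⟩ _ ⟨y, hy, rfl⟩ hx' hy'
    | smul c x _ hx =>
      rcases zmod2_cases c with rfl | rfl
      · rw [zero_smul]; convert h0; ext; simp [mem_support₂]
      · rwa [one_smul]
  exact key w hw

theorem even_inter_symmDiff {s t u : Finset α} (hs : Even (u ∩ s).card) (ht : Even (u ∩ t).card) :
    Even (u ∩ symmDiff s t).card := by
  rw [show u ∩ symmDiff s t = symmDiff (u ∩ s) (u ∩ t) from inf_symmDiff_distrib_left _ _ _]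
  exact even_card_symmDiff hs ht

/-- Hypotheses on blocks that make their span self-orthogonal and doubly even. -/
structure IsEvenBlocks (B : Set (Finset α)) : Prop where
  four : ∀ b ∈ B, 4 ∣ b.card
  even : ∀ b ∈ B, ∀ c ∈ B, Even (b ∩ c).card
  no_four : ∀ s : Finset α, s.card = 4 → ¬ ∀ b ∈ B, Even (b ∩ s).card

theorem IsEvenBlocks.block_even {B : Set (Finset α)} (h : IsEvenBlocks B) {s : Finset α} (hs : s ∈ spanFam B) :
    ∀ b ∈ B, Even (b ∩ s).card := fun b hb =>
  spanFam_induction (p := fun s => Even (b ∩ s).card) (by simp) (fun c hc => h.even b hb c hc)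
    (fun _ _ _ _ h1 h2 => even_inter_symmDiff h1 h2) hs

theorem IsEvenBlocks.span_even {B : Set (Finset α)} (h : IsEvenBlocks B) {s t : Finset α}
    (hs : s ∈ spanFam B) (ht : t ∈ spanFam B) : Even (s ∩ t).card :=
  spanFam_induction (p := fun t => Even (s ∩ t).card) (by simp)
    (fun c hc => by rw [Finset.inter_comm]; exact h.block_even hs c hc)
    (fun _ _ _ _ h1 h2 => even_inter_symmDiff h1 h2) ht

theorem IsEvenBlocks.span_four {B : Set (Finset α)} (h : IsEvenBlocks B) {s : Finset α}
    (hs : s ∈ spanFam B) : 4 ∣ s.card := by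
  refine spanFam_induction (p := fun s => 4 ∣ s.card) (by simp) h.four (fun a ha b hb h1 h2 => ?_) hs
  obtain ⟨r, hr⟩ := h.span_even ha hb
  have := card_symmDiff_add a b
  omega

theorem IsEvenBlocks.isEvenFamily {B : Set (Finset α)} (h : IsEvenBlocks B) : IsEvenFamily (spanFam B) := by
  refine ⟨⟨0, Submodule.zero_mem _, by ext; simp [mem_support₂]⟩, ?_, ?_, fun s hs t ht => h.span_even hs ht⟩
  · rintro _ ⟨v, hv, rfl⟩ _ ⟨w, hw, rfl⟩
    exact ⟨v + w, Submodule.add_mem _ hv hw, support₂_add v w⟩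
  · intro s hs hne
    have h4 := h.span_four hs
    have hno : s.card ≠ 4 := fun e => h.no_four s e (h.block_even hs)
    have : s.card ≠ 0 := fun e => hne (Finset.card_eq_zero.mp e)
    omega

theorem IsEvenFamily.eq_of_five_le {S : Set (Finset α)} (h : IsEvenFamily S) {s t : Finset α} (hs : s ∈ S)
    (ht : t ∈ S) (hs8 : s.card = 8) (ht8 : t.card = 8) (h5 : 5 ≤ (s ∩ t).card) : s = t := by
  by_contra hne
  have := h.min _ (h.symm s hs t ht) fun e => hne (symmDiff_eq_bot.mp e)
  have := card_symmDiff_add s t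
  omega

variable {B : Set (Finset α)}

theorem evenBlocks_5824 (hα : Fintype.card α = 24) (hB : IsSteinerSystem 5 8 B) : IsEvenBlocks B := by
  refine ⟨fun b hb => ⟨2, hB.1 b hb⟩, fun b hb c hc => ?_, fun s hs hall => ?_⟩
  · by_cases hbc : b = c
    · rw [hbc, Finset.inter_self, hB.1 c hc]; decide
    · rcases inter_s5824 hα hB hb hc hbc with e | e | e <;> rw [e] <;> decide
  · obtain ⟨y, -, hy⟩ := Finset.exists_mem_notMem_of_card_lt_card (s := s) (t := Finset.univ)
      (by rw [Finset.card_univ, hα, hs]; norm_num)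
    obtain ⟨b, ⟨hb, hsub⟩, -⟩ := hB.2 (insert y s) (by rw [Finset.card_insert_of_notMem hy, hs])
    obtain ⟨z, -, hz⟩ := Finset.exists_mem_notMem_of_card_lt_card (s := b) (t := Finset.univ)
      (by rw [Finset.card_univ, hα, hB.1 b hb]; norm_num)
    obtain ⟨a, ha⟩ := Finset.card_pos.mp (by omega : 0 < s.card)
    have hys : y ∉ s.erase a := fun h => hy (Finset.mem_of_mem_erase h)
    have hzs : z ∉ insert y (s.erase a) := fun h => hz (hsub (by
      rcases Finset.mem_insert.mp h with h | h
      · simp [h]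
      · exact Finset.mem_insert_of_mem (Finset.mem_of_mem_erase h)))
    obtain ⟨c, ⟨hc, hcs⟩, -⟩ := hB.2 (insert z (insert y (s.erase a))) (by
      rw [Finset.card_insert_of_notMem hzs, Finset.card_insert_of_notMem hys, Finset.card_erase_of_mem ha, hs])
    have h3 : 3 ≤ (c ∩ s).card := by
      have := Finset.card_le_card (show s.erase a ⊆ c ∩ s from fun x hx => Finset.mem_inter.mpr
        ⟨hcs (Finset.mem_insert_of_mem (Finset.mem_insert_of_mem hx)), Finset.mem_of_mem_erase hx⟩)
      rw [Finset.card_erase_of_mem ha, hs] at this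
      omega
    obtain ⟨r, hr⟩ := hall c hc
    have hle := Finset.card_le_card (Finset.inter_subset_right (s₁ := c) (s₂ := s))
    have hsc : s ⊆ c := Finset.inter_eq_right.mp (Finset.eq_of_subset_of_card_le Finset.inter_subset_right (by omega))
    have hcb : c = b := (hB.2 (insert y s) (by rw [Finset.card_insert_of_notMem hy, hs])).unique
      ⟨hc, Finset.insert_subset (hcs (by simp)) hsc⟩ ⟨hb, hsub⟩
    exact hz (hcb ▸ hcs (by simp))

theorem hasFive_5824 (hB : IsSteinerSystem 5 8 B) : HasFive (spanFam B) := fun F hF => by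
  obtain ⟨b, ⟨hb, hsub⟩, -⟩ := hB.2 F hF
  exact ⟨b, subset_spanFam hb, hsub, hB.1 b hb⟩

theorem mem_of_span_eight (hα : Fintype.card α = 24) (hB : IsSteinerSystem 5 8 B) {s : Finset α}
    (hs : s ∈ spanFam B) (h8 : s.card = 8) : s ∈ B := by
  obtain ⟨F, hF, hFc⟩ := Finset.exists_subset_card_eq (s := s) (n := 5) (by omega)
  obtain ⟨b, ⟨hb, hsub⟩, -⟩ := hB.2 F hFc
  have := (evenBlocks_5824 hα hB).isEvenFamily.eq_of_five_le hs (subset_spanFam hb) h8 (hB.1 b hb)
    (hFc ▸ Finset.card_le_card (Finset.subset_inter hF hsub))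
  rwa [this]

theorem symmDiff_mem_5824 (hα : Fintype.card α = 24) (hB : IsSteinerSystem 5 8 B) {b c : Finset α}
    (hb : b ∈ B) (hc : c ∈ B) (h4 : (b ∩ c).card = 4) : symmDiff b c ∈ B := by
  refine mem_of_span_eight hα hB
    ((evenBlocks_5824 hα hB).isEvenFamily.symm _ (subset_spanFam hb) _ (subset_spanFam hc)) ?_
  have := card_symmDiff_add b c
  have := hB.1 b hb
  have := hB.1 c hc
  omega

theorem exists_equiv_octads (hα : Fintype.card α = 24) (hB : IsSteinerSystem 5 8 B) :
    ∃ e : α ≃ GolayPt, ∀ s : Finset α, s.image e ∈ octads ↔ s ∈ B := by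
  obtain ⟨e, he⟩ := exists_equiv_supports hα (evenBlocks_5824 hα hB).isEvenFamily (hasFive_5824 hB)
  refine ⟨e, fun s => ⟨fun h => mem_of_span_eight hα hB ((he s).mp h.1) ?_, fun h => ⟨(he s).mpr (subset_spanFam h), ?_⟩⟩⟩
  · rw [← h.2, Finset.card_image_of_injective _ e.injective]
  · rw [Finset.card_image_of_injective _ e.injective, hB.1 s h]

theorem setSystemIso_of_equivs {β : Type*} [DecidableEq β] {B' : Set (Finset β)} (f : α ≃ β)
    (h : ∀ b, b.image f ∈ B' ↔ b ∈ B) : SetSystemIso B B' := by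
  refine ⟨f, Set.Subset.antisymm (by rintro _ ⟨b, hb, rfl⟩; exact (h b).mpr hb) fun c hc => ?_⟩
  exact ⟨c.image f.symm, (h _).mp (by rwa [image_image_symm]), image_image_symm f c⟩

theorem setSystemIso_5824 {β : Type*} [DecidableEq β] [Fintype β] {B' : Set (Finset β)}
    (hα : Fintype.card α = 24) (hβ : Fintype.card β = 24)
    (hB : IsSteinerSystem 5 8 B) (hB' : IsSteinerSystem 5 8 B') : SetSystemIso B B' := by
  obtain ⟨e, he⟩ := exists_equiv_octads hα hB
  obtain ⟨e', he'⟩ := exists_equiv_octads hβ hB'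
  refine setSystemIso_of_equivs (e.trans e'.symm) fun b => ?_
  rw [← he' _, ← he b, Equiv.coe_trans, ← Finset.image_image, image_image_symm]

/-- Point counts of blocks against a set of three points. -/
theorem count_triple (hα : Fintype.card α = 24) (hB : IsSteinerSystem 5 8 B) {Y : Finset α} (hY : Y.card = 3) :
    {b | b ∈ B ∧ (b ∩ Y).card = 3}.ncard = 21 ∧ {b | b ∈ B ∧ (b ∩ Y).card = 2}.ncard = 168 ∧
      {b | b ∈ B ∧ (b ∩ Y).card = 1}.ncard = 360 ∧ {b | b ∈ B ∧ (b ∩ Y).card = 0}.ncard = 210 := by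
  classical
  have hn : ∀ i, {b | b ∈ B ∧ (b ∩ Y).card = i}.ncard = ((blocks B).filter fun b => (Y ∩ b).card = i).card := by
    intro i
    rw [← Set.ncard_coe_finset]
    congr 1
    ext b
    simp [Finset.inter_comm]
  have hsum : ∀ j, ∑ c ∈ blocks B, (Y ∩ c).card.choose j
      = ∑ i ∈ Finset.range 4, ((blocks B).filter fun b => (Y ∩ b).card = i).card * i.choose j := by
    intro j
    have hmaps : Set.MapsTo (fun c => (Y ∩ c).card) ↑(blocks B) ↑(Finset.range 4) := by
      intro c _
      have := Finset.card_le_card (Finset.inter_subset_left (s₁ := Y) (s₂ := c))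
      simp only [Finset.coe_range, Set.mem_Iio]
      omega
    rw [← Finset.sum_fiberwise_of_maps_to hmaps]
    refine Finset.sum_congr rfl fun i _ => ?_
    rw [Finset.sum_congr rfl fun c hc => by rw [(Finset.mem_filter.mp hc).2], Finset.sum_const, smul_eq_mul]
  have h0 := sum_choose_inter hB Y (j := 0) (by norm_num)
  have h1 := sum_choose_inter hB Y (j := 1) (by norm_num)
  have h2 := sum_choose_inter hB Y (j := 2) (by norm_num)
  have h3 := sum_choose_inter hB Y (j := 3) (by norm_num)
  rw [hsum, hY, hα] at h0 h1 h2 h3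
  simp only [Finset.sum_range_succ, Finset.sum_range_zero] at h0 h1 h2 h3
  norm_num [Nat.choose, -Finset.card_eq_zero] at h0 h1 h2 h3
  rw [hn, hn, hn, hn]
  omega

end Cfsg.Lib.Golay
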