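import Cfsg.Agent.Golay.SubOrbits
import Cfsg.Agent.Golay.StabData
import Cfsg.Agent.Golay.SubDodPairSext

/-!
Check of the orbits of the stabiliser of `DodPair` on the orbit of `Sext`.
-/

namespace Cfsg.Lib.Golay

open Cfsg.Lib.PermCert
open scoped Pointwise

theorem subsDodPairSext_ok : subOK famCoding.act cgDodPair.gens orbSext subsDodPairSext = true := by decide +kernel

theorem subsDodPairSext_sizes : subsDodPairSext.map (fun e => (stVals e.2).length) = [495, 880, 396] := by decide +kernel

end Cfsg.Lib.Golay
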