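import Cfsg.Agent.PermCert.Closed

/-!
Orbits of the stabiliser of `Duo` on the orbit of `Duo`.
-/

namespace Cfsg.Lib.Golay

open Cfsg.Lib.PermCert

/-- The orbit `subDuoDuo0`. -/
def subDuoDuo0 : STree := (.node 3 3 0 0 .leaf .leaf)

/-- The orbit `subDuoDuo1`. -/
def subDuoDuo1 : STree := (.node 8193 262146 0 4 (.node 130 4097 1 3 (.node 18 2049 0 3 (.node 9 16386 0 4 (.node 6 33 0 5 (.node 5 5 0 0 .leaf .leaf) .leaf) (.node 17 2097154 1 6 (.node 10 65537 1 7 .leaf .leaf) .leaf)) (.node 65 34 1 4 (.node 34 129 0 3 (.node 33 18 1 4 .leaf .leaf) .leaf) (.node 129 4098 1 2 (.node 66 33 1 5 .leaf .leaf) .leaf))) (.node 1026 17 0 7 (.node 513 4194306 1 4 (.node 258 8193 1 5 (.node 257 8388610 0 6 .leaf .leaf) .leaf) (.node 1025 18 0 4 (.node 514 1048577 0 7 .leaf .leaf) .leaf)) (.node 4097 4098 0 2 (.node 2050 524289 0 7 (.node 2049 524290 0 2 .leaf .leaf) .leaf) (.node 4098 5 1 1 .leaf .leaf)))) (.node 262146 129 1 3 (.node 65537 66 1 6 (.node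 16386 2049 1 3 (.node 16385 514 0 8 (.node 8194 262145 0 5 .leaf .leaf) .leaf) (.node 32770 524289 1 7 (.node 32769 524290 1 2 .leaf .leaf) .leaf)) (.node 131074 1025 1 5 (.node 131073 66 0 6 (.node 65538 9 0 5 .leaf .leaf) .leaf) (.node 262145 130 1 4 .leaf .leaf))) (.node 2097154 9 1 5 (.node 1048577 8388610 1 6 (.node 524290 5 0 1 (.node 524289 6 0 6 .leaf .leaf) .leaf) (.node 2097153 258 0 6 (.node 1048578 8193 0 5 .leaf .leaf) .leaf)) (.node 8388609 258 1 6 (.node 4194306 32769 0 3 (.node 4194305 32770 0 8 .leaf .leaf) .leaf) (.node 8388610 1025 0 5 .leaf .leaf)))))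

/-- Part of `subDuoDuo2`. -/
def subDuoDuo2_0 : STree := .node 8208 264192 0 3 (.node 1028 48 0 6 (.node 192 6291456 0 4 (.node 72 65568 1 9 (.node 36 528 1 5 (.node 20 2080 0 8 (.node 12 12 0 0 .leaf .leaf) (.node 24 2162688 1 8 .leaf .leaf)) (.node 48 2176 0 5 (.node 40 16512 0 9 .leaf .leaf) (.node 68 544 1 9 .leaf .leaf))) (.node 136 4210688 0 8 (.node 96 48 1 6 (.node 80 2099200 0 7 .leaf .leaf) (.node 132 4608 1 7 .leaf .leaf)) (.node 160 4194432 0 6 (.node 144 2101248 1 2 .leaf .leaf) .leaf))) (.node 516 4194816 1 8 (.node 288 8208 1 4 (.node 264 73728 1 6 (.node 260 8704 1 8 .leaf .leaf) (.node 272 2105344 1 6 .leaf .leaf)) (.node 384 12582912 0 8 (.node 320 10485760 0 6 .leaf .leaf) .leaf)) (.node 576 4194336 1 8 (.node 528 6291456 1 4 (.node 520 4259840 1 4 .leaf .leaf) (.node 544 4194320 1 8 .leaf .leaf)) (.node 768 9437184 0 8 (.node 640 4198400 1 6 .leaf .leaf) .leaf)))) (.node 2560 1572864 0 6 (.node 2052 524320 0 8 (.node 1088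 16416 1 8 (.node 1040 2064 0 8 (.node 1032 81920 1 6 .leaf .leaf) (.node 1056 144 0 3 .leaf .leaf)) (.node 1280 24576 1 4 (.node 1152 4194320 0 8 .leaf .leaf) (.node 1536 1048592 0 7 .leaf .leaf))) (.node 2112 2621440 0 6 (.node 2064 526336 0 7 (.node 2056 540672 0 8 .leaf .leaf) (.node 2080 524416 0 7 .leaf .leaf)) (.node 2304 8912896 0 8 (.node 2176 135168 1 4 .leaf .leaf) .leaf))) (.node 4224 4198400 0 6 (.node 4112 2097156 1 6 (.node 4100 4128 0 8 (.node 3072 524304 0 9 .leaf .leaf) (.node 4104 20480 0 8 .leaf .leaf)) (.node 4160 2101248 0 2 (.node 4128 4224 0 7 .leaf .leaf) .leaf)) (.node 6144 528384 0 8 (.node 4608 1052672 0 6 (.node 4352 8196 1 5 .leaf .leaf) (.node 5120 4112 0 7 .leaf .leaf)) (.node 8200 327680 1 6 (.node 8196 262176 0 4 .leaf .leaf) .leaf))))) (.node 33792 131088 0 8 (.node 16640 8389120 0 6 (.node 12288 262148 1 8 (.node 8448 270336 1 6 (.node 8256 262176 1 4 (.node 8224 262272 0 5 .leaf .leaf) (.node 8320 4456448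 0 9 .leaf .leaf)) (.node 9216 278528 1 6 (.node 8704 1310720 0 7 .leaf .leaf) (.node 10240 393216 1 9 .leaf .leaf))) (.node 16416 640 0 7 (.node 16392 67584 1 6 (.node 16388 2560 1 7 .leaf .leaf) (.node 16400 2099200 1 7 .leaf .leaf)) (.node 16512 4194816 0 8 (.node 16448 2080 1 8 .leaf .leaf) .leaf))) (.node 32776 589824 1 2 (.node 20480 4608 0 7 (.node 17408 528 0 5 (.node 16896 4196352 1 7 .leaf .leaf) (.node 18432 524800 0 8 .leaf .leaf)) (.node 32772 131104 0 6 (.node 24576 264192 1 3 .leaf .leaf) .leaf)) (.node 32896 528384 1 8 (.node 32800 131200 0 9 (.node 32784 2621440 1 6 .leaf .leaf) (.node 32832 2228224 0 8 .leaf .leaf)) (.node 33280 1179648 0 6 (.node 33024 8519680 0 6 .leaf .leaf) .leaf)))) (.node 69632 4104 0 9 (.node 65568 80 1 8 (.node 49152 526336 1 7 (.node 36864 135168 0 4 (.node 34816 655360 0 6 .leaf .leaf) (.node 40960 393216 0 9 .leaf .leaf)) (.node 65544 16392 0 7 (.node 65540 576 1 9 .leaf .leaf) (.node 65552 2056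 0 9 .leaf .leaf))) (.node 66048 1048584 0 5 (.node 65664 4160 1 3 (.node 65600 96 1 7 .leaf .leaf) (.node 65792 8256 1 5 .leaf .leaf)) (.node 67584 131136 1 5 (.node 66560 24 0 9 .leaf .leaf) .leaf))) (.node 131104 192 0 5 (.node 131076 96 0 7 (.node 81920 520 0 5 (.node 73728 262152 0 5 .leaf .leaf) (.node 98304 524352 1 7 .leaf .leaf)) (.node 131088 2112 0 7 (.node 131080 16448 0 9 .leaf .leaf) .leaf)) (.node 131584 1048640 0 7 (.node 131200 5120 1 8 (.node 131136 1056 1 4 .leaf .leaf) (.node 131328 8388672 0 6 .leaf .leaf)) (.node 133120 524352 0 7 (.node 132096 17408 1 6 .leaf .leaf) .leaf)))))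

/-- Part of `subDuoDuo2`. -/
def subDuoDuo2_1 : STree := .node 2097168 2097160 1 8 (.node 525312 1064960 1 9 (.node 266240 132 1 8 (.node 262176 144 1 3 (.node 196608 1088 1 9 (.node 147456 576 0 9 (.node 139264 262208 0 8 .leaf .leaf) (.node 163840 131136 0 5 .leaf .leaf)) (.node 262152 65664 1 4 (.node 262148 640 1 7 .leaf .leaf) (.node 262160 67584 0 6 .leaf .leaf))) (.node 262656 4194432 1 6 (.node 262272 4259840 0 4 (.node 262208 160 1 7 .leaf .leaf) (.node 262400 8454144 0 8 .leaf .leaf)) (.node 264192 589824 0 2 (.node 263168 16512 1 9 .leaf .leaf) .leaf))) (.node 524296 1114112 1 7 (.node 327680 192 1 5 (.node 278528 2176 1 5 (.node 270336 262272 1 5 .leaf .leaf) (.node 294912 524416 1 7 .leaf .leaf)) (.node 524292 36 0 6 (.node 393216 65600 0 8 .leaf .leaf) .leaf)) (.node 524416 1052672 1 6 (.node 524320 1048592 1 7 (.node 524304 3145728 1 8 .leaf .leaf) (.node 524352 2097156 0 6 .leaf .leaf)) (.node 524800 1048580 0 7 (.node 524544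 8388612 0 5 .leaf .leaf) .leaf)))) (.node 1048832 8396800 0 10 (.node 786432 1048704 1 10 (.node 540672 1050624 1 7 (.node 528384 1048580 1 7 (.node 526336 1179648 1 6 .leaf .leaf) (.node 532480 1310720 1 7 .leaf .leaf)) (.node 589824 12 0 1 (.node 557056 1572864 1 6 .leaf .leaf) (.node 655360 1049600 1 5 .leaf .leaf))) (.node 1048608 8388624 1 9 (.node 1048584 24576 0 4 (.node 1048580 8389120 1 6 .leaf .leaf) (.node 1048592 10485760 1 6 .leaf .leaf)) (.node 1048704 8392704 1 9 (.node 1048640 2105344 0 6 .leaf .leaf) .leaf))) (.node 1081344 8912896 1 8 (.node 1052672 8388612 1 5 (.node 1049600 8208 0 4 (.node 1049088 1056768 0 7 .leaf .leaf) (.node 1050624 8519680 1 6 .leaf .leaf)) (.node 1064960 8390656 1 8 (.node 1056768 270336 0 6 .leaf .leaf) .leaf)) (.node 1572864 8196 0 5 (.node 1179648 8256 0 5 (.node 1114112 8388672 1 6 .leaf .leaf) (.node 1310720 73728 0 6 .leaf .leaf)) (.node 2097160 16640 0 7 (.node 2097156 288 0 5 .leaf .leaf) .leaf)))))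 (.node 4210688 34816 1 7 (.node 2621440 1048584 1 5 (.node 2101248 12 1 1 (.node 2097408 8200 1 7 (.node 2097216 2097408 0 8 (.node 2097184 384 0 9 .leaf .leaf) (.node 2097280 4194560 0 8 .leaf .leaf)) (.node 2098176 272 0 7 (.node 2097664 4194312 1 9 .leaf .leaf) (.node 2099200 524544 0 6 .leaf .leaf))) (.node 2162688 264 0 7 (.node 2113536 2056 1 9 (.node 2105344 262152 1 5 .leaf .leaf) (.node 2129920 131328 0 7 .leaf .leaf)) (.node 2359296 65792 0 6 (.node 2228224 320 0 7 .leaf .leaf) .leaf))) (.node 4194432 36864 1 5 (.node 4194320 34816 0 7 (.node 4194308 33280 1 7 (.node 3145728 8448 0 7 .leaf .leaf) (.node 4194312 98304 1 8 .leaf .leaf)) (.node 4194368 2129920 0 8 (.node 4194336 32784 1 7 .leaf .leaf) .leaf)) (.node 4196352 163840 1 6 (.node 4194816 4227072 1 7 (.node 4194560 8421376 0 7 .leaf .leaf) (.node 4195328 32784 0 7 .leaf .leaf)) (.node 4202496 294912 0 8 (.node 4198400 36864 0 5 .leaf .leaf) .leaf)))) (.node 8389120 1049600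 0 5 (.node 8388612 1056 0 4 (.node 4456448 98304 0 8 (.node 4259840 32776 0 3 (.node 4227072 163840 0 6 .leaf .leaf) (.node 4325376 33792 1 9 .leaf .leaf)) (.node 5242880 8421376 1 7 (.node 4718592 32772 0 7 .leaf .leaf) (.node 6291456 32776 1 3 .leaf .leaf))) (.node 8388672 288 1 5 (.node 8388624 2097408 1 8 (.node 8388616 17408 0 6 .leaf .leaf) (.node 8388640 272 1 7 .leaf .leaf)) (.node 8388864 8448 1 7 (.node 8388736 4352 1 6 .leaf .leaf) .leaf))) (.node 8454144 320 1 7 (.node 8396800 262400 1 9 (.node 8390656 131328 1 7 (.node 8389632 16640 1 7 .leaf .leaf) (.node 8392704 5120 0 8 .leaf .leaf)) (.node 8421376 524544 1 6 (.node 8404992 1536 0 8 .leaf .leaf) .leaf)) (.node 9437184 9216 0 7 (.node 8650752 384 1 9 (.node 8519680 1280 1 5 .leaf .leaf) (.node 8912896 1028 0 7 .leaf .leaf)) (.node 12582912 33024 1 7 (.node 10485760 1280 0 5 .leaf .leaf) .leaf)))))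

/-- The orbit `subDuoDuo2`. -/
def subDuoDuo2 : STree := (.node 135168 4160 0 3 subDuoDuo2_0 subDuoDuo2_1)

/-- Roots and orbits of the stabiliser of `Duo` on the orbit of `Duo`. -/
def subsDuoDuo : List (ℕ × STree) := [(3, subDuoDuo0), (5, subDuoDuo1), (12, subDuoDuo2)]

end Cfsg.Lib.Golay
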