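import Cfsg.Agent.Golay.SubOrbits
import Cfsg.Agent.Golay.StabData
import Cfsg.Agent.Golay.SubOctOct

/-!
Check of the orbits of the stabiliser of `Oct` on the orbit of `Oct`.
-/

namespace Cfsg.Lib.Golay

open Cfsg.Lib.PermCert
open scoped Pointwise

theorem subsOctOct_ok : subOK setCoding.act cgOct.gens orbOct subsOctOct = true := by decide +kernel

theorem subsOctOct_sizes : subsOctOct.map (fun e => (stVals e.2).length) = [1, 280, 448, 30] := by decide +kernel

end Cfsg.Lib.Golay
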