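import Cfsg.Agent.Golay.SubOrbits
import Cfsg.Agent.Golay.StabData
import Cfsg.Agent.Golay.SubOctTrio

/-!
Check of the orbits of the stabiliser of `Oct` on the orbit of `Trio`.
-/

namespace Cfsg.Lib.Golay

open Cfsg.Lib.PermCert
open scoped Pointwise

theorem subsOctTrio_ok : subOK famCoding.act cgOct.gens orbTrio subsOctTrio = true := by decide +kernel

theorem subsOctTrio_sizes : subsOctTrio.map (fun e => (stVals e.2).length) = [15, 420, 3360] := by decide +kernel

end Cfsg.Lib.Golay
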