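import Cfsg.Agent.Golay.SubOrbits
import Cfsg.Agent.Golay.StabData
import Cfsg.Agent.Golay.SubSextSext

/-!
Check of the orbits of the stabiliser of `Sext` on the orbit of `Sext`.
-/

namespace Cfsg.Lib.Golay

open Cfsg.Lib.PermCert
open scoped Pointwise

theorem subsSextSext_ok : subOK famCoding.act cgSext.gens orbSext subsSextSext = true := by decide +kernel

theorem subsSextSext_sizes : subsSextSext.map (fun e => (stVals e.2).length) = [1, 240, 1440, 90] := by decide +kernel

end Cfsg.Lib.Golay
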