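import Cfsg.Agent.Golay.SubOrbits
import Cfsg.Agent.Golay.StabData
import Cfsg.Agent.Golay.SubTrioSext

/-!
Check of the orbits of the stabiliser of `Trio` on the orbit of `Sext`.
-/

namespace Cfsg.Lib.Golay

open Cfsg.Lib.PermCert
open scoped Pointwise

theorem subsTrioSext_ok : subOK famCoding.act cgTrio.gens orbSext subsTrioSext = true := by decide +kernel

theorem subsTrioSext_sizes : subsTrioSext.map (fun e => (stVals e.2).length) = [84, 1344, 336, 7] := by decide +kernel

end Cfsg.Lib.Golay
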