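import Cfsg.Agent.Golay.SubOrbits
import Cfsg.Agent.Golay.StabData
import Cfsg.Agent.Golay.SubTrioTrio

/-!
Check of the orbits of the stabiliser of `Trio` on the orbit of `Trio`.
-/

namespace Cfsg.Lib.Golay

open Cfsg.Lib.PermCert
open scoped Pointwise

theorem subsTrioTrio_ok : subOK famCoding.act cgTrio.gens orbTrio subsTrioTrio = true := by decide +kernel

theorem subsTrioTrio_sizes : subsTrioTrio.map (fun e => (stVals e.2).length) = [1, 1008, 2688, 42, 56] := by decide +kernel

end Cfsg.Lib.Golay
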