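import Mathlib
import Cfsg.Prelude.Def_Sporadic_a

/-!
Binary words as subsets.
-/

namespace Cfsg.Lib.Golay

open Cfsg

variable {α : Type*} [Fintype α] [DecidableEq α]

/-- The indicator word of a set. -/
def ind (s : Finset α) : α → ZMod 2 := fun a => if a ∈ s then 1 else 0

theorem zmod2_cases : ∀ x : ZMod 2, x = 0 ∨ x = 1 := by decide

theorem mem_support₂ (w : α → ZMod 2) (a : α) : a ∈ support₂ w ↔ w a ≠ 0 := by simp [support₂]

theorem support₂_ind (s : Finset α) : support₂ (ind s) = s := by
  ext a; by_cases h : a ∈ s <;> simp [mem_support₂, ind, h]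

theorem ind_support₂ (w : α → ZMod 2) : ind (support₂ w) = w := by
  funext a; rcases zmod2_cases (w a) with h | h <;> simp [ind, mem_support₂, h]

theorem support₂_injective : Function.Injective (support₂ (α := α)) :=
  fun v w h => by rw [← ind_support₂ v, h, ind_support₂]

theorem mem_supports_iff_ind {C : Set (α → ZMod 2)} {s : Finset α} : s ∈ supports C ↔ ind s ∈ C := by
  constructor
  · rintro ⟨w, hw, rfl⟩; rwa [ind_support₂]
  · exact fun h => ⟨_, h, support₂_ind s⟩

theorem support₂_mem_supports {C : Set (α → ZMod 2)} {w : α → ZMod 2} :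
    support₂ w ∈ supports C ↔ w ∈ C := by rw [mem_supports_iff_ind, ind_support₂]

theorem support₂_add (v w : α → ZMod 2) : support₂ (v + w) = symmDiff (support₂ v) (support₂ w) := by
  ext a
  simp only [mem_support₂, Finset.mem_symmDiff, Pi.add_apply]
  rcases zmod2_cases (v a) with h | h <;> rcases zmod2_cases (w a) with h' | h' <;> rw [h, h'] <;> decide

theorem ind_symmDiff (s t : Finset α) : ind (symmDiff s t) = ind s + ind t :=
  support₂_injective (by rw [support₂_add, support₂_ind, support₂_ind, support₂_ind])

theorem support₂_sub (v w : α → ZMod 2) : support₂ (v - w) = symmDiff (support₂ v) (support₂ w) := by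
  rw [← support₂_add]
  congr 1
  funext a
  show v a - w a = v a + w a
  rcases zmod2_cases (v a) with h | h <;> rcases zmod2_cases (w a) with h' | h' <;> rw [h, h'] <;> decide

theorem sum_mul_eq_card_inter (v w : α → ZMod 2) :
    ∑ a, v a * w a = ((support₂ v ∩ support₂ w).card : ZMod 2) := by
  rw [Finset.card_eq_sum_ones, Nat.cast_sum, ← Finset.sum_subset (Finset.subset_univ (support₂ v ∩ support₂ w))]
  · refine Finset.sum_congr rfl fun a ha => ?_
    simp only [Finset.mem_inter, mem_support₂] at ha
    rcases zmod2_cases (v a) with h | h <;> rcases zmod2_cases (w a) with h' | h' <;> simp_all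
  · intro a _ ha
    simp only [Finset.mem_inter, mem_support₂] at ha
    rcases zmod2_cases (v a) with h | h <;> simp_all

theorem orth_iff_even_inter (v w : α → ZMod 2) :
    ∑ a, v a * w a = 0 ↔ Even (support₂ v ∩ support₂ w).card := by
  rw [sum_mul_eq_card_inter, ZMod.natCast_eq_zero_iff_even]

theorem hammingNorm_eq (w : α → ZMod 2) : hammingNorm w = (support₂ w).card := rfl

theorem hammingDist_eq (v w : α → ZMod 2) : hammingDist v w = (support₂ (v - w)).card := by
  rw [hammingDist_eq_hammingNorm, show -v + w = v - w from funext fun a => by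
    rcases zmod2_cases (v a) with h | h <;> rcases zmod2_cases (w a) with h' | h' <;>
      simp only [Pi.add_apply, Pi.neg_apply, Pi.sub_apply, h, h'] <;> decide]
  exact rfl

theorem ncard_supports (C : Set (α → ZMod 2)) : (supports C).ncard = C.ncard :=
  Set.ncard_image_of_injective C support₂_injective

/-- Words correspond to subsets. -/
def suppEquiv : (α → ZMod 2) ≃ Finset α where
  toFun := support₂
  invFun := ind
  left_inv := ind_support₂
  right_inv := support₂_ind

end Cfsg.Lib.Golay
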