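import Cfsg.Agent.Golay.SextetGroup
import Cfsg.Agent.Golay.TrioGroupData
import Cfsg.Agent.Classical.SL

/-!
The stabiliser of a trio on its three octads and its seven sextets.
-/

set_option autoImplicit false

namespace Cfsg.Lib.Golay

open Cfsg Cfsg.Lib.PermCert MulAction Matrix
open scoped Pointwise

/-- The image group. -/
abbrev TrioImg := GL (Fin 3) (ZMod 2) × Equiv.Perm (Fin 3)

/-- A code of a vector. -/
def vecOf (c : ℕ) : Fin 3 → ZMod 2 := fun i => if c.testBit i.val then 1 else 0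

/-- A listed matrix. -/
def matOfRows (rows : List ℕ) : Matrix (Fin 3) (Fin 3) (ZMod 2) :=
  Matrix.of fun i j => if (rows.getD i.val 0).testBit j.val then 1 else 0

/-- The listed permutations of three objects. -/
def perms3 : List (Equiv.Perm (Fin 3)) :=
  [1, Equiv.swap 0 1, Equiv.swap 0 2, Equiv.swap 1 2, Equiv.swap 0 1 * Equiv.swap 1 2, Equiv.swap 1 2 * Equiv.swap 0 1]

/-- The sextet with a given index. -/
def trioSext (i : Fin 7) : Finset (Finset GolayPt) := famOf (trioSexts.getD i.val 0)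

/-- The octad with a given index. -/
def trioOct (k : Fin 3) : Finset GolayPt := pts (trioOcts.getD k.val 0)

/-- The label of a sextet. -/
def trioLab (i : Fin 7) : Fin 3 → ZMod 2 := vecOf (trioLabels.getD i.val 0)

/-- A permutation induces a pair on the sextets and octads. -/
def TrioRel (x : Equiv.Perm GolayPt) (q : TrioImg) : Prop :=
  (∀ i : Fin 7, ∃ j : Fin 7, x • trioSext i = trioSext j ∧
    ((q.1 : GL (Fin 3) (ZMod 2)) : Matrix (Fin 3) (Fin 3) (ZMod 2)) *ᵥ trioLab i = trioLab j) ∧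
  ∀ k : Fin 3, x • trioOct k = trioOct (q.2 k)

theorem trioRel_one : TrioRel 1 1 :=
  ⟨fun i => ⟨i, one_smul _ _, by simp⟩, fun k => one_smul _ _⟩

theorem TrioRel.mul {x y : Equiv.Perm GolayPt} {a b : TrioImg} (hx : TrioRel x a) (hy : TrioRel y b) :
    TrioRel (x * y) (a * b) := by
  refine ⟨fun i => ?_, fun k => ?_⟩
  · obtain ⟨j, h1, h2⟩ := hy.1 i
    obtain ⟨l, h3, h4⟩ := hx.1 j
    refine ⟨l, by rw [mul_smul, h1, h3], ?_⟩
    rw [Prod.fst_mul, Units.val_mul, ← Matrix.mulVec_mulVec, h2, h4]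
  · rw [mul_smul, hy.2 k, hx.2 (b.2 k)]; rfl

/-- The pairs. -/
def trioPairs : Subgroup (Equiv.Perm GolayPt × TrioImg) where
  carrier := {q | q.1 ∈ cgTrio.grp ∧ TrioRel q.1 q.2}
  one_mem' := ⟨one_mem _, trioRel_one⟩
  mul_mem' := fun {a b} ha hb => ⟨mul_mem ha.1 hb.1, ha.2.mul hb.2⟩
  inv_mem' := by
    intro a ha
    have key : ∀ n : ℕ, (a ^ n).1 ∈ cgTrio.grp ∧ TrioRel (a ^ n).1 (a ^ n).2 := by
      intro n
      induction n with
      | zero => exact ⟨one_mem _, trioRel_one⟩
      | succ n ih => rw [pow_succ]; exact ⟨mul_mem ih.1 ha.1, ih.2.mul ha.2⟩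
    have e : a⁻¹ = a ^ (orderOf a - 1) := inv_eq_of_mul_eq_one_right (by
      rw [← pow_succ', Nat.sub_add_cancel (orderOf_pos a), pow_orderOf_eq_one])
    rw [e]
    exact key _

/-- The test of a listed item. -/
def trioActOK (t : FG × List ℕ × List ℕ × ℕ) : Bool :=
  fvalid t.1 && sift 24 cgTrio.chain [t.1.1] && decide (t.2.2.2 < 6) &&
    decide (matOfRows t.2.1 * matOfRows t.2.2.1 = 1 ∧ matOfRows t.2.2.1 * matOfRows t.2.1 = 1) &&
    decide (∀ i : Fin 7, ∃ j : Fin 7, famCoding.act t.1 (trioSexts.getD i.val 0) = trioSexts.getD j.val 0 ∧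
      matOfRows t.2.1 *ᵥ trioLab i = trioLab j) &&
    decide (∀ k : Fin 3, img3 t.1 (trioOcts.getD k.val 0) = trioOcts.getD ((perms3.getD t.2.2.2 1) k).val 0)

theorem trioActs_ok : trioActs.all trioActOK = true := by decide +kernel

theorem trioData_ok : trioSexts.all famOK = true ∧ (trioOcts.all fun m => decide (m < 16777216)) = true ∧
    trioSexts.Nodup ∧ trioOcts.Nodup ∧ decList codeTrio = trioOcts := by decide +kernel

theorem trioLab_spans : ∀ j : Fin 3, ∃ i : Fin 7, trioLab i = Pi.single j 1 := by decide +kernel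

theorem trioGens_listed : cgTrio.gens = (trioActs.take trioGenCount).map (·.1) := by decide +kernel

theorem trioGenerated :
    (∀ i j : Fin 3, i ≠ j → ∃ t ∈ trioActs, matOfRows t.2.1 = Matrix.transvection i j 1 ∧ perms3.getD t.2.2.2 1 = 1) ∧
    ∀ i j : Fin 3, i ≠ j → ∃ t ∈ trioActs, matOfRows t.2.1 = 1 ∧ perms3.getD t.2.2.2 1 = Equiv.swap i j := by
  decide +kernel

theorem trioSext_inj : Function.Injective trioSext := by
  intro i j h
  have hok : ∀ i : Fin 7, encFam (trioSext i) = trioSexts.getD i.val 0 := fun i =>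
    encFam_famOf (List.all_eq_true.mp trioData_ok.1 _ (by
      rw [List.getD_eq_getElem _ _ (show i.val < trioSexts.length from i.2)]; exact List.getElem_mem _))
  have e := hok i
  rw [h, hok j, List.getD_eq_getElem _ _ (show i.val < trioSexts.length from i.2),
    List.getD_eq_getElem _ _ (show j.val < trioSexts.length from j.2)] at e
  exact Fin.ext ((trioData_ok.2.2.1.getElem_inj_iff).mp e.symm)

theorem trioOct_inj : Function.Injective trioOct := by
  intro i j h
  have hlt : ∀ i : Fin 3, trioOcts.getD i.val 0 < 2 ^ 24 := fun i => by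
    rw [List.getD_eq_getElem _ _ (show i.val < trioOcts.length from i.2)]
    simpa using List.all_eq_true.mp trioData_ok.2.1 _ (List.getElem_mem _)
  have e := eq_of_pts_eq (hlt i) (hlt j) h
  rw [List.getD_eq_getElem _ _ (show i.val < trioOcts.length from i.2),
    List.getD_eq_getElem _ _ (show j.val < trioOcts.length from j.2)] at e
  exact Fin.ext ((trioData_ok.2.2.2.1.getElem_inj_iff).mp e)

theorem mem_pairs_of_act {t : FG × List ℕ × List ℕ × ℕ} (ht : t ∈ trioActs) :
    ∃ A : GL (Fin 3) (ZMod 2), (A : Matrix (Fin 3) (Fin 3) (ZMod 2)) = matOfRows t.2.1 ∧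
      (toP t.1.1, (A, perms3.getD t.2.2.2 1)) ∈ trioPairs := by
  have h := List.all_eq_true.mp trioActs_ok t ht
  simp only [trioActOK, Bool.and_eq_true, decide_eq_true_eq] at h
  obtain ⟨⟨⟨⟨⟨hv, hs⟩, -⟩, hinv⟩, hsx⟩, hoc⟩ := h
  refine ⟨⟨_, _, hinv.1, hinv.2⟩, rfl, ⟨?_, ?_, ?_⟩⟩
  · exact ⟨perm 24 t.1.1, by
      simpa using mem_grp_of_sift (CG.ok_spec cgTrio_ok).1 (w := [t.1.1]) (by simpa using valid_of_fvalid hv) hs, rfl⟩
  · intro i
    obtain ⟨j, h1, h2⟩ := hsx i
    refine ⟨j, famCoding.inj ?_, h2⟩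
    show famCoding.enc (toP t.1.1 • trioSext i) = _
    have hok : ∀ i : Fin 7, famCoding.enc (trioSext i) = trioSexts.getD i.val 0 := fun i =>
      encFam_famOf (List.all_eq_true.mp trioData_ok.1 _ (by
        rw [List.getD_eq_getElem _ _ (show i.val < trioSexts.length from i.2)]; exact List.getElem_mem _))
    rw [famCoding.spec _ hv, hok, hok, h1]
  · intro k
    have hlt : ∀ i : Fin 3, trioOcts.getD i.val 0 < 2 ^ 24 := fun i => by
      rw [List.getD_eq_getElem _ _ (show i.val < trioOcts.length from i.2)]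
      simpa using List.all_eq_true.mp trioData_ok.2.1 _ (List.getElem_mem _)
    refine setCoding.inj ?_
    show setCoding.enc (toP t.1.1 • trioOct k) = setCoding.enc _
    rw [setCoding.spec _ hv]
    show img3 t.1 (mk (pts _)) = mk (pts _)
    rw [mk_pts (hlt k), mk_pts (hlt _)]
    exact hoc k

theorem trio_fst_surj {x : Equiv.Perm GolayPt} (hx : x ∈ cgTrio.grp) : ∃ q, (x, q) ∈ trioPairs := by
  have hle : cgTrio.grp ≤ trioPairs.map (MonoidHom.fst _ _) := by
    rw [← (CG.ok_spec cgTrio_ok).2.2, Subgroup.closure_le]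
    rintro _ ⟨g, hg, rfl⟩
    rw [trioGens_listed, List.mem_map] at hg
    obtain ⟨t, ht, rfl⟩ := hg
    obtain ⟨A, -, hA⟩ := mem_pairs_of_act (List.mem_of_mem_take ht)
    exact ⟨_, hA, rfl⟩
  obtain ⟨⟨y, q⟩, hq, rfl⟩ := hle hx
  exact ⟨q, hq⟩

theorem trio_fst_inj {q : TrioImg} (h : (1, q) ∈ trioPairs) : q = 1 := by
  refine Prod.ext (Units.ext (Matrix.ext fun i j => ?_)) (Equiv.ext fun k => trioOct_inj ?_)
  · obtain ⟨l, hl⟩ := trioLab_spans j
    obtain ⟨m, h1, h2⟩ := h.2.1 l
    rw [one_smul] at h1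
    rw [← trioSext_inj h1, hl, Matrix.mulVec_single_one] at h2
    have := congrFun h2 i
    rw [Matrix.col_apply] at this
    rw [this, Prod.fst_one, Units.val_one, Matrix.one_apply, Pi.single_apply]
  · simpa using (h.2.2 k).symm

/-- The projection to the group of the standard trio is bijective. -/
theorem trio_proj_bijective :
    Function.Bijective
      (((MonoidHom.fst _ _).comp trioPairs.subtype).codRestrict cgTrio.grp fun q => q.2.1) := by
  refine ⟨(injective_iff_map_eq_one _).mpr fun q hq => ?_, fun x => ?_⟩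
  · have e : (q : Equiv.Perm GolayPt × TrioImg).1 = 1 := congrArg Subtype.val hq
    exact Subtype.ext (Prod.ext e (trio_fst_inj (e ▸ q.2)))
  · obtain ⟨q, hq⟩ := trio_fst_surj x.2
    exact ⟨⟨_, hq⟩, rfl⟩


/-- Every pair occurs. -/
theorem trio_snd_surj (q : TrioImg) : ∃ x, (x, q) ∈ trioPairs := by
  let S : Subgroup TrioImg := trioPairs.map (MonoidHom.snd _ _)
  suffices hS : S = ⊤ by
    obtain ⟨⟨x, q'⟩, hx, rfl⟩ := (hS ▸ Subgroup.mem_top q : q ∈ S)
    exact ⟨x, hx⟩
  let f : SpecialLinearGroup (Fin 3) (ZMod 2) →* TrioImg :=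
    (MonoidHom.inl _ _).comp Matrix.SpecialLinearGroup.toGL
  haveI : Fact (Nat.Prime 2) := ⟨Nat.prime_two⟩
  have h1 : S.comap f = ⊤ := by
    refine Cfsg.Lib.Classical.eq_top_of_transvection_mem _ fun i j hij c => ?_
    have hc : c = 0 ∨ c = 1 := zmod2_cases c
    rcases hc with rfl | rfl
    · have e : SpecialLinearGroup.transvection hij (0 : ZMod 2) = 1 := by
        apply Subtype.ext; simp [SpecialLinearGroup.transvection_coe]
      rw [e]; exact one_mem _
    · obtain ⟨t, ht, hm, hp⟩ := trioGenerated.1 i j hij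
      obtain ⟨A, hA, hmem⟩ := mem_pairs_of_act ht
      refine ⟨_, hmem, Prod.ext (Units.ext ?_) hp⟩
      show (A : Matrix (Fin 3) (Fin 3) (ZMod 2)) = _
      rw [hA, hm]; rfl
  have h2 : (⊤ : Subgroup (Equiv.Perm (Fin 3))) ≤ S.comap (MonoidHom.inr _ _) := by
    rw [← Equiv.Perm.closure_isSwap, Subgroup.closure_le]
    rintro _ ⟨i, j, hij, rfl⟩
    obtain ⟨t, ht, hm, hp⟩ := trioGenerated.2 i j hij
    obtain ⟨A, hA, hmem⟩ := mem_pairs_of_act ht
    exact ⟨_, hmem, Prod.ext (Units.ext (hA.trans hm)) hp⟩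
  refine (Subgroup.eq_top_iff' S).mpr fun ⟨A, π⟩ => ?_
  have hdet : (A : Matrix (Fin 3) (Fin 3) (ZMod 2)).det = 1 := by
    exact (zmod2_cases _).resolve_left (Matrix.GeneralLinearGroup.det_ne_zero A)
  have hA : ((A, 1) : TrioImg) ∈ S := by
    let A' : SpecialLinearGroup (Fin 3) (ZMod 2) := ⟨_, hdet⟩
    have hmemA : A' ∈ S.comap f := h1.symm ▸ Subgroup.mem_top A'
    have e : f A' = (A, 1) := Prod.ext (Units.ext rfl) rfl
    rwa [Subgroup.mem_comap, e] at hmemA
  have hπ : ((1, π) : TrioImg) ∈ S := h2 (Subgroup.mem_top π)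
  simpa using S.mul_mem hA hπ

theorem trioKer_bin : isBinGroup 6 trioKerList = true := by decide +kernel

theorem trioKer_ok : trioKerList.all (fun n => sift 24 cgTrio.chain [n] &&
    (List.range 24).all (fun i => ap n.1 (ap n.1 i) == i) &&
    trioSexts.all (fun E => (decList E).all fun m => (decList E).contains (img n m)) &&
    trioOcts.all fun m => img n m == m) = true := by decide +kernel

theorem card_trio_grp : Nat.card cgTrio.grp = 64512 := by
  rw [CG.card_grp cgTrio_ok]; decide +kernel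

theorem card_trioImg : Nat.card TrioImg = 1008 := by
  haveI : Fact (Nat.Prime 2) := ⟨Nat.prime_two⟩
  rw [Nat.card_prod, Matrix.card_GL_field, ZMod.card, Fin.prod_univ_three, Nat.card_perm, Nat.card_eq_fintype_card,
    Fintype.card_fin, show Nat.factorial 3 = 6 from rfl]
  norm_num

/-- Pairs over the identity square to the identity. -/
theorem trio_ker_sq : ∀ q : trioPairs, (q : Equiv.Perm GolayPt × TrioImg).2 = 1 → q * q = 1 := by
  obtain ⟨P, hP, hmem, -⟩ := exists_binGroup trioKer_bin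
  have hk := List.all_eq_true.mp trioKer_ok
  have hval : ∀ n ∈ trioKerList, valid 24 n = true := fun n hn => by
    have h := trioKer_bin
    simp only [isBinGroup, Bool.and_eq_true, List.all_eq_true] at h
    exact h.1.1.1.2 n hn
  set π : trioPairs →* TrioImg := (MonoidHom.snd _ _).comp trioPairs.subtype with hπ
  have hsurj : Function.Surjective π := fun q => by
    obtain ⟨x, hx⟩ := trio_snd_surj q
    exact ⟨⟨_, hx⟩, rfl⟩
  have hcard : Nat.card π.ker = 64 := by
    have h := Subgroup.card_mul_index π.ker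
    rw [Subgroup.index_ker, MonoidHom.range_eq_top.mpr hsurj, Subgroup.card_top, card_trioImg,
      Nat.card_eq_of_bijective _ trio_proj_bijective, card_trio_grp] at h
    omega
  let f : P → π.ker := fun x => ⟨⟨(x.1, 1), by
    obtain ⟨n, hn, e⟩ := (hmem _).mp x.2
    have h := hk n hn
    simp only [Bool.and_eq_true, List.all_eq_true, List.contains_iff_mem, beq_iff_eq] at h
    obtain ⟨⟨⟨hs, -⟩, hS⟩, hO⟩ := h
    rw [← e]
    refine ⟨⟨perm 24 n, by simpa using mem_grp_of_sift (CG.ok_spec cgTrio_ok).1 (w := [n]) (by simpa using hval n hn) hs,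
      rfl⟩, fun i => ⟨i, ?_, by simp⟩, fun k => ?_⟩
    · refine Finset.eq_of_subset_of_card_le (fun y hy => ?_) (by rw [Finset.card_smul_finset])
      obtain ⟨u, hu, rfl⟩ := Finset.mem_smul_finset.mp hy
      simp only [trioSext, famOf, List.mem_toFinset, List.mem_map] at hu ⊢
      obtain ⟨m, hm, rfl⟩ := hu
      exact ⟨_, hS _ (by
        rw [List.getD_eq_getElem _ _ (show i.val < trioSexts.length from i.2)]; exact List.getElem_mem _) m hm,
        pts_img (hval n hn) m⟩
    · show toP n • pts _ = pts _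
      rw [← pts_img (hval n hn), hO _ (by
        rw [List.getD_eq_getElem _ _ (show k.val < trioOcts.length from k.2)]; exact List.getElem_mem _)]
      rfl⟩, rfl⟩
  have hf : Function.Bijective f := (Nat.bijective_iff_injective_and_card f).mpr
    ⟨fun x y h => Subtype.ext (congrArg (fun q : π.ker => (q : trioPairs).1.1) h), by rw [hP, hcard]; rfl⟩
  intro q hq
  obtain ⟨x, hx⟩ := hf.2 ⟨q, hq⟩
  obtain ⟨n, hn, e⟩ := (hmem _).mp x.2
  have hq' : q = (f x : trioPairs) := congrArg Subtype.val hx.symm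
  have h := hk n hn
  simp only [Bool.and_eq_true, List.all_eq_true, List.mem_range, beq_iff_eq] at h
  refine Subtype.ext (Prod.ext ?_ ?_)
  · rw [hq']
    show (x : Equiv.Perm GolayPt) * x = 1
    rw [← e]
    exact Equiv.ext fun p => pidx_injective (by
      rw [Equiv.Perm.mul_apply, pidx_toP (hval n hn), pidx_toP (hval n hn)]
      exact h.1.1.2 _ (pidx_lt p))
  · show (q : Equiv.Perm GolayPt × TrioImg).2 * (q : Equiv.Perm GolayPt × TrioImg).2 = 1
    rw [hq, one_mul]

end Cfsg.Lib.Golay
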